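/-
Standard `L₂(2ⁿ)`: the chunk `MX`.
-/
import Cfsg.Agent.H29.LX1

set_option autoImplicit false
set_option linter.unusedSectionVars false
set_option linter.style.haveILetI false

namespace H29.LT
open Cfsg Subgroup H18 H17.GS H17.TS Function H19.L2
open H19 hiding eq_bot_mono
open H17.GM (Ad mem_norm_of odd_e2 odd_e2')
open H19.A5 (cj_sq)

universe u
variable {G : Type u} [Group G] [Finite G] {n t x : G} {A H M Q T V : Subgroup G} {F : Type} [Field F] [Fintype F] {a : G → F}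
  {κ : G → G}

theorem odd_sq (o : PiE {2}ᶜ x) : ∃ j, x ^ j * x ^ j = x := by
  obtain ⟨j, hj⟩ := Nat.not_even_iff_odd.1 (mt even_iff_two_dvd.1 ((piN_compl_singleton Nat.prime_two).1 o))
  exact ⟨j + 1, by rw [← pow_add, show j + 1 + (j + 1) = orderOf x + 1 by omega, pow_succ, pow_orderOf_eq_one, one_mul]⟩
theorem le_of_syl2 {X : Subgroup G} (hT : Syl 2 T X) (h1 : T ≤ M) (h2 : ∀ P, P ≤ X → OG P → P ≤ M) : X ≤ M :=
  le_of_exists_syl fun p _ _ => by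
    by_cases e : p = 2
    · exact e ▸ ⟨T, hT, h1⟩
    · obtain ⟨P, hP⟩ := exists_syl p X
      exact ⟨P, hP, h2 P hP.le (hP.pi.sing e)⟩
theorem dlQ (o : Pq F t M A V H T Q a) (hn : n ∈ N(Q ⊔ zpowers t)) : n * t * n⁻¹ * t ∈ Q :=
  (o.q0.mP.1 (conj_mem_of_norm hn tL)).resolve_left fun k => o.tQ (by simpa [mul_assoc] using conj_mem_of_norm' (o.nP hn) k)
theorem stab (o : Pq F t M A V H T Q a) (hn : n ∈ N(Q ⊔ zpowers t)) (hx : x ∈ Q) (e : x * t * x⁻¹ = n * t * n⁻¹) :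
    n ∈ Q ⊔ C[t] ⊓ N(V) := by
  have c : x⁻¹ * n ∈ C[t] := mem_cent1.2 (comm_of_cj (by rw [← conj_conj', ← e]; group))
  rw [← mul_inv_cancel_left x n]
  exact mul_mem (mem_sup_left hx) (mem_sup_right ⟨c, o.QC ▸ norms_inf
    (zpowers_le' (mul_mem (le_normalizer (inv_mem hx)) (o.nP hn))) (zpowers_le' (le_normalizer c)) (mem_zpowers _)⟩)

/-- the case in which `t` inverts `Q`, with the cocycle of the action on the `Q`-classes in `Qt` -/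
structure Iv (F : Type) [Field F] [Fintype F] (t : G) (M A V H T Q : Subgroup G) (a : G → F) (κ : G → G) : Prop
    extends Pq F t M A V H T Q a where
  NV : N(Q ⊔ zpowers t) ≤ N(V)
  kV : ∀ n ∈ N(Q ⊔ zpowers t), κ n ∈ V
  km : ∀ n ∈ N(Q ⊔ zpowers t), ∀ m ∈ N(Q ⊔ zpowers t), κ (n * m) = n * κ m * n⁻¹ * κ n
  k0 : ∀ n ∈ N(Q ⊔ zpowers t), κ n = 1 ↔ n ∈ Q ⊔ C[t] ⊓ N(V)
  kf : ∀ n ∈ N(Q ⊔ zpowers t), n ∈ C(V) → ∀ y ∈ Q, n ∈ C[y * t] → κ n = 1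
  kt : (∀ v ∈ V, ∃ n ∈ N(Q ⊔ zpowers t), κ n = v) → ∀ x ∈ Q, ∃ g ∈ N(Q ⊔ zpowers t), g * t * g⁻¹ = x * t

theorem om (o : Pq F t M A V H T Q a) (iv : ∀ x ∈ Q, t * x * t⁻¹ = x⁻¹) : ∀ x ∈ Q, x * x = 1 → x ∈ V := fun x hx xx =>
  o.ct x hx (mem_cent1.2 (comm_of_cj ((iv x hx).trans (inv_eq_of_mul_eq_one_left xx))).symm)

theorem ex_iv (o : Pq F t M A V H T Q a) (ab : Q ≤ C(Q)) (iv : ∀ x ∈ Q, t * x * t⁻¹ = x⁻¹) : ∃ κ, Iv F t M A V H T Q a κ := by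
  obtain ⟨j, h1, h2⟩ := Nat.exists_not_and_succ_of_not_zero_of_exists (p := fun i => ∀ x ∈ Q, x ^ 2 ^ i = 1)
    (fun k => let ⟨v, hv, v1⟩ := o.md.V1; v1 (by simpa using k v (o.VQ hv)))
    (let ⟨i, e⟩ := o.pQ.exists_pow (card_ne_zero Q); ⟨i, fun x hx => orderOf_dvd_iff_pow_eq_one.1 (e ▸ orderOf_dvd_card' hx)⟩)
  simp only [not_forall] at h1
  obtain ⟨w, hw, h1⟩ := h1
  have pV : ∀ x ∈ Q, x ^ 2 ^ j ∈ V := fun x hx => om o iv _ (pow_mem hx _) (by rw [← pow_add, ← two_mul, ← pow_succ', h2 x hx])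
  have mp : ∀ x ∈ Q, ∀ y ∈ Q, (x * y) ^ 2 ^ j = x ^ 2 ^ j * y ^ 2 ^ j := fun x hx y hy => Commute.mul_pow (cm' ab hx hy) _
  have cq : ∀ y ∈ Q, ∀ x ∈ Q, y * (x * t) * y⁻¹ = y * y * x * t := fun y hy x hx => by
    have := iv _ (inv_mem hy)
    rw [inv_inv, mul_inv_eq_iff_eq_mul] at this
    rw [mul_assoc, mul_assoc x, this, ← mul_assoc x, cm' ab hx hy]; group
  refine ⟨fun n => (n * t * n⁻¹ * t) ^ 2 ^ j, o, fun n hn => mem_norm_of fun v hv =>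
    om o iv _ (conj_mem_of_norm (o.nP hn) (o.VQ hv)) (cj_sq n (o.md.exV v hv)), fun n hn => pV _ (dlQ o hn), fun n hn m hm => ?_,
    fun n hn => ⟨fun k => ?_, fun k => ?_⟩, fun n hn c y hy k => ?_, fun h x hx => ?_⟩
  · rw [← conj_pow, ← mp _ (conj_mem_of_norm (o.nP hn) (dlQ o hm)) _ (dlQ o hn)]
    congr 1
    rw [show n * (m * t * m⁻¹ * t) * n⁻¹ * (n * t * n⁻¹ * t) = n * m * t * m⁻¹ * (t * t) * n⁻¹ * t by group, o.tt]; group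
  · obtain ⟨y, hy, e⟩ := o.hsq ab (om o iv) (dlQ o hn) hw k h1
    exact stab o hn hy (by rw [← one_mul t, cq y hy 1 (one_mem _), mul_one, e, o.st.tc, one_mul])
  · obtain ⟨y, hy, c, hc, rfl⟩ := (mem_sup_of_norm o.nQ).1 k
    rw [← conj_conj', cj_comm' (mem_cent1.1 hc.1), ← one_mul t, cq y hy 1 (one_mem _), one_mul, o.st.tc, mul_one, ← pow_two,
      ← pow_mul, ← pow_succ', h2 y hy]
  · have m := conj_mem_of_norm (o.nP hn) hy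
    rw [show n * t * n⁻¹ * t = (n * y * n⁻¹)⁻¹ * (n * (y * t) * n⁻¹ * t) by group, cj_comm' (mem_cent1.1 k), o.st.tc,
      mp _ (inv_mem m) _ hy, inv_pow, conj_pow, cj_comm' (cm c (pV y hy)).symm, inv_mul_cancel]
  · obtain ⟨n, hn, e⟩ := h _ (pV x hx)
    obtain ⟨y, hy, k⟩ := o.hsq ab (om o iv) (mul_mem hx (inv_mem (dlQ o hn))) hw
      (by rw [mp _ hx _ (inv_mem (dlQ o hn)), inv_pow, e, mul_inv_cancel]) h1
    refine ⟨y * n, mul_mem (o.q0.QP hy) hn, ?_⟩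
    rw [← conj_conj', ← o.st.tc (n * t * n⁻¹), cq y hy _ (dlQ o hn), k, inv_mul_cancel_right]

namespace Iv
variable (o : Iv F t M A V H T Q a κ)
include o
theorem pq : Pq F t M A V H T Q a := o.toPq
theorem k1 (h : n ∈ C[t] ⊓ N(V)) : κ n = 1 := (o.k0 n (o.pq.q0.nP0 h)).2 (mem_sup_right h)
theorem kd (hn : n ∈ N(Q ⊔ zpowers t)) (c : n ∈ C(V)) (k : κ n = 1) :
    ∃ p ∈ Q ⊔ zpowers t, ∃ d ∈ O(C[t] ⊓ C(A)), n = p * d := by
  obtain ⟨y, hy, m, hm, rfl⟩ := (mem_sup_of_norm o.nQ).1 ((o.k0 n hn).1 k)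
  obtain ⟨e, he, d, hd, rfl⟩ := o.pq.s1.cEO hm.1 ((mul_mem_cancel_left (o.pq.QZ hy)).1 c)
  exact ⟨_, mul_mem (mem_sup_left hy) (o.pq.q0.EP he), d, hd, (mul_assoc _ _ _).symm⟩

theorem nt (mx : ∀ R, PG 2 R → Q ≤ R → t ∉ R → C[t] ⊓ N(V) ≤ N(R) → R ≤ Q) (hn : n ∈ N(Q ⊔ zpowers t)) (c : n ∈ C(V)) :
    κ n = 1 := by
  classical
  by_contra k
  have md := o.pq.md
  have s1 := o.pq.s1
  have q0 := o.pq.q0
  have ad : Ad (fun x => a (κ x)) (N(Q ⊔ zpowers t) ⊓ C(V)) := fun x hx y hy => by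
    simp only [o.km x hx.1 y hy.1, cj_comm' (cm hx.2 (o.kV y hy.1)).symm, o.ad _ (o.kV y hy.1) _ (o.kV x hx.1), add_comm]
  have kd : ∀ x ∈ ad.ker, ∃ p ∈ Q ⊔ zpowers t, ∃ d ∈ O(C[t] ⊓ C(A)), x = p * d := fun x hx =>
    o.kd hx.1.1 hx.1.2 (o.a0 _ (o.kV x hx.1.1) hx.2)
  have sq : ∀ x ∈ N(Q ⊔ zpowers t) ⊓ C(V), x * x ∈ ad.ker := fun x hx => ⟨mul_mem hx hx, (ad x hx x hx).trans (md.aa _)⟩
  have od : ∀ x ∈ N(Q ⊔ zpowers t) ⊓ C(V), PiE {2}ᶜ x → x ∈ O(C[t] ⊓ C(A)) ∧ x ∈ ad.ker := fun x hx e => by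
    obtain ⟨j, hj⟩ := odd_sq e
    have m := hj ▸ sq _ (pow_mem hx j)
    obtain ⟨p, hp, d, hd, r⟩ := kd x m
    exact ⟨by rwa [r, odd_e2' e (q0.pP.elt hp) ((O_og _).elt hd) (cm (o.pq.OP hd) hp) r, one_mul], m⟩
  have ev : ∀ x ∈ ad.ker, E2 x → x ∈ Q ⊔ zpowers t := fun x hx e => by
    obtain ⟨p, hp, d, hd, r⟩ := kd x hx
    rwa [r, odd_e2 e (q0.pP.elt hp) ((O_og _).elt hd) (cm (o.pq.OP hd) hp) r, mul_one]
  have nO : n ∈ N(O(C[t] ⊓ C(A))) := mem_norm_of fun d hd => (od _ (mul_mem (mul_mem ⟨hn, c⟩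
    ⟨cent_le_norm _ (o.pq.OP hd), s1.OV hd⟩) (inv_mem ⟨hn, c⟩)) (((O_og _).elt hd).e_conj n)).1
  obtain ⟨S, hS, l⟩ := q0.pP.exists_syl (M := N(Q ⊔ zpowers t) ⊓ C(V) ⊓ C(O(C[t] ⊓ C(A))))
    (le_inf (le_inf le_normalizer o.pq.PZ) (cents_symm o.pq.OP))
  have nS : C[t] ⊓ N(V) ≤ N(S) := by
    rw [hS.eq_Oc (le_of_syl2 hS le_normalizer fun X hX oX x hx => cent_le_norm _ (cents_symm (hS.le.trans inf_le_right)
      (od x (hX hx).1 (oX.elt hx)).1))]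
    exact norms_Oc _ (norms_inf (norms_inf (norms_norm q0.nP0) (norms_cent inf_le_right)) (norms_cent (inf_le_left.trans s1.nO)))
  obtain ⟨h, hh, eh⟩ : ∃ h ∈ H, ∀ x ∈ H, ∃ i : ℕ, h ^ i = x := by
    obtain ⟨h, e⟩ := md.cyH.exists_monoid_generator
    exact ⟨h, h.2, fun x hx => (e ⟨x, hx⟩).imp fun i e => congrArg Subtype.val e⟩
  have h0 := o.pq.st.HN0 hh
  have cmm : ∀ x ∈ N(Q ⊔ zpowers t) ⊓ C(V), x ∉ ad.ker →
      x * h * x⁻¹ * h⁻¹ ∈ N(Q ⊔ zpowers t) ⊓ C(V) ∧ x * h * x⁻¹ * h⁻¹ ∉ ad.ker := fun x hx x0 => by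
    have m : h * x⁻¹ * h⁻¹ ∈ N(Q ⊔ zpowers t) ⊓ C(V) :=
      conj_mem_of_norm (norms_inf (norms_norm q0.nP0) (norms_cent inf_le_right) h0) (inv_mem hx)
    rw [mul_assoc, mul_assoc, ← mul_assoc h]
    refine ⟨mul_mem hx m, fun r => ?_⟩
    have e : a (κ x) + a (κ (h * x⁻¹ * h⁻¹)) = 0 := (ad x hx _ m).symm.trans r.2
    have hN := q0.nP0 h0
    rw [o.km _ (mul_mem hN (inv_mem hx.1)) _ (inv_mem hN), o.k1 (inv_mem h0), o.km h hN _ (inv_mem hx.1),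
      o.k1 h0, mul_one, mul_one, mul_inv_cancel, one_mul, ← neg_eq_iff_add_eq_zero, ← ad.inv hx] at e
    have m' := o.kV _ (inv_mem hx.1)
    obtain ⟨y, hy, y1⟩ := md.H1
    obtain ⟨i, rfl⟩ := eh y hy
    exact x0 (inv_mem_iff.1 ⟨inv_mem hx, (md.az m').2 (md.fh hh (fun e => y1 (by simp [e])) m'
      (mem_cent1.2 (comm_of_cj (md.inj (conj_mem_of_norm h0.2 m') m' e.symm)).symm))⟩)
  obtain ⟨s, hs, s0⟩ : ∃ s ∈ S, s ∉ ad.ker := SetLike.not_le_iff_exists.1 fun r => by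
    obtain ⟨m, m0⟩ := cmm n ⟨hn, c⟩ fun e => k (o.a0 _ (o.kV n hn) e.2)
    have hO : h ∈ C(O(C[t] ⊓ C(A))) := cents_symm (s1.OC.trans inf_le_right) (o.HA hh)
    exact m0 (le_of_syl2 hS r (fun X hX oX x hx => (od x (hX hx).1 (oX.elt hx)).2)
      ⟨m, Subgroup.mul_mem _ (conj_mem_of_norm (norm_le_norm_cent _ nO) hO) (inv_mem hO)⟩)
  have c2 := H17.GN.c2_sup q0.tN (o.tt ▸ one_mem Q)
  have lQ := le_sup_left.trans l
  obtain ⟨f1, a1, e1, -⟩ := Ad.ext (f := fun x => if x ∈ Q then (0 : F) else 1) (X := Q ⊔ zpowers t) (fun x hx y hy => by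
      simp only [c2.iff hx hy]
      by_cases k : x ∈ Q <;> by_cases k' : y ∈ Q <;> simp [k, k', md.aa]) md.aa le_sup_left l
    (fun x hx => o.nP (hS.le hx).1.1) (fun x hx => by
      have m := (hS.le hx).1
      refine (q0.mP.1 (ev _ (sq x m) (hS.pi.elt (mul_mem hx hx)))).elim id fun r => c2.sq (ev x ⟨m, ?_⟩ (hS.pi.elt hx))
      exact (md.az (o.kV x m.1)).2 (o.kf x m.1 m.2 _ r (by rw [o.pq.st.tc, mem_cent1, mul_assoc])))
    (fun x hx => if_pos hx) ⊤ fun _ _ => trivial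
  obtain ⟨f, a2, e2, -, fh⟩ := a1.avg o.c2 (nS h0) (q0.nP0 h0) (m := 1)
    (Nat.not_even_iff_odd.1 (mt even_iff_two_dvd.1 ((piN_compl_singleton Nat.prime_two).1 (md.oH.elt hh)))) (one_pow _)
    (fun x hx => by
      rw [e1 x hx, e1 _ (conj_mem_of_norm (q0.nP0 h0) hx)]
      simp only [(mem_normalizer_iff.1 (o.nQ h0) x).symm, one_mul]) ⊤ (fun _ _ => trivial) fun _ _ => trivial
  have lR : Q ⊔ ⁅S, V ⊔ H⁆ ≤ a2.ker := sup_le (fun x hx => ⟨lQ hx, by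
      rw [e2 x (mem_sup_left hx), e1 x (mem_sup_left hx), if_pos hx]⟩) (commutator_le.2 fun x hx y hy => by
    obtain ⟨v, hv, y, hy', rfl⟩ := (mem_sup_of_norm o.HV).1 hy
    obtain ⟨i, rfl⟩ := eh y hy'
    have m := conj_mem_of_norm (pow_mem (nS h0) i) (inv_mem hx)
    have mv := lQ (o.VQ hv)
    rw [commutatorElement_def, mul_assoc, mul_assoc, ← mul_assoc _ x⁻¹, ← conj_conj']
    refine ⟨mul_mem hx (mul_mem (mul_mem mv m) (inv_mem mv)), ?_⟩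
    rw [a2 x hx _ (mul_mem (mul_mem mv m) (inv_mem mv)), a2.cj mv m, show f (h ^ i * x⁻¹ * (h ^ i)⁻¹) = f x⁻¹ by
      clear m hy hy'
      induction i with
      | zero => simp
      | succ i ih => rw [pow_succ', ← conj_conj', fh, one_mul, ih], a2.inv hx, add_neg_cancel])
  have := mx _ (hS.pi.of_le (lR.trans fun x hx => hx.1)) le_sup_left (fun r => by
    simpa [e2 t tL, e1 t tL, o.tQ] using (lR r).2) (norms_sup o.nQ (norms_comm nS (o.pq.st.N0B.trans md.nB)))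
    (mem_sup_right (commutator_mem_commutator hs (mem_sup_right hh)))
  obtain ⟨m, m0⟩ := cmm s (hS.le hs).1 s0
  exact m0 ⟨m, (md.az (o.kV _ m.1)).2 ((o.k0 _ m.1).2 (mem_sup_left this))⟩
end Iv

theorem mx : MX.{u} := by
  intro G _ _ F _ _ t M A V H T Q a o mx
  have md := o.md
  rcases o.orb with h | ⟨ab, iv⟩
  · refine .inl ⟨o, fun e => ?_, fun n hn => ?_⟩
    · obtain ⟨v, hv, v1⟩ := md.V1
      obtain ⟨y, hy, k⟩ := h v (o.VQ hv) (o.st.exE _ (mul_mem (mem_sup_left hv) tL))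
      exact v1 (by simpa [cj_comm' (mem_cent1.1 (o.st.VC (e ▸ hy)))] using k.symm)
    · obtain ⟨y, hy, k⟩ := h _ (dlQ o hn) (by rw [o.st.tc, o.st.ts])
      exact stab o hn hy (by rw [k, o.st.tc])
  obtain ⟨κ, o⟩ := ex_iv o ab iv
  by_cases h : N(Q ⊔ zpowers t) ≤ Q ⊔ C[t] ⊓ N(V)
  · exact .inl ⟨o.pq, fun e => o.mE (by subst e; exact h.trans (sup_le o.pq.st.VC inf_le_left)), h⟩
  obtain ⟨n, hn, n0⟩ := SetLike.not_le_iff_exists.1 h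
  haveI : CharP F 2 := CharTwo.of_one_ne_zero_of_two_eq_zero one_ne_zero o.c2
  choose r hr er using o.sj
  have ra : ∀ v ∈ V, r (a v) = v := fun v hv => md.inj (hr _) hv (er _)
  have cV : ∀ g : N(Q ⊔ zpowers t), ∀ v ∈ V, g * v * g.1⁻¹ ∈ V := fun g v hv => conj_mem_of_norm (o.NV g.2) hv
  letI : MulAction N(Q ⊔ zpowers t) F :=
    { smul := fun g z => a (g * r z * g.1⁻¹ * κ g)
      one_smul := fun z => show a _ = z by simp [o.k1 (one_mem _), er]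
      mul_smul := fun g k z => show a _ = a (_ * r (a _) * _ * _) by
        rw [ra _ (mul_mem (cV k _ (hr z)) (o.kV _ k.2)), coe_mul, o.km _ g.2 _ k.2]; congr 1; group }
  obtain ⟨π, e⟩ : ∃ π : N(Q ⊔ zpowers t) →* Equiv.Perm F, ∀ g, ∀ v ∈ V, π g (a v) = a (g * v * g.1⁻¹) + a (κ g) :=
    ⟨MulAction.toPermHom _ F, fun g v hv => show a _ = _ by rw [ra v hv, o.ad _ (cV g v hv) _ (o.kV _ g.2)]⟩
  have e0 : ∀ g, π g 0 = a (κ g) := fun g => by simpa [md.a1] using e g 1 (one_mem _)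
  have cs : ∀ P : F → Prop, (∀ v ∈ V, P (a v)) → ∀ z, P z := fun P h z => er z ▸ h _ (hr z)
  have ce : ∀ g, (∀ z, π g z = z + π g 0) → g.1 ∈ C(V) := fun g k => mem_cent.2 fun v hv =>
    (comm_of_cj (md.inj (cV g v hv) hv (by simpa [e g v hv, e0] using k (a v)))).symm
  obtain ⟨m, m2, q⟩ := md.qpow
  obtain ⟨rfl, c, au⟩ := affine m2 q (Γ := π.range)
    (by
      rintro _ ⟨g, rfl⟩
      refine cs _ fun v hv => cs _ fun w hw => ?_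
      rw [← o.ad v hv w hw, e g _ (mul_mem hv hw), e g v hv, e g w hw, e0, ← conj_mul, o.ad _ (cV g v hv) _ (cV g w hw)]
      linear_combination -md.aa (a (κ g)))
    (by
      rintro _ ⟨g, rfl⟩ k
      rw [e0, md.az (o.kV _ g.2)] at k
      obtain ⟨y, hy, c, hc, r⟩ := (mem_sup_of_norm o.nQ).1 ((o.k0 _ g.2).1 k)
      obtain ⟨l, -, σ, k'⟩ := o.act c (o.nA hc.1) hc.2
      exact ⟨l, σ, cs _ fun v hv => by
        rw [e g v hv, k, md.a1, add_zero, r, ← conj_conj', cj_comm' (cm (o.pq.QZ hy) (conj_mem_of_norm hc.2 hv)).symm, k' v hv]⟩)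
    (fun l l0 => by
      obtain ⟨h, hh, k⟩ := o.hs l l0
      have h0 := o.pq.st.HN0 hh
      exact ⟨_, ⟨⟨h, o.pq.q0.nP0 h0⟩, rfl⟩, cs _ fun v hv => by rw [e _ v hv, k v hv, o.k1 h0, md.a1, add_zero]⟩)
    ⟨_, ⟨⟨n, hn⟩, rfl⟩, by rw [e0]; exact mt (md.az (o.kV n hn)).1 (mt (o.k0 n hn).1 n0)⟩
    (by rintro _ ⟨g, rfl⟩ k; rw [e0, o.nt mx g.2 (ce g k), md.a1])
  refine .inr ⟨o.pq, q, ab, iv, om o.pq iv, o.kt fun v hv => ?_, fun f => ?_, ?_, fun g hg => ?_⟩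
  · by_cases v1 : v = 1
    · exact ⟨1, one_mem _, v1 ▸ o.k1 (one_mem _)⟩
    obtain ⟨h, hh, k⟩ := md.tr (o.kV n hn) (mt (o.k0 n hn).1 n0) hv v1
    have h0 := o.pq.st.HN0 hh
    exact ⟨_, mul_mem (o.pq.q0.nP0 h0) hn, by rw [o.km _ (o.pq.q0.nP0 h0) n hn, o.k1 h0, mul_one, k]⟩
  · obtain ⟨_, ⟨g, rfl⟩, k⟩ := au f
    exact ⟨g, g.2, fun v hv => by simpa [e g v hv, e0] using k (a v)⟩
  · rw [← c, ← index_ker, relIndex]; congr 1; ext g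
    refine ⟨fun k => Equiv.ext (cs _ fun v hv => ?_), fun k => ce g fun z => by simp [MonoidHom.mem_ker.1 k]⟩
    rw [e g v hv, o.nt mx g.2 k, md.a1, add_zero, cj_comm' (cm (x := g.1) k hv).symm]; rfl
  · obtain ⟨p, hp, d, hd, rfl⟩ := o.kd hg.1 hg.2 (o.nt mx hg.1 hg.2)
    exact mul_mem (mem_sup_left hp) (mem_sup_right hd)

end H29.LT
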