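import Cfsg.Agent.H0.TRP
import Cfsg.Agent.H16.M.L34
import Cfsg.Agent.H1.Am1

/-! Generated by tools/h0/tr.py. -/

set_option maxRecDepth 100000
set_option maxHeartbeats 0

namespace H29.D4l
open H16 H0.TR
open scoped commutatorElement

noncomputable def p2t_W : List (List ℕ) := [[nat_lit 0, nat_lit 3, nat_lit 0, nat_lit 4, nat_lit 3, nat_lit 4, nat_lit 0],
  [nat_lit 0, nat_lit 4, nat_lit 3, nat_lit 4, nat_lit 1],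
  [nat_lit 3, nat_lit 1, nat_lit 4, nat_lit 1, nat_lit 2],
  [nat_lit 1, nat_lit 4, nat_lit 1, nat_lit 2],
  [nat_lit 3, nat_lit 1, nat_lit 4, nat_lit 2, nat_lit 3, nat_lit 4],
  [nat_lit 1, nat_lit 2, nat_lit 1, nat_lit 4]]
noncomputable def p2t_P : ℕ → ℕ → ℕ := wdsP H16.L34.P p2t_W
noncomputable def p2Pd : List ℕ := [nat_lit 0xa0a4432c1c431d68635e0,
  nat_lit 0x1521666bc8e1b04939600,
  nat_lit 0x3309d0431a57848b524e0,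
  nat_lit 0x33350f7304b82925090e0,
  nat_lit 0xe204653a5f0688ca5b100,
  nat_lit 0x569e0e0acc3221ec4a840]
noncomputable def p2P (k u : ℕ) : ℕ := Nat.land (Nat.shiftRight (nth (nat_lit 0) p2Pd k) (Nat.mul u (nat_lit 5))) (nat_lit 31)
noncomputable def p2Ed : ℕ := nat_lit 0x149ca307b98b4a0c518820
noncomputable def p2E (u : ℕ) : ℕ := Nat.land (Nat.shiftRight p2Ed (Nat.mul u (nat_lit 5))) (nat_lit 31)
noncomputable def p2Id : ℕ := nat_lit 0x107b9ac5a809400e60148018820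
noncomputable def p2I (u : ℕ) : ℕ := Nat.land (Nat.shiftRight p2Id (Nat.mul u (nat_lit 5))) (nat_lit 31)
noncomputable def p2B : List ℕ := [nat_lit 0, nat_lit 1, nat_lit 14, nat_lit 11]
noncomputable def p2C : List (List (List ℕ)) := [[[],
  [],
  [],
  [],
  [],
  []], [[],
  [],
  [],
  [],
  [],
  []], [[],
  [],
  [nat_lit 0],
  [nat_lit 0, nat_lit 1],
  [nat_lit 0, nat_lit 1],
  [nat_lit 1]], [[],
  [],
  [],
  [nat_lit 1],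
  [nat_lit 1],
  []], [[],
  [],
  [],
  [],
  [nat_lit 1],
  [nat_lit 0]], [[],
  [],
  [],
  [],
  [],
  [nat_lit 0, nat_lit 1]]]
noncomputable def p2e : List (List ℕ) := [[],
  [],
  [],
  [],
  [nat_lit 1, nat_lit 2, nat_lit 3],
  [],
  [],
  [],
  [],
  [],
  [],
  [],
  [],
  [],
  [],
  [],
  [nat_lit 1, nat_lit 2, nat_lit 3],
  [],
  [],
  [],
  [],
  [],
  [],
  [],
  [nat_lit 1, nat_lit 2, nat_lit 3],
  [],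
  [],
  [],
  [],
  [nat_lit 1, nat_lit 2, nat_lit 3],
  [],
  [],
  [],
  [],
  [],
  [],
  [],
  [],
  [nat_lit 1, nat_lit 2, nat_lit 3],
  [],
  [],
  [nat_lit 1, nat_lit 3, nat_lit 4, nat_lit 5],
  [nat_lit 4],
  [nat_lit 0],
  [nat_lit 1, nat_lit 2, nat_lit 3, nat_lit 5]]
noncomputable def p2l0Dd : ℕ := nat_lit 0xccd9e74e059a18b256592c458582b8ac5400
noncomputable def p2l0D (u : ℕ) : ℕ := Nat.land (Nat.shiftRight p2l0Dd (Nat.mul u (nat_lit 9))) (nat_lit 511)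
noncomputable def p2l0Pd : ℕ := nat_lit 0x61466588e4521a983dc1
noncomputable def p2l0P (u : ℕ) : ℕ := Nat.land (Nat.shiftRight p2l0Pd (Nat.mul u (nat_lit 5))) (nat_lit 31)
noncomputable def p2l0Qd : ℕ := nat_lit 0x3215fb7469ce8da00
noncomputable def p2l0Q (u : ℕ) : ℕ := Nat.land (Nat.shiftRight p2l0Qd (Nat.mul u (nat_lit 4))) (nat_lit 15)
noncomputable def p2l0 : Lev := ⟨16, 45, p2l0D, p2l0P, p2l0Q⟩
noncomputable def p2l1Dd : ℕ := nat_lit 0xa6a4200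
noncomputable def p2l1D (u : ℕ) : ℕ := Nat.land (Nat.shiftRight p2l1Dd (Nat.mul u (nat_lit 7))) (nat_lit 127)
noncomputable def p2l1Pd : ℕ := nat_lit 0xbd52
noncomputable def p2l1P (u : ℕ) : ℕ := Nat.land (Nat.shiftRight p2l1Pd (Nat.mul u (nat_lit 4))) (nat_lit 15)
noncomputable def p2l1Qd : ℕ := nat_lit 0x8c00400
noncomputable def p2l1Q (u : ℕ) : ℕ := Nat.land (Nat.shiftRight p2l1Qd (Nat.mul u (nat_lit 2))) (nat_lit 3)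
noncomputable def p2l1 : Lev := ⟨4, 42, p2l1D, p2l1P, p2l1Q⟩
noncomputable def cv2r_W : List (List ℕ) := [[nat_lit 0, nat_lit 3, nat_lit 0, nat_lit 4, nat_lit 3, nat_lit 4, nat_lit 0],
  [nat_lit 3, nat_lit 1, nat_lit 4, nat_lit 1, nat_lit 2],
  [nat_lit 1, nat_lit 4, nat_lit 1, nat_lit 2],
  [nat_lit 3, nat_lit 1, nat_lit 4, nat_lit 2, nat_lit 3, nat_lit 4]]
noncomputable def cv2r_P : ℕ → ℕ → ℕ := wdsP H16.L34.P cv2r_W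
noncomputable def cv2T0 : CT := (.split (.more (.split (.more (.split (.more (.split (.more (.split (.more (.split (.more .one (.more (.leaf (nat_lit 0) []) .one))) (.more (.split (.more (.leaf (nat_lit 0) [nat_lit 3, nat_lit 1, nat_lit 2]) (.more (.leaf (nat_lit 0) [nat_lit 2, nat_lit 0]) .one))) .one))) (.more (.fuse [nat_lit 3] [nat_lit 0] (.fuse [nat_lit 3, nat_lit 5] [] (.leaf (nat_lit 1) []))) .one))) (.more (.split (.more (.fuse [nat_lit 2] [nat_lit 0] (.fuse [nat_lit 2, nat_lit 4] [] (.leaf (nat_lit 2) []))) (.more (.fuse [nat_lit 2] [nat_lit 0] (.fuse [nat_lit 4] [] (.leaf (nat_lit 0) [nat_lit 1]))) .one))) .one))) (.more (.split (.more (.split (.more (.fuse [nat_lit 2] [nat_lit 0] (.fuse [nat_lit 2, nat_lit 3] [] (.leaf (nat_lit 3) []))) (.more (.fuse [nat_lit 2] [nat_lit 0] (.fuse [nat_lit 3] [] (.leaf (nat_lit 0)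 [nat_lit 4, nat_lit 3, nat_lit 5, nat_lit 4, nat_lit 2, nat_lit 5]))) .one))) (.more (.split (.more (.fuse [nat_lit 3] [] (.fuse [nat_lit 5] [] (.leaf (nat_lit 1) [nat_lit 4, nat_lit 0]))) (.more (.fuse [nat_lit 5] [nat_lit 0] (.fuse [nat_lit 3] [] (.leaf (nat_lit 1) [nat_lit 2, nat_lit 0, nat_lit 3]))) .one))) .one))) .one))) (.more (.split (.more (.split (.more (.split (.more (.fuse [nat_lit 2] [] (.fuse [nat_lit 4] [] (.leaf (nat_lit 2) [nat_lit 1, nat_lit 2]))) (.more (.fuse [nat_lit 2] [] (.fuse [nat_lit 2, nat_lit 3] [] (.leaf (nat_lit 0) [nat_lit 1, nat_lit 5, nat_lit 4, nat_lit 5, nat_lit 4, nat_lit 3]))) .one))) (.more (.split (.more (.fuse [nat_lit 4] [nat_lit 0] (.fuse [nat_lit 2] [] (.leaf (nat_lit 2) [nat_lit 2, nat_lit 3, nat_lit 0]))) (.more (.fuse [nat_lit 3] [nat_lit 0] (.fuse [nat_lit 2] [] (.leaf (nat_lit 3)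 [nat_lit 4, nat_lit 2]))) .one))) .one))) (.more (.split (.more (.split (.more (.fuse [nat_lit 3] [] (.fuse [nat_lit 2] [] (.leaf (nat_lit 0) [nat_lit 5, nat_lit 3, nat_lit 4, nat_lit 1, nat_lit 5]))) (.more (.fuse [nat_lit 4] [] (.fuse [nat_lit 2] [] (.leaf (nat_lit 0) [nat_lit 2, nat_lit 1]))) .one))) (.more (.split (.more (.fuse [nat_lit 2] [] (.fuse [nat_lit 2, nat_lit 4] [] (.leaf (nat_lit 0) [nat_lit 0, nat_lit 2, nat_lit 0, nat_lit 3]))) (.more (.fuse [nat_lit 2] [] (.fuse [nat_lit 3] [] (.leaf (nat_lit 3) [nat_lit 1, nat_lit 2]))) .one))) .one))) .one))) .one)))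
noncomputable def p3t_W : List (List ℕ) := [[nat_lit 3, nat_lit 1, nat_lit 4],
  [nat_lit 0, nat_lit 3, nat_lit 4, nat_lit 5, nat_lit 3, nat_lit 4, nat_lit 2]]
noncomputable def p3t_P : ℕ → ℕ → ℕ := wdsP H16.L34.P p3t_W
noncomputable def p3Pd : List ℕ := [nat_lit 0xca8db6e97354210,
  nat_lit 0x9e68cd7ba435021]
noncomputable def p3P (k u : ℕ) : ℕ := Nat.land (Nat.shiftRight (nth (nat_lit 0) p3Pd k) (Nat.mul u (nat_lit 4))) (nat_lit 15)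
noncomputable def p3Ed : ℕ := nat_lit 0x524f62d49391020b4a0
noncomputable def p3E (u : ℕ) : ℕ := Nat.land (Nat.shiftRight p3Ed (Nat.mul u (nat_lit 5))) (nat_lit 31)
noncomputable def p3Id : ℕ := nat_lit 0xe0d00c02ba98570160430
noncomputable def p3I (u : ℕ) : ℕ := Nat.land (Nat.shiftRight p3Id (Nat.mul u (nat_lit 4))) (nat_lit 15)
noncomputable def p3B : List ℕ := [nat_lit 0, nat_lit 3, nat_lit 13, nat_lit 12]
noncomputable def p3C : List (List (List ℕ)) := [[[],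
  []], [[],
  []]]
noncomputable def p3e : List (List ℕ) := [[],
  [],
  [],
  [],
  [],
  [],
  [],
  [],
  [],
  [],
  [],
  [],
  [],
  [],
  [],
  [],
  [],
  [],
  [],
  [],
  [],
  [],
  [],
  [],
  [nat_lit 0, nat_lit 1],
  [nat_lit 0, nat_lit 1, nat_lit 1]]
noncomputable def p3l0Dd : ℕ := nat_lit 0x33640
noncomputable def p3l0D (u : ℕ) : ℕ := Nat.land (Nat.shiftRight p3l0Dd (Nat.mul u (nat_lit 6))) (nat_lit 63)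
noncomputable def p3l0Pd : ℕ := nat_lit 0x163
noncomputable def p3l0P (u : ℕ) : ℕ := Nat.land (Nat.shiftRight p3l0Pd (Nat.mul u (nat_lit 3))) (nat_lit 7)
noncomputable def p3l0Qd : ℕ := nat_lit 0x900
noncomputable def p3l0Q (u : ℕ) : ℕ := Nat.land (Nat.shiftRight p3l0Qd (Nat.mul u (nat_lit 2))) (nat_lit 3)
noncomputable def p3l0 : Lev := ⟨3, 26, p3l0D, p3l0P, p3l0Q⟩
noncomputable def p3l1Dd : ℕ := nat_lit 0x31600
noncomputable def p3l1D (u : ℕ) : ℕ := Nat.land (Nat.shiftRight p3l1Dd (Nat.mul u (nat_lit 6))) (nat_lit 63)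
noncomputable def p3l1Pd : ℕ := nat_lit 0x18
noncomputable def p3l1P (u : ℕ) : ℕ := Nat.land (Nat.shiftRight p3l1Pd (Nat.mul u (nat_lit 2))) (nat_lit 3)
noncomputable def p3l1Qd : ℕ := nat_lit 0x18
noncomputable def p3l1Q (u : ℕ) : ℕ := Nat.land (Nat.shiftRight p3l1Qd (Nat.mul u (nat_lit 2))) (nat_lit 3)
noncomputable def p3l1 : Lev := ⟨3, 25, p3l1D, p3l1P, p3l1Q⟩
noncomputable def cv3r_W : List (List ℕ) := [[nat_lit 3, nat_lit 1, nat_lit 4]]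
noncomputable def cv3r_P : ℕ → ℕ → ℕ := wdsP H16.L34.P cv3r_W
noncomputable def cv3T0 : CT := (.split (.more (.split (.more .one (.more (.leaf (nat_lit 0) []) (.more (.leaf (nat_lit 0) [nat_lit 0, nat_lit 2, nat_lit 1]) .one)))) (.more (.split (.more (.leaf (nat_lit 0) [nat_lit 3, nat_lit 4, nat_lit 1, nat_lit 5, nat_lit 3, nat_lit 0, nat_lit 4, nat_lit 0]) (.more (.leaf (nat_lit 0) [nat_lit 0, nat_lit 5, nat_lit 3, nat_lit 1]) (.more (.leaf (nat_lit 0) [nat_lit 5, nat_lit 4, nat_lit 1, nat_lit 3, nat_lit 4, nat_lit 5, nat_lit 4, nat_lit 0]) .one)))) (.more (.split (.more (.leaf (nat_lit 0) [nat_lit 1, nat_lit 4, nat_lit 1, nat_lit 3, nat_lit 0, nat_lit 5, nat_lit 4, nat_lit 0]) (.more (.leaf (nat_lit 0) [nat_lit 5, nat_lit 4, nat_lit 0, nat_lit 5, nat_lit 3, nat_lit 4, nat_lit 5]) (.more (.leaf (nat_lit 0) [nat_lit 4, nat_lit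 3, nat_lit 5]) .one)))) .one))))
noncomputable def x3_0_W : List (List ℕ) := [[nat_lit 3, nat_lit 1, nat_lit 4]]
noncomputable def x3_0_P : ℕ → ℕ → ℕ := wdsP H16.L34.P x3_0_W
noncomputable def t3_0h_W : List (List ℕ) := [[nat_lit 0, nat_lit 5, nat_lit 3, nat_lit 1, nat_lit 4, nat_lit 3, nat_lit 5],
  [nat_lit 1, nat_lit 5, nat_lit 4, nat_lit 3, nat_lit 0, nat_lit 2, nat_lit 5],
  [nat_lit 1, nat_lit 2, nat_lit 1, nat_lit 3],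
  [nat_lit 0],
  [nat_lit 1],
  [nat_lit 2],
  [nat_lit 3],
  [nat_lit 4],
  [nat_lit 5]]
noncomputable def t3_0h_P : ℕ → ℕ → ℕ := wdsP H16.L34.P t3_0h_W
noncomputable def t3_0l0Dd : ℕ := nat_lit 0x37ab5123d70a8eb962a50b0403c70d1820380
noncomputable def t3_0l0D (u : ℕ) : ℕ := Nat.land (Nat.shiftRight t3_0l0Dd (Nat.mul u (nat_lit 7))) (nat_lit 127)
noncomputable def t3_0l0Pd : ℕ := nat_lit 0x148c26e7a24d59d4c498a320041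
noncomputable def t3_0l0P (u : ℕ) : ℕ := Nat.land (Nat.shiftRight t3_0l0Pd (Nat.mul u (nat_lit 5))) (nat_lit 31)
noncomputable def t3_0l0Qd : ℕ := nat_lit 0x148b6727c1885a4ee518a320402
noncomputable def t3_0l0Q (u : ℕ) : ℕ := Nat.land (Nat.shiftRight t3_0l0Qd (Nat.mul u (nat_lit 5))) (nat_lit 31)
noncomputable def t3_0l0 : Lev := ⟨21, 9, t3_0l0D, t3_0l0P, t3_0l0Q⟩
noncomputable def t3_0l1Dd : ℕ := nat_lit 0xd875ab41c20f14127cc931a606060a10180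
noncomputable def t3_0l1D (u : ℕ) : ℕ := Nat.land (Nat.shiftRight t3_0l1Dd (Nat.mul u (nat_lit 7))) (nat_lit 127)
noncomputable def t3_0l1Pd : ℕ := nat_lit 0x75230981e8935675312628c82
noncomputable def t3_0l1P (u : ℕ) : ℕ := Nat.land (Nat.shiftRight t3_0l1Pd (Nat.mul u (nat_lit 5))) (nat_lit 31)
noncomputable def t3_0l1Qd : ℕ := nat_lit 0x127ae306cd4649cac410611000e
noncomputable def t3_0l1Q (u : ℕ) : ℕ := Nat.land (Nat.shiftRight t3_0l1Qd (Nat.mul u (nat_lit 5))) (nat_lit 31)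
noncomputable def t3_0l1 : Lev := ⟨20, 7, t3_0l1D, t3_0l1P, t3_0l1Q⟩
noncomputable def t3_0l2Dd : ℕ := nat_lit 0xade4f6d22a3208328440
noncomputable def t3_0l2D (u : ℕ) : ℕ := Nat.land (Nat.shiftRight t3_0l2Dd (Nat.mul u (nat_lit 5))) (nat_lit 31)
noncomputable def t3_0l2Pd : ℕ := nat_lit 0x8507223d93718e02c5a8
noncomputable def t3_0l2P (u : ℕ) : ℕ := Nat.land (Nat.shiftRight t3_0l2Pd (Nat.mul u (nat_lit 5))) (nat_lit 31)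
noncomputable def t3_0l2Qd : ℕ := nat_lit 0xe8c2fa7190000563bd004
noncomputable def t3_0l2Q (u : ℕ) : ℕ := Nat.land (Nat.shiftRight t3_0l2Qd (Nat.mul u (nat_lit 4))) (nat_lit 15)
noncomputable def t3_0l2 : Lev := ⟨16, 3, t3_0l2D, t3_0l2P, t3_0l2Q⟩
noncomputable def t3_0l3Dd : ℕ := nat_lit 4
noncomputable def t3_0l3D (u : ℕ) : ℕ := Nat.land (Nat.shiftRight t3_0l3Dd (Nat.mul u (nat_lit 1))) (nat_lit 1)
noncomputable def t3_0l3Pd : ℕ := nat_lit 0x1a63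
noncomputable def t3_0l3P (u : ℕ) : ℕ := Nat.land (Nat.shiftRight t3_0l3Pd (Nat.mul u (nat_lit 5))) (nat_lit 31)
noncomputable def t3_0l3Qd : ℕ := nat_lit 0x4000002000
noncomputable def t3_0l3Q (u : ℕ) : ℕ := Nat.land (Nat.shiftRight t3_0l3Qd (Nat.mul u (nat_lit 2))) (nat_lit 3)
noncomputable def t3_0l3 : Lev := ⟨3, 1, t3_0l3D, t3_0l3P, t3_0l3Q⟩
noncomputable def c3_0e_W : List (List ℕ) := [[nat_lit 5, nat_lit 3, nat_lit 4, nat_lit 0, nat_lit 3, nat_lit 0, nat_lit 5],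
  [nat_lit 4, nat_lit 0, nat_lit 3]]
noncomputable def c3_0e_P : ℕ → ℕ → ℕ := wdsP H16.L34.P c3_0e_W
noncomputable def c3_0c3Dd : ℕ := nat_lit 4
noncomputable def c3_0c3D (u : ℕ) : ℕ := Nat.land (Nat.shiftRight c3_0c3Dd (Nat.mul u (nat_lit 1))) (nat_lit 1)
noncomputable def c3_0c3Pd : ℕ := nat_lit 0x4cc3
noncomputable def c3_0c3P (u : ℕ) : ℕ := Nat.land (Nat.shiftRight c3_0c3Pd (Nat.mul u (nat_lit 5))) (nat_lit 31)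
noncomputable def c3_0c3Qd : ℕ := nat_lit 0x8000001000
noncomputable def c3_0c3Q (u : ℕ) : ℕ := Nat.land (Nat.shiftRight c3_0c3Qd (Nat.mul u (nat_lit 2))) (nat_lit 3)
noncomputable def c3_0c3 : Lev := ⟨3, 1, c3_0c3D, c3_0c3P, c3_0c3Q⟩
noncomputable def t3_0n0Fd : ℕ := nat_lit 0
noncomputable def t3_0n0F (u : ℕ) : ℕ := Nat.land (Nat.shiftRight t3_0n0Fd (Nat.mul u (nat_lit 1))) (nat_lit 1)
noncomputable def t3_0n0 : Nd := ⟨t3_0n0F, (nat_lit 2), (nat_lit 1), [], [((nat_lit 0), [])], []⟩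
noncomputable def c3_0c0Dd : ℕ := nat_lit 0x34
noncomputable def c3_0c0D (u : ℕ) : ℕ := Nat.land (Nat.shiftRight c3_0c0Dd (Nat.mul u (nat_lit 2))) (nat_lit 3)
noncomputable def c3_0c0Pd : ℕ := nat_lit 0x821
noncomputable def c3_0c0P (u : ℕ) : ℕ := Nat.land (Nat.shiftRight c3_0c0Pd (Nat.mul u (nat_lit 4))) (nat_lit 15)
noncomputable def c3_0c0Qd : ℕ := nat_lit 0x20010
noncomputable def c3_0c0Q (u : ℕ) : ℕ := Nat.land (Nat.shiftRight c3_0c0Qd (Nat.mul u (nat_lit 2))) (nat_lit 3)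
noncomputable def c3_0c0 : Lev := ⟨3, 2, c3_0c0D, c3_0c0P, c3_0c0Q⟩
noncomputable def t3_0n1y3_W : List (List ℕ) := [[nat_lit 0, nat_lit 3, nat_lit 4, nat_lit 0, nat_lit 2, nat_lit 5, nat_lit 4, nat_lit 2]]
noncomputable def t3_0n1y3_P : ℕ → ℕ → ℕ := wdsP H16.L34.P t3_0n1y3_W
noncomputable def t3_0r2k_W : List (List ℕ) := [[nat_lit 5, nat_lit 3, nat_lit 4, nat_lit 0, nat_lit 3, nat_lit 0, nat_lit 5],
  [nat_lit 0, nat_lit 5, nat_lit 3, nat_lit 1, nat_lit 4, nat_lit 3, nat_lit 5]]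
noncomputable def t3_0r2k_P : ℕ → ℕ → ℕ := wdsP H16.L34.P t3_0r2k_W
noncomputable def t3_0n2Fd : ℕ := nat_lit 0x2d
noncomputable def t3_0n2F (u : ℕ) : ℕ := Nat.land (Nat.shiftRight t3_0n2Fd (Nat.mul u (nat_lit 2))) (nat_lit 3)
noncomputable def t3_0n2 : Nd := ⟨t3_0n2F, (nat_lit 2), (nat_lit 2), [], [((nat_lit 0), []), ((nat_lit 1), [nat_lit 0])], []⟩
noncomputable def t3_0n1y14_W : List (List ℕ) := [[nat_lit 2, nat_lit 4, nat_lit 3, nat_lit 5, nat_lit 4, nat_lit 3, nat_lit 1]]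
noncomputable def t3_0n1y14_P : ℕ → ℕ → ℕ := wdsP H16.L34.P t3_0n1y14_W
noncomputable def t3_0r3k_W : List (List ℕ) := [[],
  [nat_lit 5, nat_lit 3, nat_lit 4, nat_lit 0, nat_lit 3, nat_lit 0, nat_lit 5]]
noncomputable def t3_0r3k_P : ℕ → ℕ → ℕ := wdsP H16.L34.P t3_0r3k_W
noncomputable def t3_0n3Fd : ℕ := nat_lit 0xe9
noncomputable def t3_0n3F (u : ℕ) : ℕ := Nat.land (Nat.shiftRight t3_0n3Fd (Nat.mul u (nat_lit 3))) (nat_lit 7)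
noncomputable def t3_0n3 : Nd := ⟨t3_0n3F, (nat_lit 2), (nat_lit 2), [[nat_lit 0]], [((nat_lit 0), [])], []⟩
noncomputable def t3_0n1Fd : ℕ := nat_lit 0x235314062835462411100
noncomputable def t3_0n1F (u : ℕ) : ℕ := Nat.land (Nat.shiftRight t3_0n1Fd (Nat.mul u (nat_lit 4))) (nat_lit 15)
noncomputable def t3_0n1 : Nd := ⟨t3_0n1F, (nat_lit 2), (nat_lit 2), [[nat_lit 0]], [((nat_lit 0), []), ((nat_lit 0), [nat_lit 0]), ((nat_lit 0), [nat_lit 0, nat_lit 0])], [((nat_lit 3), t3_0n1y3_W), ((nat_lit 14), t3_0n1y14_W)]⟩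
noncomputable def p5t_W : List (List ℕ) := [[nat_lit 0, nat_lit 4, nat_lit 1, nat_lit 2, nat_lit 3]]
noncomputable def p5t_P : ℕ → ℕ → ℕ := wdsP H16.L34.P p5t_W
noncomputable def p5Pd : List ℕ := [nat_lit 0x687a9324150]
noncomputable def p5P (k u : ℕ) : ℕ := Nat.land (Nat.shiftRight (nth (nat_lit 0) p5Pd k) (Nat.mul u (nat_lit 4))) (nat_lit 15)
noncomputable def p5Ed : ℕ := nat_lit 0x4e4f5260629020
noncomputable def p5E (u : ℕ) : ℕ := Nat.land (Nat.shiftRight p5Ed (Nat.mul u (nat_lit 5))) (nat_lit 31)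
noncomputable def p5Id : ℕ := nat_lit 0xa9058000076004320010
noncomputable def p5I (u : ℕ) : ℕ := Nat.land (Nat.shiftRight p5Id (Nat.mul u (nat_lit 4))) (nat_lit 15)
noncomputable def p5B : List ℕ := [nat_lit 0, nat_lit 1, nat_lit 9, nat_lit 8]
noncomputable def p5C : List (List (List ℕ)) := [[[]]]
noncomputable def p5e : List (List ℕ) := [[],
  [],
  [nat_lit 0]]
noncomputable def p5l0Dd : ℕ := nat_lit 0xb8520
noncomputable def p5l0D (u : ℕ) : ℕ := Nat.land (Nat.shiftRight p5l0Dd (Nat.mul u (nat_lit 4))) (nat_lit 15)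
noncomputable def p5l0Pd : ℕ := nat_lit 0x5711
noncomputable def p5l0P (u : ℕ) : ℕ := Nat.land (Nat.shiftRight p5l0Pd (Nat.mul u (nat_lit 3))) (nat_lit 7)
noncomputable def p5l0Qd : ℕ := nat_lit 0x22640
noncomputable def p5l0Q (u : ℕ) : ℕ := Nat.land (Nat.shiftRight p5l0Qd (Nat.mul u (nat_lit 3))) (nat_lit 7)
noncomputable def p5l0 : Lev := ⟨5, 3, p5l0D, p5l0P, p5l0Q⟩
noncomputable def cv5r_W : List (List ℕ) := [[nat_lit 0, nat_lit 4, nat_lit 1, nat_lit 2, nat_lit 3],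
  [nat_lit 3, nat_lit 4, nat_lit 2, nat_lit 3, nat_lit 1]]
noncomputable def cv5r_P : ℕ → ℕ → ℕ := wdsP H16.L34.P cv5r_W
noncomputable def cv5T0 : CT := (.split (.more .one (.more (.leaf (nat_lit 0) []) (.more (.leaf (nat_lit 1) []) (.more (.leaf (nat_lit 1) [nat_lit 2, nat_lit 3]) (.more (.leaf (nat_lit 0) [nat_lit 2, nat_lit 3]) .one))))))
noncomputable def x5_0_W : List (List ℕ) := [[nat_lit 0, nat_lit 4, nat_lit 1, nat_lit 2, nat_lit 3]]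
noncomputable def x5_0_P : ℕ → ℕ → ℕ := wdsP H16.L34.P x5_0_W
noncomputable def t5_0h_W : List (List ℕ) := [[nat_lit 1, nat_lit 5, nat_lit 4, nat_lit 3, nat_lit 4, nat_lit 1, nat_lit 5],
  [nat_lit 0, nat_lit 2, nat_lit 5, nat_lit 4, nat_lit 5, nat_lit 3],
  [nat_lit 2, nat_lit 5, nat_lit 4, nat_lit 3, nat_lit 1, nat_lit 4, nat_lit 5],
  [nat_lit 2, nat_lit 1, nat_lit 3, nat_lit 5, nat_lit 4, nat_lit 5],
  [nat_lit 5, nat_lit 4, nat_lit 5, nat_lit 3],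
  [nat_lit 0],
  [nat_lit 1],
  [nat_lit 2],
  [nat_lit 3],
  [nat_lit 4],
  [nat_lit 5]]
noncomputable def t5_0h_P : ℕ → ℕ → ℕ := wdsP H16.L34.P t5_0h_W
noncomputable def t5_0l0Dd : ℕ := nat_lit 0x4ed7ff9b352f068e2c5c58c1e4c9112028480
noncomputable def t5_0l0D (u : ℕ) : ℕ := Nat.land (Nat.shiftRight t5_0l0Dd (Nat.mul u (nat_lit 7))) (nat_lit 127)
noncomputable def t5_0l0Pd : ℕ := nat_lit 0x11851e7531d29a12d598a320041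
noncomputable def t5_0l0P (u : ℕ) : ℕ := Nat.land (Nat.shiftRight t5_0l0Pd (Nat.mul u (nat_lit 5))) (nat_lit 31)
noncomputable def t5_0l0Qd : ℕ := nat_lit 0x125b2938b50e3bd2a818a320402
noncomputable def t5_0l0Q (u : ℕ) : ℕ := Nat.land (Nat.shiftRight t5_0l0Qd (Nat.mul u (nat_lit 5))) (nat_lit 31)
noncomputable def t5_0l0 : Lev := ⟨21, 11, t5_0l0D, t5_0l0P, t5_0l0Q⟩
noncomputable def t5_0l1Dd : ℕ := nat_lit 0xf2ba232287058c2c2509a14808901018280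
noncomputable def t5_0l1D (u : ℕ) : ℕ := Nat.land (Nat.shiftRight t5_0l1Dd (Nat.mul u (nat_lit 7))) (nat_lit 127)
noncomputable def t5_0l1Pd : ℕ := nat_lit 0x38a798d14131a4599f24aa30
noncomputable def t5_0l1P (u : ℕ) : ℕ := Nat.land (Nat.shiftRight t5_0l1Pd (Nat.mul u (nat_lit 5))) (nat_lit 31)
noncomputable def t5_0l1Qd : ℕ := nat_lit 0xc790202c92a3886d81a2872c13
noncomputable def t5_0l1Q (u : ℕ) : ℕ := Nat.land (Nat.shiftRight t5_0l1Qd (Nat.mul u (nat_lit 5))) (nat_lit 31)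
noncomputable def t5_0l1 : Lev := ⟨20, 9, t5_0l1D, t5_0l1P, t5_0l1Q⟩
noncomputable def t5_0l2Dd : ℕ := nat_lit 0x940
noncomputable def t5_0l2D (u : ℕ) : ℕ := Nat.land (Nat.shiftRight t5_0l2Dd (Nat.mul u (nat_lit 4))) (nat_lit 15)
noncomputable def t5_0l2Pd : ℕ := nat_lit 0x135
noncomputable def t5_0l2P (u : ℕ) : ℕ := Nat.land (Nat.shiftRight t5_0l2Pd (Nat.mul u (nat_lit 3))) (nat_lit 7)
noncomputable def t5_0l2Qd : ℕ := nat_lit 0x1200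
noncomputable def t5_0l2Q (u : ℕ) : ℕ := Nat.land (Nat.shiftRight t5_0l2Qd (Nat.mul u (nat_lit 2))) (nat_lit 3)
noncomputable def t5_0l2 : Lev := ⟨3, 5, t5_0l2D, t5_0l2P, t5_0l2Q⟩
noncomputable def t5_0l3Dd : ℕ := nat_lit 0xba26965ce28b1871020c0040
noncomputable def t5_0l3D (u : ℕ) : ℕ := Nat.land (Nat.shiftRight t5_0l3Dd (Nat.mul u (nat_lit 6))) (nat_lit 63)
noncomputable def t5_0l3Pd : ℕ := nat_lit 0x5c547032887cc6e925a2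
noncomputable def t5_0l3P (u : ℕ) : ℕ := Nat.land (Nat.shiftRight t5_0l3Pd (Nat.mul u (nat_lit 5))) (nat_lit 31)
noncomputable def t5_0l3Qd : ℕ := nat_lit 0x963e0741afd28c000500b
noncomputable def t5_0l3Q (u : ℕ) : ℕ := Nat.land (Nat.shiftRight t5_0l3Qd (Nat.mul u (nat_lit 4))) (nat_lit 15)
noncomputable def t5_0l3 : Lev := ⟨16, 4, t5_0l3D, t5_0l3P, t5_0l3Q⟩
noncomputable def c5_0e_W : List (List ℕ) := [[nat_lit 2, nat_lit 3, nat_lit 0, nat_lit 4, nat_lit 1]]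
noncomputable def c5_0e_P : ℕ → ℕ → ℕ := wdsP H16.L34.P c5_0e_W
noncomputable def t5_0n0Fd : ℕ := nat_lit 0xfffe
noncomputable def t5_0n0F (u : ℕ) : ℕ := Nat.land (Nat.shiftRight t5_0n0Fd (Nat.mul u (nat_lit 1))) (nat_lit 1)
noncomputable def t5_0n0 : Nd := ⟨t5_0n0F, (nat_lit 2), (nat_lit 0), [[nat_lit 0]], [((nat_lit 0), []), ((nat_lit 1), [nat_lit 0])], []⟩
noncomputable def c5_0c0Dd : ℕ := nat_lit 0x390
noncomputable def c5_0c0D (u : ℕ) : ℕ := Nat.land (Nat.shiftRight c5_0c0Dd (Nat.mul u (nat_lit 2))) (nat_lit 3)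
noncomputable def c5_0c0Pd : ℕ := nat_lit 0x431601
noncomputable def c5_0c0P (u : ℕ) : ℕ := Nat.land (Nat.shiftRight c5_0c0Pd (Nat.mul u (nat_lit 5))) (nat_lit 31)
noncomputable def c5_0c0Qd : ℕ := nat_lit 0x10000000d4000
noncomputable def c5_0c0Q (u : ℕ) : ℕ := Nat.land (Nat.shiftRight c5_0c0Qd (Nat.mul u (nat_lit 3))) (nat_lit 7)
noncomputable def c5_0c0 : Lev := ⟨5, 1, c5_0c0D, c5_0c0P, c5_0c0Q⟩
noncomputable def t5_0n1Fd : ℕ := nat_lit 0x404466282811280060110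
noncomputable def t5_0n1F (u : ℕ) : ℕ := Nat.land (Nat.shiftRight t5_0n1Fd (Nat.mul u (nat_lit 4))) (nat_lit 15)
noncomputable def t5_0n1 : Nd := ⟨t5_0n1F, (nat_lit 2), (nat_lit 1), [[nat_lit 0]], [((nat_lit 0), []), ((nat_lit 0), [nat_lit 0]), ((nat_lit 0), [nat_lit 0, nat_lit 0])], []⟩
noncomputable def x5_1_W : List (List ℕ) := [[nat_lit 3, nat_lit 4, nat_lit 2, nat_lit 3, nat_lit 1]]
noncomputable def x5_1_P : ℕ → ℕ → ℕ := wdsP H16.L34.P x5_1_W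
noncomputable def t5_1h_W : List (List ℕ) := [[nat_lit 0, nat_lit 2, nat_lit 5, nat_lit 4, nat_lit 5, nat_lit 3],
  [nat_lit 2, nat_lit 1, nat_lit 3, nat_lit 5, nat_lit 4, nat_lit 5],
  [nat_lit 0, nat_lit 5, nat_lit 4, nat_lit 3, nat_lit 1, nat_lit 5, nat_lit 3],
  [nat_lit 1, nat_lit 3, nat_lit 5, nat_lit 4, nat_lit 5, nat_lit 3, nat_lit 0],
  [nat_lit 3, nat_lit 1],
  [nat_lit 0],
  [nat_lit 1],
  [nat_lit 2],
  [nat_lit 3],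
  [nat_lit 4],
  [nat_lit 5]]
noncomputable def t5_1h_P : ℕ → ℕ → ℕ := wdsP H16.L34.P t5_1h_W
noncomputable def t5_1l0Dd : ℕ := nat_lit 0x2fc33b55c90a1db13238613164888f2028480
noncomputable def t5_1l0D (u : ℕ) : ℕ := Nat.land (Nat.shiftRight t5_1l0Dd (Nat.mul u (nat_lit 7))) (nat_lit 127)
noncomputable def t5_1l0Pd : ℕ := nat_lit 0x1474e305a54f3b2466946820041
noncomputable def t5_1l0P (u : ℕ) : ℕ := Nat.land (Nat.shiftRight t5_1l0Pd (Nat.mul u (nat_lit 5))) (nat_lit 31)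
noncomputable def t5_1l0Qd : ℕ := nat_lit 0x149263064cea7b5c45a0c328402
noncomputable def t5_1l0Q (u : ℕ) : ℕ := Nat.land (Nat.shiftRight t5_1l0Qd (Nat.mul u (nat_lit 5))) (nat_lit 31)
noncomputable def t5_1l0 : Lev := ⟨21, 11, t5_1l0D, t5_1l0P, t5_1l0Q⟩
noncomputable def t5_1l1Dd : ℕ := nat_lit 0x49a1ecd3a6c9921484c893e808160e18280
noncomputable def t5_1l1D (u : ℕ) : ℕ := Nat.land (Nat.shiftRight t5_1l1Dd (Nat.mul u (nat_lit 7))) (nat_lit 127)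
noncomputable def t5_1l1Pd : ℕ := nat_lit 0x9d130034f170cca411f212d85
noncomputable def t5_1l1P (u : ℕ) : ℕ := Nat.land (Nat.shiftRight t5_1l1Pd (Nat.mul u (nat_lit 5))) (nat_lit 31)
noncomputable def t5_1l1Qd : ℕ := nat_lit 0x12991902adc1122276a40650c0f
noncomputable def t5_1l1Q (u : ℕ) : ℕ := Nat.land (Nat.shiftRight t5_1l1Qd (Nat.mul u (nat_lit 5))) (nat_lit 31)
noncomputable def t5_1l1 : Lev := ⟨20, 9, t5_1l1D, t5_1l1P, t5_1l1Q⟩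
noncomputable def t5_1l2Dd : ℕ := nat_lit 0x940
noncomputable def t5_1l2D (u : ℕ) : ℕ := Nat.land (Nat.shiftRight t5_1l2Dd (Nat.mul u (nat_lit 4))) (nat_lit 15)
noncomputable def t5_1l2Pd : ℕ := nat_lit 0x40c4
noncomputable def t5_1l2P (u : ℕ) : ℕ := Nat.land (Nat.shiftRight t5_1l2Pd (Nat.mul u (nat_lit 5))) (nat_lit 31)
noncomputable def t5_1l2Qd : ℕ := nat_lit 0x200001000
noncomputable def t5_1l2Q (u : ℕ) : ℕ := Nat.land (Nat.shiftRight t5_1l2Qd (Nat.mul u (nat_lit 2))) (nat_lit 3)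
noncomputable def t5_1l2 : Lev := ⟨3, 5, t5_1l2D, t5_1l2P, t5_1l2Q⟩
noncomputable def t5_1l3Dd : ℕ := nat_lit 0xbe36d758f2ca1c6143081000
noncomputable def t5_1l3D (u : ℕ) : ℕ := Nat.land (Nat.shiftRight t5_1l3Dd (Nat.mul u (nat_lit 6))) (nat_lit 63)
noncomputable def t5_1l3Pd : ℕ := nat_lit 0x8ae8f49dc35226c049a2
noncomputable def t5_1l3P (u : ℕ) : ℕ := Nat.land (Nat.shiftRight t5_1l3Pd (Nat.mul u (nat_lit 5))) (nat_lit 31)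
noncomputable def t5_1l3Qd : ℕ := nat_lit 0xd52f0c914e7b6a0008003
noncomputable def t5_1l3Q (u : ℕ) : ℕ := Nat.land (Nat.shiftRight t5_1l3Qd (Nat.mul u (nat_lit 4))) (nat_lit 15)
noncomputable def t5_1l3 : Lev := ⟨16, 4, t5_1l3D, t5_1l3P, t5_1l3Q⟩
noncomputable def c5_1e_W : List (List ℕ) := [[nat_lit 0, nat_lit 2, nat_lit 3, nat_lit 4, nat_lit 3]]
noncomputable def c5_1e_P : ℕ → ℕ → ℕ := wdsP H16.L34.P c5_1e_W
noncomputable def t5_1n0Fd : ℕ := nat_lit 0xfffe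
noncomputable def t5_1n0F (u : ℕ) : ℕ := Nat.land (Nat.shiftRight t5_1n0Fd (Nat.mul u (nat_lit 1))) (nat_lit 1)
noncomputable def t5_1n0 : Nd := ⟨t5_1n0F, (nat_lit 2), (nat_lit 0), [[nat_lit 0]], [((nat_lit 0), []), ((nat_lit 1), [nat_lit 0])], []⟩
noncomputable def c5_1c0Dd : ℕ := nat_lit 0x390
noncomputable def c5_1c0D (u : ℕ) : ℕ := Nat.land (Nat.shiftRight c5_1c0Dd (Nat.mul u (nat_lit 2))) (nat_lit 3)
noncomputable def c5_1c0Pd : ℕ := nat_lit 0x6810a1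
noncomputable def c5_1c0P (u : ℕ) : ℕ := Nat.land (Nat.shiftRight c5_1c0Pd (Nat.mul u (nat_lit 5))) (nat_lit 31)
noncomputable def c5_1c0Qd : ℕ := nat_lit 0x300000010a000
noncomputable def c5_1c0Q (u : ℕ) : ℕ := Nat.land (Nat.shiftRight c5_1c0Qd (Nat.mul u (nat_lit 3))) (nat_lit 7)
noncomputable def c5_1c0 : Lev := ⟨5, 1, c5_1c0D, c5_1c0P, c5_1c0Q⟩
noncomputable def t5_1n1Fd : ℕ := nat_lit 0x248204426861060810110
noncomputable def t5_1n1F (u : ℕ) : ℕ := Nat.land (Nat.shiftRight t5_1n1Fd (Nat.mul u (nat_lit 4))) (nat_lit 15)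
noncomputable def t5_1n1 : Nd := ⟨t5_1n1F, (nat_lit 2), (nat_lit 1), [[nat_lit 0]], [((nat_lit 0), []), ((nat_lit 0), [nat_lit 0]), ((nat_lit 0), [nat_lit 0, nat_lit 0])], []⟩
noncomputable def p7t_W : List (List ℕ) := [[nat_lit 4, nat_lit 5, nat_lit 4, nat_lit 0, nat_lit 3, nat_lit 4, nat_lit 5]]
noncomputable def p7t_P : ℕ → ℕ → ℕ := wdsP H16.L34.P p7t_W
noncomputable def p7Pd : List ℕ := [nat_lit 0x9a7bcd85032164]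
noncomputable def p7P (k u : ℕ) : ℕ := Nat.land (Nat.shiftRight (nth (nat_lit 0) p7Pd k) (Nat.mul u (nat_lit 4))) (nat_lit 15)
noncomputable def p7Ed : ℕ := nat_lit 0x29283daa3b96628820
noncomputable def p7E (u : ℕ) : ℕ := Nat.land (Nat.shiftRight p7Ed (Nat.mul u (nat_lit 5))) (nat_lit 31)
noncomputable def p7Id : ℕ := nat_lit 0xd0c0ba690580074300210
noncomputable def p7I (u : ℕ) : ℕ := Nat.land (Nat.shiftRight p7Id (Nat.mul u (nat_lit 4))) (nat_lit 15)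
noncomputable def p7B : List ℕ := [nat_lit 0, nat_lit 1, nat_lit 12, nat_lit 10]
noncomputable def p7C : List (List (List ℕ)) := [[[]]]
noncomputable def p7e : List (List ℕ) := [[nat_lit 0]]
noncomputable def p7l0Dd : ℕ := nat_lit 0x163440
noncomputable def p7l0D (u : ℕ) : ℕ := Nat.land (Nat.shiftRight p7l0Dd (Nat.mul u (nat_lit 3))) (nat_lit 7)
noncomputable def p7l0Pd : ℕ := nat_lit 0x11a3a8
noncomputable def p7l0P (u : ℕ) : ℕ := Nat.land (Nat.shiftRight p7l0Pd (Nat.mul u (nat_lit 3))) (nat_lit 7)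
noncomputable def p7l0Qd : ℕ := nat_lit 0x8eb18
noncomputable def p7l0Q (u : ℕ) : ℕ := Nat.land (Nat.shiftRight p7l0Qd (Nat.mul u (nat_lit 3))) (nat_lit 7)
noncomputable def p7l0 : Lev := ⟨7, 1, p7l0D, p7l0P, p7l0Q⟩
noncomputable def cv7r_W : List (List ℕ) := [[nat_lit 4, nat_lit 5, nat_lit 4, nat_lit 0, nat_lit 3, nat_lit 4, nat_lit 5],
  [nat_lit 0, nat_lit 2, nat_lit 1, nat_lit 5, nat_lit 4]]
noncomputable def cv7r_P : ℕ → ℕ → ℕ := wdsP H16.L34.P cv7r_W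
noncomputable def cv7T0 : CT := (.split (.more .one (.more (.leaf (nat_lit 0) []) (.more (.leaf (nat_lit 0) [nat_lit 3, nat_lit 4, nat_lit 2]) (.more (.leaf (nat_lit 1) []) (.more (.leaf (nat_lit 0) [nat_lit 2, nat_lit 4, nat_lit 3]) (.more (.leaf (nat_lit 1) [nat_lit 2, nat_lit 4, nat_lit 3]) (.more (.leaf (nat_lit 1) [nat_lit 3, nat_lit 4, nat_lit 2]) .one))))))))
noncomputable def x7_0_W : List (List ℕ) := [[nat_lit 4, nat_lit 5, nat_lit 4, nat_lit 0, nat_lit 3, nat_lit 4, nat_lit 5]]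
noncomputable def x7_0_P : ℕ → ℕ → ℕ := wdsP H16.L34.P x7_0_W
noncomputable def t7_0h_W : List (List ℕ) := [[nat_lit 0, nat_lit 3, nat_lit 0, nat_lit 4, nat_lit 1],
  [nat_lit 0, nat_lit 2, nat_lit 3, nat_lit 4, nat_lit 1],
  [nat_lit 1, nat_lit 2, nat_lit 4, nat_lit 0],
  [nat_lit 0],
  [nat_lit 1],
  [nat_lit 2],
  [nat_lit 3],
  [nat_lit 4],
  [nat_lit 5]]
noncomputable def t7_0h_P : ℕ → ℕ → ℕ := wdsP H16.L34.P t7_0h_W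
noncomputable def t7_0l0Dd : ℕ := nat_lit 0x79f199daf4864a1840a18164e545101624400
noncomputable def t7_0l0D (u : ℕ) : ℕ := Nat.land (Nat.shiftRight t7_0l0Dd (Nat.mul u (nat_lit 7))) (nat_lit 127)
noncomputable def t7_0l0Pd : ℕ := nat_lit 0x13a364879dc930d8a244a25c020
noncomputable def t7_0l0P (u : ℕ) : ℕ := Nat.land (Nat.shiftRight t7_0l0Pd (Nat.mul u (nat_lit 5))) (nat_lit 31)
noncomputable def t7_0l0Qd : ℕ := nat_lit 0x13a44c27b6491a19072ca751020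
noncomputable def t7_0l0Q (u : ℕ) : ℕ := Nat.land (Nat.shiftRight t7_0l0Qd (Nat.mul u (nat_lit 5))) (nat_lit 31)
noncomputable def t7_0l0 : Lev := ⟨21, 9, t7_0l0D, t7_0l0P, t7_0l0Q⟩
noncomputable def t7_0l1Dd : ℕ := nat_lit 0xaa19e0ae458a21c54e6cd1c61440c0
noncomputable def t7_0l1D (u : ℕ) : ℕ := Nat.land (Nat.shiftRight t7_0l1Dd (Nat.mul u (nat_lit 6))) (nat_lit 63)
noncomputable def t7_0l1Pd : ℕ := nat_lit 0x9442fa0e0a9b0872a1c25a5a6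
noncomputable def t7_0l1P (u : ℕ) : ℕ := Nat.land (Nat.shiftRight t7_0l1Pd (Nat.mul u (nat_lit 5))) (nat_lit 31)
noncomputable def t7_0l1Qd : ℕ := nat_lit 0xf5ce4d8142a1b046400e971220
noncomputable def t7_0l1Q (u : ℕ) : ℕ := Nat.land (Nat.shiftRight t7_0l1Qd (Nat.mul u (nat_lit 5))) (nat_lit 31)
noncomputable def t7_0l1 : Lev := ⟨20, 8, t7_0l1D, t7_0l1P, t7_0l1Q⟩
noncomputable def t7_0l2Dd : ℕ := nat_lit 0xeceedac54f410c518440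
noncomputable def t7_0l2D (u : ℕ) : ℕ := Nat.land (Nat.shiftRight t7_0l2Dd (Nat.mul u (nat_lit 5))) (nat_lit 31)
noncomputable def t7_0l2Pd : ℕ := nat_lit 0x9254c9add068c3439105
noncomputable def t7_0l2P (u : ℕ) : ℕ := Nat.land (Nat.shiftRight t7_0l2Pd (Nat.mul u (nat_lit 5))) (nat_lit 31)
noncomputable def t7_0l2Qd : ℕ := nat_lit 0x4bf08097cade130026050
noncomputable def t7_0l2Q (u : ℕ) : ℕ := Nat.land (Nat.shiftRight t7_0l2Qd (Nat.mul u (nat_lit 4))) (nat_lit 15)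
noncomputable def t7_0l2 : Lev := ⟨16, 3, t7_0l2D, t7_0l2P, t7_0l2Q⟩
noncomputable def t7_0l3Dd : ℕ := nat_lit 4
noncomputable def t7_0l3D (u : ℕ) : ℕ := Nat.land (Nat.shiftRight t7_0l3Dd (Nat.mul u (nat_lit 1))) (nat_lit 1)
noncomputable def t7_0l3Pd : ℕ := nat_lit 0x45e2
noncomputable def t7_0l3P (u : ℕ) : ℕ := Nat.land (Nat.shiftRight t7_0l3Pd (Nat.mul u (nat_lit 5))) (nat_lit 31)
noncomputable def t7_0l3Qd : ℕ := nat_lit 0x840000000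
noncomputable def t7_0l3Q (u : ℕ) : ℕ := Nat.land (Nat.shiftRight t7_0l3Qd (Nat.mul u (nat_lit 2))) (nat_lit 3)
noncomputable def t7_0l3 : Lev := ⟨3, 1, t7_0l3D, t7_0l3P, t7_0l3Q⟩
noncomputable def c7_0e_W : List (List ℕ) := [[nat_lit 4, nat_lit 1, nat_lit 2, nat_lit 0, nat_lit 5]]
noncomputable def c7_0e_P : ℕ → ℕ → ℕ := wdsP H16.L34.P c7_0e_W
noncomputable def c7_0c0Dd : ℕ := nat_lit 0x163440
noncomputable def c7_0c0D (u : ℕ) : ℕ := Nat.land (Nat.shiftRight c7_0c0Dd (Nat.mul u (nat_lit 3))) (nat_lit 7)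
noncomputable def c7_0c0Pd : ℕ := nat_lit 0x16e5b20
noncomputable def c7_0c0P (u : ℕ) : ℕ := Nat.land (Nat.shiftRight c7_0c0Pd (Nat.mul u (nat_lit 4))) (nat_lit 15)
noncomputable def c7_0c0Qd : ℕ := nat_lit 0x100400158070
noncomputable def c7_0c0Q (u : ℕ) : ℕ := Nat.land (Nat.shiftRight c7_0c0Qd (Nat.mul u (nat_lit 3))) (nat_lit 7)
noncomputable def c7_0c0 : Lev := ⟨7, 1, c7_0c0D, c7_0c0P, c7_0c0Q⟩
noncomputable def t7_0n0Fd : ℕ := nat_lit 0xc2c884a020646a1000100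
noncomputable def t7_0n0F (u : ℕ) : ℕ := Nat.land (Nat.shiftRight t7_0n0Fd (Nat.mul u (nat_lit 4))) (nat_lit 15)
noncomputable def t7_0n0 : Nd := ⟨t7_0n0F, (nat_lit 2), (nat_lit 1), [], [((nat_lit 0), []), ((nat_lit 0), [nat_lit 0]), ((nat_lit 0), [nat_lit 0, nat_lit 0]), ((nat_lit 0), [nat_lit 0, nat_lit 0, nat_lit 0]), ((nat_lit 1), [nat_lit 0, nat_lit 0, nat_lit 0, nat_lit 0])], []⟩
noncomputable def x7_1_W : List (List ℕ) := [[nat_lit 0, nat_lit 2, nat_lit 1, nat_lit 5, nat_lit 4]]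
noncomputable def x7_1_P : ℕ → ℕ → ℕ := wdsP H16.L34.P x7_1_W
noncomputable def t7_1h_W : List (List ℕ) := [[nat_lit 4, nat_lit 3, nat_lit 0, nat_lit 4],
  [nat_lit 0, nat_lit 4, nat_lit 0],
  [nat_lit 4, nat_lit 0, nat_lit 2, nat_lit 4],
  [nat_lit 0],
  [nat_lit 1],
  [nat_lit 2],
  [nat_lit 3],
  [nat_lit 4],
  [nat_lit 5]]
noncomputable def t7_1h_P : ℕ → ℕ → ℕ := wdsP H16.L34.P t7_1h_W
noncomputable def t7_1l0Dd : ℕ := nat_lit 0x3c7eeeeaa52a10a7367091f3c5480b1228400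
noncomputable def t7_1l0D (u : ℕ) : ℕ := Nat.land (Nat.shiftRight t7_1l0Dd (Nat.mul u (nat_lit 7))) (nat_lit 127)
noncomputable def t7_1l0Pd : ℕ := nat_lit 0x889e727960b551cd30c4c49020
noncomputable def t7_1l0P (u : ℕ) : ℕ := Nat.land (Nat.shiftRight t7_1l0Pd (Nat.mul u (nat_lit 5))) (nat_lit 31)
noncomputable def t7_1l0Qd : ℕ := nat_lit 0xa8c26d7a50462c7491dc231420
noncomputable def t7_1l0Q (u : ℕ) : ℕ := Nat.land (Nat.shiftRight t7_1l0Qd (Nat.mul u (nat_lit 5))) (nat_lit 31)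
noncomputable def t7_1l0 : Lev := ⟨21, 9, t7_1l0D, t7_1l0P, t7_1l0Q⟩
noncomputable def t7_1l1Dd : ℕ := nat_lit 0xa6d19a04258c1c2a3881b1a203860a10180
noncomputable def t7_1l1D (u : ℕ) : ℕ := Nat.land (Nat.shiftRight t7_1l1Dd (Nat.mul u (nat_lit 7))) (nat_lit 127)
noncomputable def t7_1l1Pd : ℕ := nat_lit 0x84e917a24b3a9ac4b82628c82
noncomputable def t7_1l1P (u : ℕ) : ℕ := Nat.land (Nat.shiftRight t7_1l1Pd (Nat.mul u (nat_lit 5))) (nat_lit 31)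
noncomputable def t7_1l1Qd : ℕ := nat_lit 0x119361379928628ee59061100a0
noncomputable def t7_1l1Q (u : ℕ) : ℕ := Nat.land (Nat.shiftRight t7_1l1Qd (Nat.mul u (nat_lit 5))) (nat_lit 31)
noncomputable def t7_1l1 : Lev := ⟨20, 8, t7_1l1D, t7_1l1P, t7_1l1Q⟩
noncomputable def t7_1l2Dd : ℕ := nat_lit 0x9563933102c92061c5102040
noncomputable def t7_1l2D (u : ℕ) : ℕ := Nat.land (Nat.shiftRight t7_1l2Dd (Nat.mul u (nat_lit 6))) (nat_lit 63)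
noncomputable def t7_1l2Pd : ℕ := nat_lit 0xa34292287299dd02a18b
noncomputable def t7_1l2P (u : ℕ) : ℕ := Nat.land (Nat.shiftRight t7_1l2Pd (Nat.mul u (nat_lit 5))) (nat_lit 31)
noncomputable def t7_1l2Qd : ℕ := nat_lit 0xf780405e10ac2603b90d0
noncomputable def t7_1l2Q (u : ℕ) : ℕ := Nat.land (Nat.shiftRight t7_1l2Qd (Nat.mul u (nat_lit 4))) (nat_lit 15)
noncomputable def t7_1l2 : Lev := ⟨16, 3, t7_1l2D, t7_1l2P, t7_1l2Q⟩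
noncomputable def t7_1l3Dd : ℕ := nat_lit 4
noncomputable def t7_1l3D (u : ℕ) : ℕ := Nat.land (Nat.shiftRight t7_1l3Dd (Nat.mul u (nat_lit 1))) (nat_lit 1)
noncomputable def t7_1l3Pd : ℕ := nat_lit 0x3245
noncomputable def t7_1l3P (u : ℕ) : ℕ := Nat.land (Nat.shiftRight t7_1l3Pd (Nat.mul u (nat_lit 5))) (nat_lit 31)
noncomputable def t7_1l3Qd : ℕ := nat_lit 0x1002000000
noncomputable def t7_1l3Q (u : ℕ) : ℕ := Nat.land (Nat.shiftRight t7_1l3Qd (Nat.mul u (nat_lit 2))) (nat_lit 3)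
noncomputable def t7_1l3 : Lev := ⟨3, 1, t7_1l3D, t7_1l3P, t7_1l3Q⟩
noncomputable def c7_1e_W : List (List ℕ) := [[nat_lit 0, nat_lit 2, nat_lit 1, nat_lit 5, nat_lit 4]]
noncomputable def c7_1e_P : ℕ → ℕ → ℕ := wdsP H16.L34.P c7_1e_W
noncomputable def c7_1c0Dd : ℕ := nat_lit 0x163440
noncomputable def c7_1c0D (u : ℕ) : ℕ := Nat.land (Nat.shiftRight c7_1c0Dd (Nat.mul u (nat_lit 3))) (nat_lit 7)
noncomputable def c7_1c0Pd : ℕ := nat_lit 0x2b5e610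
noncomputable def c7_1c0P (u : ℕ) : ℕ := Nat.land (Nat.shiftRight c7_1c0Pd (Nat.mul u (nat_lit 4))) (nat_lit 15)
noncomputable def c7_1c0Qd : ℕ := nat_lit 0xc0a000a0188
noncomputable def c7_1c0Q (u : ℕ) : ℕ := Nat.land (Nat.shiftRight c7_1c0Qd (Nat.mul u (nat_lit 3))) (nat_lit 7)
noncomputable def c7_1c0 : Lev := ⟨7, 1, c7_1c0D, c7_1c0P, c7_1c0Q⟩
noncomputable def t7_1n0Fd : ℕ := nat_lit 0x2a2c480c06a0104068100
noncomputable def t7_1n0F (u : ℕ) : ℕ := Nat.land (Nat.shiftRight t7_1n0Fd (Nat.mul u (nat_lit 4))) (nat_lit 15)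
noncomputable def t7_1n0 : Nd := ⟨t7_1n0F, (nat_lit 2), (nat_lit 1), [], [((nat_lit 0), []), ((nat_lit 0), [nat_lit 0]), ((nat_lit 0), [nat_lit 0, nat_lit 0]), ((nat_lit 0), [nat_lit 0, nat_lit 0, nat_lit 0]), ((nat_lit 1), [nat_lit 0, nat_lit 0, nat_lit 0, nat_lit 0])], []⟩

theorem md_b : ltAll 21 H16.L34.B = 0 ∧ 20160 ≠ 0 := by decide +kernel
theorem p2t_lt : allL (ltAll 6) p2t_W = true := by decide +kernel
theorem p2_r_a : allZ2 (resEnt p2t_P p2P p2E p2I (nat_lit 21) (nat_lit 17)) (nat_lit 6) (nat_lit 17) = true := by decide +kernel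
theorem p2_b : neL H16.L34.B (p2B.map p2E) = 0 ∧ ltAll 17 p2B = 0 := by decide +kernel
theorem p2_p : allZ2 (pcEnt p2P (nat_lit 2) p2B p2C) 6 6 = true := by decide +kernel
theorem p2_e : allL (ltAll 6) p2e = true := by decide +kernel
theorem p2l0_e_0 : allZ (dent p2l0 (wdsP p2P p2e) (nat_lit 17)) (nat_lit 0) (nat_lit 15) = true := by decide +kernel
theorem p2l0_h : 0 < p2l0.n ∧ 0 < p2l0.K ∧ p2l0.Pt 0 < 17 ∧ p2l0.Q (p2l0.Pt 0) = 0 := by decide +kernel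
theorem p2l1_e_0 : allZ (dent p2l1 (wdsP p2P p2e) (nat_lit 17)) (nat_lit 0) (nat_lit 3) = true := by decide +kernel
theorem p2l1_h : 0 < p2l1.n ∧ 0 < p2l1.K ∧ p2l1.Pt 0 < 17 ∧ p2l1.Q (p2l1.Pt 0) = 0 := by decide +kernel
theorem p2_f1 : (Nat.ble p2l1.K 45 && Nat.ble (topK []) p2l1.K && fixLetters (wdsP p2P p2e) (topK []) (p2l1.Pt 0)) = true := by decide +kernel
theorem p2_f0 : (Nat.ble p2l0.K 45 && Nat.ble (topK [p2l1]) p2l0.K && fixLetters (wdsP p2P p2e) (topK [p2l1]) (p2l0.Pt 0)) = true := by decide +kernel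
theorem p2_c : chainCard [p2l0, p2l1] = 2 ^ 6 ∧ ¬ 2 ^ (6 + 1) ∣ 20160 := by decide +kernel
theorem cv2r_lt : allL (ltAll 6) cv2r_W = true := by decide +kernel
theorem cv2_c0 : (Nat.ble 6 6 && Nat.beq (ltAll 6 []) 0 && Nat.beq (cv2T0.chk H16.L34.P p2P cv2r_P p2E 6 6 2 64 4 p2B 6 [] 0) 0) = true := by decide +kernel
theorem p3t_lt : allL (ltAll 6) p3t_W = true := by decide +kernel
theorem p3_r_a : allZ2 (resEnt p3t_P p3P p3E p3I (nat_lit 21) (nat_lit 15)) (nat_lit 2) (nat_lit 15) = true := by decide +kernel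
theorem p3_b : neL H16.L34.B (p3B.map p3E) = 0 ∧ ltAll 15 p3B = 0 := by decide +kernel
theorem p3_p : allZ2 (pcEnt p3P (nat_lit 3) p3B p3C) 2 2 = true := by decide +kernel
theorem p3_e : allL (ltAll 2) p3e = true := by decide +kernel
theorem p3l0_e_0 : allZ (dent p3l0 (wdsP p3P p3e) (nat_lit 15)) (nat_lit 0) (nat_lit 2) = true := by decide +kernel
theorem p3l0_h : 0 < p3l0.n ∧ 0 < p3l0.K ∧ p3l0.Pt 0 < 15 ∧ p3l0.Q (p3l0.Pt 0) = 0 := by decide +kernel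
theorem p3l1_e_0 : allZ (dent p3l1 (wdsP p3P p3e) (nat_lit 15)) (nat_lit 0) (nat_lit 2) = true := by decide +kernel
theorem p3l1_h : 0 < p3l1.n ∧ 0 < p3l1.K ∧ p3l1.Pt 0 < 15 ∧ p3l1.Q (p3l1.Pt 0) = 0 := by decide +kernel
theorem p3_f1 : (Nat.ble p3l1.K 26 && Nat.ble (topK []) p3l1.K && fixLetters (wdsP p3P p3e) (topK []) (p3l1.Pt 0)) = true := by decide +kernel
theorem p3_f0 : (Nat.ble p3l0.K 26 && Nat.ble (topK [p3l1]) p3l0.K && fixLetters (wdsP p3P p3e) (topK [p3l1]) (p3l0.Pt 0)) = true := by decide +kernel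
theorem p3_c : chainCard [p3l0, p3l1] = 3 ^ 2 ∧ ¬ 3 ^ (2 + 1) ∣ 20160 := by decide +kernel
theorem cv3r_lt : allL (ltAll 6) cv3r_W = true := by decide +kernel
theorem cv3_c0 : (Nat.ble 2 2 && Nat.beq (ltAll 2 []) 0 && Nat.beq (cv3T0.chk H16.L34.P p3P cv3r_P p3E 6 2 3 9 1 p3B 2 [] 0) 0) = true := by decide +kernel
theorem x3_0_lt : allL (ltAll 6) x3_0_W = true := by decide +kernel
theorem t3_0h_lt : allL (ltAll 6) t3_0h_W = true := by decide +kernel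
theorem t3_0l0_e_0 : allZ (dent t3_0l0 t3_0h_P (nat_lit 21)) (nat_lit 0) (nat_lit 20) = true := by decide +kernel
theorem t3_0l0_h : 0 < t3_0l0.n ∧ 0 < t3_0l0.K ∧ t3_0l0.Pt 0 < 21 ∧ t3_0l0.Q (t3_0l0.Pt 0) = 0 := by decide +kernel
theorem t3_0l1_e_0 : allZ (dent t3_0l1 t3_0h_P (nat_lit 21)) (nat_lit 0) (nat_lit 19) = true := by decide +kernel
theorem t3_0l1_h : 0 < t3_0l1.n ∧ 0 < t3_0l1.K ∧ t3_0l1.Pt 0 < 21 ∧ t3_0l1.Q (t3_0l1.Pt 0) = 0 := by decide +kernel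
theorem t3_0l2_e_0 : allZ (dent t3_0l2 t3_0h_P (nat_lit 21)) (nat_lit 0) (nat_lit 15) = true := by decide +kernel
theorem t3_0l2_h : 0 < t3_0l2.n ∧ 0 < t3_0l2.K ∧ t3_0l2.Pt 0 < 21 ∧ t3_0l2.Q (t3_0l2.Pt 0) = 0 := by decide +kernel
theorem t3_0l3_e_0 : allZ (dent t3_0l3 t3_0h_P (nat_lit 21)) (nat_lit 0) (nat_lit 2) = true := by decide +kernel
theorem t3_0l3_h : 0 < t3_0l3.n ∧ 0 < t3_0l3.K ∧ t3_0l3.Pt 0 < 21 ∧ t3_0l3.Q (t3_0l3.Pt 0) = 0 := by decide +kernel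
theorem t3_0_f3 : (Nat.ble t3_0l3.K 9 && Nat.ble (topK []) t3_0l3.K && fixLetters t3_0h_P (topK []) (t3_0l3.Pt 0)) = true := by decide +kernel
theorem t3_0_f2 : (Nat.ble t3_0l2.K 9 && Nat.ble (topK [t3_0l3]) t3_0l2.K && fixLetters t3_0h_P (topK [t3_0l3]) (t3_0l2.Pt 0)) = true := by decide +kernel
theorem t3_0_f1 : (Nat.ble t3_0l1.K 9 && Nat.ble (topK [t3_0l2, t3_0l3]) t3_0l1.K && fixLetters t3_0h_P (topK [t3_0l2, t3_0l3]) (t3_0l1.Pt 0)) = true := by decide +kernel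
theorem t3_0_f0 : (Nat.ble t3_0l0.K 9 && Nat.ble (topK [t3_0l1, t3_0l2, t3_0l3]) t3_0l0.K && fixLetters t3_0h_P (topK [t3_0l1, t3_0l2, t3_0l3]) (t3_0l0.Pt 0)) = true := by decide +kernel
theorem t3_0_c : chainCard [t3_0l0, t3_0l1, t3_0l2, t3_0l3] = 20160 := by decide +kernel
theorem c3_0e_lt : allL (ltAll 6) c3_0e_W = true := by decide +kernel
theorem c3_0c3_e_0 : allZ (dent c3_0c3 c3_0e_P (nat_lit 21)) (nat_lit 0) (nat_lit 2) = true := by decide +kernel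
theorem c3_0c3_h : 0 < c3_0c3.n ∧ 0 < c3_0c3.K ∧ c3_0c3.Pt 0 < 21 ∧ c3_0c3.Q (c3_0c3.Pt 0) = 0 := by decide +kernel
theorem t3_0n0_0 : (Nat.ble t3_0l3.K 9 && Nat.beq (ltAll 21 [t3_0l2.Pt 0, t3_0l1.Pt 0, t3_0l0.Pt 0]) 0 && kChk c3_0e_P x3_0_P t3_0n0.Kn 1 H16.L34.B [t3_0l2.Pt 0, t3_0l1.Pt 0, t3_0l0.Pt 0] && allL (ltAll 1) t3_0n0.pre && planOK t3_0h_P x3_0_P 1 (t3_0l3.Pt 0) t3_0n0.plan [t3_0l3]) = true := by decide +kernel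
theorem t3_0n0_1_0 : allZ (t3_0n0.ent H16.L34.P t3_0h_P x3_0_P x3_0_P c3_0e_P (nat_lit 6) (nat_lit 1) H16.L34.B t3_0l3 [] (memO c3_0c3)) (nat_lit 0) (nat_lit 3) = true := by decide +kernel
theorem c3_0_f3 : (Nat.ble c3_0c3.K 2 && Nat.ble (topK []) c3_0c3.K && Nat.beq (c3_0c3.Pt 0) (t3_0l3.Pt 0) && Nat.beq (ltAll 21 [t3_0l2.Pt 0, t3_0l1.Pt 0, t3_0l0.Pt 0]) 0 && kChk c3_0e_P x3_0_P c3_0c3.K 1 H16.L34.B [t3_0l2.Pt 0, t3_0l1.Pt 0, t3_0l0.Pt 0]) = true := by decide +kernel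
theorem c3_0_f2 : (Nat.ble t3_0l2.K 9 && Nat.blt (nat_lit 1) 21 && fixLetters t3_0h_P t3_0l2.K (nat_lit 1) && Nat.beq (ltAll 1 [nat_lit 0, nat_lit 0]) 0 && Nat.beq (apW x3_0_P [nat_lit 0, nat_lit 0] (nat_lit 1)) (t3_0l2.Pt 0)) = true := by decide +kernel
theorem c3_0_f1 : (Nat.ble t3_0l1.K 9 && Nat.blt (nat_lit 1) 21 && fixLetters t3_0h_P t3_0l1.K (nat_lit 1) && Nat.beq (ltAll 1 [nat_lit 0]) 0 && Nat.beq (apW x3_0_P [nat_lit 0] (nat_lit 1)) (t3_0l1.Pt 0)) = true := by decide +kernel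
theorem c3_0c0_e_0 : allZ (dent c3_0c0 c3_0e_P (nat_lit 21)) (nat_lit 0) (nat_lit 2) = true := by decide +kernel
theorem c3_0c0_h : 0 < c3_0c0.n ∧ 0 < c3_0c0.K ∧ c3_0c0.Pt 0 < 21 ∧ c3_0c0.Q (c3_0c0.Pt 0) = 0 := by decide +kernel
theorem t3_0n1y3_lt : allL (ltAll 6) t3_0n1y3_W = true := by decide +kernel
theorem t3_0r2k_lt : allL (ltAll 6) t3_0r2k_W = true := by decide +kernel
theorem t3_0n2_0 : (Nat.ble t3_0l3.K 9 && Nat.beq (ltAll 21 [t3_0l2.Pt 0, t3_0l1.Pt 0, t3_0l0.Pt 0]) 0 && kChk t3_0r2k_P t3_0n1y3_P t3_0n2.Kn 1 H16.L34.B [t3_0l2.Pt 0, t3_0l1.Pt 0, t3_0l0.Pt 0] && allL (ltAll 1) t3_0n2.pre && planOK t3_0h_P x3_0_P 1 (t3_0l3.Pt 0) t3_0n2.plan [t3_0l3]) = true := by decide +kernel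
theorem t3_0n2_1_0 : allZ (t3_0n2.ent H16.L34.P t3_0h_P x3_0_P t3_0n1y3_P t3_0r2k_P (nat_lit 6) (nat_lit 1) H16.L34.B t3_0l3 [] (fun _ => nat_lit 1)) (nat_lit 0) (nat_lit 3) = true := by decide +kernel
theorem t3_0n1y14_lt : allL (ltAll 6) t3_0n1y14_W = true := by decide +kernel
theorem t3_0r3k_lt : allL (ltAll 6) t3_0r3k_W = true := by decide +kernel
theorem t3_0n3_0 : (Nat.ble t3_0l3.K 9 && Nat.beq (ltAll 21 [t3_0l2.Pt 0, t3_0l1.Pt 0, t3_0l0.Pt 0]) 0 && kChk t3_0r3k_P t3_0n1y14_P t3_0n3.Kn 1 H16.L34.B [t3_0l2.Pt 0, t3_0l1.Pt 0, t3_0l0.Pt 0] && allL (ltAll 1) t3_0n3.pre && planOK t3_0h_P x3_0_P 1 (t3_0l3.Pt 0) t3_0n3.plan [t3_0l3]) = true := by decide +kernel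
theorem t3_0n3_1_0 : allZ (t3_0n3.ent H16.L34.P t3_0h_P x3_0_P t3_0n1y14_P t3_0r3k_P (nat_lit 6) (nat_lit 1) H16.L34.B t3_0l3 [] (fun _ => nat_lit 1)) (nat_lit 0) (nat_lit 3) = true := by decide +kernel
theorem t3_0n1_0 : (Nat.ble t3_0l0.K 9 && Nat.beq (ltAll 21 []) 0 && kChk c3_0e_P x3_0_P t3_0n1.Kn 1 H16.L34.B [] && allL (ltAll 1) t3_0n1.pre && planOK t3_0h_P x3_0_P 1 (t3_0l0.Pt 0) t3_0n1.plan [t3_0l0, t3_0l1, t3_0l2, t3_0l3]) = true := by decide +kernel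
theorem t3_0n1_1_0 : allZ (t3_0n1.ent H16.L34.P t3_0h_P x3_0_P x3_0_P c3_0e_P (nat_lit 6) (nat_lit 1) H16.L34.B t3_0l0 [t3_0l1, t3_0l2, t3_0l3] (memO c3_0c0)) (nat_lit 0) (nat_lit 21) = true := by decide +kernel
theorem c3_0_f0 : (Nat.ble c3_0c0.K 2 && Nat.ble (topK [c3_0c3]) c3_0c0.K && Nat.beq (c3_0c0.Pt 0) (t3_0l0.Pt 0) && Nat.beq (ltAll 21 []) 0 && kChk c3_0e_P x3_0_P c3_0c0.K 1 H16.L34.B []) = true := by decide +kernel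
theorem c3_0_c : chainCard [c3_0c0, c3_0c3] = 9 ∧ topK [c3_0c0, c3_0c3] = 2 := by decide +kernel
theorem p5t_lt : allL (ltAll 6) p5t_W = true := by decide +kernel
theorem p5_r_a : allZ2 (resEnt p5t_P p5P p5E p5I (nat_lit 21) (nat_lit 11)) (nat_lit 1) (nat_lit 11) = true := by decide +kernel
theorem p5_b : neL H16.L34.B (p5B.map p5E) = 0 ∧ ltAll 11 p5B = 0 := by decide +kernel
theorem p5_p : allZ2 (pcEnt p5P (nat_lit 5) p5B p5C) 1 1 = true := by decide +kernel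
theorem p5_e : allL (ltAll 1) p5e = true := by decide +kernel
theorem p5l0_e_0 : allZ (dent p5l0 (wdsP p5P p5e) (nat_lit 11)) (nat_lit 0) (nat_lit 4) = true := by decide +kernel
theorem p5l0_h : 0 < p5l0.n ∧ 0 < p5l0.K ∧ p5l0.Pt 0 < 11 ∧ p5l0.Q (p5l0.Pt 0) = 0 := by decide +kernel
theorem p5_f0 : (Nat.ble p5l0.K 3 && Nat.ble (topK []) p5l0.K && fixLetters (wdsP p5P p5e) (topK []) (p5l0.Pt 0)) = true := by decide +kernel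
theorem p5_c : chainCard [p5l0] = 5 ^ 1 ∧ ¬ 5 ^ (1 + 1) ∣ 20160 := by decide +kernel
theorem cv5r_lt : allL (ltAll 6) cv5r_W = true := by decide +kernel
theorem cv5_c0 : (Nat.ble 1 1 && Nat.beq (ltAll 1 []) 0 && Nat.beq (cv5T0.chk H16.L34.P p5P cv5r_P p5E 6 1 5 5 2 p5B 1 [] 0) 0) = true := by decide +kernel
theorem x5_0_lt : allL (ltAll 6) x5_0_W = true := by decide +kernel
theorem t5_0h_lt : allL (ltAll 6) t5_0h_W = true := by decide +kernel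
theorem t5_0l0_e_0 : allZ (dent t5_0l0 t5_0h_P (nat_lit 21)) (nat_lit 0) (nat_lit 20) = true := by decide +kernel
theorem t5_0l0_h : 0 < t5_0l0.n ∧ 0 < t5_0l0.K ∧ t5_0l0.Pt 0 < 21 ∧ t5_0l0.Q (t5_0l0.Pt 0) = 0 := by decide +kernel
theorem t5_0l1_e_0 : allZ (dent t5_0l1 t5_0h_P (nat_lit 21)) (nat_lit 0) (nat_lit 19) = true := by decide +kernel
theorem t5_0l1_h : 0 < t5_0l1.n ∧ 0 < t5_0l1.K ∧ t5_0l1.Pt 0 < 21 ∧ t5_0l1.Q (t5_0l1.Pt 0) = 0 := by decide +kernel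
theorem t5_0l2_e_0 : allZ (dent t5_0l2 t5_0h_P (nat_lit 21)) (nat_lit 0) (nat_lit 2) = true := by decide +kernel
theorem t5_0l2_h : 0 < t5_0l2.n ∧ 0 < t5_0l2.K ∧ t5_0l2.Pt 0 < 21 ∧ t5_0l2.Q (t5_0l2.Pt 0) = 0 := by decide +kernel
theorem t5_0l3_e_0 : allZ (dent t5_0l3 t5_0h_P (nat_lit 21)) (nat_lit 0) (nat_lit 15) = true := by decide +kernel
theorem t5_0l3_h : 0 < t5_0l3.n ∧ 0 < t5_0l3.K ∧ t5_0l3.Pt 0 < 21 ∧ t5_0l3.Q (t5_0l3.Pt 0) = 0 := by decide +kernel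
theorem t5_0_f3 : (Nat.ble t5_0l3.K 11 && Nat.ble (topK []) t5_0l3.K && fixLetters t5_0h_P (topK []) (t5_0l3.Pt 0)) = true := by decide +kernel
theorem t5_0_f2 : (Nat.ble t5_0l2.K 11 && Nat.ble (topK [t5_0l3]) t5_0l2.K && fixLetters t5_0h_P (topK [t5_0l3]) (t5_0l2.Pt 0)) = true := by decide +kernel
theorem t5_0_f1 : (Nat.ble t5_0l1.K 11 && Nat.ble (topK [t5_0l2, t5_0l3]) t5_0l1.K && fixLetters t5_0h_P (topK [t5_0l2, t5_0l3]) (t5_0l1.Pt 0)) = true := by decide +kernel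
theorem t5_0_f0 : (Nat.ble t5_0l0.K 11 && Nat.ble (topK [t5_0l1, t5_0l2, t5_0l3]) t5_0l0.K && fixLetters t5_0h_P (topK [t5_0l1, t5_0l2, t5_0l3]) (t5_0l0.Pt 0)) = true := by decide +kernel
theorem t5_0_c : chainCard [t5_0l0, t5_0l1, t5_0l2, t5_0l3] = 20160 := by decide +kernel
theorem c5_0e_lt : allL (ltAll 6) c5_0e_W = true := by decide +kernel
theorem t5_0n0_0 : (Nat.ble t5_0l3.K 11 && Nat.beq (ltAll 21 [t5_0l2.Pt 0, t5_0l1.Pt 0, t5_0l0.Pt 0]) 0 && kChk c5_0e_P x5_0_P t5_0n0.Kn 1 H16.L34.B [t5_0l2.Pt 0, t5_0l1.Pt 0, t5_0l0.Pt 0] && allL (ltAll 1) t5_0n0.pre && planOK t5_0h_P x5_0_P 1 (t5_0l3.Pt 0) t5_0n0.plan [t5_0l3]) = true := by decide +kernel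
theorem t5_0n0_1_0 : allZ (t5_0n0.ent H16.L34.P t5_0h_P x5_0_P x5_0_P c5_0e_P (nat_lit 6) (nat_lit 1) H16.L34.B t5_0l3 [] (fun w => Nat.xor w (t5_0l3.Pt (nat_lit 0)))) (nat_lit 0) (nat_lit 16) = true := by decide +kernel
theorem c5_0_f2 : (Nat.ble t5_0l2.K 11 && Nat.blt (nat_lit 1) 21 && fixLetters t5_0h_P t5_0l2.K (nat_lit 1) && Nat.beq (ltAll 1 [nat_lit 0, nat_lit 0]) 0 && Nat.beq (apW x5_0_P [nat_lit 0, nat_lit 0] (nat_lit 1)) (t5_0l2.Pt 0)) = true := by decide +kernel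
theorem c5_0_f1 : (Nat.ble t5_0l1.K 11 && Nat.blt (nat_lit 1) 21 && fixLetters t5_0h_P t5_0l1.K (nat_lit 1) && Nat.beq (ltAll 1 [nat_lit 0]) 0 && Nat.beq (apW x5_0_P [nat_lit 0] (nat_lit 1)) (t5_0l1.Pt 0)) = true := by decide +kernel
theorem c5_0c0_e_0 : allZ (dent c5_0c0 c5_0e_P (nat_lit 21)) (nat_lit 0) (nat_lit 4) = true := by decide +kernel
theorem c5_0c0_h : 0 < c5_0c0.n ∧ 0 < c5_0c0.K ∧ c5_0c0.Pt 0 < 21 ∧ c5_0c0.Q (c5_0c0.Pt 0) = 0 := by decide +kernel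
theorem t5_0n1_0 : (Nat.ble t5_0l0.K 11 && Nat.beq (ltAll 21 []) 0 && kChk c5_0e_P x5_0_P t5_0n1.Kn 1 H16.L34.B [] && allL (ltAll 1) t5_0n1.pre && planOK t5_0h_P x5_0_P 1 (t5_0l0.Pt 0) t5_0n1.plan [t5_0l0, t5_0l1, t5_0l2, t5_0l3]) = true := by decide +kernel
theorem t5_0n1_1_0 : allZ (t5_0n1.ent H16.L34.P t5_0h_P x5_0_P x5_0_P c5_0e_P (nat_lit 6) (nat_lit 1) H16.L34.B t5_0l0 [t5_0l1, t5_0l2, t5_0l3] (memO c5_0c0)) (nat_lit 0) (nat_lit 21) = true := by decide +kernel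
theorem c5_0_f0 : (Nat.ble c5_0c0.K 1 && Nat.ble (topK []) c5_0c0.K && Nat.beq (c5_0c0.Pt 0) (t5_0l0.Pt 0) && Nat.beq (ltAll 21 []) 0 && kChk c5_0e_P x5_0_P c5_0c0.K 1 H16.L34.B []) = true := by decide +kernel
theorem c5_0_c : chainCard [c5_0c0] = 5 ∧ topK [c5_0c0] = 1 := by decide +kernel
theorem x5_1_lt : allL (ltAll 6) x5_1_W = true := by decide +kernel
theorem t5_1h_lt : allL (ltAll 6) t5_1h_W = true := by decide +kernel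
theorem t5_1l0_e_0 : allZ (dent t5_1l0 t5_1h_P (nat_lit 21)) (nat_lit 0) (nat_lit 20) = true := by decide +kernel
theorem t5_1l0_h : 0 < t5_1l0.n ∧ 0 < t5_1l0.K ∧ t5_1l0.Pt 0 < 21 ∧ t5_1l0.Q (t5_1l0.Pt 0) = 0 := by decide +kernel
theorem t5_1l1_e_0 : allZ (dent t5_1l1 t5_1h_P (nat_lit 21)) (nat_lit 0) (nat_lit 19) = true := by decide +kernel
theorem t5_1l1_h : 0 < t5_1l1.n ∧ 0 < t5_1l1.K ∧ t5_1l1.Pt 0 < 21 ∧ t5_1l1.Q (t5_1l1.Pt 0) = 0 := by decide +kernel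
theorem t5_1l2_e_0 : allZ (dent t5_1l2 t5_1h_P (nat_lit 21)) (nat_lit 0) (nat_lit 2) = true := by decide +kernel
theorem t5_1l2_h : 0 < t5_1l2.n ∧ 0 < t5_1l2.K ∧ t5_1l2.Pt 0 < 21 ∧ t5_1l2.Q (t5_1l2.Pt 0) = 0 := by decide +kernel
theorem t5_1l3_e_0 : allZ (dent t5_1l3 t5_1h_P (nat_lit 21)) (nat_lit 0) (nat_lit 15) = true := by decide +kernel
theorem t5_1l3_h : 0 < t5_1l3.n ∧ 0 < t5_1l3.K ∧ t5_1l3.Pt 0 < 21 ∧ t5_1l3.Q (t5_1l3.Pt 0) = 0 := by decide +kernel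
theorem t5_1_f3 : (Nat.ble t5_1l3.K 11 && Nat.ble (topK []) t5_1l3.K && fixLetters t5_1h_P (topK []) (t5_1l3.Pt 0)) = true := by decide +kernel
theorem t5_1_f2 : (Nat.ble t5_1l2.K 11 && Nat.ble (topK [t5_1l3]) t5_1l2.K && fixLetters t5_1h_P (topK [t5_1l3]) (t5_1l2.Pt 0)) = true := by decide +kernel
theorem t5_1_f1 : (Nat.ble t5_1l1.K 11 && Nat.ble (topK [t5_1l2, t5_1l3]) t5_1l1.K && fixLetters t5_1h_P (topK [t5_1l2, t5_1l3]) (t5_1l1.Pt 0)) = true := by decide +kernel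
theorem t5_1_f0 : (Nat.ble t5_1l0.K 11 && Nat.ble (topK [t5_1l1, t5_1l2, t5_1l3]) t5_1l0.K && fixLetters t5_1h_P (topK [t5_1l1, t5_1l2, t5_1l3]) (t5_1l0.Pt 0)) = true := by decide +kernel
theorem t5_1_c : chainCard [t5_1l0, t5_1l1, t5_1l2, t5_1l3] = 20160 := by decide +kernel
theorem c5_1e_lt : allL (ltAll 6) c5_1e_W = true := by decide +kernel
theorem t5_1n0_0 : (Nat.ble t5_1l3.K 11 && Nat.beq (ltAll 21 [t5_1l2.Pt 0, t5_1l1.Pt 0, t5_1l0.Pt 0]) 0 && kChk c5_1e_P x5_1_P t5_1n0.Kn 1 H16.L34.B [t5_1l2.Pt 0, t5_1l1.Pt 0, t5_1l0.Pt 0] && allL (ltAll 1) t5_1n0.pre && planOK t5_1h_P x5_1_P 1 (t5_1l3.Pt 0) t5_1n0.plan [t5_1l3]) = true := by decide +kernel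
theorem t5_1n0_1_0 : allZ (t5_1n0.ent H16.L34.P t5_1h_P x5_1_P x5_1_P c5_1e_P (nat_lit 6) (nat_lit 1) H16.L34.B t5_1l3 [] (fun w => Nat.xor w (t5_1l3.Pt (nat_lit 0)))) (nat_lit 0) (nat_lit 16) = true := by decide +kernel
theorem c5_1_f2 : (Nat.ble t5_1l2.K 11 && Nat.blt (nat_lit 1) 21 && fixLetters t5_1h_P t5_1l2.K (nat_lit 1) && Nat.beq (ltAll 1 [nat_lit 0, nat_lit 0]) 0 && Nat.beq (apW x5_1_P [nat_lit 0, nat_lit 0] (nat_lit 1)) (t5_1l2.Pt 0)) = true := by decide +kernel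
theorem c5_1_f1 : (Nat.ble t5_1l1.K 11 && Nat.blt (nat_lit 1) 21 && fixLetters t5_1h_P t5_1l1.K (nat_lit 1) && Nat.beq (ltAll 1 [nat_lit 0]) 0 && Nat.beq (apW x5_1_P [nat_lit 0] (nat_lit 1)) (t5_1l1.Pt 0)) = true := by decide +kernel
theorem c5_1c0_e_0 : allZ (dent c5_1c0 c5_1e_P (nat_lit 21)) (nat_lit 0) (nat_lit 4) = true := by decide +kernel
theorem c5_1c0_h : 0 < c5_1c0.n ∧ 0 < c5_1c0.K ∧ c5_1c0.Pt 0 < 21 ∧ c5_1c0.Q (c5_1c0.Pt 0) = 0 := by decide +kernel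
theorem t5_1n1_0 : (Nat.ble t5_1l0.K 11 && Nat.beq (ltAll 21 []) 0 && kChk c5_1e_P x5_1_P t5_1n1.Kn 1 H16.L34.B [] && allL (ltAll 1) t5_1n1.pre && planOK t5_1h_P x5_1_P 1 (t5_1l0.Pt 0) t5_1n1.plan [t5_1l0, t5_1l1, t5_1l2, t5_1l3]) = true := by decide +kernel
theorem t5_1n1_1_0 : allZ (t5_1n1.ent H16.L34.P t5_1h_P x5_1_P x5_1_P c5_1e_P (nat_lit 6) (nat_lit 1) H16.L34.B t5_1l0 [t5_1l1, t5_1l2, t5_1l3] (memO c5_1c0)) (nat_lit 0) (nat_lit 21) = true := by decide +kernel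
theorem c5_1_f0 : (Nat.ble c5_1c0.K 1 && Nat.ble (topK []) c5_1c0.K && Nat.beq (c5_1c0.Pt 0) (t5_1l0.Pt 0) && Nat.beq (ltAll 21 []) 0 && kChk c5_1e_P x5_1_P c5_1c0.K 1 H16.L34.B []) = true := by decide +kernel
theorem c5_1_c : chainCard [c5_1c0] = 5 ∧ topK [c5_1c0] = 1 := by decide +kernel
theorem p7t_lt : allL (ltAll 6) p7t_W = true := by decide +kernel
theorem p7_r_a : allZ2 (resEnt p7t_P p7P p7E p7I (nat_lit 21) (nat_lit 14)) (nat_lit 1) (nat_lit 14) = true := by decide +kernel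
theorem p7_b : neL H16.L34.B (p7B.map p7E) = 0 ∧ ltAll 14 p7B = 0 := by decide +kernel
theorem p7_p : allZ2 (pcEnt p7P (nat_lit 7) p7B p7C) 1 1 = true := by decide +kernel
theorem p7_e : allL (ltAll 1) p7e = true := by decide +kernel
theorem p7l0_e_0 : allZ (dent p7l0 (wdsP p7P p7e) (nat_lit 14)) (nat_lit 0) (nat_lit 6) = true := by decide +kernel
theorem p7l0_h : 0 < p7l0.n ∧ 0 < p7l0.K ∧ p7l0.Pt 0 < 14 ∧ p7l0.Q (p7l0.Pt 0) = 0 := by decide +kernel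
theorem p7_f0 : (Nat.ble p7l0.K 1 && Nat.ble (topK []) p7l0.K && fixLetters (wdsP p7P p7e) (topK []) (p7l0.Pt 0)) = true := by decide +kernel
theorem p7_c : chainCard [p7l0] = 7 ^ 1 ∧ ¬ 7 ^ (1 + 1) ∣ 20160 := by decide +kernel
theorem cv7r_lt : allL (ltAll 6) cv7r_W = true := by decide +kernel
theorem cv7_c0 : (Nat.ble 1 1 && Nat.beq (ltAll 1 []) 0 && Nat.beq (cv7T0.chk H16.L34.P p7P cv7r_P p7E 6 1 7 7 2 p7B 1 [] 0) 0) = true := by decide +kernel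
theorem x7_0_lt : allL (ltAll 6) x7_0_W = true := by decide +kernel
theorem t7_0h_lt : allL (ltAll 6) t7_0h_W = true := by decide +kernel
theorem t7_0l0_e_0 : allZ (dent t7_0l0 t7_0h_P (nat_lit 21)) (nat_lit 0) (nat_lit 20) = true := by decide +kernel
theorem t7_0l0_h : 0 < t7_0l0.n ∧ 0 < t7_0l0.K ∧ t7_0l0.Pt 0 < 21 ∧ t7_0l0.Q (t7_0l0.Pt 0) = 0 := by decide +kernel
theorem t7_0l1_e_0 : allZ (dent t7_0l1 t7_0h_P (nat_lit 21)) (nat_lit 0) (nat_lit 19) = true := by decide +kernel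
theorem t7_0l1_h : 0 < t7_0l1.n ∧ 0 < t7_0l1.K ∧ t7_0l1.Pt 0 < 21 ∧ t7_0l1.Q (t7_0l1.Pt 0) = 0 := by decide +kernel
theorem t7_0l2_e_0 : allZ (dent t7_0l2 t7_0h_P (nat_lit 21)) (nat_lit 0) (nat_lit 15) = true := by decide +kernel
theorem t7_0l2_h : 0 < t7_0l2.n ∧ 0 < t7_0l2.K ∧ t7_0l2.Pt 0 < 21 ∧ t7_0l2.Q (t7_0l2.Pt 0) = 0 := by decide +kernel
theorem t7_0l3_e_0 : allZ (dent t7_0l3 t7_0h_P (nat_lit 21)) (nat_lit 0) (nat_lit 2) = true := by decide +kernel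
theorem t7_0l3_h : 0 < t7_0l3.n ∧ 0 < t7_0l3.K ∧ t7_0l3.Pt 0 < 21 ∧ t7_0l3.Q (t7_0l3.Pt 0) = 0 := by decide +kernel
theorem t7_0_f3 : (Nat.ble t7_0l3.K 9 && Nat.ble (topK []) t7_0l3.K && fixLetters t7_0h_P (topK []) (t7_0l3.Pt 0)) = true := by decide +kernel
theorem t7_0_f2 : (Nat.ble t7_0l2.K 9 && Nat.ble (topK [t7_0l3]) t7_0l2.K && fixLetters t7_0h_P (topK [t7_0l3]) (t7_0l2.Pt 0)) = true := by decide +kernel
theorem t7_0_f1 : (Nat.ble t7_0l1.K 9 && Nat.ble (topK [t7_0l2, t7_0l3]) t7_0l1.K && fixLetters t7_0h_P (topK [t7_0l2, t7_0l3]) (t7_0l1.Pt 0)) = true := by decide +kernel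
theorem t7_0_f0 : (Nat.ble t7_0l0.K 9 && Nat.ble (topK [t7_0l1, t7_0l2, t7_0l3]) t7_0l0.K && fixLetters t7_0h_P (topK [t7_0l1, t7_0l2, t7_0l3]) (t7_0l0.Pt 0)) = true := by decide +kernel
theorem t7_0_c : chainCard [t7_0l0, t7_0l1, t7_0l2, t7_0l3] = 20160 := by decide +kernel
theorem c7_0e_lt : allL (ltAll 6) c7_0e_W = true := by decide +kernel
theorem c7_0_f3 : (Nat.ble t7_0l3.K 9 && Nat.blt (nat_lit 0) 21 && fixLetters t7_0h_P t7_0l3.K (nat_lit 0) && Nat.beq (ltAll 1 [nat_lit 0, nat_lit 0, nat_lit 0]) 0 && Nat.beq (apW x7_0_P [nat_lit 0, nat_lit 0, nat_lit 0] (nat_lit 0)) (t7_0l3.Pt 0)) = true := by decide +kernel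
theorem c7_0_f2 : (Nat.ble t7_0l2.K 9 && Nat.blt (nat_lit 0) 21 && fixLetters t7_0h_P t7_0l2.K (nat_lit 0) && Nat.beq (ltAll 1 [nat_lit 0, nat_lit 0]) 0 && Nat.beq (apW x7_0_P [nat_lit 0, nat_lit 0] (nat_lit 0)) (t7_0l2.Pt 0)) = true := by decide +kernel
theorem c7_0_f1 : (Nat.ble t7_0l1.K 9 && Nat.blt (nat_lit 0) 21 && fixLetters t7_0h_P t7_0l1.K (nat_lit 0) && Nat.beq (ltAll 1 [nat_lit 0]) 0 && Nat.beq (apW x7_0_P [nat_lit 0] (nat_lit 0)) (t7_0l1.Pt 0)) = true := by decide +kernel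
theorem c7_0c0_e_0 : allZ (dent c7_0c0 c7_0e_P (nat_lit 21)) (nat_lit 0) (nat_lit 6) = true := by decide +kernel
theorem c7_0c0_h : 0 < c7_0c0.n ∧ 0 < c7_0c0.K ∧ c7_0c0.Pt 0 < 21 ∧ c7_0c0.Q (c7_0c0.Pt 0) = 0 := by decide +kernel
theorem t7_0n0_0 : (Nat.ble t7_0l0.K 9 && Nat.beq (ltAll 21 []) 0 && kChk c7_0e_P x7_0_P t7_0n0.Kn 1 H16.L34.B [] && allL (ltAll 1) t7_0n0.pre && planOK t7_0h_P x7_0_P 1 (t7_0l0.Pt 0) t7_0n0.plan [t7_0l0, t7_0l1, t7_0l2, t7_0l3]) = true := by decide +kernel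
theorem t7_0n0_1_0 : allZ (t7_0n0.ent H16.L34.P t7_0h_P x7_0_P x7_0_P c7_0e_P (nat_lit 6) (nat_lit 1) H16.L34.B t7_0l0 [t7_0l1, t7_0l2, t7_0l3] (memO c7_0c0)) (nat_lit 0) (nat_lit 21) = true := by decide +kernel
theorem c7_0_f0 : (Nat.ble c7_0c0.K 1 && Nat.ble (topK []) c7_0c0.K && Nat.beq (c7_0c0.Pt 0) (t7_0l0.Pt 0) && Nat.beq (ltAll 21 []) 0 && kChk c7_0e_P x7_0_P c7_0c0.K 1 H16.L34.B []) = true := by decide +kernel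
theorem c7_0_c : chainCard [c7_0c0] = 7 ∧ topK [c7_0c0] = 1 := by decide +kernel
theorem x7_1_lt : allL (ltAll 6) x7_1_W = true := by decide +kernel
theorem t7_1h_lt : allL (ltAll 6) t7_1h_W = true := by decide +kernel
theorem t7_1l0_e_0 : allZ (dent t7_1l0 t7_1h_P (nat_lit 21)) (nat_lit 0) (nat_lit 20) = true := by decide +kernel
theorem t7_1l0_h : 0 < t7_1l0.n ∧ 0 < t7_1l0.K ∧ t7_1l0.Pt 0 < 21 ∧ t7_1l0.Q (t7_1l0.Pt 0) = 0 := by decide +kernel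
theorem t7_1l1_e_0 : allZ (dent t7_1l1 t7_1h_P (nat_lit 21)) (nat_lit 0) (nat_lit 19) = true := by decide +kernel
theorem t7_1l1_h : 0 < t7_1l1.n ∧ 0 < t7_1l1.K ∧ t7_1l1.Pt 0 < 21 ∧ t7_1l1.Q (t7_1l1.Pt 0) = 0 := by decide +kernel
theorem t7_1l2_e_0 : allZ (dent t7_1l2 t7_1h_P (nat_lit 21)) (nat_lit 0) (nat_lit 15) = true := by decide +kernel
theorem t7_1l2_h : 0 < t7_1l2.n ∧ 0 < t7_1l2.K ∧ t7_1l2.Pt 0 < 21 ∧ t7_1l2.Q (t7_1l2.Pt 0) = 0 := by decide +kernel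
theorem t7_1l3_e_0 : allZ (dent t7_1l3 t7_1h_P (nat_lit 21)) (nat_lit 0) (nat_lit 2) = true := by decide +kernel
theorem t7_1l3_h : 0 < t7_1l3.n ∧ 0 < t7_1l3.K ∧ t7_1l3.Pt 0 < 21 ∧ t7_1l3.Q (t7_1l3.Pt 0) = 0 := by decide +kernel
theorem t7_1_f3 : (Nat.ble t7_1l3.K 9 && Nat.ble (topK []) t7_1l3.K && fixLetters t7_1h_P (topK []) (t7_1l3.Pt 0)) = true := by decide +kernel
theorem t7_1_f2 : (Nat.ble t7_1l2.K 9 && Nat.ble (topK [t7_1l3]) t7_1l2.K && fixLetters t7_1h_P (topK [t7_1l3]) (t7_1l2.Pt 0)) = true := by decide +kernel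
theorem t7_1_f1 : (Nat.ble t7_1l1.K 9 && Nat.ble (topK [t7_1l2, t7_1l3]) t7_1l1.K && fixLetters t7_1h_P (topK [t7_1l2, t7_1l3]) (t7_1l1.Pt 0)) = true := by decide +kernel
theorem t7_1_f0 : (Nat.ble t7_1l0.K 9 && Nat.ble (topK [t7_1l1, t7_1l2, t7_1l3]) t7_1l0.K && fixLetters t7_1h_P (topK [t7_1l1, t7_1l2, t7_1l3]) (t7_1l0.Pt 0)) = true := by decide +kernel
theorem t7_1_c : chainCard [t7_1l0, t7_1l1, t7_1l2, t7_1l3] = 20160 := by decide +kernel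
theorem c7_1e_lt : allL (ltAll 6) c7_1e_W = true := by decide +kernel
theorem c7_1_f3 : (Nat.ble t7_1l3.K 9 && Nat.blt (nat_lit 0) 21 && fixLetters t7_1h_P t7_1l3.K (nat_lit 0) && Nat.beq (ltAll 1 [nat_lit 0, nat_lit 0, nat_lit 0]) 0 && Nat.beq (apW x7_1_P [nat_lit 0, nat_lit 0, nat_lit 0] (nat_lit 0)) (t7_1l3.Pt 0)) = true := by decide +kernel
theorem c7_1_f2 : (Nat.ble t7_1l2.K 9 && Nat.blt (nat_lit 0) 21 && fixLetters t7_1h_P t7_1l2.K (nat_lit 0) && Nat.beq (ltAll 1 [nat_lit 0, nat_lit 0]) 0 && Nat.beq (apW x7_1_P [nat_lit 0, nat_lit 0] (nat_lit 0)) (t7_1l2.Pt 0)) = true := by decide +kernel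
theorem c7_1_f1 : (Nat.ble t7_1l1.K 9 && Nat.blt (nat_lit 0) 21 && fixLetters t7_1h_P t7_1l1.K (nat_lit 0) && Nat.beq (ltAll 1 [nat_lit 0]) 0 && Nat.beq (apW x7_1_P [nat_lit 0] (nat_lit 0)) (t7_1l1.Pt 0)) = true := by decide +kernel
theorem c7_1c0_e_0 : allZ (dent c7_1c0 c7_1e_P (nat_lit 21)) (nat_lit 0) (nat_lit 6) = true := by decide +kernel
theorem c7_1c0_h : 0 < c7_1c0.n ∧ 0 < c7_1c0.K ∧ c7_1c0.Pt 0 < 21 ∧ c7_1c0.Q (c7_1c0.Pt 0) = 0 := by decide +kernel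
theorem t7_1n0_0 : (Nat.ble t7_1l0.K 9 && Nat.beq (ltAll 21 []) 0 && kChk c7_1e_P x7_1_P t7_1n0.Kn 1 H16.L34.B [] && allL (ltAll 1) t7_1n0.pre && planOK t7_1h_P x7_1_P 1 (t7_1l0.Pt 0) t7_1n0.plan [t7_1l0, t7_1l1, t7_1l2, t7_1l3]) = true := by decide +kernel
theorem t7_1n0_1_0 : allZ (t7_1n0.ent H16.L34.P t7_1h_P x7_1_P x7_1_P c7_1e_P (nat_lit 6) (nat_lit 1) H16.L34.B t7_1l0 [t7_1l1, t7_1l2, t7_1l3] (memO c7_1c0)) (nat_lit 0) (nat_lit 21) = true := by decide +kernel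
theorem c7_1_f0 : (Nat.ble c7_1c0.K 1 && Nat.ble (topK []) c7_1c0.K && Nat.beq (c7_1c0.Pt 0) (t7_1l0.Pt 0) && Nat.beq (ltAll 21 []) 0 && kChk c7_1e_P x7_1_P c7_1c0.K 1 H16.L34.B []) = true := by decide +kernel
theorem c7_1_c : chainCard [c7_1c0] = 7 ∧ topK [c7_1c0] = 1 := by decide +kernel

theorem md {G : Type*} [Group G] (e : gen H16.L34.g 6 ≃* G) :
    ∃ (_ : MulAction G (Fin 21)) (g : ℕ → G), Md g (ptF 21) H16.L34.P 21 6 H16.L34.B 20160 ∧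
      ∀ k < 6, (e.symm (g k)).1 = H16.L34.g k :=
  exists_md H16.L34.act (ptF_inj 21) H16.L34.card H16.L34.isBase md_b e
theorem p2t_act {G Ω : Type*} [Group G] [MulAction G Ω] {g : ℕ → G} {pt : ℕ → Ω}
    (M : Md g pt H16.L34.P 21 6 H16.L34.B 20160) : Act (wds g p2t_W) pt p2t_P 21 6 :=
  M.wact p2t_lt
theorem p2_r : ∀ k < 6, ∀ i < 17, (resEnt p2t_P p2P p2E p2I (nat_lit 21) (nat_lit 17)) k i = 0 := allZ2_sound p2_r_a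
theorem p2_sm {G Ω : Type*} [Group G] [MulAction G Ω] {g : ℕ → G} {pt : ℕ → Ω}
    (M : Md g pt H16.L34.P 21 6 H16.L34.B 20160) : Sm (wds g p2t_W) (fun i => pt (p2E i)) p2P 17 6 p2B ∧ ∀ i < 17, p2E i < 21 :=
  M.res (p2t_act M) (by decide) p2_r p2_b
theorem p2l0_e : ∀ i < 15, (dent p2l0 (wdsP p2P p2e) (nat_lit 17)) i = 0 := allZ_sound0 p2l0_e_0
theorem p2l0_ok : DOK p2l0 (wdsP p2P p2e) 17 := ⟨p2l0_h, p2l0_e⟩
theorem p2l1_e : ∀ i < 3, (dent p2l1 (wdsP p2P p2e) (nat_lit 17)) i = 0 := allZ_sound0 p2l1_e_0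
theorem p2l1_ok : DOK p2l1 (wdsP p2P p2e) 17 := ⟨p2l1_h, p2l1_e⟩
theorem p2_low {G Ω : Type*} [Group G] [MulAction G Ω] {g : ℕ → G} {pt : ℕ → Ω}
    (M : Md g pt H16.L34.P 21 6 H16.L34.B 20160) : SLow (gi (wds (wds g p2t_W) p2e)) (fun i => pt (p2E i)) 17 [p2l0, p2l1] :=
  ((SLow.nil).cons p2l1_ok ((p2_sm M).1.act.wds p2_e 45) p2_f1).cons p2l0_ok ((p2_sm M).1.act.wds p2_e 45) p2_f0
theorem p2_pc {G Ω : Type*} [Group G] [MulAction G Ω] {g : ℕ → G} {pt : ℕ → Ω}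
    (M : Md g pt H16.L34.P 21 6 H16.L34.B 20160) : PC (wds g p2t_W) 6 2 :=
  have := M.fin
  ((p2_sm M).1.pc0 (by decide) p2_p).pc (p2_low M) (p2_sm M).1.inj
    (fun k => evA_mem_gen _ (nth_lt p2_e k)) M.card ⟨by decide, p2_c⟩
theorem cv2r_act {G Ω : Type*} [Group G] [MulAction G Ω] {g : ℕ → G} {pt : ℕ → Ω}
    (M : Md g pt H16.L34.P 21 6 H16.L34.B 20160) : Act (wds g cv2r_W) pt cv2r_P 21 4 :=
  M.wact cv2r_lt
theorem cv2_0 {G Ω : Type*} [Group G] [MulAction G Ω] {g : ℕ → G} {pt : ℕ → Ω}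
    (M : Md g pt H16.L34.P 21 6 H16.L34.B 20160) : Cov (wds g p2t_W) (wds g cv2r_W) 64 4 6 (evA (wds g p2t_W) []) :=
  have := M.fin
  cv2T0.cov M (p2_sm M).1 (p2_sm M).2 (cv2r_act M) (p2_pc M) _ _ cv2_c0
theorem cv2 {G Ω : Type*} [Group G] [MulAction G Ω] {g : ℕ → G} {pt : ℕ → Ω}
    (M : Md g pt H16.L34.P 21 6 H16.L34.B 20160) {y : G} {e : ℕ} (hy : y ^ 2 ^ e = 1) (hq : y ^ 64 = 1) : Good (wds g cv2r_W) 4 y :=
  have := M.fin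
  Cov.all (p2_pc M) (cv2_0 M) hy hq
theorem p3t_act {G Ω : Type*} [Group G] [MulAction G Ω] {g : ℕ → G} {pt : ℕ → Ω}
    (M : Md g pt H16.L34.P 21 6 H16.L34.B 20160) : Act (wds g p3t_W) pt p3t_P 21 2 :=
  M.wact p3t_lt
theorem p3_r : ∀ k < 2, ∀ i < 15, (resEnt p3t_P p3P p3E p3I (nat_lit 21) (nat_lit 15)) k i = 0 := allZ2_sound p3_r_a
theorem p3_sm {G Ω : Type*} [Group G] [MulAction G Ω] {g : ℕ → G} {pt : ℕ → Ω}
    (M : Md g pt H16.L34.P 21 6 H16.L34.B 20160) : Sm (wds g p3t_W) (fun i => pt (p3E i)) p3P 15 2 p3B ∧ ∀ i < 15, p3E i < 21 :=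
  M.res (p3t_act M) (by decide) p3_r p3_b
theorem p3l0_e : ∀ i < 2, (dent p3l0 (wdsP p3P p3e) (nat_lit 15)) i = 0 := allZ_sound0 p3l0_e_0
theorem p3l0_ok : DOK p3l0 (wdsP p3P p3e) 15 := ⟨p3l0_h, p3l0_e⟩
theorem p3l1_e : ∀ i < 2, (dent p3l1 (wdsP p3P p3e) (nat_lit 15)) i = 0 := allZ_sound0 p3l1_e_0
theorem p3l1_ok : DOK p3l1 (wdsP p3P p3e) 15 := ⟨p3l1_h, p3l1_e⟩
theorem p3_low {G Ω : Type*} [Group G] [MulAction G Ω] {g : ℕ → G} {pt : ℕ → Ω}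
    (M : Md g pt H16.L34.P 21 6 H16.L34.B 20160) : SLow (gi (wds (wds g p3t_W) p3e)) (fun i => pt (p3E i)) 15 [p3l0, p3l1] :=
  ((SLow.nil).cons p3l1_ok ((p3_sm M).1.act.wds p3_e 26) p3_f1).cons p3l0_ok ((p3_sm M).1.act.wds p3_e 26) p3_f0
theorem p3_pc {G Ω : Type*} [Group G] [MulAction G Ω] {g : ℕ → G} {pt : ℕ → Ω}
    (M : Md g pt H16.L34.P 21 6 H16.L34.B 20160) : PC (wds g p3t_W) 2 3 :=
  have := M.fin
  ((p3_sm M).1.pc0 (by decide) p3_p).pc (p3_low M) (p3_sm M).1.inj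
    (fun k => evA_mem_gen _ (nth_lt p3_e k)) M.card ⟨by decide, p3_c⟩
theorem cv3r_act {G Ω : Type*} [Group G] [MulAction G Ω] {g : ℕ → G} {pt : ℕ → Ω}
    (M : Md g pt H16.L34.P 21 6 H16.L34.B 20160) : Act (wds g cv3r_W) pt cv3r_P 21 1 :=
  M.wact cv3r_lt
theorem cv3_0 {G Ω : Type*} [Group G] [MulAction G Ω] {g : ℕ → G} {pt : ℕ → Ω}
    (M : Md g pt H16.L34.P 21 6 H16.L34.B 20160) : Cov (wds g p3t_W) (wds g cv3r_W) 9 1 2 (evA (wds g p3t_W) []) :=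
  have := M.fin
  cv3T0.cov M (p3_sm M).1 (p3_sm M).2 (cv3r_act M) (p3_pc M) _ _ cv3_c0
theorem cv3 {G Ω : Type*} [Group G] [MulAction G Ω] {g : ℕ → G} {pt : ℕ → Ω}
    (M : Md g pt H16.L34.P 21 6 H16.L34.B 20160) {y : G} {e : ℕ} (hy : y ^ 3 ^ e = 1) (hq : y ^ 9 = 1) : Good (wds g cv3r_W) 1 y :=
  have := M.fin
  Cov.all (p3_pc M) (cv3_0 M) hy hq
theorem x3_0_act {G Ω : Type*} [Group G] [MulAction G Ω] {g : ℕ → G} {pt : ℕ → Ω}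
    (M : Md g pt H16.L34.P 21 6 H16.L34.B 20160) : Act (wds g x3_0_W) pt x3_0_P 21 1 :=
  M.wact x3_0_lt
theorem t3_0h_act {G Ω : Type*} [Group G] [MulAction G Ω] {g : ℕ → G} {pt : ℕ → Ω}
    (M : Md g pt H16.L34.P 21 6 H16.L34.B 20160) : Act (wds g t3_0h_W) pt t3_0h_P 21 9 :=
  M.wact t3_0h_lt
theorem t3_0l0_e : ∀ i < 20, (dent t3_0l0 t3_0h_P (nat_lit 21)) i = 0 := allZ_sound0 t3_0l0_e_0
theorem t3_0l0_ok : DOK t3_0l0 t3_0h_P 21 := ⟨t3_0l0_h, t3_0l0_e⟩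
theorem t3_0l1_e : ∀ i < 19, (dent t3_0l1 t3_0h_P (nat_lit 21)) i = 0 := allZ_sound0 t3_0l1_e_0
theorem t3_0l1_ok : DOK t3_0l1 t3_0h_P 21 := ⟨t3_0l1_h, t3_0l1_e⟩
theorem t3_0l2_e : ∀ i < 15, (dent t3_0l2 t3_0h_P (nat_lit 21)) i = 0 := allZ_sound0 t3_0l2_e_0
theorem t3_0l2_ok : DOK t3_0l2 t3_0h_P 21 := ⟨t3_0l2_h, t3_0l2_e⟩
theorem t3_0l3_e : ∀ i < 2, (dent t3_0l3 t3_0h_P (nat_lit 21)) i = 0 := allZ_sound0 t3_0l3_e_0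
theorem t3_0l3_ok : DOK t3_0l3 t3_0h_P 21 := ⟨t3_0l3_h, t3_0l3_e⟩
theorem t3_0_low {G Ω : Type*} [Group G] [MulAction G Ω] {g : ℕ → G} {pt : ℕ → Ω}
    (M : Md g pt H16.L34.P 21 6 H16.L34.B 20160) : SLow (gi (wds g t3_0h_W)) pt 21 [t3_0l0, t3_0l1, t3_0l2, t3_0l3] :=
  ((((SLow.nil).cons t3_0l3_ok (t3_0h_act M) t3_0_f3).cons t3_0l2_ok (t3_0h_act M) t3_0_f2).cons t3_0l1_ok (t3_0h_act M) t3_0_f1).cons t3_0l0_ok (t3_0h_act M) t3_0_f0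
theorem t3_0_S0 {G Ω : Type*} [Group G] [MulAction G Ω] {g : ℕ → G} {pt : ℕ → Ω}
    (M : Md g pt H16.L34.P 21 6 H16.L34.B 20160) : Stage ⊤ (wds g t3_0h_W) pt 21 [t3_0l0, t3_0l1, t3_0l2, t3_0l3] [] :=
  M.stage (t3_0_low M) t3_0_c
theorem t3_0_S1 {G Ω : Type*} [Group G] [MulAction G Ω] {g : ℕ → G} {pt : ℕ → Ω}
    (M : Md g pt H16.L34.P 21 6 H16.L34.B 20160) : Stage ⊤ (wds g t3_0h_W) pt 21 [t3_0l1, t3_0l2, t3_0l3] [t3_0l0.Pt 0] :=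
  (t3_0_S0 M).next
theorem t3_0_S2 {G Ω : Type*} [Group G] [MulAction G Ω] {g : ℕ → G} {pt : ℕ → Ω}
    (M : Md g pt H16.L34.P 21 6 H16.L34.B 20160) : Stage ⊤ (wds g t3_0h_W) pt 21 [t3_0l2, t3_0l3] [t3_0l1.Pt 0, t3_0l0.Pt 0] :=
  (t3_0_S1 M).next
theorem t3_0_S3 {G Ω : Type*} [Group G] [MulAction G Ω] {g : ℕ → G} {pt : ℕ → Ω}
    (M : Md g pt H16.L34.P 21 6 H16.L34.B 20160) : Stage ⊤ (wds g t3_0h_W) pt 21 [t3_0l3] [t3_0l2.Pt 0, t3_0l1.Pt 0, t3_0l0.Pt 0] :=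
  (t3_0_S2 M).next
theorem t3_0_S4 {G Ω : Type*} [Group G] [MulAction G Ω] {g : ℕ → G} {pt : ℕ → Ω}
    (M : Md g pt H16.L34.P 21 6 H16.L34.B 20160) : Stage ⊤ (wds g t3_0h_W) pt 21 [] [t3_0l3.Pt 0, t3_0l2.Pt 0, t3_0l1.Pt 0, t3_0l0.Pt 0] :=
  (t3_0_S3 M).next
theorem c3_0e_act {G Ω : Type*} [Group G] [MulAction G Ω] {g : ℕ → G} {pt : ℕ → Ω}
    (M : Md g pt H16.L34.P 21 6 H16.L34.B 20160) : Act (wds g c3_0e_W) pt c3_0e_P 21 2 :=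
  M.wact c3_0e_lt
theorem c3_0c3_e : ∀ i < 2, (dent c3_0c3 c3_0e_P (nat_lit 21)) i = 0 := allZ_sound0 c3_0c3_e_0
theorem c3_0c3_ok : DOK c3_0c3 c3_0e_P 21 := ⟨c3_0c3_h, c3_0c3_e⟩
theorem t3_0n0_1 : ∀ i < 3, (t3_0n0.ent H16.L34.P t3_0h_P x3_0_P x3_0_P c3_0e_P (nat_lit 6) (nat_lit 1) H16.L34.B t3_0l3 [] (memO c3_0c3)) i = 0 := allZ_sound0 t3_0n0_1_0
theorem t3_0n0_t {G Ω : Type*} [Group G] [MulAction G Ω] {g : ℕ → G} {pt : ℕ → Ω}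
    (M : Md g pt H16.L34.P 21 6 H16.L34.B 20160) : TrO (gen (wds g t3_0h_W) t3_0l3.K) (wds g x3_0_W) (wds g x3_0_W) 1 pt 21 (t3_0l3.Pt 0) (memO c3_0c3) :=
  node M (t3_0_S3 M) (t3_0h_act M) (x3_0_act M) (x3_0_act M) t3_0n0 ((c3_0e_act M).mono (by decide)) (fun _ _ => trivial) t3_0n0_0 t3_0n0_1 (List.forall_mem_nil _)
theorem c3_0c0_e : ∀ i < 2, (dent c3_0c0 c3_0e_P (nat_lit 21)) i = 0 := allZ_sound0 c3_0c0_e_0
theorem c3_0c0_ok : DOK c3_0c0 c3_0e_P 21 := ⟨c3_0c0_h, c3_0c0_e⟩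
theorem t3_0n1y3_act {G Ω : Type*} [Group G] [MulAction G Ω] {g : ℕ → G} {pt : ℕ → Ω}
    (M : Md g pt H16.L34.P 21 6 H16.L34.B 20160) : Act (wds g t3_0n1y3_W) pt t3_0n1y3_P 21 1 :=
  M.wact t3_0n1y3_lt
theorem t3_0r2k_act {G Ω : Type*} [Group G] [MulAction G Ω] {g : ℕ → G} {pt : ℕ → Ω}
    (M : Md g pt H16.L34.P 21 6 H16.L34.B 20160) : Act (wds g t3_0r2k_W) pt t3_0r2k_P 21 2 :=
  M.wact t3_0r2k_lt
theorem t3_0n2_1 : ∀ i < 3, (t3_0n2.ent H16.L34.P t3_0h_P x3_0_P t3_0n1y3_P t3_0r2k_P (nat_lit 6) (nat_lit 1) H16.L34.B t3_0l3 [] (fun _ => nat_lit 1)) i = 0 := allZ_sound0 t3_0n2_1_0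
theorem t3_0n2_t {G Ω : Type*} [Group G] [MulAction G Ω] {g : ℕ → G} {pt : ℕ → Ω}
    (M : Md g pt H16.L34.P 21 6 H16.L34.B 20160) : TrO (gen (wds g t3_0h_W) t3_0l3.K) (wds g x3_0_W) (wds g t3_0n1y3_W) 1 pt 21 (t3_0l3.Pt 0) (fun _ => nat_lit 1) :=
  node M (t3_0_S3 M) (t3_0h_act M) (x3_0_act M) (t3_0n1y3_act M) t3_0n2 ((t3_0r2k_act M).mono (by decide)) (fun _ _ => trivial) t3_0n2_0 t3_0n2_1 (List.forall_mem_nil _)
theorem t3_0r2 {G Ω : Type*} [Group G] [MulAction G Ω] {g : ℕ → G} {pt : ℕ → Ω}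
    (M : Md g pt H16.L34.P 21 6 H16.L34.B 20160) : Ref (gen (wds g t3_0h_W) (topK [t3_0l3])) (wds g x3_0_W) (wds g t3_0n1y3_W) 1 :=
  (t3_0n2_t M).ref
theorem t3_0n1y14_act {G Ω : Type*} [Group G] [MulAction G Ω] {g : ℕ → G} {pt : ℕ → Ω}
    (M : Md g pt H16.L34.P 21 6 H16.L34.B 20160) : Act (wds g t3_0n1y14_W) pt t3_0n1y14_P 21 1 :=
  M.wact t3_0n1y14_lt
theorem t3_0r3k_act {G Ω : Type*} [Group G] [MulAction G Ω] {g : ℕ → G} {pt : ℕ → Ω}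
    (M : Md g pt H16.L34.P 21 6 H16.L34.B 20160) : Act (wds g t3_0r3k_W) pt t3_0r3k_P 21 2 :=
  M.wact t3_0r3k_lt
theorem t3_0n3_1 : ∀ i < 3, (t3_0n3.ent H16.L34.P t3_0h_P x3_0_P t3_0n1y14_P t3_0r3k_P (nat_lit 6) (nat_lit 1) H16.L34.B t3_0l3 [] (fun _ => nat_lit 1)) i = 0 := allZ_sound0 t3_0n3_1_0
theorem t3_0n3_t {G Ω : Type*} [Group G] [MulAction G Ω] {g : ℕ → G} {pt : ℕ → Ω}
    (M : Md g pt H16.L34.P 21 6 H16.L34.B 20160) : TrO (gen (wds g t3_0h_W) t3_0l3.K) (wds g x3_0_W) (wds g t3_0n1y14_W) 1 pt 21 (t3_0l3.Pt 0) (fun _ => nat_lit 1) :=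
  node M (t3_0_S3 M) (t3_0h_act M) (x3_0_act M) (t3_0n1y14_act M) t3_0n3 ((t3_0r3k_act M).mono (by decide)) (fun _ _ => trivial) t3_0n3_0 t3_0n3_1 (List.forall_mem_nil _)
theorem t3_0r3 {G Ω : Type*} [Group G] [MulAction G Ω] {g : ℕ → G} {pt : ℕ → Ω}
    (M : Md g pt H16.L34.P 21 6 H16.L34.B 20160) : Ref (gen (wds g t3_0h_W) (topK [t3_0l3])) (wds g x3_0_W) (wds g t3_0n1y14_W) 1 :=
  (t3_0n3_t M).ref
theorem t3_0n1_1 : ∀ i < 21, (t3_0n1.ent H16.L34.P t3_0h_P x3_0_P x3_0_P c3_0e_P (nat_lit 6) (nat_lit 1) H16.L34.B t3_0l0 [t3_0l1, t3_0l2, t3_0l3] (memO c3_0c0)) i = 0 := allZ_sound0 t3_0n1_1_0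
theorem t3_0n1_t {G Ω : Type*} [Group G] [MulAction G Ω] {g : ℕ → G} {pt : ℕ → Ω}
    (M : Md g pt H16.L34.P 21 6 H16.L34.B 20160) : TrO (gen (wds g t3_0h_W) t3_0l0.K) (wds g x3_0_W) (wds g x3_0_W) 1 pt 21 (t3_0l0.Pt 0) (memO c3_0c0) :=
  node M (t3_0_S0 M) (t3_0h_act M) (x3_0_act M) (x3_0_act M) t3_0n1 ((c3_0e_act M).mono (by decide)) (fun _ _ => trivial) t3_0n1_0 t3_0n1_1 (List.forall_mem_cons.2 ⟨t3_0r2 M, List.forall_mem_cons.2 ⟨t3_0r3 M, List.forall_mem_nil _⟩⟩)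
theorem c3_0 {G Ω : Type*} [Group G] [MulAction G Ω] {g : ℕ → G} {pt : ℕ → Ω}
    (M : Md g pt H16.L34.P 21 6 H16.L34.B 20160) : Cen ⊤ (wds g x3_0_W) 1 (wds g c3_0e_W) pt 21 [c3_0c0, c3_0c3] :=
  (t3_0_S0 M).top ▸ Cen.lev M (t3_0_S0 M) (Cen.triv (t3_0_S1 M) (Cen.triv (t3_0_S2 M) (Cen.lev M (t3_0_S3 M) (Cen.bot) (t3_0n0_t M) (x3_0_act M) (c3_0e_act M) (fun _ _ => trivial) c3_0c3_ok c3_0_f3) (forced (t3_0_S2 M) (t3_0h_act M) (x3_0_act M) _ _ c3_0_f2)) (forced (t3_0_S1 M) (t3_0h_act M) (x3_0_act M) _ _ c3_0_f1)) (t3_0n1_t M) (x3_0_act M) (c3_0e_act M) (fun _ _ => trivial) c3_0c0_ok c3_0_f0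
theorem c3_0_card {G Ω : Type*} [Group G] [MulAction G Ω] {g : ℕ → G} {pt : ℕ → Ω}
    (M : Md g pt H16.L34.P 21 6 H16.L34.B 20160) : Nat.card (Subgroup.centralizer {(wds g x3_0_W) 0}) = 9 :=
  (c3_0 M).card_cent1 M.inj c3_0_c.1
theorem c3_0_eq {G Ω : Type*} [Group G] [MulAction G Ω] {g : ℕ → G} {pt : ℕ → Ω}
    (M : Md g pt H16.L34.P 21 6 H16.L34.B 20160) : Subgroup.centralizer (gen (wds g x3_0_W) 1) = gen (wds g c3_0e_W) 2 ∧ Nat.card (gen (wds g c3_0e_W) 2) = 9 :=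
  c3_0_c.1 ▸ c3_0_c.2 ▸ ⟨(c3_0 M).cent, (c3_0 M).card M.inj⟩
theorem p5t_act {G Ω : Type*} [Group G] [MulAction G Ω] {g : ℕ → G} {pt : ℕ → Ω}
    (M : Md g pt H16.L34.P 21 6 H16.L34.B 20160) : Act (wds g p5t_W) pt p5t_P 21 1 :=
  M.wact p5t_lt
theorem p5_r : ∀ k < 1, ∀ i < 11, (resEnt p5t_P p5P p5E p5I (nat_lit 21) (nat_lit 11)) k i = 0 := allZ2_sound p5_r_a
theorem p5_sm {G Ω : Type*} [Group G] [MulAction G Ω] {g : ℕ → G} {pt : ℕ → Ω}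
    (M : Md g pt H16.L34.P 21 6 H16.L34.B 20160) : Sm (wds g p5t_W) (fun i => pt (p5E i)) p5P 11 1 p5B ∧ ∀ i < 11, p5E i < 21 :=
  M.res (p5t_act M) (by decide) p5_r p5_b
theorem p5l0_e : ∀ i < 4, (dent p5l0 (wdsP p5P p5e) (nat_lit 11)) i = 0 := allZ_sound0 p5l0_e_0
theorem p5l0_ok : DOK p5l0 (wdsP p5P p5e) 11 := ⟨p5l0_h, p5l0_e⟩
theorem p5_low {G Ω : Type*} [Group G] [MulAction G Ω] {g : ℕ → G} {pt : ℕ → Ω}
    (M : Md g pt H16.L34.P 21 6 H16.L34.B 20160) : SLow (gi (wds (wds g p5t_W) p5e)) (fun i => pt (p5E i)) 11 [p5l0] :=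
  (SLow.nil).cons p5l0_ok ((p5_sm M).1.act.wds p5_e 3) p5_f0
theorem p5_pc {G Ω : Type*} [Group G] [MulAction G Ω] {g : ℕ → G} {pt : ℕ → Ω}
    (M : Md g pt H16.L34.P 21 6 H16.L34.B 20160) : PC (wds g p5t_W) 1 5 :=
  have := M.fin
  ((p5_sm M).1.pc0 (by decide) p5_p).pc (p5_low M) (p5_sm M).1.inj
    (fun k => evA_mem_gen _ (nth_lt p5_e k)) M.card ⟨by decide, p5_c⟩
theorem cv5r_act {G Ω : Type*} [Group G] [MulAction G Ω] {g : ℕ → G} {pt : ℕ → Ω}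
    (M : Md g pt H16.L34.P 21 6 H16.L34.B 20160) : Act (wds g cv5r_W) pt cv5r_P 21 2 :=
  M.wact cv5r_lt
theorem cv5_0 {G Ω : Type*} [Group G] [MulAction G Ω] {g : ℕ → G} {pt : ℕ → Ω}
    (M : Md g pt H16.L34.P 21 6 H16.L34.B 20160) : Cov (wds g p5t_W) (wds g cv5r_W) 5 2 1 (evA (wds g p5t_W) []) :=
  have := M.fin
  cv5T0.cov M (p5_sm M).1 (p5_sm M).2 (cv5r_act M) (p5_pc M) _ _ cv5_c0
theorem cv5 {G Ω : Type*} [Group G] [MulAction G Ω] {g : ℕ → G} {pt : ℕ → Ω}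
    (M : Md g pt H16.L34.P 21 6 H16.L34.B 20160) {y : G} {e : ℕ} (hy : y ^ 5 ^ e = 1) (hq : y ^ 5 = 1) : Good (wds g cv5r_W) 2 y :=
  have := M.fin
  Cov.all (p5_pc M) (cv5_0 M) hy hq
theorem x5_0_act {G Ω : Type*} [Group G] [MulAction G Ω] {g : ℕ → G} {pt : ℕ → Ω}
    (M : Md g pt H16.L34.P 21 6 H16.L34.B 20160) : Act (wds g x5_0_W) pt x5_0_P 21 1 :=
  M.wact x5_0_lt
theorem t5_0h_act {G Ω : Type*} [Group G] [MulAction G Ω] {g : ℕ → G} {pt : ℕ → Ω}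
    (M : Md g pt H16.L34.P 21 6 H16.L34.B 20160) : Act (wds g t5_0h_W) pt t5_0h_P 21 11 :=
  M.wact t5_0h_lt
theorem t5_0l0_e : ∀ i < 20, (dent t5_0l0 t5_0h_P (nat_lit 21)) i = 0 := allZ_sound0 t5_0l0_e_0
theorem t5_0l0_ok : DOK t5_0l0 t5_0h_P 21 := ⟨t5_0l0_h, t5_0l0_e⟩
theorem t5_0l1_e : ∀ i < 19, (dent t5_0l1 t5_0h_P (nat_lit 21)) i = 0 := allZ_sound0 t5_0l1_e_0
theorem t5_0l1_ok : DOK t5_0l1 t5_0h_P 21 := ⟨t5_0l1_h, t5_0l1_e⟩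
theorem t5_0l2_e : ∀ i < 2, (dent t5_0l2 t5_0h_P (nat_lit 21)) i = 0 := allZ_sound0 t5_0l2_e_0
theorem t5_0l2_ok : DOK t5_0l2 t5_0h_P 21 := ⟨t5_0l2_h, t5_0l2_e⟩
theorem t5_0l3_e : ∀ i < 15, (dent t5_0l3 t5_0h_P (nat_lit 21)) i = 0 := allZ_sound0 t5_0l3_e_0
theorem t5_0l3_ok : DOK t5_0l3 t5_0h_P 21 := ⟨t5_0l3_h, t5_0l3_e⟩
theorem t5_0_low {G Ω : Type*} [Group G] [MulAction G Ω] {g : ℕ → G} {pt : ℕ → Ω}
    (M : Md g pt H16.L34.P 21 6 H16.L34.B 20160) : SLow (gi (wds g t5_0h_W)) pt 21 [t5_0l0, t5_0l1, t5_0l2, t5_0l3] :=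
  ((((SLow.nil).cons t5_0l3_ok (t5_0h_act M) t5_0_f3).cons t5_0l2_ok (t5_0h_act M) t5_0_f2).cons t5_0l1_ok (t5_0h_act M) t5_0_f1).cons t5_0l0_ok (t5_0h_act M) t5_0_f0
theorem t5_0_S0 {G Ω : Type*} [Group G] [MulAction G Ω] {g : ℕ → G} {pt : ℕ → Ω}
    (M : Md g pt H16.L34.P 21 6 H16.L34.B 20160) : Stage ⊤ (wds g t5_0h_W) pt 21 [t5_0l0, t5_0l1, t5_0l2, t5_0l3] [] :=
  M.stage (t5_0_low M) t5_0_c
theorem t5_0_S1 {G Ω : Type*} [Group G] [MulAction G Ω] {g : ℕ → G} {pt : ℕ → Ω}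
    (M : Md g pt H16.L34.P 21 6 H16.L34.B 20160) : Stage ⊤ (wds g t5_0h_W) pt 21 [t5_0l1, t5_0l2, t5_0l3] [t5_0l0.Pt 0] :=
  (t5_0_S0 M).next
theorem t5_0_S2 {G Ω : Type*} [Group G] [MulAction G Ω] {g : ℕ → G} {pt : ℕ → Ω}
    (M : Md g pt H16.L34.P 21 6 H16.L34.B 20160) : Stage ⊤ (wds g t5_0h_W) pt 21 [t5_0l2, t5_0l3] [t5_0l1.Pt 0, t5_0l0.Pt 0] :=
  (t5_0_S1 M).next
theorem t5_0_S3 {G Ω : Type*} [Group G] [MulAction G Ω] {g : ℕ → G} {pt : ℕ → Ω}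
    (M : Md g pt H16.L34.P 21 6 H16.L34.B 20160) : Stage ⊤ (wds g t5_0h_W) pt 21 [t5_0l3] [t5_0l2.Pt 0, t5_0l1.Pt 0, t5_0l0.Pt 0] :=
  (t5_0_S2 M).next
theorem t5_0_S4 {G Ω : Type*} [Group G] [MulAction G Ω] {g : ℕ → G} {pt : ℕ → Ω}
    (M : Md g pt H16.L34.P 21 6 H16.L34.B 20160) : Stage ⊤ (wds g t5_0h_W) pt 21 [] [t5_0l3.Pt 0, t5_0l2.Pt 0, t5_0l1.Pt 0, t5_0l0.Pt 0] :=
  (t5_0_S3 M).next
theorem c5_0e_act {G Ω : Type*} [Group G] [MulAction G Ω] {g : ℕ → G} {pt : ℕ → Ω}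
    (M : Md g pt H16.L34.P 21 6 H16.L34.B 20160) : Act (wds g c5_0e_W) pt c5_0e_P 21 1 :=
  M.wact c5_0e_lt
theorem t5_0n0_1 : ∀ i < 16, (t5_0n0.ent H16.L34.P t5_0h_P x5_0_P x5_0_P c5_0e_P (nat_lit 6) (nat_lit 1) H16.L34.B t5_0l3 [] (fun w => Nat.xor w (t5_0l3.Pt (nat_lit 0)))) i = 0 := allZ_sound0 t5_0n0_1_0
theorem t5_0n0_t {G Ω : Type*} [Group G] [MulAction G Ω] {g : ℕ → G} {pt : ℕ → Ω}
    (M : Md g pt H16.L34.P 21 6 H16.L34.B 20160) : TrO (gen (wds g t5_0h_W) t5_0l3.K) (wds g x5_0_W) (wds g x5_0_W) 1 pt 21 (t5_0l3.Pt 0) (fun w => Nat.xor w (t5_0l3.Pt (nat_lit 0))) :=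
  node M (t5_0_S3 M) (t5_0h_act M) (x5_0_act M) (x5_0_act M) t5_0n0 ((c5_0e_act M).mono (by decide)) (fun _ _ => trivial) t5_0n0_0 t5_0n0_1 (List.forall_mem_nil _)
theorem c5_0c0_e : ∀ i < 4, (dent c5_0c0 c5_0e_P (nat_lit 21)) i = 0 := allZ_sound0 c5_0c0_e_0
theorem c5_0c0_ok : DOK c5_0c0 c5_0e_P 21 := ⟨c5_0c0_h, c5_0c0_e⟩
theorem t5_0n1_1 : ∀ i < 21, (t5_0n1.ent H16.L34.P t5_0h_P x5_0_P x5_0_P c5_0e_P (nat_lit 6) (nat_lit 1) H16.L34.B t5_0l0 [t5_0l1, t5_0l2, t5_0l3] (memO c5_0c0)) i = 0 := allZ_sound0 t5_0n1_1_0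
theorem t5_0n1_t {G Ω : Type*} [Group G] [MulAction G Ω] {g : ℕ → G} {pt : ℕ → Ω}
    (M : Md g pt H16.L34.P 21 6 H16.L34.B 20160) : TrO (gen (wds g t5_0h_W) t5_0l0.K) (wds g x5_0_W) (wds g x5_0_W) 1 pt 21 (t5_0l0.Pt 0) (memO c5_0c0) :=
  node M (t5_0_S0 M) (t5_0h_act M) (x5_0_act M) (x5_0_act M) t5_0n1 ((c5_0e_act M).mono (by decide)) (fun _ _ => trivial) t5_0n1_0 t5_0n1_1 (List.forall_mem_nil _)
theorem c5_0 {G Ω : Type*} [Group G] [MulAction G Ω] {g : ℕ → G} {pt : ℕ → Ω}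
    (M : Md g pt H16.L34.P 21 6 H16.L34.B 20160) : Cen ⊤ (wds g x5_0_W) 1 (wds g c5_0e_W) pt 21 [c5_0c0] :=
  (t5_0_S0 M).top ▸ Cen.lev M (t5_0_S0 M) (Cen.triv (t5_0_S1 M) (Cen.triv (t5_0_S2 M) (Cen.triv (t5_0_S3 M) (Cen.bot) (t5_0n0_t M)) (forced (t5_0_S2 M) (t5_0h_act M) (x5_0_act M) _ _ c5_0_f2)) (forced (t5_0_S1 M) (t5_0h_act M) (x5_0_act M) _ _ c5_0_f1)) (t5_0n1_t M) (x5_0_act M) (c5_0e_act M) (fun _ _ => trivial) c5_0c0_ok c5_0_f0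
theorem c5_0_card {G Ω : Type*} [Group G] [MulAction G Ω] {g : ℕ → G} {pt : ℕ → Ω}
    (M : Md g pt H16.L34.P 21 6 H16.L34.B 20160) : Nat.card (Subgroup.centralizer {(wds g x5_0_W) 0}) = 5 :=
  (c5_0 M).card_cent1 M.inj c5_0_c.1
theorem c5_0_eq {G Ω : Type*} [Group G] [MulAction G Ω] {g : ℕ → G} {pt : ℕ → Ω}
    (M : Md g pt H16.L34.P 21 6 H16.L34.B 20160) : Subgroup.centralizer (gen (wds g x5_0_W) 1) = gen (wds g c5_0e_W) 1 ∧ Nat.card (gen (wds g c5_0e_W) 1) = 5 :=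
  c5_0_c.1 ▸ c5_0_c.2 ▸ ⟨(c5_0 M).cent, (c5_0 M).card M.inj⟩
theorem x5_1_act {G Ω : Type*} [Group G] [MulAction G Ω] {g : ℕ → G} {pt : ℕ → Ω}
    (M : Md g pt H16.L34.P 21 6 H16.L34.B 20160) : Act (wds g x5_1_W) pt x5_1_P 21 1 :=
  M.wact x5_1_lt
theorem t5_1h_act {G Ω : Type*} [Group G] [MulAction G Ω] {g : ℕ → G} {pt : ℕ → Ω}
    (M : Md g pt H16.L34.P 21 6 H16.L34.B 20160) : Act (wds g t5_1h_W) pt t5_1h_P 21 11 :=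
  M.wact t5_1h_lt
theorem t5_1l0_e : ∀ i < 20, (dent t5_1l0 t5_1h_P (nat_lit 21)) i = 0 := allZ_sound0 t5_1l0_e_0
theorem t5_1l0_ok : DOK t5_1l0 t5_1h_P 21 := ⟨t5_1l0_h, t5_1l0_e⟩
theorem t5_1l1_e : ∀ i < 19, (dent t5_1l1 t5_1h_P (nat_lit 21)) i = 0 := allZ_sound0 t5_1l1_e_0
theorem t5_1l1_ok : DOK t5_1l1 t5_1h_P 21 := ⟨t5_1l1_h, t5_1l1_e⟩
theorem t5_1l2_e : ∀ i < 2, (dent t5_1l2 t5_1h_P (nat_lit 21)) i = 0 := allZ_sound0 t5_1l2_e_0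
theorem t5_1l2_ok : DOK t5_1l2 t5_1h_P 21 := ⟨t5_1l2_h, t5_1l2_e⟩
theorem t5_1l3_e : ∀ i < 15, (dent t5_1l3 t5_1h_P (nat_lit 21)) i = 0 := allZ_sound0 t5_1l3_e_0
theorem t5_1l3_ok : DOK t5_1l3 t5_1h_P 21 := ⟨t5_1l3_h, t5_1l3_e⟩
theorem t5_1_low {G Ω : Type*} [Group G] [MulAction G Ω] {g : ℕ → G} {pt : ℕ → Ω}
    (M : Md g pt H16.L34.P 21 6 H16.L34.B 20160) : SLow (gi (wds g t5_1h_W)) pt 21 [t5_1l0, t5_1l1, t5_1l2, t5_1l3] :=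
  ((((SLow.nil).cons t5_1l3_ok (t5_1h_act M) t5_1_f3).cons t5_1l2_ok (t5_1h_act M) t5_1_f2).cons t5_1l1_ok (t5_1h_act M) t5_1_f1).cons t5_1l0_ok (t5_1h_act M) t5_1_f0
theorem t5_1_S0 {G Ω : Type*} [Group G] [MulAction G Ω] {g : ℕ → G} {pt : ℕ → Ω}
    (M : Md g pt H16.L34.P 21 6 H16.L34.B 20160) : Stage ⊤ (wds g t5_1h_W) pt 21 [t5_1l0, t5_1l1, t5_1l2, t5_1l3] [] :=
  M.stage (t5_1_low M) t5_1_c
theorem t5_1_S1 {G Ω : Type*} [Group G] [MulAction G Ω] {g : ℕ → G} {pt : ℕ → Ω}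
    (M : Md g pt H16.L34.P 21 6 H16.L34.B 20160) : Stage ⊤ (wds g t5_1h_W) pt 21 [t5_1l1, t5_1l2, t5_1l3] [t5_1l0.Pt 0] :=
  (t5_1_S0 M).next
theorem t5_1_S2 {G Ω : Type*} [Group G] [MulAction G Ω] {g : ℕ → G} {pt : ℕ → Ω}
    (M : Md g pt H16.L34.P 21 6 H16.L34.B 20160) : Stage ⊤ (wds g t5_1h_W) pt 21 [t5_1l2, t5_1l3] [t5_1l1.Pt 0, t5_1l0.Pt 0] :=
  (t5_1_S1 M).next
theorem t5_1_S3 {G Ω : Type*} [Group G] [MulAction G Ω] {g : ℕ → G} {pt : ℕ → Ω}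
    (M : Md g pt H16.L34.P 21 6 H16.L34.B 20160) : Stage ⊤ (wds g t5_1h_W) pt 21 [t5_1l3] [t5_1l2.Pt 0, t5_1l1.Pt 0, t5_1l0.Pt 0] :=
  (t5_1_S2 M).next
theorem t5_1_S4 {G Ω : Type*} [Group G] [MulAction G Ω] {g : ℕ → G} {pt : ℕ → Ω}
    (M : Md g pt H16.L34.P 21 6 H16.L34.B 20160) : Stage ⊤ (wds g t5_1h_W) pt 21 [] [t5_1l3.Pt 0, t5_1l2.Pt 0, t5_1l1.Pt 0, t5_1l0.Pt 0] :=
  (t5_1_S3 M).next
theorem c5_1e_act {G Ω : Type*} [Group G] [MulAction G Ω] {g : ℕ → G} {pt : ℕ → Ω}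
    (M : Md g pt H16.L34.P 21 6 H16.L34.B 20160) : Act (wds g c5_1e_W) pt c5_1e_P 21 1 :=
  M.wact c5_1e_lt
theorem t5_1n0_1 : ∀ i < 16, (t5_1n0.ent H16.L34.P t5_1h_P x5_1_P x5_1_P c5_1e_P (nat_lit 6) (nat_lit 1) H16.L34.B t5_1l3 [] (fun w => Nat.xor w (t5_1l3.Pt (nat_lit 0)))) i = 0 := allZ_sound0 t5_1n0_1_0
theorem t5_1n0_t {G Ω : Type*} [Group G] [MulAction G Ω] {g : ℕ → G} {pt : ℕ → Ω}
    (M : Md g pt H16.L34.P 21 6 H16.L34.B 20160) : TrO (gen (wds g t5_1h_W) t5_1l3.K) (wds g x5_1_W) (wds g x5_1_W) 1 pt 21 (t5_1l3.Pt 0) (fun w => Nat.xor w (t5_1l3.Pt (nat_lit 0))) :=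
  node M (t5_1_S3 M) (t5_1h_act M) (x5_1_act M) (x5_1_act M) t5_1n0 ((c5_1e_act M).mono (by decide)) (fun _ _ => trivial) t5_1n0_0 t5_1n0_1 (List.forall_mem_nil _)
theorem c5_1c0_e : ∀ i < 4, (dent c5_1c0 c5_1e_P (nat_lit 21)) i = 0 := allZ_sound0 c5_1c0_e_0
theorem c5_1c0_ok : DOK c5_1c0 c5_1e_P 21 := ⟨c5_1c0_h, c5_1c0_e⟩
theorem t5_1n1_1 : ∀ i < 21, (t5_1n1.ent H16.L34.P t5_1h_P x5_1_P x5_1_P c5_1e_P (nat_lit 6) (nat_lit 1) H16.L34.B t5_1l0 [t5_1l1, t5_1l2, t5_1l3] (memO c5_1c0)) i = 0 := allZ_sound0 t5_1n1_1_0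
theorem t5_1n1_t {G Ω : Type*} [Group G] [MulAction G Ω] {g : ℕ → G} {pt : ℕ → Ω}
    (M : Md g pt H16.L34.P 21 6 H16.L34.B 20160) : TrO (gen (wds g t5_1h_W) t5_1l0.K) (wds g x5_1_W) (wds g x5_1_W) 1 pt 21 (t5_1l0.Pt 0) (memO c5_1c0) :=
  node M (t5_1_S0 M) (t5_1h_act M) (x5_1_act M) (x5_1_act M) t5_1n1 ((c5_1e_act M).mono (by decide)) (fun _ _ => trivial) t5_1n1_0 t5_1n1_1 (List.forall_mem_nil _)
theorem c5_1 {G Ω : Type*} [Group G] [MulAction G Ω] {g : ℕ → G} {pt : ℕ → Ω}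
    (M : Md g pt H16.L34.P 21 6 H16.L34.B 20160) : Cen ⊤ (wds g x5_1_W) 1 (wds g c5_1e_W) pt 21 [c5_1c0] :=
  (t5_1_S0 M).top ▸ Cen.lev M (t5_1_S0 M) (Cen.triv (t5_1_S1 M) (Cen.triv (t5_1_S2 M) (Cen.triv (t5_1_S3 M) (Cen.bot) (t5_1n0_t M)) (forced (t5_1_S2 M) (t5_1h_act M) (x5_1_act M) _ _ c5_1_f2)) (forced (t5_1_S1 M) (t5_1h_act M) (x5_1_act M) _ _ c5_1_f1)) (t5_1n1_t M) (x5_1_act M) (c5_1e_act M) (fun _ _ => trivial) c5_1c0_ok c5_1_f0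
theorem c5_1_card {G Ω : Type*} [Group G] [MulAction G Ω] {g : ℕ → G} {pt : ℕ → Ω}
    (M : Md g pt H16.L34.P 21 6 H16.L34.B 20160) : Nat.card (Subgroup.centralizer {(wds g x5_1_W) 0}) = 5 :=
  (c5_1 M).card_cent1 M.inj c5_1_c.1
theorem c5_1_eq {G Ω : Type*} [Group G] [MulAction G Ω] {g : ℕ → G} {pt : ℕ → Ω}
    (M : Md g pt H16.L34.P 21 6 H16.L34.B 20160) : Subgroup.centralizer (gen (wds g x5_1_W) 1) = gen (wds g c5_1e_W) 1 ∧ Nat.card (gen (wds g c5_1e_W) 1) = 5 :=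
  c5_1_c.1 ▸ c5_1_c.2 ▸ ⟨(c5_1 M).cent, (c5_1 M).card M.inj⟩
theorem p7t_act {G Ω : Type*} [Group G] [MulAction G Ω] {g : ℕ → G} {pt : ℕ → Ω}
    (M : Md g pt H16.L34.P 21 6 H16.L34.B 20160) : Act (wds g p7t_W) pt p7t_P 21 1 :=
  M.wact p7t_lt
theorem p7_r : ∀ k < 1, ∀ i < 14, (resEnt p7t_P p7P p7E p7I (nat_lit 21) (nat_lit 14)) k i = 0 := allZ2_sound p7_r_a
theorem p7_sm {G Ω : Type*} [Group G] [MulAction G Ω] {g : ℕ → G} {pt : ℕ → Ω}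
    (M : Md g pt H16.L34.P 21 6 H16.L34.B 20160) : Sm (wds g p7t_W) (fun i => pt (p7E i)) p7P 14 1 p7B ∧ ∀ i < 14, p7E i < 21 :=
  M.res (p7t_act M) (by decide) p7_r p7_b
theorem p7l0_e : ∀ i < 6, (dent p7l0 (wdsP p7P p7e) (nat_lit 14)) i = 0 := allZ_sound0 p7l0_e_0
theorem p7l0_ok : DOK p7l0 (wdsP p7P p7e) 14 := ⟨p7l0_h, p7l0_e⟩
theorem p7_low {G Ω : Type*} [Group G] [MulAction G Ω] {g : ℕ → G} {pt : ℕ → Ω}
    (M : Md g pt H16.L34.P 21 6 H16.L34.B 20160) : SLow (gi (wds (wds g p7t_W) p7e)) (fun i => pt (p7E i)) 14 [p7l0] :=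
  (SLow.nil).cons p7l0_ok ((p7_sm M).1.act.wds p7_e 1) p7_f0
theorem p7_pc {G Ω : Type*} [Group G] [MulAction G Ω] {g : ℕ → G} {pt : ℕ → Ω}
    (M : Md g pt H16.L34.P 21 6 H16.L34.B 20160) : PC (wds g p7t_W) 1 7 :=
  have := M.fin
  ((p7_sm M).1.pc0 (by decide) p7_p).pc (p7_low M) (p7_sm M).1.inj
    (fun k => evA_mem_gen _ (nth_lt p7_e k)) M.card ⟨by decide, p7_c⟩
theorem cv7r_act {G Ω : Type*} [Group G] [MulAction G Ω] {g : ℕ → G} {pt : ℕ → Ω}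
    (M : Md g pt H16.L34.P 21 6 H16.L34.B 20160) : Act (wds g cv7r_W) pt cv7r_P 21 2 :=
  M.wact cv7r_lt
theorem cv7_0 {G Ω : Type*} [Group G] [MulAction G Ω] {g : ℕ → G} {pt : ℕ → Ω}
    (M : Md g pt H16.L34.P 21 6 H16.L34.B 20160) : Cov (wds g p7t_W) (wds g cv7r_W) 7 2 1 (evA (wds g p7t_W) []) :=
  have := M.fin
  cv7T0.cov M (p7_sm M).1 (p7_sm M).2 (cv7r_act M) (p7_pc M) _ _ cv7_c0
theorem cv7 {G Ω : Type*} [Group G] [MulAction G Ω] {g : ℕ → G} {pt : ℕ → Ω}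
    (M : Md g pt H16.L34.P 21 6 H16.L34.B 20160) {y : G} {e : ℕ} (hy : y ^ 7 ^ e = 1) (hq : y ^ 7 = 1) : Good (wds g cv7r_W) 2 y :=
  have := M.fin
  Cov.all (p7_pc M) (cv7_0 M) hy hq
theorem x7_0_act {G Ω : Type*} [Group G] [MulAction G Ω] {g : ℕ → G} {pt : ℕ → Ω}
    (M : Md g pt H16.L34.P 21 6 H16.L34.B 20160) : Act (wds g x7_0_W) pt x7_0_P 21 1 :=
  M.wact x7_0_lt
theorem t7_0h_act {G Ω : Type*} [Group G] [MulAction G Ω] {g : ℕ → G} {pt : ℕ → Ω}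
    (M : Md g pt H16.L34.P 21 6 H16.L34.B 20160) : Act (wds g t7_0h_W) pt t7_0h_P 21 9 :=
  M.wact t7_0h_lt
theorem t7_0l0_e : ∀ i < 20, (dent t7_0l0 t7_0h_P (nat_lit 21)) i = 0 := allZ_sound0 t7_0l0_e_0
theorem t7_0l0_ok : DOK t7_0l0 t7_0h_P 21 := ⟨t7_0l0_h, t7_0l0_e⟩
theorem t7_0l1_e : ∀ i < 19, (dent t7_0l1 t7_0h_P (nat_lit 21)) i = 0 := allZ_sound0 t7_0l1_e_0
theorem t7_0l1_ok : DOK t7_0l1 t7_0h_P 21 := ⟨t7_0l1_h, t7_0l1_e⟩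
theorem t7_0l2_e : ∀ i < 15, (dent t7_0l2 t7_0h_P (nat_lit 21)) i = 0 := allZ_sound0 t7_0l2_e_0
theorem t7_0l2_ok : DOK t7_0l2 t7_0h_P 21 := ⟨t7_0l2_h, t7_0l2_e⟩
theorem t7_0l3_e : ∀ i < 2, (dent t7_0l3 t7_0h_P (nat_lit 21)) i = 0 := allZ_sound0 t7_0l3_e_0
theorem t7_0l3_ok : DOK t7_0l3 t7_0h_P 21 := ⟨t7_0l3_h, t7_0l3_e⟩
theorem t7_0_low {G Ω : Type*} [Group G] [MulAction G Ω] {g : ℕ → G} {pt : ℕ → Ω}
    (M : Md g pt H16.L34.P 21 6 H16.L34.B 20160) : SLow (gi (wds g t7_0h_W)) pt 21 [t7_0l0, t7_0l1, t7_0l2, t7_0l3] :=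
  ((((SLow.nil).cons t7_0l3_ok (t7_0h_act M) t7_0_f3).cons t7_0l2_ok (t7_0h_act M) t7_0_f2).cons t7_0l1_ok (t7_0h_act M) t7_0_f1).cons t7_0l0_ok (t7_0h_act M) t7_0_f0
theorem t7_0_S0 {G Ω : Type*} [Group G] [MulAction G Ω] {g : ℕ → G} {pt : ℕ → Ω}
    (M : Md g pt H16.L34.P 21 6 H16.L34.B 20160) : Stage ⊤ (wds g t7_0h_W) pt 21 [t7_0l0, t7_0l1, t7_0l2, t7_0l3] [] :=
  M.stage (t7_0_low M) t7_0_c
theorem t7_0_S1 {G Ω : Type*} [Group G] [MulAction G Ω] {g : ℕ → G} {pt : ℕ → Ω}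
    (M : Md g pt H16.L34.P 21 6 H16.L34.B 20160) : Stage ⊤ (wds g t7_0h_W) pt 21 [t7_0l1, t7_0l2, t7_0l3] [t7_0l0.Pt 0] :=
  (t7_0_S0 M).next
theorem t7_0_S2 {G Ω : Type*} [Group G] [MulAction G Ω] {g : ℕ → G} {pt : ℕ → Ω}
    (M : Md g pt H16.L34.P 21 6 H16.L34.B 20160) : Stage ⊤ (wds g t7_0h_W) pt 21 [t7_0l2, t7_0l3] [t7_0l1.Pt 0, t7_0l0.Pt 0] :=
  (t7_0_S1 M).next
theorem t7_0_S3 {G Ω : Type*} [Group G] [MulAction G Ω] {g : ℕ → G} {pt : ℕ → Ω}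
    (M : Md g pt H16.L34.P 21 6 H16.L34.B 20160) : Stage ⊤ (wds g t7_0h_W) pt 21 [t7_0l3] [t7_0l2.Pt 0, t7_0l1.Pt 0, t7_0l0.Pt 0] :=
  (t7_0_S2 M).next
theorem t7_0_S4 {G Ω : Type*} [Group G] [MulAction G Ω] {g : ℕ → G} {pt : ℕ → Ω}
    (M : Md g pt H16.L34.P 21 6 H16.L34.B 20160) : Stage ⊤ (wds g t7_0h_W) pt 21 [] [t7_0l3.Pt 0, t7_0l2.Pt 0, t7_0l1.Pt 0, t7_0l0.Pt 0] :=
  (t7_0_S3 M).next
theorem c7_0e_act {G Ω : Type*} [Group G] [MulAction G Ω] {g : ℕ → G} {pt : ℕ → Ω}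
    (M : Md g pt H16.L34.P 21 6 H16.L34.B 20160) : Act (wds g c7_0e_W) pt c7_0e_P 21 1 :=
  M.wact c7_0e_lt
theorem c7_0c0_e : ∀ i < 6, (dent c7_0c0 c7_0e_P (nat_lit 21)) i = 0 := allZ_sound0 c7_0c0_e_0
theorem c7_0c0_ok : DOK c7_0c0 c7_0e_P 21 := ⟨c7_0c0_h, c7_0c0_e⟩
theorem t7_0n0_1 : ∀ i < 21, (t7_0n0.ent H16.L34.P t7_0h_P x7_0_P x7_0_P c7_0e_P (nat_lit 6) (nat_lit 1) H16.L34.B t7_0l0 [t7_0l1, t7_0l2, t7_0l3] (memO c7_0c0)) i = 0 := allZ_sound0 t7_0n0_1_0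
theorem t7_0n0_t {G Ω : Type*} [Group G] [MulAction G Ω] {g : ℕ → G} {pt : ℕ → Ω}
    (M : Md g pt H16.L34.P 21 6 H16.L34.B 20160) : TrO (gen (wds g t7_0h_W) t7_0l0.K) (wds g x7_0_W) (wds g x7_0_W) 1 pt 21 (t7_0l0.Pt 0) (memO c7_0c0) :=
  node M (t7_0_S0 M) (t7_0h_act M) (x7_0_act M) (x7_0_act M) t7_0n0 ((c7_0e_act M).mono (by decide)) (fun _ _ => trivial) t7_0n0_0 t7_0n0_1 (List.forall_mem_nil _)
theorem c7_0 {G Ω : Type*} [Group G] [MulAction G Ω] {g : ℕ → G} {pt : ℕ → Ω}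
    (M : Md g pt H16.L34.P 21 6 H16.L34.B 20160) : Cen ⊤ (wds g x7_0_W) 1 (wds g c7_0e_W) pt 21 [c7_0c0] :=
  (t7_0_S0 M).top ▸ Cen.lev M (t7_0_S0 M) (Cen.triv (t7_0_S1 M) (Cen.triv (t7_0_S2 M) (Cen.triv (t7_0_S3 M) (Cen.bot) (forced (t7_0_S3 M) (t7_0h_act M) (x7_0_act M) _ _ c7_0_f3)) (forced (t7_0_S2 M) (t7_0h_act M) (x7_0_act M) _ _ c7_0_f2)) (forced (t7_0_S1 M) (t7_0h_act M) (x7_0_act M) _ _ c7_0_f1)) (t7_0n0_t M) (x7_0_act M) (c7_0e_act M) (fun _ _ => trivial) c7_0c0_ok c7_0_f0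
theorem c7_0_card {G Ω : Type*} [Group G] [MulAction G Ω] {g : ℕ → G} {pt : ℕ → Ω}
    (M : Md g pt H16.L34.P 21 6 H16.L34.B 20160) : Nat.card (Subgroup.centralizer {(wds g x7_0_W) 0}) = 7 :=
  (c7_0 M).card_cent1 M.inj c7_0_c.1
theorem c7_0_eq {G Ω : Type*} [Group G] [MulAction G Ω] {g : ℕ → G} {pt : ℕ → Ω}
    (M : Md g pt H16.L34.P 21 6 H16.L34.B 20160) : Subgroup.centralizer (gen (wds g x7_0_W) 1) = gen (wds g c7_0e_W) 1 ∧ Nat.card (gen (wds g c7_0e_W) 1) = 7 :=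
  c7_0_c.1 ▸ c7_0_c.2 ▸ ⟨(c7_0 M).cent, (c7_0 M).card M.inj⟩
theorem x7_1_act {G Ω : Type*} [Group G] [MulAction G Ω] {g : ℕ → G} {pt : ℕ → Ω}
    (M : Md g pt H16.L34.P 21 6 H16.L34.B 20160) : Act (wds g x7_1_W) pt x7_1_P 21 1 :=
  M.wact x7_1_lt
theorem t7_1h_act {G Ω : Type*} [Group G] [MulAction G Ω] {g : ℕ → G} {pt : ℕ → Ω}
    (M : Md g pt H16.L34.P 21 6 H16.L34.B 20160) : Act (wds g t7_1h_W) pt t7_1h_P 21 9 :=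
  M.wact t7_1h_lt
theorem t7_1l0_e : ∀ i < 20, (dent t7_1l0 t7_1h_P (nat_lit 21)) i = 0 := allZ_sound0 t7_1l0_e_0
theorem t7_1l0_ok : DOK t7_1l0 t7_1h_P 21 := ⟨t7_1l0_h, t7_1l0_e⟩
theorem t7_1l1_e : ∀ i < 19, (dent t7_1l1 t7_1h_P (nat_lit 21)) i = 0 := allZ_sound0 t7_1l1_e_0
theorem t7_1l1_ok : DOK t7_1l1 t7_1h_P 21 := ⟨t7_1l1_h, t7_1l1_e⟩
theorem t7_1l2_e : ∀ i < 15, (dent t7_1l2 t7_1h_P (nat_lit 21)) i = 0 := allZ_sound0 t7_1l2_e_0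
theorem t7_1l2_ok : DOK t7_1l2 t7_1h_P 21 := ⟨t7_1l2_h, t7_1l2_e⟩
theorem t7_1l3_e : ∀ i < 2, (dent t7_1l3 t7_1h_P (nat_lit 21)) i = 0 := allZ_sound0 t7_1l3_e_0
theorem t7_1l3_ok : DOK t7_1l3 t7_1h_P 21 := ⟨t7_1l3_h, t7_1l3_e⟩
theorem t7_1_low {G Ω : Type*} [Group G] [MulAction G Ω] {g : ℕ → G} {pt : ℕ → Ω}
    (M : Md g pt H16.L34.P 21 6 H16.L34.B 20160) : SLow (gi (wds g t7_1h_W)) pt 21 [t7_1l0, t7_1l1, t7_1l2, t7_1l3] :=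
  ((((SLow.nil).cons t7_1l3_ok (t7_1h_act M) t7_1_f3).cons t7_1l2_ok (t7_1h_act M) t7_1_f2).cons t7_1l1_ok (t7_1h_act M) t7_1_f1).cons t7_1l0_ok (t7_1h_act M) t7_1_f0
theorem t7_1_S0 {G Ω : Type*} [Group G] [MulAction G Ω] {g : ℕ → G} {pt : ℕ → Ω}
    (M : Md g pt H16.L34.P 21 6 H16.L34.B 20160) : Stage ⊤ (wds g t7_1h_W) pt 21 [t7_1l0, t7_1l1, t7_1l2, t7_1l3] [] :=
  M.stage (t7_1_low M) t7_1_c
theorem t7_1_S1 {G Ω : Type*} [Group G] [MulAction G Ω] {g : ℕ → G} {pt : ℕ → Ω}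
    (M : Md g pt H16.L34.P 21 6 H16.L34.B 20160) : Stage ⊤ (wds g t7_1h_W) pt 21 [t7_1l1, t7_1l2, t7_1l3] [t7_1l0.Pt 0] :=
  (t7_1_S0 M).next
theorem t7_1_S2 {G Ω : Type*} [Group G] [MulAction G Ω] {g : ℕ → G} {pt : ℕ → Ω}
    (M : Md g pt H16.L34.P 21 6 H16.L34.B 20160) : Stage ⊤ (wds g t7_1h_W) pt 21 [t7_1l2, t7_1l3] [t7_1l1.Pt 0, t7_1l0.Pt 0] :=
  (t7_1_S1 M).next
theorem t7_1_S3 {G Ω : Type*} [Group G] [MulAction G Ω] {g : ℕ → G} {pt : ℕ → Ω}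
    (M : Md g pt H16.L34.P 21 6 H16.L34.B 20160) : Stage ⊤ (wds g t7_1h_W) pt 21 [t7_1l3] [t7_1l2.Pt 0, t7_1l1.Pt 0, t7_1l0.Pt 0] :=
  (t7_1_S2 M).next
theorem t7_1_S4 {G Ω : Type*} [Group G] [MulAction G Ω] {g : ℕ → G} {pt : ℕ → Ω}
    (M : Md g pt H16.L34.P 21 6 H16.L34.B 20160) : Stage ⊤ (wds g t7_1h_W) pt 21 [] [t7_1l3.Pt 0, t7_1l2.Pt 0, t7_1l1.Pt 0, t7_1l0.Pt 0] :=
  (t7_1_S3 M).next
theorem c7_1e_act {G Ω : Type*} [Group G] [MulAction G Ω] {g : ℕ → G} {pt : ℕ → Ω}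
    (M : Md g pt H16.L34.P 21 6 H16.L34.B 20160) : Act (wds g c7_1e_W) pt c7_1e_P 21 1 :=
  M.wact c7_1e_lt
theorem c7_1c0_e : ∀ i < 6, (dent c7_1c0 c7_1e_P (nat_lit 21)) i = 0 := allZ_sound0 c7_1c0_e_0
theorem c7_1c0_ok : DOK c7_1c0 c7_1e_P 21 := ⟨c7_1c0_h, c7_1c0_e⟩
theorem t7_1n0_1 : ∀ i < 21, (t7_1n0.ent H16.L34.P t7_1h_P x7_1_P x7_1_P c7_1e_P (nat_lit 6) (nat_lit 1) H16.L34.B t7_1l0 [t7_1l1, t7_1l2, t7_1l3] (memO c7_1c0)) i = 0 := allZ_sound0 t7_1n0_1_0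
theorem t7_1n0_t {G Ω : Type*} [Group G] [MulAction G Ω] {g : ℕ → G} {pt : ℕ → Ω}
    (M : Md g pt H16.L34.P 21 6 H16.L34.B 20160) : TrO (gen (wds g t7_1h_W) t7_1l0.K) (wds g x7_1_W) (wds g x7_1_W) 1 pt 21 (t7_1l0.Pt 0) (memO c7_1c0) :=
  node M (t7_1_S0 M) (t7_1h_act M) (x7_1_act M) (x7_1_act M) t7_1n0 ((c7_1e_act M).mono (by decide)) (fun _ _ => trivial) t7_1n0_0 t7_1n0_1 (List.forall_mem_nil _)
theorem c7_1 {G Ω : Type*} [Group G] [MulAction G Ω] {g : ℕ → G} {pt : ℕ → Ω}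
    (M : Md g pt H16.L34.P 21 6 H16.L34.B 20160) : Cen ⊤ (wds g x7_1_W) 1 (wds g c7_1e_W) pt 21 [c7_1c0] :=
  (t7_1_S0 M).top ▸ Cen.lev M (t7_1_S0 M) (Cen.triv (t7_1_S1 M) (Cen.triv (t7_1_S2 M) (Cen.triv (t7_1_S3 M) (Cen.bot) (forced (t7_1_S3 M) (t7_1h_act M) (x7_1_act M) _ _ c7_1_f3)) (forced (t7_1_S2 M) (t7_1h_act M) (x7_1_act M) _ _ c7_1_f2)) (forced (t7_1_S1 M) (t7_1h_act M) (x7_1_act M) _ _ c7_1_f1)) (t7_1n0_t M) (x7_1_act M) (c7_1e_act M) (fun _ _ => trivial) c7_1c0_ok c7_1_f0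
theorem c7_1_card {G Ω : Type*} [Group G] [MulAction G Ω] {g : ℕ → G} {pt : ℕ → Ω}
    (M : Md g pt H16.L34.P 21 6 H16.L34.B 20160) : Nat.card (Subgroup.centralizer {(wds g x7_1_W) 0}) = 7 :=
  (c7_1 M).card_cent1 M.inj c7_1_c.1
theorem c7_1_eq {G Ω : Type*} [Group G] [MulAction G Ω] {g : ℕ → G} {pt : ℕ → Ω}
    (M : Md g pt H16.L34.P 21 6 H16.L34.B 20160) : Subgroup.centralizer (gen (wds g x7_1_W) 1) = gen (wds g c7_1e_W) 1 ∧ Nat.card (gen (wds g c7_1e_W) 1) = 7 :=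
  c7_1_c.1 ▸ c7_1_c.2 ▸ ⟨(c7_1 M).cent, (c7_1 M).card M.inj⟩

end H29.D4l
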