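import Mathlib.LinearAlgebra.Matrix.Rank
import Mathlib.LinearAlgebra.Matrix.SchurComplement
import Mathlib.LinearAlgebra.Matrix.SpecialLinearGroup
import Mathlib.LinearAlgebra.Matrix.Basis
import Mathlib.LinearAlgebra.Matrix.Trace
import Mathlib.FieldTheory.Finite.Basic
import Mathlib.Logic.Equiv.Fintype
import Mathlib.Tactic.NoncommRing

/-! Sign matrices, simultaneous diagonalization and involutions in special linear groups. -/

set_option autoImplicit false

namespace H29.PL
open Matrix Finset Module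

variable {F : Type*} [Field F] {ι : Type*} [Fintype ι] [DecidableEq ι]

/-- sign vector of a set -/
def sg (F : Type*) [Field F] (s : Finset ι) (i : ι) : F := if i ∈ s then -1 else 1

omit [Fintype ι] in
theorem sg_mul (s t : Finset ι) (i : ι) : sg F s i * sg F t i = sg F (symmDiff s t) i := by
  simp only [sg, mem_symmDiff]; by_cases h : i ∈ s <;> by_cases h' : i ∈ t <;> simp [h, h']

theorem prod_sg (s : Finset ι) : ∏ i, sg F s i = (-1) ^ s.card := by
  simp [sg, prod_ite_mem]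

theorem neg_ne (h2 : (2 : F) ≠ 0) : (-1 : F) ≠ 1 := fun e => h2 (by linear_combination -e)

open Classical in
theorem cnt {g : Matrix ι ι F} (hg : g.det ≠ 0) {u v : ι → F} (h : g * diagonal u = diagonal v * g)
    (c : F) : #{i | u i ≠ c} = #{i | v i ≠ c} := by
  have k : ∀ u : ι → F, diagonal (fun i => u i - c) = diagonal u - c • 1 := fun u => by
    ext i j; by_cases e : i = j <;> simp [e, one_apply]
  have h1 := rank_mul_eq_right_of_isUnit_det g (diagonal fun i => u i - c) hg.isUnit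
  rw [k, mul_sub, h, mul_smul_comm, mul_one, ← one_mul g, ← smul_mul_assoc, ← mul_assoc, mul_one,
    ← sub_mul, ← k, rank_mul_eq_left_of_isUnit_det _ _ hg.isUnit, ← k, rank_diagonal, rank_diagonal] at h1
  simpa [Fintype.card_subtype, sub_eq_zero] using h1.symm

open Classical in
theorem cnt_sg (h2 : (2 : F) ≠ 0) (s : Finset ι) : #{i | sg F s i ≠ 1} = s.card := by
  congr 1; ext i; by_cases h : i ∈ s <;> simp [sg, h, neg_ne h2]

theorem exists_SL [Nonempty ι] {g : Matrix ι ι F} (hg : g.det ≠ 0) : ∃ g' : SpecialLinearGroup ι F,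
    ∀ A u, A * g = g * diagonal u → A * g'.1 = g'.1 * diagonal u := by
  obtain ⟨i⟩ := ‹Nonempty ι›
  refine ⟨⟨g * diagonal (Function.update 1 i g.det⁻¹), by
    simp [prod_update_of_mem, hg]⟩, fun A u h => ?_⟩
  rw [← mul_assoc, h, mul_assoc, mul_assoc, diagonal_mul_diagonal, diagonal_mul_diagonal]
  simp only [mul_comm]

theorem exists_mon [Nonempty ι] (σ : Equiv.Perm ι) : ∃ w : SpecialLinearGroup ι F,
    ∀ u : ι → F, diagonal u * w.1 = w.1 * diagonal (u ∘ σ) := by
  obtain ⟨w, h⟩ := exists_SL (g := (1 : Matrix ι ι F).submatrix id σ) (by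
    rw [det_permute', det_one, mul_one]
    rcases Int.units_eq_one_or σ.sign with e | e <;> simp [e])
  refine ⟨w, fun u => h _ _ ?_⟩
  ext i j; by_cases e : i = σ j <;> simp [e, one_apply]

theorem sim_diag [Nonempty ι] (h2 : (2 : F) ≠ 0) {S : Set (Matrix ι ι F)} (hS : S.Finite)
    (sq : ∀ A ∈ S, A * A = 1) (cm : ∀ A ∈ S, ∀ B ∈ S, A * B = B * A) :
    ∃ g : SpecialLinearGroup ι F, ∀ A ∈ S, ∃ s : Finset ι, A * g.1 = g.1 * diagonal (sg F s) := by
  classical
  have h1 : Submodule.span F {v | ∀ A ∈ S, A *ᵥ v = v ∨ A *ᵥ v = -v} = ⊤ := by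
    induction S, hS using Set.Finite.induction_on with
    | empty => simp
    | @insert A S _ _ ih =>
      rw [eq_top_iff, ← ih (fun B hB => sq B (Or.inr hB)) fun B hB C hC => cm B (Or.inr hB) C (Or.inr hC),
        Submodule.span_le]
      intro v hv
      have k : ∀ c : F, c * c = 1 → ∀ B ∈ insert A S, B *ᵥ (v + c • A *ᵥ v) = c • (v + c • A *ᵥ v) ∨
          B *ᵥ (v + c • A *ᵥ v) = v + c • A *ᵥ v ∨ B *ᵥ (v + c • A *ᵥ v) = -(v + c • A *ᵥ v) := by
        rintro c hc B (rfl | hB)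
        · left; rw [mulVec_add, mulVec_smul, mulVec_mulVec, sq B (Or.inl rfl), one_mulVec, smul_add,
            smul_smul, hc, one_smul, add_comm]
        · right
          rw [mulVec_add, mulVec_smul, mulVec_mulVec, cm B (Or.inr hB) A (Or.inl rfl), ← mulVec_mulVec]
          rcases hv B hB with e | e <;> simp [e, mulVec_neg, add_comm]
      have e : v = (2 : F)⁻¹ • ((v + (1 : F) • A *ᵥ v) + (v + (-1 : F) • A *ᵥ v)) := by
        rw [show v + (1 : F) • A *ᵥ v + (v + (-1 : F) • A *ᵥ v) = (2 : F) • v by module, smul_smul,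
          inv_mul_cancel₀ h2, one_smul]
      rw [e]
      refine Submodule.smul_mem _ _ (add_mem (Submodule.subset_span fun B hB => ?_)
        (Submodule.subset_span fun B hB => ?_))
      · have := k 1 (by simp) B hB; rw [one_smul _ (v + _)] at this; tauto
      · have := k (-1) (by simp) B hB; rw [neg_one_smul _ (v + _)] at this; tauto
  obtain ⟨b, hb, h3, h4⟩ := exists_linearIndependent F {v | ∀ A ∈ S, A *ᵥ v = v ∨ A *ᵥ v = -v}
  let B₀ := Basis.mk h4 (by rw [Subtype.range_coe_subtype, Set.ofPred_mem_eq, h3, h1])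
  let B := B₀.reindex (B₀.indexEquiv (Pi.basisFun F ι))
  have hB : ∀ i, B i ∈ b := fun i => by simp [B, B₀]
  have := (Pi.basisFun F ι).invertibleToMatrix B
  obtain ⟨g, hg⟩ := exists_SL (isUnit_det_of_invertible ((Pi.basisFun F ι).toMatrix B)).ne_zero
  refine ⟨g, fun A hA => ⟨univ.filter fun i => A *ᵥ B i ≠ B i, hg _ _ ?_⟩⟩
  ext i j
  have : (A * (Pi.basisFun F ι).toMatrix B) i j = (A *ᵥ B j) i := rfl
  rw [this, mul_diagonal]
  by_cases e : A *ᵥ B j = B j
  · simp [sg, e, Basis.toMatrix_apply]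
  · rw [sg, if_pos (by simpa using e), (hb (hB j) A hA).resolve_left e]; simp [Basis.toMatrix_apply]

theorem quad [Fintype F] (hq : Odd (Fintype.card F)) {μ : F} (hμ : μ ≠ 0) (c : F) :
    ∃ a b : F, μ * b ^ 2 - a ^ 2 = c := by
  open Polynomial in
  obtain ⟨b, a, h⟩ := FiniteField.exists_root_sum_quadratic (f := C μ * X ^ 2) (g := -(X ^ 2 + C c))
    (by rw [degree_C_mul hμ, degree_X_pow]; rfl) (by rw [degree_neg, degree_X_pow_add_C two_pos]; rfl)
    (Nat.odd_iff.1 hq)
  exact ⟨a, b, by simp at h; linear_combination h⟩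

theorem two_ne [Fintype F] (hq : Odd (Fintype.card F)) : (2 : F) ≠ 0 :=
  Ring.two_ne_zero fun e => by
    have := FiniteField.even_card_of_char_two e
    rw [Nat.odd_iff] at hq; omega

theorem exists_vf {A : Matrix ι ι F} (h : ∀ c : F, A ≠ c • 1) :
    ∃ v f : ι → F, f ⬝ᵥ v = 1 ∧ f ⬝ᵥ A *ᵥ v = 0 := by
  by_cases h1 : ∃ i k, i ≠ k ∧ A i k ≠ 0
  · obtain ⟨i, k, h1, h2⟩ := h1
    refine ⟨Pi.single k 1, Pi.single k 1 - Pi.single i (A k k / A i k), by simp [h1], ?_⟩
    simp [h2]
  push Not at h1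
  obtain ⟨i, k, e⟩ : ∃ i k, A i i ≠ A k k := by
    by_contra! e
    rcases isEmpty_or_nonempty ι with _ | ⟨⟨i⟩⟩
    · exact h 0 (Subsingleton.elim _ _)
    refine h (A i i) (Matrix.ext fun j k => ?_)
    by_cases e' : j = k
    · simp [e', e k i]
    · simp [e', h1 j k e']
  have hik : i ≠ k := fun e' => e (e' ▸ rfl)
  have e' := sub_ne_zero.2 e
  refine ⟨Pi.single i 1 + Pi.single k 1, Pi.single k (A i i / (A i i - A k k)) -
    Pi.single i (A k k / (A i i - A k k)), ?_, ?_⟩
  · simp [hik, hik.symm]; field_simp; ring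
  · simp [mulVec_add, h1 i k hik, h1 k i hik.symm]; ring

/-- every projective involution is conjugate to its product with a rank two reflection -/
theorem exists_refl [Fintype F] (hq : Odd (Fintype.card F)) {A : Matrix ι ι F} {μ : F} (hμ : μ ≠ 0)
    (hA : A * A = μ • 1) (h : ∀ c : F, A ≠ c • 1) : ∃ g J : SpecialLinearGroup ι F,
      g.1 * A = A * J.1 * g.1 ∧ J.1 * J.1 = 1 ∧ (J.1 - 1).rank = 2 := by
  obtain ⟨v, f, h1, h2⟩ := exists_vf h
  obtain ⟨a, b, hab⟩ := quad hq hμ 1
  let X : Matrix ι (Fin 2) F := of fun i => ![v i, (A *ᵥ v) i]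
  let Y : Matrix (Fin 2) ι F := of ![f, μ⁻¹ • f ᵥ* A]
  have yx : Y * X = 1 := by
    ext i j
    fin_cases i <;> fin_cases j
    · exact h1
    · exact h2
    · change (μ⁻¹ • f ᵥ* A) ⬝ᵥ v = 0
      rw [smul_dotProduct, ← dotProduct_mulVec, h2, smul_zero]
    · change (μ⁻¹ • f ᵥ* A) ⬝ᵥ A *ᵥ v = 1
      rw [smul_dotProduct, ← dotProduct_mulVec, mulVec_mulVec, hA, smul_mulVec, one_mulVec,
        dotProduct_smul, h1, smul_smul, inv_mul_cancel₀ hμ, one_smul]
  have ax : A * X = X * !![0, μ; 1, 0] := by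
    ext i j
    fin_cases j
    · simp [X, mul_apply, mulVec, dotProduct]
    · change (A *ᵥ A *ᵥ v) i = _
      rw [mulVec_mulVec, hA, smul_mulVec, one_mulVec]; simp [X, mul_apply, mul_comm]
  have ya : Y * A = !![0, μ; 1, 0] * Y := by
    ext i j
    fin_cases i
    · simp [Y, mul_apply, vecMul, dotProduct, hμ]
    · change ((μ⁻¹ • f ᵥ* A) ᵥ* A) j = _
      rw [smul_vecMul, vecMul_vecMul, hA, vecMul_smul, vecMul_one, smul_smul, inv_mul_cancel₀ hμ]
      simp [Y, mul_apply]
  have dt : ∀ M : Matrix (Fin 2) (Fin 2) F, (1 + X * (M - 1) * Y).det = M.det := fun M => by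
    rw [det_one_add_mul_comm, ← Matrix.mul_assoc, yx, Matrix.one_mul, add_sub_cancel]
  have ml : ∀ M N : Matrix (Fin 2) (Fin 2) F,
      (1 + X * (M - 1) * Y) * (1 + X * (N - 1) * Y) = 1 + X * (M * N - 1) * Y := fun M N => by
    have : X * (M - 1) * Y * (X * (N - 1) * Y) = X * ((M - 1) * (N - 1)) * Y := by
      simp only [Matrix.mul_assoc]; rw [← Matrix.mul_assoc Y, yx, Matrix.one_mul]
    rw [add_mul, mul_add, mul_add, this, one_mul, one_mul, mul_one, add_assoc, ← Matrix.add_mul,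
      ← Matrix.add_mul, ← Matrix.mul_add, ← Matrix.mul_add]
    congr 3; noncomm_ring
  have d1 : (1 + X * (!![a, b * μ; -b, -a] - 1) * Y).det = 1 := by
    rw [dt, det_fin_two_of]; linear_combination hab
  have d2 : (1 + X * (-1 - 1 : Matrix (Fin 2) (Fin 2) F) * Y).det = 1 := by rw [dt]; simp [det_neg]
  refine ⟨⟨_, d1⟩, ⟨_, d2⟩, ?_, (ml _ _).trans (by simp), ?_⟩ <;> dsimp only
  · have : (!![a, b * μ; -b, -a] - 1) * !![0, μ; 1, 0] =
        !![0, μ; 1, 0] * (-1 * !![a, b * μ; -b, -a] - 1) := by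
      ext i j; fin_cases i <;> fin_cases j <;> simp [mul_apply, Fin.sum_univ_two] <;> ring
    rw [mul_assoc, ml, add_mul, mul_add, one_mul, mul_one, Matrix.mul_assoc, ya, ← Matrix.mul_assoc A,
      ← Matrix.mul_assoc A, ax, ← Matrix.mul_assoc, Matrix.mul_assoc X, this, ← Matrix.mul_assoc X]
  · rw [add_sub_cancel_left]
    refine le_antisymm ?_ ?_
    · exact (rank_mul_le_right _ Y).trans ((rank_le_card_height Y).trans (by simp))
    · have h3 : Y * (X * (-1 - 1 : Matrix (Fin 2) (Fin 2) F) * Y) * X =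
          (-2 : F) • (1 : Matrix (Fin 2) (Fin 2) F) := by
        rw [← Matrix.mul_assoc, ← Matrix.mul_assoc, yx, Matrix.mul_assoc, yx, Matrix.one_mul,
          Matrix.mul_one]
        ext i j; fin_cases i <;> fin_cases j <;> simp <;> norm_num
      have h4 := rank_of_isUnit ((-2 : F) • (1 : Matrix (Fin 2) (Fin 2) F)) (by
        rw [isUnit_iff_isUnit_det, det_smul]; simp [two_ne hq])
      rw [← h3, Fintype.card_fin] at h4
      exact h4.ge.trans ((rank_mul_le_left _ _).trans (rank_mul_le_right _ _))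

end H29.PL
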