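/-
Fusion systems on a Sylow `p`-subgroup of `³D₄(q)`, part 0: the cubic field extension.
-/
import Cfsg.Agent.H8.PU2

set_option autoImplicit false
set_option linter.unusedSectionVars false

namespace H29.TD
open Subgroup H25

variable {K : Type*} [Field K]
/-- the fixed field -/
def Fx (σ : K →+* K) : Subfield K := σ.eqLocusField (RingHom.id K)
/-- the generator of the Galois group of `F_{q³} / F_q` -/
class TV (σ : K →+* K) : Prop where
  s3 : ∀ x, σ (σ (σ x)) = x
  pw : ∀ x, σ x = x ^ Nat.card (Fx σ)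
  cd : Nat.card K = Nat.card (Fx σ) ^ 3

variable (σ : K →+* K)
/-- trace, norm, adjoint and cross product -/
def tr (x : K) : K := x + σ x + σ (σ x)
def nm (x : K) : K := x * σ x * σ (σ x)
def sh (x : K) : K := σ x * σ (σ x)
def cr (x y : K) : K := σ x * σ (σ y) + σ (σ x) * σ y
/-- independence over the fixed field -/
def Ind (x y : K) : Prop := ∀ c d, σ c = c → σ d = d → c * x + d * y = 0 → c = 0 ∧ d = 0

variable {σ} [TV σ] {a b c d m m' r s x y : K}
theorem mFx : x ∈ Fx σ ↔ σ x = x := Iff.rfl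
theorem fx (c : Fx σ) : σ c = c := c.2
theorem s3 (x : K) : σ (σ (σ x)) = x := TV.s3 x
theorem cm (φ : K ≃+* K) (x : K) : σ (φ x) = φ (σ x) := by rw [TV.pw (φ x), TV.pw x, map_pow]
theorem sz : σ x = 0 ↔ x = 0 := map_eq_zero σ
theorem sn (h : x ≠ 0) : σ x ≠ 0 := mt sz.1 h
/-- normalization of field expressions -/
macro "fs" "[" ls:Lean.Parser.Tactic.simpLemma,* "]" loc:(Lean.Parser.Tactic.location)? : tactic => `(tactic|
  simp only [tr, nm, sh, cr, s3, cm, fx, map_add, map_mul, map_sub, map_neg, map_zero, map_one, map_pow, map_inv₀, map_div₀,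
    map_ofNat, $ls,*] $[$loc]?)
theorem s_tr (x : K) : σ (tr σ x) = tr σ x := by fs []; ring
theorem s_nm (x : K) : σ (nm σ x) = nm σ x := by fs []; ring
theorem nm0 (h : x ≠ 0) : nm σ x ≠ 0 := mul_ne_zero (mul_ne_zero h (sn h)) (sn (sn h))
theorem sh0 (h : x ≠ 0) : sh σ x ≠ 0 := mul_ne_zero (sn h) (sn (sn h))
theorem tr_sm (h : σ c = c) (x : K) : tr σ (c * x) = c * tr σ x := by fs [h]; ring
theorem tr_add (x y : K) : tr σ (x + y) = tr σ x + tr σ y := by fs []; ring
theorem tr_sub (x y : K) : tr σ (x - y) = tr σ x - tr σ y := by fs []; ring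
theorem tr_neg (x : K) : tr σ (-x) = -tr σ x := by fs []; ring
theorem tr_zero : tr σ 0 = 0 := by fs [add_zero]
theorem nm_mul (x y : K) : nm σ (x * y) = nm σ x * nm σ y := by fs []; ring
theorem nm_fx (h : σ c = c) : nm σ c = c ^ 3 := by fs [h]; ring
theorem cr_comm (x y : K) : cr σ x y = cr σ y x := by fs []; ring
theorem cr_self (x : K) : cr σ x x = 2 * sh σ x := by fs []; ring
theorem tr_cr (x y z : K) : tr σ (x * cr σ y z) = tr σ (y * cr σ x z) := by fs []; ring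
theorem tr_cr' (x y z : K) : tr σ (x * cr σ y z) = tr σ (z * cr σ x y) := by fs []; ring
theorem tr_cr2 (x y : K) : tr σ (x * cr σ x y) = 2 * tr σ (sh σ x * y) := by fs []; ring
theorem tr_sh (x : K) : tr σ (sh σ x * x) = 3 * nm σ x := by fs []; ring
/-- the kernel of `m ×` -/
theorem cr0 (hm : m ≠ 0) (h : cr σ m s = 0) : s = 0 ∨ (2 : K) = 0 ∧ ∃ c, σ c = c ∧ s = c * m := by
  have h1 := sn (σ := σ) hm
  have h2 := sn (σ := σ) h1
  have e : σ (s / m) = -(s / m) := by
    have := congrArg (fun t => σ (σ t)) h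
    fs [] at this ⊢
    field_simp
    linear_combination this
  have e2 : 2 * (s / m) = 0 := by
    have := s3 (σ := σ) (s / m)
    rw [e, map_neg, e, neg_neg, e] at this
    linear_combination -this
  by_cases t : (2 : K) = 0
  · exact .inr ⟨t, s / m, by rw [e]; linear_combination -e2, by field_simp⟩
  · exact .inl (by simpa [t, hm] using e2)
theorem cr0' (hm : m ≠ 0) (h : cr σ m s = 0) : ∃ c, σ c = c ∧ s = c * m :=
  (cr0 hm h).elim (fun e => ⟨0, map_zero σ, by rw [e, zero_mul]⟩) And.right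
theorem cr00 (hm : m ≠ 0) (h : cr σ m s = 0) (h' : tr σ (sh σ m * s) = 0) : s = 0 := by
  obtain e | ⟨t, c, hc, rfl⟩ := cr0 hm h
  · exact e
  have : c * nm σ m = 0 := by fs [hc] at h' ⊢; linear_combination h' - c * (m * σ m * σ (σ m)) * t
  rw [(mul_eq_zero.1 this).resolve_right (nm0 hm), zero_mul]
theorem Ind.symm (h : Ind σ x y) : Ind σ y x := fun c d h1 h2 e => (h d c h2 h1 (by rw [add_comm, e])).symm
theorem Ind.ne (h : Ind σ x y) : x ≠ 0 := fun e => one_ne_zero (h 1 0 (map_one σ) (map_zero σ) (by simp [e])).1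
theorem ind_of (hx : x ≠ 0) (h : ∀ c, σ c = c → y ≠ c * x) : Ind σ x y := fun c d h1 h2 e => by
  by_cases k : d = 0
  · exact ⟨by simpa [k, hx] using e, k⟩
  · exact (h (-c / d) (by fs [h1, h2]) (by field_simp; linear_combination e)).elim
theorem Ind.cr (h : Ind σ x y) : cr σ x y ≠ 0 := fun e => let ⟨c, h1, h2⟩ := cr0' h.ne e
  one_ne_zero (h (-c) 1 (by fs [h1]) (map_one σ) (by rw [h2]; ring)).2

variable [Finite K]
variable (σ) in
theorem one_lt : 1 < Nat.card (Fx σ) := Finite.one_lt_card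
variable (σ) in
theorem rk3 : Module.finrank (Fx σ) K = 3 :=
  Nat.pow_right_injective (one_lt σ) ((Module.natCard_eq_pow_finrank (K := Fx σ) (V := K)).symm.trans TV.cd)
variable (σ) in
theorem ex_ne : ∃ x, σ x ≠ x := by
  by_contra! h
  have := Nat.card_le_card_of_injective (fun x => (⟨x, h x⟩ : Fx σ)) fun _ _ e => congrArg Subtype.val e
  rw [TV.cd (σ := σ)] at this
  exact absurd this (not_le.2 (by simpa using Nat.pow_lt_pow_right (one_lt σ) (show 1 < 3 by omega)))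
/-- Dedekind -/
theorem ded (h : ∀ x, a * x + b * σ x + c * σ (σ x) = 0) : a = 0 ∧ b = 0 ∧ c = 0 := by
  obtain ⟨θ, hθ⟩ := ex_ne σ
  have h1 : σ (σ θ) ≠ σ θ := σ.injective.ne hθ
  have h2 : σ (σ θ) ≠ θ := fun e => hθ (by simpa only [s3] using (congrArg σ e).symm)
  have e0 := h 1
  have e1 := h θ
  have e2 := h (θ * θ)
  fs [] at e0 e2
  refine ⟨?_, ?_, ?_⟩
  · have : a * ((σ θ - θ) * (σ (σ θ) - θ)) = 0 := by linear_combination e2 - (σ θ + σ (σ θ)) * e1 + σ θ * σ (σ θ) * e0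
    simpa [sub_eq_zero, hθ, h2] using this
  · have : b * ((σ θ - θ) * (σ (σ θ) - σ θ)) = 0 := by linear_combination -e2 + (θ + σ (σ θ)) * e1 - θ * σ (σ θ) * e0
    simpa [sub_eq_zero, hθ, h1] using this
  · have : c * ((σ (σ θ) - θ) * (σ (σ θ) - σ θ)) = 0 := by linear_combination e2 - (θ + σ θ) * e1 + θ * σ θ * e0
    simpa [sub_eq_zero, h2, h1] using this
theorem tr_nd (h : ∀ y, tr σ (x * y) = 0) : x = 0 := (ded (σ := σ) fun y => by have := h y; fs [] at this; exact this).1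
variable (σ) in
/-- the trace form -/
def tf : LinearMap.BilinForm (Fx σ) K := LinearMap.mk₂ _ (fun x y => ⟨tr σ (x * y), s_tr _⟩)
  (fun _ _ _ => Subtype.ext (by simp only [add_mul, tr_add]; rfl))
  (fun c _ _ => Subtype.ext (by simp only [Subfield.smul_def, smul_eq_mul, mul_assoc, tr_sm (fx c)]; rfl))
  (fun _ _ _ => Subtype.ext (by simp only [mul_add, tr_add]; rfl))
  fun c x y => Subtype.ext (by simp only [Subfield.smul_def, smul_eq_mul]; rw [mul_left_comm x, tr_sm (fx c)]; rfl)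
theorem tf_val (x y : K) : (tf σ x y : K) = tr σ (x * y) := rfl
theorem tf0 : tf σ x y = 0 ↔ tr σ (x * y) = 0 := Subtype.ext_iff
theorem tf_refl : (tf σ).IsRefl := fun x y h => tf0.2 (mul_comm x y ▸ tf0.1 h)
theorem tf_nd : (tf σ).Nondegenerate := ⟨fun _ h => tr_nd fun y => tf0.1 (h y), fun _ h => tr_nd fun y => tf0.1 (tf_refl _ _ (h y))⟩
/-- double orthogonal complement -/
theorem mem_span {t : Set K} (h : ∀ r, (∀ m ∈ t, tr σ (m * r) = 0) → tr σ (x * r) = 0) : x ∈ Submodule.span (Fx σ) t := by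
  rw [← (tf σ).orthogonal_orthogonal tf_nd tf_refl (Submodule.span (Fx σ) t)]
  exact fun r hr => tf0.2 (mul_comm r x ▸ h r fun m hm => tf0.1 (hr m (Submodule.subset_span hm)))
theorem perp1 (h : ∀ r, tr σ (m * r) = 0 → tr σ (x * r) = 0) : ∃ c, σ c = c ∧ x = c * m :=
  let ⟨c, e⟩ := Submodule.mem_span_singleton.1 (mem_span (t := {m}) fun r k => h r (k m rfl)); ⟨c, c.2, e.symm⟩
theorem perp2 (h : ∀ r, tr σ (m * r) = 0 → tr σ (m' * r) = 0 → tr σ (x * r) = 0) :
    ∃ c d, σ c = c ∧ σ d = d ∧ x = c * m + d * m' :=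
  let ⟨c, d, e⟩ := Submodule.mem_span_pair.1 (mem_span (t := {m, m'}) fun r k => h r (k m (by simp)) (k m' (by simp)))
  ⟨c, d, c.2, d.2, e.symm⟩
theorem ex_perp (x y : K) : ∃ s, s ≠ 0 ∧ tr σ (x * s) = 0 ∧ tr σ (y * s) = 0 := by
  by_contra! h
  have : Submodule.span (Fx σ) {x, y} = ⊤ := top_unique fun z _ => mem_span fun r k => by
    by_cases e : r = 0
    · simp [e, tr_zero]
    · exact (h r e (k x (by simp)) (k y (by simp))).elim
  classical
  have k := finrank_span_le_card (R := Fx σ) ({x, y} : Set K)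
  rw [this, finrank_top, rk3] at k
  exact absurd (k.trans (by simpa using Finset.card_le_two)) (by omega : ¬ 3 ≤ 2)
theorem tr_onto (hx : x ≠ 0) (hc : σ c = c) : ∃ y, tr σ (x * y) = c := by
  obtain ⟨y, hy⟩ := not_forall.1 (mt (tr_nd (σ := σ)) hx)
  exact ⟨c / tr σ (x * y) * y, by rw [mul_left_comm, tr_sm (by rw [map_div₀, hc, s_tr]), div_mul_cancel₀ _ hy]⟩
theorem Ind.onto (h : Ind σ x y) (hc : σ c = c) (hd : σ d = d) : ∃ r, tr σ (x * r) = c ∧ tr σ (y * r) = d := by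
  have k : ∀ {x y c}, Ind σ x y → σ c = c → ∃ r, tr σ (x * r) = c ∧ tr σ (y * r) = 0 := fun {x y c} h hc => by
    obtain ⟨r, hr⟩ := not_forall.1 (mt (perp1 (σ := σ) (m := y) (x := x)) fun ⟨e, h1, h2⟩ =>
      one_ne_zero (h 1 (-e) (map_one σ) (by rw [map_neg, h1]) (by rw [h2]; ring)).1)
    push Not at hr
    have f : σ (c / tr σ (x * r)) = c / tr σ (x * r) := by rw [map_div₀, hc, s_tr]
    exact ⟨c / tr σ (x * r) * r, by rw [mul_left_comm, tr_sm f, div_mul_cancel₀ _ hr.2], by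
      rw [mul_left_comm, tr_sm f, hr.1, mul_zero]⟩
  obtain ⟨r, h1, h2⟩ := k h hc
  obtain ⟨r', h3, h4⟩ := k h.symm hd
  exact ⟨r + r', by rw [mul_add, tr_add, h1, h4, add_zero], by rw [mul_add, tr_add, h2, h3, zero_add]⟩
/-- `m ×` is onto in odd characteristic -/
theorem cr_onto (h2 : (2 : K) ≠ 0) (hm : m ≠ 0) (r : K) : ∃ s, cr σ m s = r :=
  Finite.surjective_of_injective (f := cr σ m) (fun s s' e => sub_eq_zero.1 ((cr0 (σ := σ) hm (by
    fs [] at e ⊢; linear_combination e)).resolve_right fun k => h2 k.1)) r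
/-- the image of `m ×` in characteristic two -/
theorem cr_onto2 (hm : m ≠ 0) (h : tr σ (m * r) = 0) (h2 : (2 : K) = 0) : ∃ s, cr σ m s = r := by
  obtain ⟨θ, e⟩ := tr_onto (σ := σ) one_ne_zero (map_one σ)
  have h1 := sn (σ := σ) hm
  have h3 := sn (σ := σ) h1
  refine ⟨m * (σ (σ (m * r)) * σ θ + m * r * σ (σ θ) + σ (σ (m * r)) * σ (σ θ)) / nm σ m, ?_⟩
  fs [one_mul] at h e ⊢
  field_simp
  have : CharP K 2 := CharTwo.of_one_ne_zero_of_two_eq_zero one_ne_zero h2
  grind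
/-- no two-dimensional subspace is isotropic for `T(m, ·, ·)` inside `(m^#)^⊥` -/
theorem ex_T (hm : m ≠ 0) : ∃ s s', tr σ (sh σ m * s) = 0 ∧ tr σ (sh σ m * s') = 0 ∧ tr σ (s' * cr σ m s) ≠ 0 := by
  by_contra! h
  obtain ⟨s, s0, h1, -⟩ := ex_perp (σ := σ) (sh σ m) 0
  obtain ⟨r, hr⟩ := tr_onto s0 (map_one σ)
  obtain ⟨s', s1, h2, h3⟩ := ex_perp (σ := σ) (sh σ m) r
  obtain ⟨c, hc, e⟩ := perp1 (σ := σ) (m := sh σ m) (x := cr σ m s) fun t k => mul_comm t _ ▸ h s t h1 k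
  obtain ⟨d, hd, e'⟩ := perp1 (σ := σ) (m := sh σ m) (x := cr σ m s') fun t k => mul_comm t _ ▸ h s' t h2 k
  have k := cr00 (σ := σ) (s := d * s - c * s') hm (by fs [hc, hd] at e e' ⊢; linear_combination d * e - c * e')
    (by fs [hc, hd] at h1 h2 ⊢; linear_combination d * h1 - c * h2)
  have k' := congrArg (fun t => tr σ (t * r)) k
  have d0 : d = 0 := by fs [hc, hd, zero_mul] at k' hr h3; linear_combination k' - d * hr + c * h3
  exact s1 (cr00 hm (by rw [e', d0, zero_mul]) h2)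
/-- linear maps are `σ`-polynomials -/
theorem rep (J : K → K) (h1 : ∀ x y, J (x + y) = J x + J y) (h2 : ∀ c x, σ c = c → J (c * x) = c * J x) :
    ∃ a b c, ∀ x, J x = a * x + b * σ x + c * σ (σ x) := by
  let L : K →ₗ[Fx σ] K := ⟨⟨J, h1⟩, fun c x => h2 c x c.2⟩
  let B := Module.finBasis (Fx σ) K
  let D := (tf σ).dualBasis tf_nd B
  refine ⟨∑ i, D i * J (B i), ∑ i, σ (D i) * J (B i), ∑ i, σ (σ (D i)) * J (B i), fun x => ?_⟩
  have e : x = ∑ i, tf σ (D i) x • B i := by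
    conv_lhs => rw [← B.sum_repr x]
    refine Finset.sum_congr rfl fun i _ => congrArg (· • B i) ?_
    conv_rhs => rw [← B.sum_repr x]
    simp only [D, map_sum, map_smul, LinearMap.BilinForm.apply_dualBasis_left, smul_eq_mul, mul_ite, mul_one, mul_zero,
      Finset.sum_ite_eq', Finset.mem_univ, if_true]
  have : J x = ∑ i, tf σ (D i) x • J (B i) := by
    conv_lhs => rw [e]
    exact (map_sum L _ _).trans (Finset.sum_congr rfl fun i _ => L.map_smul _ _)
  rw [this, Finset.sum_mul, Finset.sum_mul, Finset.sum_mul, ← Finset.sum_add_distrib, ← Finset.sum_add_distrib]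
  refine Finset.sum_congr rfl fun i _ => ?_
  rw [Subfield.smul_def, tf_val]
  fs [smul_eq_mul]; ring
/-- the Galois group -/
theorem gal (φ : K ≃+* K) (h : ∀ c, σ c = c → φ c = c) : (∀ x, φ x = x) ∨ (∀ x, φ x = σ x) ∨ ∀ x, φ x = σ (σ x) := by
  obtain ⟨a, b, c, e⟩ := rep (σ := σ) φ (map_add φ) fun c x k => by rw [map_mul, h c k]
  have k : ∀ y, a * (y - φ y) = 0 ∧ b * (σ y - φ y) = 0 ∧ c * (σ (σ y) - φ y) = 0 := fun y => ded fun x => by
    have := e (y * x)
    rw [map_mul, e x] at this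
    fs [] at this
    linear_combination -this
  by_contra! n
  obtain ⟨⟨x, h1⟩, ⟨y, h2⟩, z, h3⟩ := n
  have := e 1
  rw [(mul_eq_zero.1 (k x).1).resolve_right (sub_ne_zero.2 h1.symm), (mul_eq_zero.1 (k y).2.1).resolve_right
    (sub_ne_zero.2 h2.symm), (mul_eq_zero.1 (k z).2.2).resolve_right (sub_ne_zero.2 h3.symm)] at this
  simp at this
/-- the centroid of the cross product -/
theorem cen (f : K → K) (h2 : (2 : K) ≠ 0) (h : ∀ x y, cr σ x (f y) = cr σ y (f x)) : ∃ c, σ c = c ∧ ∀ x, f x = c * x := by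
  have k : ∀ y, 2 * f y = y * (σ (f 1) + σ (σ (f 1))) + σ y * (f 1 - σ (σ (f 1))) + σ (σ y) * (f 1 - σ (f 1)) := fun y => by
    have e := h 1 y
    have e1 := congrArg σ e
    have e2 := congrArg σ e1
    fs [] at e e1 e2
    linear_combination e1 + e2 - e
  generalize f 1 = c at k
  have k2 : ∀ y, σ y * (σ (σ c) - σ c) + σ (σ y) * (σ c - σ (σ c)) = 0 := fun y => (ded (σ := σ)
    (b := σ y * (σ (σ c) - c) + σ (σ y) * (σ (σ c) + c) - σ (σ (2 * f y)))
    (c := σ y * (c + σ c) + σ (σ y) * (σ c - c) - σ (2 * f y)) fun x => by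
      have e := h x y
      have e1 := congrArg σ (k x)
      have e2 := congrArg σ e1
      fs [] at e e1 e2 ⊢
      linear_combination -2 * e - σ y * e2 - σ (σ y) * e1).1
  have k3 : σ (σ c) = σ c := sub_eq_zero.1 (ded (σ := σ) (a := 0) (c := σ c - σ (σ c)) fun y => by linear_combination k2 y).2.1
  have k4 : σ c = c := σ.injective k3
  exact ⟨c, k4, fun x => mul_left_cancel₀ h2 (by rw [k, k4, k4]; ring)⟩
/-- every pair of weights comes from the torus -/
theorem tor_onto (hr : r ≠ 0) (ha : a ≠ 0) (h : σ a = a) :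
    ∃ l ν, l ≠ 0 ∧ σ l = l ∧ ν ≠ 0 ∧ r = ν ^ 2 / l ∧ a = l ^ 2 / nm σ ν := by
  let f : {p : K × K // p.1 ≠ 0 ∧ σ p.1 = p.1 ∧ p.2 ≠ 0} → {p : K × K // p.1 ≠ 0 ∧ σ p.1 = p.1 ∧ p.2 ≠ 0} := fun p =>
    ⟨(p.1.1 ^ 2 / nm σ p.1.2, p.1.2 ^ 2 / p.1.1), div_ne_zero (pow_ne_zero _ p.2.1) (nm0 p.2.2.2),
      by rw [map_div₀, map_pow, p.2.2.1, s_nm], div_ne_zero (pow_ne_zero _ p.2.2.2) p.2.1⟩
  obtain ⟨⟨⟨l, ν⟩, h1, h2, h3⟩, e⟩ := Finite.surjective_of_injective (f := f) (by
    rintro ⟨⟨l, ν⟩, h1, h2, h3⟩ ⟨⟨l', ν'⟩, h4, h5, h6⟩ e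
    simp only [f, Subtype.mk.injEq, Prod.mk.injEq] at e h1 h2 h3 h4 h5 h6 ⊢
    have n1 := nm0 (σ := σ) h3
    have n2 := nm0 (σ := σ) h6
    obtain ⟨e1, e2⟩ := e
    have e3 := congrArg (nm σ) e2
    have k : ∀ {x y : K}, σ y = y → nm σ (x ^ 2 / y) = nm σ x ^ 2 / y ^ 3 := fun k => by fs [k]; ring
    rw [k h2, k h5] at e3
    have e4 : l = l' := by
      rw [show l = (l ^ 2 / nm σ ν) ^ 2 * (nm σ ν ^ 2 / l ^ 3) by field_simp, e1, e3]; field_simp
    subst e4
    refine ⟨rfl, ?_⟩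
    field_simp at e1 e2
    rcases sq_eq_sq_iff_eq_or_eq_neg.1 e2 with e | e
    · exact e
    · subst e
      have : (2 : K) * nm σ ν' = 0 := by fs [] at e1 ⊢; linear_combination e1
      linear_combination -ν' * (mul_eq_zero.1 this).resolve_right n2) ⟨(a, r), ha, h, hr⟩
  simp only [f, Subtype.mk.injEq, Prod.mk.injEq] at e
  exact ⟨l, ν, h1, h2, h3, e.2.symm, e.1.symm⟩
theorem card_K : Nat.card K = Nat.card (Fx σ) ^ 3 := TV.cd
open Polynomial in
/-- `N(τ) + Tr(aτ) = d` is solvable -/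
theorem nm_onto (a : K) (hd : σ d = d) : ∃ τ, nm σ τ + tr σ (a * τ) = d := by
  by_contra! h
  have q1 := one_lt σ
  set q := Nat.card (Fx σ) with hq
  let f : K[X] := X ^ (1 + q + q * q) + (C a * X ^ 1 + C (σ a) * X ^ q + C (σ (σ a)) * X ^ (q * q) - C d)
  have lt : (C a * X ^ 1 + C (σ a) * X ^ q + C (σ (σ a)) * X ^ (q * q) - C d : K[X]).degree < (1 + q + q * q : ℕ) := by
    have k : ∀ (b : K) (n : ℕ), n < 1 + q + q * q → (C b * X ^ n : K[X]).degree < (1 + q + q * q : ℕ) := fun b n hn =>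
      (degree_C_mul_X_pow_le n b).trans_lt (by exact_mod_cast hn)
    refine (degree_sub_le _ _).trans_lt (max_lt ((degree_add_le _ _).trans_lt (max_lt ((degree_add_le _ _).trans_lt
      (max_lt (k _ _ (by omega)) (k _ _ (by omega)))) (k _ _ (by omega)))) (by simpa using k d 0 (by omega)))
  have m : f.Monic := monic_X_pow_add lt
  have n : f.natDegree = 1 + q + q * q := by
    rw [natDegree_add_eq_left_of_degree_lt (by rwa [degree_X_pow]), natDegree_X_pow]
  have n' : (f ^ (q - 1) - C 1).natDegree = (q - 1) * (1 + q + q * q) := by rw [natDegree_sub_C, m.natDegree_pow, n]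
  obtain ⟨r, hr⟩ : ∃ r, q = r + 2 := ⟨q - 2, by omega⟩
  have := eq_zero_of_natDegree_lt_card_of_eval_eq_zero' (f ^ (q - 1) - C 1) (Set.toFinite (Set.univ : Set K)).toFinset
    (fun x _ => by
      have e : f.eval x = nm σ x + tr σ (a * x) - d := by
        simp only [f, eval_add, eval_sub, eval_mul, eval_pow, eval_C, eval_X, nm, tr, map_mul, TV.pw (σ := σ) x, map_pow, ← hq]
        ring
      have e' : σ (f.eval x) = f.eval x := by rw [e, map_sub, map_add, s_nm, s_tr, hd]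
      rw [TV.pw, ← hq, show q = q - 1 + 1 by omega, pow_succ, mul_eq_right₀ (e ▸ sub_ne_zero.2 (h x))] at e'
      simp [e']) (by
      rw [n', ← Set.ncard_eq_toFinset_card, Set.ncard_univ, card_K (σ := σ), ← hq, hr, show r + 2 - 1 = r + 1 by omega]
      nlinarith)
  rw [this, natDegree_zero, hr] at n'
  simp at n'
/-- the annihilator of an additive subgroup -/
theorem card_perp (R : AddSubgroup K) : Nat.card {x // ∀ r ∈ R, tr σ (x * r) = 0} ≤ R.index := by
  let W := Submodule.span (Fx σ) (R : Set K)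
  have e1 : Nat.card {x // ∀ r ∈ R, tr σ (x * r) = 0} ≤ Nat.card ((tf σ).orthogonal W) :=
    Nat.card_mono (Set.toFinite _) fun x hx r hr => tf_refl _ _ (Submodule.span_induction (p := fun r _ => tf σ x r = 0)
      (fun r k => tf0.2 (hx r k)) (map_zero _) (fun _ _ _ _ k k' => by rw [map_add, k, k', add_zero])
      (fun _ _ _ k => by rw [map_smul, k, smul_zero]) hr)
  have e2 : Nat.card R ≤ Nat.card W := Nat.card_mono (Set.toFinite _) Submodule.subset_span
  have e3 : Nat.card ((tf σ).orthogonal W) * Nat.card W = R.index * Nat.card R := by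
    rw [R.index_mul_card, Module.natCard_eq_pow_finrank (K := Fx σ) (V := W), Module.natCard_eq_pow_finrank (K := Fx σ) (V := K),
      Module.natCard_eq_pow_finrank (K := Fx σ) (V := (tf σ).orthogonal W), ← pow_add,
      LinearMap.BilinForm.finrank_orthogonal tf_nd, Nat.sub_add_cancel (Submodule.finrank_le W)]
  exact e1.trans (Nat.le_of_mul_le_mul_right (e3.le.trans (Nat.mul_le_mul_left _ e2)) Nat.card_pos)

end H29.TD
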