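/-
Fusion systems on a Sylow `p`-subgroup of `³D₄(q)`, part 1: coordinates.
-/
import Cfsg.Agent.H29.TD0

set_option autoImplicit false
set_option linter.unusedSectionVars false
set_option linter.unusedSimpArgs false

namespace H29.TD
open Subgroup H25 H8.PU

variable {K : Type*} [Field K] {σ : K →+* K}

/-- coordinates of `x_a(a) · n(u, s, r, v; z)`; the roots are `a, b, a+b, 2a+b, 3a+b, 3a+2b` -/
@[ext] structure Dc (σ : K →+* K) where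
  (a u s r v z : K)
  hu : σ u = u
  hv : σ v = v
  hz : σ z = z

namespace Dc
variable [TV σ]
@[simps] instance : One (Dc σ) := ⟨⟨0, 0, 0, 0, 0, 0, map_zero σ, map_zero σ, map_zero σ⟩⟩
@[simps] instance : Mul (Dc σ) := ⟨fun c d => {
  a := c.a + d.a
  u := c.u + d.u
  s := c.s + d.s + d.a * c.u
  r := c.r + d.r + cr σ d.a c.s + sh σ d.a * c.u
  v := c.v + d.v + tr σ (d.a * c.r) + tr σ (sh σ d.a * c.s) + nm σ d.a * c.u
  z := c.z + d.z + c.u * d.v - tr σ ((c.s + d.a * c.u) * d.r) - c.u * tr σ (sh σ d.a * c.s) - tr σ (d.a * sh σ c.s) -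
    nm σ d.a * c.u ^ 2
  hu := by fs [c.hu, d.hu]
  hv := by fs [c.hu, c.hv, d.hv]; ring
  hz := by fs [c.hu, c.hz, d.hv, d.hz]; ring }⟩
@[simps] instance : Inv (Dc σ) := ⟨fun c => {
  a := -c.a
  u := -c.u
  s := c.a * c.u - c.s
  r := cr σ c.a c.s - c.r - sh σ c.a * c.u
  v := tr σ (c.a * c.r) - c.v - tr σ (sh σ c.a * c.s) + nm σ c.a * c.u
  z := c.u * c.v - c.z - tr σ (c.s * c.r) - c.u * tr σ (sh σ c.a * c.s) + tr σ (c.a * sh σ c.s) + nm σ c.a * c.u ^ 2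
  hu := by fs [c.hu]
  hv := by fs [c.hu, c.hv]; ring
  hz := by fs [c.hu, c.hz, c.hv]; ring }⟩
instance : Group (Dc σ) := Group.ofLeftAxioms
  (fun c d e => by ext <;> simp only [mul_a, mul_u, mul_s, mul_r, mul_v, mul_z] <;> (try fs [c.hu, d.hu]) <;> ring)
  (fun c => by ext <;> simp [tr, cr, sh])
  (fun c => by
    ext <;> simp only [mul_a, mul_u, mul_s, mul_r, mul_v, mul_z, inv_a, inv_u, inv_s, inv_r, inv_v, inv_z, one_a, one_u,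
      one_s, one_r, one_v, one_z] <;> (try fs [c.hu]) <;> ring)
instance [Finite K] : Finite (Dc σ) := Finite.of_injective (fun c : Dc σ => (c.a, c.u, c.s, c.r, c.v, c.z))
  fun _ _ e => by simp only [Prod.mk.injEq] at e; exact Dc.ext e.1 e.2.1 e.2.2.1 e.2.2.2.1 e.2.2.2.2.1 e.2.2.2.2.2

/-- root elements; `el a s r = (a, 0, s, r, 0, 0)` -/
@[simps] def el (a s r : K) : Dc σ := ⟨a, 0, s, r, 0, 0, map_zero σ, map_zero σ, map_zero σ⟩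
@[simps] def xa (a : K) : Dc σ := ⟨a, 0, 0, 0, 0, 0, map_zero σ, map_zero σ, map_zero σ⟩
@[simps] def xu (u : K) (h : σ u = u) : Dc σ := ⟨0, u, 0, 0, 0, 0, h, map_zero σ, map_zero σ⟩
@[simps] def xs (s : K) : Dc σ := ⟨0, 0, s, 0, 0, 0, map_zero σ, map_zero σ, map_zero σ⟩
@[simps] def xr (r : K) : Dc σ := ⟨0, 0, 0, r, 0, 0, map_zero σ, map_zero σ, map_zero σ⟩
@[simps] def xv (v : K) (h : σ v = v) : Dc σ := ⟨0, 0, 0, 0, v, 0, map_zero σ, h, map_zero σ⟩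
@[simps] def xz (z : K) (h : σ z = z) : Dc σ := ⟨0, 0, 0, 0, 0, z, map_zero σ, map_zero σ, h⟩

/-- a subgroup given by a predicate -/
def sb (p : Dc σ → Prop) (h1 : p 1) (h2 : ∀ c d, p c → p d → p (c * d)) (h3 : ∀ c, p c → p c⁻¹) : Subgroup (Dc σ) :=
  ⟨⟨⟨{c | p c}, fun {c d} => h2 c d⟩, h1⟩, fun {c} => h3 c⟩
theorem mem_sb {p : Dc σ → Prop} {h1 h2 h3} {c : Dc σ} : c ∈ sb p h1 h2 h3 ↔ p c := Iff.rfl
variable (σ)
def Z1 : Subgroup (Dc σ) := sb (fun c => c.a = 0 ∧ c.u = 0 ∧ c.s = 0 ∧ c.r = 0 ∧ c.v = 0) (by simp)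
  (fun _ _ h h' => by simp [h, h', tr, cr]) fun _ h => by simp [h, tr, cr]
def Z2 : Subgroup (Dc σ) := sb (fun c => c.a = 0 ∧ c.u = 0 ∧ c.s = 0 ∧ c.r = 0) (by simp)
  (fun _ _ h h' => by simp [h, h', cr]) fun _ h => by simp [h, cr]
def Z3 : Subgroup (Dc σ) := sb (fun c => c.a = 0 ∧ c.u = 0 ∧ c.s = 0) (by simp)
  (fun _ _ h h' => by simp [h, h']) fun _ h => by simp [h]
def Z4 : Subgroup (Dc σ) := sb (fun c => c.a = 0 ∧ c.u = 0) (by simp) (fun _ _ h h' => by simp [h, h']) fun _ h => by simp [h]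
def Q1 : Subgroup (Dc σ) := sb (fun c => c.a = 0) (by simp) (fun _ _ h h' => by simp [h, h']) fun _ h => by simp [h]
def Q2 : Subgroup (Dc σ) := sb (fun c => c.u = 0) (by simp) (fun _ _ h h' => by simp [h, h']) fun _ h => by simp [h]
/-- `X_a Z₃` and the root group `X_{3a+b}` -/
def R2 : Subgroup (Dc σ) := sb (fun c => c.u = 0 ∧ c.s = 0) (by simp) (fun _ _ h h' => by simp [h, h']) fun _ h => by simp [h]
def Zv : Subgroup (Dc σ) := sb (fun c => c.a = 0 ∧ c.u = 0 ∧ c.s = 0 ∧ c.r = 0 ∧ c.z = 0) (by simp)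
  (fun _ _ h h' => by simp [h, h', tr, cr]) fun _ h => by simp [h, tr, cr]
/-- `m^⊥ Z₂` -/
def Jm (m : K) : Subgroup (Dc σ) := sb (fun c => c.a = 0 ∧ c.u = 0 ∧ c.s = 0 ∧ tr σ (m * c.r) = 0) (by simp [tr])
  (fun _ _ h h' => by simp [h, h', cr, mul_add, tr_add]) fun _ h => by simp [h, cr, tr_neg]
variable {σ} {c : Dc σ} {m : K}
theorem mZ1 : c ∈ Z1 σ ↔ c.a = 0 ∧ c.u = 0 ∧ c.s = 0 ∧ c.r = 0 ∧ c.v = 0 := Iff.rfl
theorem mZ2 : c ∈ Z2 σ ↔ c.a = 0 ∧ c.u = 0 ∧ c.s = 0 ∧ c.r = 0 := Iff.rfl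
theorem mZ3 : c ∈ Z3 σ ↔ c.a = 0 ∧ c.u = 0 ∧ c.s = 0 := Iff.rfl
theorem mZ4 : c ∈ Z4 σ ↔ c.a = 0 ∧ c.u = 0 := Iff.rfl
theorem mQ1 : c ∈ Q1 σ ↔ c.a = 0 := Iff.rfl
theorem mQ2 : c ∈ Q2 σ ↔ c.u = 0 := Iff.rfl
theorem mR2 : c ∈ R2 σ ↔ c.u = 0 ∧ c.s = 0 := Iff.rfl
theorem mZv : c ∈ Zv σ ↔ c.a = 0 ∧ c.u = 0 ∧ c.s = 0 ∧ c.r = 0 ∧ c.z = 0 := Iff.rfl
theorem mJm : c ∈ Jm σ m ↔ c.a = 0 ∧ c.u = 0 ∧ c.s = 0 ∧ tr σ (m * c.r) = 0 := Iff.rfl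

/-- the semilinear diagonal automorphism with weights `k`, `l` on the simple roots -/
@[simps] def sc (k l : K) (h : σ l = l) (φ : K ≃+* K) (c : Dc σ) : Dc σ :=
  ⟨k * φ c.a, l * φ c.u, l * k * φ c.s, l * sh σ k * φ c.r, l * nm σ k * φ c.v, l ^ 2 * nm σ k * φ c.z,
    by rw [map_mul, cm, h, c.hu], by rw [map_mul, map_mul, cm, h, c.hv, s_nm], by rw [map_mul, map_mul, cm, map_pow, h, c.hz, s_nm]⟩
/-- the Weyl element of the Levi factor `SL₂(q³)` on `Q₁` -/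
@[simps] def m1 (c : Dc σ) : Dc σ := ⟨0, c.v, -c.r, c.s, -c.u, c.z - c.u * c.v + tr σ (c.s * c.r), c.hv, by fs [c.hu],
  by fs [c.hu, c.hv, c.hz]; ring⟩
/-- the Weyl element of the Levi factor `SL₂(q)` on `Q₂` -/
@[simps] def m2 (c : Dc σ) : Dc σ := ⟨-c.s, 0, c.a, c.r - cr σ c.a c.s, tr σ (c.a * sh σ c.s) - c.z - tr σ (c.s * c.r),
  tr σ (c.s * sh σ c.a) + c.v - tr σ (c.a * c.r), map_zero σ, by fs [c.hz]; ring, by fs [c.hv]; ring⟩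
end Dc
open Dc

variable {Γ : Type*} [Group Γ] [TV σ]

/-- coordinates on `S` -/
structure Co (S : Subgroup Γ) (ev : Dc σ →* Γ) : Prop where
  inj : Function.Injective ev
  mem : ∀ w, w ∈ S ↔ ∃ c, w = ev c

namespace Co
variable {S : Subgroup Γ} {ev : Dc σ →* Γ} (h : Co S ev) {c c' : Dc σ} {w : Γ} {X Y Z : Subgroup (Dc σ)}
include h
theorem mul (c c' : Dc σ) : ev c * ev c' = ev (c * c') := (ev.map_mul c c').symm
theorem inv (c : Dc σ) : (ev c)⁻¹ = ev c⁻¹ := (ev.map_inv c).symm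
theorem eq1 : ev c = 1 ↔ c = 1 := by rw [← ev.map_one, h.inj.eq_iff]
theorem mm : ev c ∈ X.map ev ↔ c ∈ X := mem_map_iff_mem h.inj
theorem mS (c : Dc σ) : ev c ∈ S := (h.mem _).2 ⟨c, rfl⟩
theorem ex (hw : w ∈ S) : ∃ c, True ∧ ev c = w := let ⟨c, e⟩ := (h.mem w).1 hw; ⟨c, trivial, e.symm⟩
theorem le (X : Subgroup (Dc σ)) : X.map ev ≤ S := fun _ ⟨c, _, e⟩ => e ▸ h.mS c
theorem top : (⊤ : Subgroup (Dc σ)).map ev = S := le_antisymm (h.le _) fun _ hw => let ⟨c, _, e⟩ := h.ex hw; ⟨c, trivial, e⟩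
end Co

/-- translation to coordinates; `tr nm sh cr` stay folded -/
macro "dt" h:term:max "[" ls:Lean.Parser.Tactic.simpLemma,* "]" loc:(Lean.Parser.Tactic.location)? : tactic => `(tactic|
  simp only [Co.mul $h, Co.inv $h, Co.eq1 $h, (Co.inj $h).eq_iff, Co.mm $h, Co.mS $h, Subgroup.mem_bot, Subgroup.mem_top, SetLike.mem_coe,
  Dc.ext_iff, Dc.mZ1, Dc.mZ2, Dc.mZ3, Dc.mZ4, Dc.mQ1, Dc.mQ2, Dc.mR2, Dc.mZv, Dc.mJm, Dc.mem_sb,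
  Dc.mul_a, Dc.mul_u, Dc.mul_s, Dc.mul_r, Dc.mul_v, Dc.mul_z, Dc.inv_a, Dc.inv_u, Dc.inv_s, Dc.inv_r, Dc.inv_v, Dc.inv_z,
  Dc.one_a, Dc.one_u, Dc.one_s, Dc.one_r, Dc.one_v, Dc.one_z, Dc.el_a, Dc.el_u, Dc.el_s, Dc.el_r, Dc.el_v, Dc.el_z,
  Dc.xa_a, Dc.xa_u, Dc.xa_s, Dc.xa_r, Dc.xa_v, Dc.xa_z, Dc.xu_a, Dc.xu_u, Dc.xu_s, Dc.xu_r, Dc.xu_v, Dc.xu_z,
  Dc.xs_a, Dc.xs_u, Dc.xs_s, Dc.xs_r, Dc.xs_v, Dc.xs_z, Dc.xr_a, Dc.xr_u, Dc.xr_s, Dc.xr_r, Dc.xr_v, Dc.xr_z,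
  Dc.xv_a, Dc.xv_u, Dc.xv_s, Dc.xv_r, Dc.xv_v, Dc.xv_z, Dc.xz_a, Dc.xz_u, Dc.xz_s, Dc.xz_r, Dc.xz_v, Dc.xz_z,
  Dc.sc_a, Dc.sc_u, Dc.sc_s, Dc.sc_r, Dc.sc_v, Dc.sc_z, Dc.m1_a, Dc.m1_u, Dc.m1_s, Dc.m1_r, Dc.m1_v, Dc.m1_z,
  Dc.m2_a, Dc.m2_u, Dc.m2_s, Dc.m2_r, Dc.m2_v, Dc.m2_z, RingEquiv.refl_apply,
  mul_zero, zero_mul, add_zero, zero_add, sub_zero, neg_zero, mul_one, one_mul, sub_self, add_neg_cancel, neg_add_cancel,
  and_self, and_true, true_and, $ls,*] $[$loc]?)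
/-- translation to coordinates with `tr nm sh cr` unfolded and `σ` pushed to the atoms -/
macro "ds" h:term:max "[" ls:Lean.Parser.Tactic.simpLemma,* "]" loc:(Lean.Parser.Tactic.location)? : tactic => `(tactic|
  dt $h [tr, nm, sh, cr, s3, cm, Dc.hu, Dc.hv, Dc.hz, RingHom.map_add, RingHom.map_mul, RingHom.map_sub, RingHom.map_neg,
    RingHom.map_zero, RingHom.map_one, RingHom.map_pow, $ls,*] $[$loc]?)
/-- coordinates of an element of `S` or of a pattern subgroup -/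
macro "db" h:term:max hx:ident c:ident hc:ident : tactic => `(tactic| (
  first | obtain ⟨$c:ident, -, e⟩ := Co.ex $h $hx | obtain ⟨$c:ident, $hc:ident, e⟩ := $hx
  subst e))
/-- inclusions between pattern subgroups -/
macro "dl" h:term:max : tactic => `(tactic| (intro x hx; db $h hx c hc; ds $h [] at hc ⊢; ds $h [hc]))
/-- commutator relations between pattern subgroups -/
macro "dc" h:term:max : tactic => `(tactic| (
  intro x hx y hy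
  db $h hx c hc
  db $h hy c' hc'
  try ds $h [] at hc
  try ds $h [] at hc'
  first | ds $h [hc, hc'] | ds $h [hc'] | ds $h [hc] | ds $h []
  all_goals cg))

namespace Dc
/-- commutators: `cm c d = c d c⁻¹ d⁻¹` -/
theorem cm_a (c d : Dc σ) : (c * d * c⁻¹ * d⁻¹).a = 0 := by simp
theorem cm_u (c d : Dc σ) : (c * d * c⁻¹ * d⁻¹).u = 0 := by simp
theorem cm_s (c d : Dc σ) : (c * d * c⁻¹ * d⁻¹).s = d.a * c.u - c.a * d.u := by simp; ring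
/-- inside `Q₂` -/
theorem cm_r {c d : Dc σ} (h : c.u = 0) (h' : d.u = 0) : (c * d * c⁻¹ * d⁻¹).r = cr σ d.a c.s - cr σ c.a d.s := by
  simp only [mul_a, mul_u, mul_s, mul_r, inv_a, inv_u, inv_s, inv_r, h, h']; fs []; ring
/-- with an element of `Z₄` -/
theorem cm4_r (c : Dc σ) {d : Dc σ} (h : d.a = 0) (h' : d.u = 0) : (c * d * c⁻¹ * d⁻¹).r = -cr σ c.a d.s := by
  simp only [mul_a, mul_u, mul_s, mul_r, inv_a, inv_u, inv_s, inv_r, h, h']; fs [c.hu]; ring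
theorem cm4_v (c : Dc σ) {d : Dc σ} (h : d.a = 0) (h' : d.u = 0) :
    (c * d * c⁻¹ * d⁻¹).v = tr σ (sh σ c.a * d.s) - tr σ (c.a * d.r) := by
  simp only [mul_a, mul_u, mul_s, mul_r, mul_v, inv_a, inv_u, inv_s, inv_r, inv_v, h, h']; fs [c.hu]; ring
/-- with an element of `Z₃` -/
theorem cm3_z (c : Dc σ) {d : Dc σ} (h : d.a = 0) (h' : d.u = 0) (h'' : d.s = 0) :
    (c * d * c⁻¹ * d⁻¹).z = c.u * d.v - tr σ (c.s * d.r) := by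
  simp only [mul_a, mul_u, mul_s, mul_r, mul_v, mul_z, inv_a, inv_u, inv_s, inv_r, inv_v, inv_z, h, h', h'']; fs [c.hu]; ring
/-- inside `Q₁` -/
theorem cm1_z {c d : Dc σ} (h : c.a = 0) (h' : d.a = 0) :
    (c * d * c⁻¹ * d⁻¹).z = c.u * d.v - d.u * c.v - tr σ (c.s * d.r) + tr σ (d.s * c.r) := by
  simp only [mul_a, mul_u, mul_s, mul_r, mul_v, mul_z, inv_a, inv_u, inv_s, inv_r, inv_v, inv_z, h, h']; fs [c.hu, d.hu]; ring
end Dc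

namespace Co
variable {S : Subgroup Γ} {ev : Dc σ →* Γ} (h : Co S ev) {w x : Γ}
include h
theorem cSS : CC S S ((Z4 σ).map ev) := by dc h
theorem cS4 : CC S ((Z4 σ).map ev) ((Z3 σ).map ev) := by dc h
theorem cS3 : CC S ((Z3 σ).map ev) ((Z2 σ).map ev) := by dc h
theorem cS2 : CC S ((Z2 σ).map ev) ((Z1 σ).map ev) := by dc h
theorem cS1 : CC S ((Z1 σ).map ev) ⊥ := by dc h
theorem c11 : CC ((Q1 σ).map ev) ((Q1 σ).map ev) ((Z1 σ).map ev) := by dc h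
theorem c22 : CC ((Q2 σ).map ev) ((Q2 σ).map ev) ((Z3 σ).map ev) := by dc h
theorem c2Z : CC ((Q2 σ).map ev) ((Z2 σ).map ev) ⊥ := by dc h
theorem c33 : CC ((Z3 σ).map ev) ((Z3 σ).map ev) ⊥ := by dc h
theorem cRR : CC ((R2 σ).map ev) ((R2 σ).map ev) ((Zv σ).map ev) := by dc h
theorem l12 : (Z1 σ).map ev ≤ (Z2 σ).map ev := by dl h
theorem l23 : (Z2 σ).map ev ≤ (Z3 σ).map ev := by dl h
theorem l34 : (Z3 σ).map ev ≤ (Z4 σ).map ev := by dl h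
theorem l41 : (Z4 σ).map ev ≤ (Q1 σ).map ev := by dl h
theorem l42 : (Z4 σ).map ev ≤ (Q2 σ).map ev := by dl h
theorem l3R : (Z3 σ).map ev ≤ (R2 σ).map ev := by dl h
theorem lR2 : (R2 σ).map ev ≤ (Q2 σ).map ev := by dl h
theorem lv2 : (Zv σ).map ev ≤ (Z2 σ).map ev := by dl h
variable {p : ℕ} [CharP K p]
theorem pwS (hw : w ∈ S) : w ^ p ∈ (Z4 σ).map ev := by
  db h hw c hc
  exact ev.map_pow c p ▸ h.mm.2 ⟨pw_add Dc.a (fun _ _ _ _ => rfl) (mem_top c), pw_add Dc.u (fun _ _ _ _ => rfl) (mem_top c)⟩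
theorem pw2 (hw : w ∈ (Q2 σ).map ev) : w ^ p ∈ (Z3 σ).map ev := by
  db h hw c hc
  exact ev.map_pow c p ▸ h.mm.2 ⟨pw_add Dc.a (fun _ _ _ _ => rfl) hc, pw_add Dc.u (fun _ _ _ _ => rfl) hc,
    pw_add Dc.s (fun _ k _ _ => by simp [mQ2.1 k]) hc⟩
theorem pw1 (hw : w ∈ (Q1 σ).map ev) : w ^ p ∈ (Z1 σ).map ev := by
  db h hw c hc
  exact ev.map_pow c p ▸ h.mm.2 ⟨pw_add Dc.a (fun _ _ _ _ => rfl) hc, pw_add Dc.u (fun _ _ _ _ => rfl) hc,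
    pw_add Dc.s (fun _ _ _ k => by simp [mQ1.1 k]) hc, pw_add Dc.r (fun _ _ _ k => by simp [mQ1.1 k, cr, sh]) hc,
    pw_add Dc.v (fun _ _ _ k => by simp [mQ1.1 k, tr, sh, nm]) hc⟩
theorem pw3 (hw : w ∈ (Z3 σ).map ev) : w ^ p = 1 := by
  have k := h.pw1 (p := p) (h.l41 (h.l34 hw))
  db h hw c hc
  rw [← ev.map_pow, h.mm] at k
  rw [← ev.map_pow, h.eq1]
  exact Dc.ext k.1 k.2.1 k.2.2.1 k.2.2.2.1 k.2.2.2.2 (pw_add Dc.z (fun _ k _ k' => by simp [mZ3.1 k, mZ3.1 k', tr]) hc)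
/-- the key lemma `L1` -/
theorem l1 [hp : Fact p.Prime] (h1 : x ∈ S) (h2 : x ∉ (Q1 σ).map ev) (h3 : w ∈ (Q1 σ).map ev) (h4 : w ^ p = 1)
    (h5 : x * w * x⁻¹ * w⁻¹ ∈ (Z1 σ).map ev) : w ∈ (Z3 σ).map ev := by
  db h h1 c hc
  db h h3 d hd
  rw [h.mm, mQ1] at h2
  rw [h.inv, h.inv, h.mul, h.mul, h.mul, h.mm] at h5
  obtain ⟨-, -, k1, k2, k3⟩ := h5
  have u0 : d.u = 0 := by rw [cm_s, mQ1.1 hd] at k1; simpa [h2] using k1
  rw [cm4_r c hd u0, neg_eq_zero] at k2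
  rw [cm4_v c hd u0] at k3
  refine h.mm.2 ⟨hd, u0, (cr0 h2 k2).elim id fun ⟨t, e, he, k⟩ => cr00 h2 k2 ?_⟩
  obtain rfl : p = 2 := (Nat.prime_dvd_prime_iff_eq hp.out Nat.prime_two).1 ((CharP.cast_eq_zero_iff K p 2).1 (by simpa using t))
  rw [pow_two] at h4
  have k4 : tr σ (d.s * d.r) = 0 := by dt h [mQ1.1 hd, u0] at h4; fs [] at h4 ⊢; linear_combination d.z * t - h4.2.2.2
  rw [k, mul_assoc, tr_sm he] at k4
  rcases mul_eq_zero.1 k4 with e0 | e0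
  · rw [k, e0, zero_mul, mul_zero, tr_zero]
  · linear_combination k3 + e0
end Co

end H29.TD
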