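/-
Fusion systems on a Sylow `p`-subgroup of `³D₄(q)`, part 2: the interface.
-/
import Cfsg.Agent.H29.TD1
import Cfsg.Prelude.Def_LieTwisted

set_option autoImplicit false
set_option linter.unusedSectionVars false
set_option linter.unusedSimpArgs false

namespace H29.TD
open Subgroup H25 H8.PU Dc
universe u v
variable {K : Type v} [Field K] {σ : K →+* K} [TV σ] {Γ : Type u} [Group Γ]

/-- the conclusions of the failure-of-factorization lemma for the section `X / Y` of `P` -/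
structure F1 (p : ℕ) (S P A B X Y C : Subgroup Γ) : Prop where
  nm : ∀ t ∈ S, t ∈ nz P → ∃ b ∈ B, b⁻¹ * t ∈ P
  eq : C.relIndex X = P.relIndex B
  fx : ∀ t ∈ S, t ∈ nz P → t ∉ P → ∀ x ∈ X, t * x * t⁻¹ * x⁻¹ ∈ Y → x ∈ C
  nv : ∀ Y0, Y ≤ Y0 → Y0 ≤ X → A ≤ nz Y0 → CC (S ⊓ nz P) Y0 Y → ∀ t ∈ S, t ∈ nz P → ∀ x ∈ X,
    t * x * t⁻¹ * x⁻¹ ∈ Y0 → t * x * t⁻¹ * x⁻¹ ∈ Y
  qd : p ≠ 2 → ∀ Y0, Y0 ≤ Y → A ≤ nz Y0 → CC P X Y0 → (∀ x ∈ X, x ^ p ∈ Y0) → CC (S ⊓ nz P) Y Y0 →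
    ∀ t ∈ S, t ∈ nz P → ∀ t' ∈ S, t' ∈ nz P → ∀ x ∈ X,
      t' * (t * x * t⁻¹ * x⁻¹) * t'⁻¹ * (t * x * t⁻¹ * x⁻¹)⁻¹ ∈ Y0

/-- `τ` acts as the semilinear diagonal automorphism with weights `k`, `l` on the simple roots -/
structure Wt (ev : Dc σ →* Γ) (τ : Γ) (k l : K) (φ : K ≃+* K) : Prop where
  k0 : k ≠ 0
  l0 : l ≠ 0
  hl : σ l = l
  cj : ∀ c, τ * ev c * τ⁻¹ = ev (sc k l hl φ c)
/-- `g` acts on `S / Z₄` with weights `k`, `l` -/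
def Ac (ev : Dc σ →* Γ) (g : Γ) (k l : K) (φ : K ≃+* K) : Prop :=
  ∀ c c', g * ev c * g⁻¹ = ev c' → c'.a = k * φ c.a ∧ c'.u = l * φ c.u
/-- `g` acts on `Q₁ / Z₁` as the Weyl element -/
def Ac1 (ev : Dc σ →* Γ) (g : Γ) : Prop :=
  ∀ c c', c.a = 0 → g * ev c * g⁻¹ = ev c' → c'.u = c.v ∧ c'.s = -c.r ∧ c'.r = c.s ∧ c'.v = -c.u
/-- `g` acts on `Q₂ / Z₃` by the matrix `(α β; γ δ)` -/
def Ac2 (ev : Dc σ →* Γ) (g : Γ) (α β γ δ : K) : Prop :=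
  ∀ c c', c.u = 0 → g * ev c * g⁻¹ = ev c' → c'.a = α * c.a + β * c.s ∧ c'.s = γ * c.a + δ * c.s
/-- the Weyl elements -/
structure Wy (ev : Dc σ →* Γ) (M1 M2 : Γ) : Prop where
  f1 : ∀ c : Dc σ, c.a = 0 → M1 * ev c * M1⁻¹ = ev (m1 c)
  f2 : ∀ c : Dc σ, c.u = 0 → M2 * ev c * M2⁻¹ = ev (m2 c)
/-- the model: `L = ³D₄(q)`, `C0` the semilinear diagonal group -/
structure Md (p : ℕ) (S : Subgroup Γ) (ev : Dc σ →* Γ) (L C0 : Subgroup Γ) (M1 M2 : Γ) : Prop extends Co S ev, Wy ev M1 M2 where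
  pg : IsPGroup p S
  syl : Syl p S L
  CL : C0 ≤ nz L
  wt : ∀ τ ∈ C0, ∃ k l φ, Wt ev τ k l φ
  ex' : ∀ k l φ, k ≠ 0 → l ≠ 0 → σ l = l → ∃ τ ∈ C0, Wt ev τ k l φ
  fa : ∀ τ ∈ C0, Wt ev τ 1 1 (.refl K) → τ = 1
  nl : ∀ g ∈ L, g ∈ nz S → ∃ s ∈ S, ∃ τ k l, Wt ev τ k l (.refl K) ∧ g = s * τ
  M1L : M1 ∈ L
  M2L : M2 ∈ L

/-! linear algebra on `V = Q₁ / Z₁`, coordinates `(u, s, r, v)` -/
variable (σ) in
abbrev V := Fx σ × K × K × Fx σ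
variable (σ) in
abbrev AV := V σ ≃ₗ[Fx σ] V σ
instance [Finite K] : Finite (AV σ) := Finite.of_injective (fun g : AV σ => (g : V σ → V σ)) DFunLike.coe_injective
theorem V.ext {x y : V σ} (h1 : (x.1 : K) = y.1) (h2 : x.2.1 = y.2.1) (h3 : x.2.2.1 = y.2.2.1) (h4 : (x.2.2.2 : K) = y.2.2.2) :
    x = y := Prod.ext (Subtype.ext h1) (Prod.ext h2 (Prod.ext h3 (Subtype.ext h4)))
theorem V.iff {x y : V σ} : x = y ↔ (x.1 : K) = y.1 ∧ x.2.1 = y.2.1 ∧ x.2.2.1 = y.2.2.1 ∧ (x.2.2.2 : K) = y.2.2.2 :=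
  ⟨fun h => by simp [h], fun h => V.ext h.1 h.2.1 h.2.2.1 h.2.2.2⟩
theorem fsm (c : Fx σ) (x : K) : c • x = c * x := rfl
/-- the underlying function of `tv` -/
def tf' (τ : K) (x : V σ) : V σ := (x.1, x.2.1 + τ * x.1, x.2.2.1 + cr σ τ x.2.1 + sh σ τ * x.1,
  ⟨x.2.2.2 + tr σ (τ * x.2.2.1) + tr σ (sh σ τ * x.2.1) + nm σ τ * x.1, by rw [mFx]; fs []; ring⟩)
/-- normalization of vector expressions -/
macro "vs" "[" ls:Lean.Parser.Tactic.simpLemma,* "]" loc:(Lean.Parser.Tactic.location)? : tactic => `(tactic|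
  fs [V.iff, tf', fsm, Prod.fst_add, Prod.snd_add, Prod.fst_sub, Prod.snd_sub, Prod.fst_neg, Prod.snd_neg, Prod.smul_fst,
    Prod.smul_snd, Prod.fst_zero, Prod.snd_zero, smul_eq_mul, Subfield.coe_add, Subfield.coe_mul, Subfield.coe_sub,
    Subfield.coe_neg, Subfield.coe_zero, Subfield.coe_one, Subfield.coe_inv, Subfield.coe_div, mul_zero, zero_mul, add_zero, zero_add,
    sub_zero, neg_zero, mul_one, one_mul, and_self, and_true, true_and, $ls,*] $[$loc]?)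
/-- the action of `x_a(τ)⁻¹` on `Q₁ / Z₁` -/
def tv (τ : K) : AV σ where
  toFun := tf' τ
  invFun := tf' (-τ)
  map_add' x y := by vs []; cg
  map_smul' c x := by vs [RingHom.id_apply]; cg
  left_inv x := by vs []; cg
  right_inv x := by vs []; cg
theorem tv_ap (τ : K) (x : V σ) : tv τ x = tf' τ x := rfl
theorem mul_ap (g g' : AV σ) (x : V σ) : (g * g') x = g (g' x) := rfl
theorem one_ap (x : V σ) : (1 : AV σ) x = x := rfl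
theorem inv_ap (g : AV σ) (x : V σ) : g⁻¹ (g x) = x := g.symm_apply_apply x
theorem ap_inv (g : AV σ) (x : V σ) : g (g⁻¹ x) = x := g.apply_symm_apply x
theorem tv_add (τ τ' : K) : (tv (τ + τ') : AV σ) = tv τ * tv τ' := LinearEquiv.ext fun x => by vs [mul_ap, tv_ap]; cg
theorem tv_zero : (tv 0 : AV σ) = 1 := LinearEquiv.ext fun x => by vs [one_ap, tv_ap]
theorem tv_inv (τ : K) : (tv τ : AV σ)⁻¹ = tv (-τ) := inv_eq_of_mul_eq_one_right (by rw [← tv_add, add_neg_cancel, tv_zero])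
theorem tv_inj {τ τ' : K} (h : (tv τ : AV σ) = tv τ') : τ = τ' := by
  simpa [tv_ap, tf'] using congrArg (fun g : AV σ => (g (1, 0, 0, 0)).2.1) h
/-- the Weyl element -/
def n1 : AV σ where
  toFun x := (x.2.2.2, -x.2.2.1, x.2.1, -x.1)
  invFun x := (-x.2.2.2, x.2.2.1, -x.2.1, x.1)
  map_add' x y := by vs []; cg
  map_smul' c x := by vs [RingHom.id_apply]; cg
  left_inv x := by simp
  right_inv x := by simp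
theorem n1_ap (x : V σ) : n1 x = (x.2.2.2, -x.2.2.1, x.2.1, -x.1) := rfl
theorem n1_inv_ap (x : V σ) : n1⁻¹ x = (-x.2.2.2, x.2.2.1, -x.2.1, x.1) := rfl
/-- the highest weight vector -/
def e0 : V σ := (0, 0, 0, 1)
/-- the symplectic form and the quadratic form (`p = 2`) -/
def om (x y : V σ) : K := x.1 * y.2.2.2 - y.1 * x.2.2.2 - tr σ (x.2.1 * y.2.2.1) + tr σ (y.2.1 * x.2.2.1)
def qf (x : V σ) : K := x.1 * x.2.2.2 - tr σ (x.2.1 * x.2.2.1)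
/-- `g` is diagonal times a field automorphism -/
def Dg (g : AV σ) (k l : K) (φ : K ≃+* K) : Prop := ∀ x, ((g x).1 : K) = l * φ x.1 ∧ (g x).2.1 = l * k * φ x.2.1 ∧
  (g x).2.2.1 = l * sh σ k * φ x.2.2.1 ∧ ((g x).2.2.2 : K) = l * nm σ k * φ x.2.2.2
/-- `g` fixes the point spanned by `x` -/
def Fi (g : AV σ) (x : V σ) : Prop := ∃ c : Fx σ, g x = c • x
/-- `g` fixes the point `∞` -/
abbrev Bo (g : AV σ) : Prop := Fi g e0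
variable (σ) in
/-- the image of `S` -/
def TT : Subgroup (AV σ) where
  carrier := {g | ∃ τ, g = tv τ}
  one_mem' := ⟨0, tv_zero.symm⟩
  mul_mem' := by rintro _ _ ⟨a, rfl⟩ ⟨b, rfl⟩; exact ⟨_, (tv_add a b).symm⟩
  inv_mem' := by rintro _ ⟨a, rfl⟩; exact ⟨_, tv_inv a⟩
theorem mTT {g : AV σ} : g ∈ TT σ ↔ ∃ τ, g = tv τ := Iff.rfl
theorem om_tv (τ : K) (x y : V σ) : om (tv τ x) (tv τ y) = om x y := by vs [om, tv_ap]; ring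
theorem Dg.fix {g : AV σ} {k l c : K} {φ : K ≃+* K} (h : Dg g k l φ) (hl : l ≠ 0) (hc : σ c = c) : φ c = c := by
  have e := (h ((⟨c, hc⟩ : Fx σ) • (1, 0, 0, 0))).1
  rw [map_smul] at e
  vs [(h _).1] at e
  exact (mul_left_cancel₀ hl (e.symm.trans (mul_comm _ _)))
theorem Dg.cj {g : AV σ} {k l : K} {φ : K ≃+* K} (h : Dg g k l φ) (hl : σ l = l) (τ : K) : g * tv τ = tv (k * φ τ) * g :=
  LinearEquiv.ext fun x => by vs [mul_ap, tv_ap, h _, hl]; cg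

/-- the image in `GL(V)` of the subgroup of the automizer of `Q₁` acting on `Z₁` by `±1` -/
structure LH (p : ℕ) (G : Subgroup (AV σ)) : Prop where
  syl : Syl p (TT σ) G
  fm : ∀ g ∈ G, ∃ μ : K, σ μ = μ ∧ ∀ x y, om (g x) (g y) = μ * om x y
  sq : p = 2 → ∀ g ∈ G, ∀ x, qf x = 0 → qf (g x) = 0
  bor : ∀ g ∈ G, Bo g → ∃ τ k l φ, k ≠ 0 ∧ l ≠ 0 ∧ σ l = l ∧ Dg ((tv τ)⁻¹ * g) k l φ
  ti : ∀ g ∈ G, ∀ τ, τ ≠ 0 → g * tv τ * g⁻¹ ∈ TT σ → Bo g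
  ne : ∃ g ∈ G, ¬ Bo g
  tt : ∃ g ∈ G, Dg g (-1) 1 (.refl K)
/-- no element of `T^#` fixes a second point -/
def Fr (G : Subgroup (AV σ)) : Prop := ∀ g ∈ G, ∀ τ, τ ≠ 0 → Fi (tv τ) (g e0) → Bo g
/-- distinct points are opposite -/
def Opp (G : Subgroup (AV σ)) : Prop := ∀ g ∈ G, ¬ Bo g → (g e0).1 ≠ 0
/-- the points are `∞` and the `T`-orbit of `x₀` -/
def Tr2 (G : Subgroup (AV σ)) (x0 : V σ) : Prop := x0.1 = 1 ∧ x0.2.1 = 0 ∧ (∃ g ∈ G, ∃ c : Fx σ, g e0 = c • x0) ∧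
  ∀ g ∈ G, Bo g ∨ ∃ τ, ∃ c : Fx σ, g e0 = c • tv τ x0
/-- involutions interchanging `∞` and `x₀` with a prescribed fixed point and at most two fixed points -/
def JJ (G : Subgroup (AV σ)) (x0 : V σ) : Prop := ∀ τ, τ ≠ 0 → ∃ j ∈ G, j * j = 1 ∧ (∃ c : Fx σ, j e0 = c • x0) ∧
  Fi j (tv τ x0) ∧ ∃ τ', ∀ τ'', Fi j (tv τ'' x0) → τ'' = τ ∨ τ'' = τ'
/-- a diagonal element in general position -/
def KK (G : Subgroup (AV σ)) : Prop := ∃ g ∈ G, ∃ k l, k ≠ 0 ∧ l ≠ 0 ∧ σ l = l ∧ σ (k ^ 3) ≠ k ^ 3 ∧ Dg g k l (.refl K)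
/-- `G` contains `SL₂(q³)` and has the standard points -/
def Su (G : Subgroup (AV σ)) : Prop := (∀ ν, ν ≠ 0 → ∃ g ∈ G, Dg g (ν ^ 2) (nm σ ν)⁻¹ (.refl K)) ∧ n1 ∈ G ∧
  ∀ g ∈ G, Bo g ∨ ∃ τ, Bo (n1 * tv τ * g)

/-! the chunks; standing instances `[Finite K] [Finite Γ] [Fact p.Prime] [CharP K p] [TV σ]` -/
section chunks
variable (σ Γ) (p : ℕ) [Finite Γ]
def FF1 : Prop := ∀ (S P A B X Y C : Subgroup Γ) (l1 l2 : List (Subgroup Γ)), Es p S P A → Gen S P A → B ≤ S → B ≤ nz P →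
  CC B B P → (∀ b ∈ B, b ^ p ∈ P) → Y ≤ C → C ≤ X → X ≤ P → A ≤ nz X → A ≤ nz Y → CC P X Y → (∀ x ∈ X, x ^ p ∈ Y) →
  CC B C Y → C.relIndex X ≤ P.relIndex B → Al P A l1 → Al P A l2 →
  (∃ b ∈ B, b ∉ P ∧ Ch b X P l1 ∧ Ch b (fr P) Y l2) → F1 p S P A B X Y C
def T2 : Prop := ∀ S P A : Subgroup Γ, Es 2 S P A → S ≤ nz P → CC S S P → (∀ s ∈ S, s ^ 2 ∈ P) →
  ∀ u ∈ S, u ∉ P → ∀ u' ∈ S, u' ∉ P → ∃ g ∈ A, g ∈ nz (ai S P) ∧ u'⁻¹ * (g * u * g⁻¹) ∈ ai P P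
def EA : Prop := ∀ (S P A : Subgroup Γ) (ev : Dc σ →* Γ), Co S ev → Es p S P A → Gen S P A → (Z2 σ).map ev ≤ P
def EB : Prop := ∀ (S P A : Subgroup Γ) (ev : Dc σ →* Γ), Co S ev → Es p S P A → Gen S P A → (Z2 σ).map ev ≤ P →
  P ≤ (Q2 σ).map ev → (Z3 σ).map ev ≤ P
def EC : Prop := ∀ (S P A : Subgroup Γ) (ev : Dc σ →* Γ), Co S ev → Es p S P A → Gen S P A → (Z2 σ).map ev ≤ P →
  ¬ P ≤ (Q2 σ).map ev → (Z3 σ).map ev ≤ P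
def ED : Prop := ∀ (S P A : Subgroup Γ) (ev : Dc σ →* Γ), Co S ev → Es p S P A → Gen S P A → (Z3 σ).map ev ≤ P →
  P ≤ (Q1 σ).map ev → P = (Q1 σ).map ev
def EE1 : Prop := ∀ (S P A : Subgroup Γ) (ev : Dc σ →* Γ), Co S ev → Es p S P A → Gen S P A → (Z3 σ).map ev ≤ P →
  P ≤ (Q2 σ).map ev → ¬ P ≤ (Q1 σ).map ev → (Z2 σ).map ev ≤ fr P
def EE2 : Prop := ∀ (S P A : Subgroup Γ) (ev : Dc σ →* Γ), Co S ev → Es p S P A → Gen S P A → (Z3 σ).map ev ≤ P →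
  P ≤ (Q2 σ).map ev → ¬ P ≤ (Q1 σ).map ev → (Z2 σ).map ev ≤ fr P → P = (Q2 σ).map ev
def EF : Prop := ∀ (S P A : Subgroup Γ) (ev : Dc σ →* Γ), Co S ev → Es p S P A → (Z3 σ).map ev ≤ P →
  P ≤ (Q1 σ).map ev ∨ P ≤ (Q2 σ).map ev
def AU : Prop := 2 < Nat.card (Fx σ) → ∀ (S : Subgroup Γ) (ev : Dc σ →* Γ), Co S ev → ∀ g ∈ nz S,
  ∃ k l φ, k ≠ 0 ∧ l ≠ 0 ∧ σ l = l ∧ Ac ev g k l φ
def AU2 : Prop := Nat.card (Fx σ) = 2 → ∀ (S B : Subgroup Γ) (ev : Dc σ →* Γ), Co S ev → B ≤ nz S → Syl 2 (ai S S) B →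
  (∀ k, k ≠ 0 → ∃ τ, Wt ev τ k 1 (.refl K)) → (∀ a a', a ≠ 0 → a' ≠ 0 → ∃ g ∈ B, ∃ c', g * ev (xa a) * g⁻¹ = ev c' ∧ c'.a = a') →
  ∃ γ ∈ nz S, ∀ g ∈ B, ∃ k φ, k ≠ 0 ∧ Ac ev (γ * g * γ⁻¹) k 1 φ
def BO1 : Prop := ∀ (S A : Subgroup Γ) (ev : Dc σ →* Γ), Co S ev → Es p S ((Q1 σ).map ev) A →
  TI S ((Q1 σ).map ev) A (A ⊓ nz (ai S ((Q1 σ).map ev))) → ∀ g ∈ A, g ∈ nz ((Z2 σ).map ev) → g ∈ nz (ai S ((Q1 σ).map ev))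
def G2 : Prop := ∀ (S : Subgroup Γ) (ev : Dc σ →* Γ) (M1 M2 : Γ), Co S ev → Wy ev M1 M2 → ∀ g ∈ nz ((Q2 σ).map ev),
  g ∈ nz ((Z4 σ).map ev) ∨ ∃ u ∈ S, M2 * u * g ∈ nz ((Z4 σ).map ev)
def S2 : Prop := ∀ (S A : Subgroup Γ) (ev : Dc σ →* Γ) (M1 M2 : Γ), Co S ev → Wy ev M1 M2 → Es p S ((Q2 σ).map ev) A →
  (∀ l, l ≠ 0 → σ l = l → ∃ g ∈ A, Ac2 ev g l⁻¹ 0 0 l) ∧ ∃ g ∈ A, Ac2 ev g 0 (-1) 1 0
def N2 : Prop := ∀ (S A : Subgroup Γ) (ev : Dc σ →* Γ) (M1 M2 : Γ), Co S ev → Wy ev M1 M2 → Es p S ((Q2 σ).map ev) A →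
  (∀ k, k ≠ 0 → ∃ τ ∈ A, Wt ev τ k 1 (.refl K)) → (∃ g ∈ A, Ac2 ev g 0 (-1) 1 0) → M2 ∈ A
def N1 : Prop := ∀ (S A : Subgroup Γ) (ev : Dc σ →* Γ) (M1 M2 : Γ), Co S ev → Wy ev M1 M2 → Es p S ((Q1 σ).map ev) A →
  (∀ k l, k ≠ 0 → l ≠ 0 → σ l = l → ∃ τ ∈ A, Wt ev τ k l (.refl K)) → (∃ g ∈ A, Ac1 ev g) → M1 ∈ A
def L0 : Prop := ∀ G : Subgroup (AV σ), LH p G → Fr G
def L1a : Prop := p = 2 → ∀ G : Subgroup (AV σ), LH p G → Fr G → Opp G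
def L1b : Prop := p ≠ 2 → ∀ G : Subgroup (AV σ), LH p G → Fr G → Opp G
def L2 : Prop := ∀ G : Subgroup (AV σ), LH p G → Opp G → ∃ x0, Tr2 G x0
def L3a : Prop := ∀ (G : Subgroup (AV σ)) x0, LH p G → Tr2 G x0 → JJ G x0
def L3b : Prop := ∀ (G : Subgroup (AV σ)) x0, LH p G → Tr2 G x0 → JJ G x0 → KK G
def L3c : Prop := ∀ (G : Subgroup (AV σ)) x0, LH p G → Tr2 G x0 → JJ G x0 → KK G → Su G
def TR : Prop := (∀ G : Subgroup (AV σ), LH p G → Su G) → ∀ (S A D : Subgroup Γ) (ev : Dc σ →* Γ) (M1 M2 : Γ), Co S ev →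
  Wy ev M1 M2 → Es p S ((Q1 σ).map ev) A → TI S ((Q1 σ).map ev) A (A ⊓ nz (ai S ((Q1 σ).map ev))) →
  (∀ g ∈ A, g ∈ nz ((Z2 σ).map ev) → ∃ u ∈ S, ∃ τ ∈ D, ∃ k l φ, Wt ev τ k l φ ∧ Agree ((Q1 σ).map ev) g (u * τ)) →
  (∃ τ ∈ A, Wt ev τ (-1) 1 (.refl K)) →
  (∀ ν, ν ≠ 0 → ∃ τ ∈ D, Wt ev τ (ν ^ 2) (nm σ ν)⁻¹ (.refl K)) ∧ (∃ g ∈ A, Ac1 ev g) ∧
    ∀ g ∈ A, g ∈ nz ((Z2 σ).map ev) ∨ ∃ u ∈ S, M1 * u * g ∈ nz ((Z2 σ).map ev)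
def MD : Prop := ∃ (G : Type v) (_ : Group G) (_ : Finite G) (ev : Dc σ →* G) (L C0 : Subgroup G) (M1 M2 : G),
  Md p ev.range ev L C0 M1 M2
end chunks
def SY : Prop := ∀ (K : Type v) [Field K] [Fintype K] (p : ℕ) [Fact p.Prime] [CharP K p] (n : ℕ), 1 ≤ n →
  Fintype.card K = (p ^ n) ^ 3 → ∃ (σ : K →+* K) (_ : TV σ), ∀ T : Sylow p (Cfsg.Lie.twistedD4 K (p ^ n)),
    Nonempty (Dc σ ≃* (T : Subgroup (Cfsg.Lie.twistedD4 K (p ^ n))))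

end H29.TD
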