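/-
Fusion systems on a Sylow `p`-subgroup of `³D₄(q)`, part 5: the failure-of-factorization lemma for sections.
-/
import Cfsg.Agent.H29.TD2
import Cfsg.Agent.H8.PU5

set_option autoImplicit false
set_option linter.unusedSectionVars false

namespace H29.TD
open Subgroup H25 H25.FS Cfsg H29.Rp H29.PU H8.PU MatrixGroups Matrix
universe u
variable {p : ℕ} [hp : Fact p.Prime] {Γ : Type u} [Group Γ] [Finite Γ] {S P A B H X Y : Subgroup Γ} {g u : Γ}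

theorem kk_append (B X : Subgroup Γ) (l1 l2 : List (Subgroup Γ)) (P : Subgroup Γ) :
    kk B P (l1 ++ X :: l2) = kk X P l1 ⊓ kk B X l2 := by
  induction l1 generalizing P with
  | nil => rfl
  | cons Y l ih => exact (congrArg (stab P Y ⊓ ·) (ih Y)).trans (inf_assoc _ _ _).symm
theorem al_append {l1 l2 : List (Subgroup Γ)} (h1 : Al P A l1) (h2 : Al P A l2) : Al P A (l1 ++ l2) := by
  induction l1 with
  | nil => exact h2
  | cons Y l ih => exact ⟨h1.1, ih h1.2⟩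
theorem ti_of (e : Au p S P A) (h : TI S P A H) (hg : g ∈ A) (h1 : u ∈ ai S P) (h2 : u ∉ ai P P) (h3 : g * u * g⁻¹ ∈ H) : g ∈ H := by
  obtain ⟨k, hk, c⟩ := (e.syl.mono_right h.le h.XA).exists_cj_le_of_pel (cz_le_ai _ _) (h.XA.trans e.Ac)
    (PEl.zpowers (mem_nz.1 (e.Ac hg) ▸ (pel_ai e.pg u h1).conj g)) (zpowers_le.2 h3)
  exact (mul_mem_cancel_left hk).1 (h.ti _ (mul_mem (h.XA hk) hg) u h1 h2 (cj_mul2 k g u ▸ c (conj_mem_cj k (mem_zpowers _))))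
theorem gen_stab (e : Au p S P A) (gn : Gen S P A) (hX : X ≤ P) (h1 : A ≤ nz X) (h2 : A ≤ nz Y) (h : CC (S ⊓ nz P) X Y) :
    A ≤ stab X Y := gn _ (ai_le (fun s hs => mem_stab'.2 ⟨h1 (e.mA hs.1 hs.2), h s hs⟩) ((cz_anti hX).trans (cz_le_stab _ _)))
  fun _ hg => mem_nz_stab (h1 hg) (mem_nz_inf (h1 hg) (h2 hg))

theorem ff1 : FF1 Γ p := fun S P A B X Y C l1 l2 e gn BS Bn cB pB YC CX XP nX nY cP pX cC le a1 a2 ⟨b, b1, b2, b3, b4⟩ => by
  have PA : P ≤ A := (le_ai_self P).trans e.PA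
  have BA : B ≤ ai S P := (le_inf BS Bn).trans (inf_nz_le_ai S P)
  have YX := YC.trans CX
  have sec : ∀ Y0 ≤ X, A ≤ nz Y0 → CC P X Y0 → (∀ x ∈ X, x ^ p ∈ Y0) → Nonempty (SecRep p A X Y0) := fun Y0 h1 h2 h3 h4 =>
    exists_secRep (XP.trans PA) h1 nX h2 (commutator_le.2 fun x hx => h3 x (XP hx)) h4
  obtain ⟨R⟩ := sec Y YX nY cP pX
  obtain ⟨H, hH⟩ := e.ti
  have PK : ∀ {Y0}, CC P X Y0 → ai P P ≤ stab X Y0 := fun h =>
    ai_le (fun s hs => mem_stab'.2 ⟨nX (PA hs.1), h s hs.1⟩) ((cz_anti XP).trans (cz_le_stab _ _))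
  have hk : ∀ a : A, R.f a = 1 ↔ a.1 ∈ stab X Y := fun a => (R.f_eq_one a).trans
    ⟨fun h => mem_stab'.2 ⟨nX a.2, h⟩, fun h => (mem_stab'.1 h).2⟩
  have nK : A ≤ nz (stab X Y) := fun g hg => mem_nz_stab (nX hg) (mem_nz_inf (nX hg) (nY hg))
  have KH : ∀ k ∈ A, k ∈ stab X Y → k ∈ H := fun k h1 h2 => by
    have bA := e.nA (BA b1)
    have m1 := kk_mem (fun Z hZ => (a1.all Z hZ).2 bA) (Bn b1) b3
    have m2 := kk_mem (fun Z hZ => (a2.all Z hZ).2 bA) (nY bA) b4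
    have cm : ∀ {Z : Subgroup Γ}, k ∈ nz Z → b ∈ Z → k * b * k⁻¹ * b⁻¹ ∈ Z := fun h h' =>
      mul_mem (conj_mem_of_mem_nz h h') (inv_mem h')
    have := e.kkP (l := l1 ++ X :: Y :: l2) (al_append a1 ⟨⟨XP, nX⟩, ⟨YX.trans XP, nY⟩, a2⟩) (show k * b * k⁻¹ * b⁻¹ ∈ _ from
      ⟨cm (le_nz_self A h1) bA, (kk_append (fr P) X l1 (Y :: l2) P).ge ⟨cm (kk_nz (fun Z hZ => (a1.all Z hZ).2 h1) (nX h1) (e.An h1)) m1, by
          simpa [mul_assoc] using mul_mem h2 (conj_mem_of_mem_nz (nK bA) (inv_mem h2)),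
        cm (kk_nz (fun Z hZ => (a2.all Z hZ).2 h1) (nz_le_nz_fr P (e.An h1)) (nY h1)) m2⟩⟩)
    exact hH.ti k h1 b (BA b1) (fun c => b2 (e.mem (BS b1) c)) (by simpa using mul_mem (ai_mono e.le P this) (BA b1))
  have KT : ∀ u ∈ ai S P, u ∈ stab X Y → u ∈ ai P P := fun u h1 h2 => by_contra fun c => hH.ne fun g hg =>
    ti_of e.toAu hH hg h1 c (KH _ (conj_mem_of_mem_nz (le_nz_self A hg) (e.nA h1)) (conj_mem_of_mem_nz (nK hg) h2))
  have hm : ∀ a : A, R.f a ∈ R.im H → a.1 ∈ H := fun a ⟨d, h1, h2⟩ => by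
    have := KH _ (d⁻¹ * a).2 ((hk (d⁻¹ * a)).1 (by rw [map_mul, map_inv, h2, inv_mul_cancel]))
    exact (mul_mem_cancel_left (inv_mem (show d.1 ∈ H from h1))).1 this
  have hT : H28.IsSylowIn p (R.im (ai S P)) ⊤ := H28.isSylowIn_iff.2 ⟨le_top, H28.isPGroup_iff_mem.2 (by
      rintro _ ⟨a, ha, rfl⟩
      obtain ⟨n, hn⟩ := pel_ai e.pg a.1 ha
      exact ⟨n, map_pow R.f a _ ▸ (hk _).2 (PK cP (cz_le_ai _ _ hn))⟩),
    fun c => e.syl.2 (((relIndex_top_right (R.im (ai S P))).subst c).trans (index_map_dvd _ R.surj))⟩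
  have ne : ∀ t (h : t ∈ S) (h' : t ∈ nz P), t ∉ P → R.f ⟨t, e.mA h h'⟩ ≠ 1 := fun t h h' n c =>
    n (e.mem h (KT t (mem_ai_of_mem h h') ((hk _).1 c)))
  have mT : ∀ t (h : t ∈ S) (h' : t ∈ nz P), R.f ⟨t, e.mA h h'⟩ ∈ R.im (ai S P) := fun t h h' => R.mem_im (mem_ai_of_mem h h')
  have bB : R.f ⟨b, e.nA (BA b1)⟩ ∈ R.im B := R.mem_im b1
  have BT : R.im B ≤ R.im (ai S P) := map_mono (comap_mono BA)
  have B0 : R.im B ≠ ⊥ := fun c => ne b (BS b1) (Bn b1) b2 (mem_bot.1 (c ▸ bB))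
  have TH : R.im (ai S P) ≤ R.im H := map_mono (comap_mono hH.le)
  have sp : H28.SPE p (R.im H) := H28.spe_of_sylow (fun c => hH.ne fun a ha => hm ⟨a, ha⟩ (c ▸ mem_top _))
    (hT.mono TH le_top) (fun c => B0 (le_bot_iff.1 (c ▸ BT))) fun Q q1 q2 n hn => by
      obtain ⟨⟨a, ha⟩, a1⟩ := ne_bot_iff_exists_ne_one.1 q2
      obtain ⟨a, ha', rfl⟩ := q1 ha
      obtain ⟨n, rfl⟩ := R.surj n
      have := TH (q1 (conj_mem_of_mem_nz hn ha))
      rw [← map_inv, ← map_mul, ← map_mul] at this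
      exact R.mem_im (ti_of e.toAu hH n.2 ha' (fun c => a1 (Subtype.ext ((hk a).2 (PK cP c)))) (hm _ this))
  have c1 : Nat.card C ≤ Nat.card (fix R.ρ (R.im B)) * Nat.card Y :=
    R.card_le CX YC fun w hw => (R.mem_fix_im (BA.trans e.nA) (CX hw)).2 fun a ha => cC a ha w hw
  have c2 : P.relIndex B ≤ Nat.card (R.im B) := by
    choose d d1 d2 using fun w : R.im B => w.2
    refine idx_le' (fun w => (d w).1) fun b hb => ⟨⟨_, R.mem_im (g := ⟨b, e.nA (BA hb)⟩) hb⟩, ?_⟩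
    refine e.mem (mul_mem (inv_mem (BS (d1 _))) (BS hb)) (KT _ (mul_mem (inv_mem (BA (d1 _))) (BA hb))
      ((hk ((d _)⁻¹ * ⟨b, e.nA (BA hb)⟩)).1 ?_))
    rw [map_mul, map_inv, d2, inv_mul_cancel]
  have c3 := ((mul_comm _ _).trans (H1.relIndex_mul_card CX)).trans R.card_eq
  obtain ⟨T, t1, t2, t3⟩ := exists_rt_sylow R.faith sp (X := R.im B) (H28.isElementaryAbelian_iff.2 ⟨by
      rintro _ ⟨a, ha, rfl⟩ _ ⟨b, hb, rfl⟩
      rw [← commutatorElement_eq_one_iff_mul_comm, ← map_commutatorElement, hk]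
      exact PK cP (le_ai_self P (cB _ hb _ ha)), by
      rintro _ ⟨a, ha, rfl⟩; rw [← map_pow, hk]; exact PK cP (le_ai_self P (pB _ ha))⟩) B0
    (Nat.le_of_mul_le_mul_right (c3.ge.trans ((Nat.mul_le_mul c1 (le.trans c2)).trans_eq (by ring))) Nat.card_pos)
  obtain ⟨k, -, rfl⟩ := hT.exists_conj t1
  rw [rt_cj_iff] at t2
  have c4 := card_le_of_le BT
  replace c1 := c1.trans (Nat.mul_le_mul_right _ (Nat.card_mono (Set.toFinite _)
    (t2.fix_le (BT bB) (ne b (BS b1) (Bn b1) b2) bB)))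
  rw [t2.card] at c3
  have c5 : Nat.card (R.im (ai S P)) ≤ C.relIndex X := Nat.le_of_mul_le_mul_left
    (((mul_rotate _ _ _).symm.trans c3.symm).le.trans (Nat.mul_le_mul_right _ c1)) (Nat.mul_pos Nat.card_pos Nat.card_pos)
  have c6 : Nat.card (fix R.ρ (R.im (ai S P))) * Nat.card Y ≤ Nat.card C := Nat.le_of_mul_le_mul_right
    (((by ring : _ = _).trans c3.symm).le.trans (Nat.mul_le_mul_left _ (le.trans (c2.trans c4)))) Nat.card_pos
  have e1 : R.im B = R.im (ai S P) := eq_of_le_of_card_ge BT (c5.trans (le.trans c2))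
  let C' : Subgroup Γ :=
    { carrier := {x | x ∈ X ∧ R.ι x ∈ fix R.ρ (R.im (ai S P))}
      one_mem' := ⟨one_mem _, R.one ▸ zero_mem _⟩
      mul_mem' := fun h h' => ⟨mul_mem h.1 h'.1, R.mul _ h.1 _ h'.1 ▸ add_mem h.2 h'.2⟩
      inv_mem' := fun h => ⟨inv_mem h.1, R.inv h.1 ▸ neg_mem h.2⟩ }
  have CC' : C ≤ C' := fun w hw => ⟨CX hw, e1 ▸ (R.mem_fix_im (BA.trans e.nA) (CX hw)).2 fun a ha => cC a ha w hw⟩
  have e2 : C = C' := eq_of_le_of_card_ge CC' ((R.card_le (W := C') (fun _ h => h.1) (YC.trans CC') fun _ h => h.2).trans c6)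
  obtain ⟨F, _, _, hF, ⟨E⟩⟩ := nat2_of_sylow R.faith hT t2 (top_unique fun g _ => by
    obtain ⟨g, rfl⟩ := R.surj g
    obtain ⟨a, ha, c⟩ := gn (((H28.nclIn (R.im (ai S P)) ⊤).comap R.f).map A.subtype)
      (fun s hs => ⟨⟨s, e.nA hs⟩, H28.le_nclIn _ _ (R.mem_im hs), rfl⟩) (le_nz_iff.2 (by
        rintro g hg _ ⟨a, ha, rfl⟩
        refine ⟨⟨g, hg⟩ * a * ⟨g, hg⟩⁻¹, ?_, rfl⟩
        rw [SetLike.mem_coe, mem_comap, map_mul, map_mul, map_inv]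
        exact conj_mem_of_mem_nz (H28.le_normalizer_nclIn _ _ (mem_top _)) ha)) g.2
    exact Subtype.ext c ▸ ha) fun c => t3 fun g _ => (congrArg nz (mem_nz.1 (c (mem_top k)))).ge (c (mem_top g))
  refine ⟨fun t h1 h2 => ?_, le_antisymm le (c2.trans (c4.trans c5)), fun t h1 h2 h3 x hx c => e2.ge ⟨hx,
    (t2.ker _ (mT t h1 h2) _ ((R.fix_iff ⟨t, e.mA h1 h2⟩ hx).2 c)).resolve_left (ne t h1 h2 h3)⟩,
    fun Y0 y1 y2 y3 y4 t h1 h2 x hx c => ?_, fun p2 Y0 y1 y2 y3 y4 y5 t h1 h2 t' h1' h2' x hx => ?_⟩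
  · obtain ⟨a, ha, c⟩ := e1.ge (mT t h1 h2)
    refine ⟨a, ha, e.mem (mul_mem (inv_mem (BS ha)) h1) (KT _ (mul_mem (inv_mem (BA ha)) (mem_ai_of_mem h1 h2))
      ((hk (a⁻¹ * ⟨t, e.mA h1 h2⟩)).1 ?_))⟩
    rw [map_mul, map_inv, c, inv_mul_cancel]
  · by_cases n : t ∈ P
    · exact cP t n x hx
    let L := toLin' ((E.π ⟨_, mem_top (R.f ⟨t, e.mA h1 h2⟩)⟩).1 - 1)
    have l1 : ∀ u, L (E.ψ u) = E.ψ (R.ρ (R.f ⟨t, e.mA h1 h2⟩) u - u) := fun u => by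
      rw [map_sub, E.equi ⟨_, mem_top _⟩, toLin'_apply, sub_mulVec, one_mulVec]
    have l2 : Nat.card L.ker ≤ Fintype.card F := by
      rw [Module.natCard_eq_pow_finrank (K := F), Nat.card_eq_fintype_card]
      refine (Nat.pow_le_pow_right Fintype.card_pos (Nat.le_of_lt_succ ((Submodule.finrank_lt fun c => ne t h1 h2 n
        (congrArg Subtype.val ((map_eq_one_iff _ E.π.injective (x := ⟨_, mem_top _⟩)).1 (Subtype.ext (sub_eq_zero.1 ?_))))).trans_eq (by simp)))).trans_eq (pow_one _)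
      exact toLin'.injective ((LinearMap.ker_eq_top.1 c).trans (map_zero _).symm)
    let D := L.ker.toAddSubgroup.comap E.ψ
    have l3 : Fintype.card F ≤ D.index := by
      have := L.ker.toAddSubgroup.card_mul_index
      rw [AddSubgroup.index_comap_of_surjective _ E.surj]
      exact Nat.le_of_mul_le_mul_left ((Eq.trans (by simp [pow_two]) this.symm).le.trans (Nat.mul_le_mul_right _ l2)) Fintype.card_pos
    have l4 : (fix R.ρ (R.im (ai S P))).toAddSubgroup = D := AddSubgroup.eq_of_le_of_card_ge (fun u hu => by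
      show L _ = 0
      rw [l1, hu _ (mT t h1 h2), sub_self, map_zero]) (Nat.le_of_mul_le_mul_right (((Nat.mul_le_mul_left _ (hF ▸ l3)).trans_eq
        D.card_mul_index).trans_eq (t2.card.trans (mul_comm _ _))) Nat.card_pos)
    refine (R.fix_iff ⟨t, e.mA h1 h2⟩ hx).1 (l4.ge (show L _ = 0 from ?_) _ (mT t h1 h2))
    rw [l1, ← R.comm _ hx, E.ker, ← R.im_top]
    exact (R.mem_fix_im le_rfl (y2 c)).2 fun a ha => (mem_stab'.1 (gen_stab e.toAu gn (y2.trans XP) y3 nY y4 ha)).2 _ c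
  obtain ⟨R0⟩ := sec Y0 (y1.trans YX) y2 y3 y4
  have AY := gen_stab e.toAu gn (YX.trans XP) nY y2 y5
  have K0 : ∀ a : A, R.f a = 1 → R0.f a = 1 := fun a c => (R0.f_eq_one a).2 (mem_stab'.1 (show a.1 ∈ stab X Y0 from
    (((e.syl.inf_normal nK).mono_left (V := stab X Y0 ⊓ (A ⊓ stab X Y)) (fun u hu => ⟨PK y3 (KT u hu.1 hu.2), e.nA hu.1, hu.2⟩)
      inf_le_right).mem_of_pel (fun g hg => mem_nz_inf (mem_nz_stab (nX hg.1) (mem_nz_inf (nX hg.1) (y2 hg.1))) (le_nz_self _ hg))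
      ⟨a.2, (hk a).1 c⟩ (let ⟨n, hn⟩ := exists_coprime_pow (p := p) a.1; ⟨n, stab_of_coprime (e.pP.to_le (YX.trans XP)) hn
        (pow_mem ((hk a).1 c) _) (AY (pow_mem a.2 _)), pow_mem a.2 _, pow_mem ((hk a).1 c) _⟩)).1)).2
  obtain ⟨i, hi⟩ := R.surj (E.π.symm (-1))
  have ic : ∀ (a : A) u, R0.ρ (R0.f a) (R0.ρ (R0.f i) u) = R0.ρ (R0.f i) (R0.ρ (R0.f a) u) := fun a u => by
    have : R0.f (a * i * (i * a)⁻¹) = 1 := K0 _ (by
      rw [map_mul, map_inv, mul_inv_eq_one, map_mul, map_mul, hi]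
      exact congrArg Subtype.val (E.π.injective (a₁ := ⟨R.f a, mem_top _⟩ * E.π.symm (-1))
        (a₂ := E.π.symm (-1) * ⟨R.f a, mem_top _⟩) (by simp)))
    rw [map_mul, map_inv, mul_inv_eq_one, map_mul, map_mul] at this
    rw [← Module.End.mul_apply, ← map_mul, this, map_mul, Module.End.mul_apply]
  have fY : ∀ (a : A), ∀ y ∈ Y, R0.ρ (R0.f a) (R0.ι y) = R0.ι y := fun a y hy =>
    (R0.fix_iff a (YX hy)).2 ((mem_stab'.1 (AY a.2)).2 y hy)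
  let a : A := ⟨t, e.mA h1 h2⟩
  let a' : A := ⟨t', e.mA h1' h2'⟩
  have m1 := R.comm_mem a.2 hx
  have m2 := conj_mem_of_mem_nz (nX i.2) hx
  have q1 := fY i _ ((R.fix_iff a' m1).1 (R.comm a hx ▸ t2.quad _ (mT t' h1' h2') _ (mT t h1 h2) _))
  have q2 := fY a' _ ((R.mem_fix_im le_rfl (mul_mem hx m2)).1 (R.im_top ▸ (E.ker _).1 (by
    rw [R.mul _ hx _ m2, ← R.equi i x hx, map_add, hi, E.equi, E.π.apply_symm_apply]; simp [neg_mulVec])) t a.2)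
  rw [R0.comm a' m1, R0.comm a hx] at q1
  rw [R0.comm a (mul_mem hx m2), R0.mul _ hx _ m2, ← R0.equi i x hx] at q2
  refine (R0.fix_iff a' m1).1 ?_
  rw [R0.comm a hx, ← sub_eq_zero]
  have : (2 : ZMod p) ≠ 0 := fun c => p2 ((Nat.prime_dvd_prime_iff_eq hp.out Nat.prime_two).1 ((ZMod.natCast_eq_zero_iff 2 p).1 c))
  refine (smul_eq_zero.1 ?_).resolve_left this
  simp only [map_add, map_sub, ic] at q1 q2 ⊢
  linear_combination (norm := module) q2 - q1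

end H29.TD
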