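/-
Fusion systems on a Sylow `p`-subgroup of `³D₄(q)`, part 3: Frattini subgroups, characteristic subgroups, Borel subgroups.
-/
import Cfsg.Agent.H29.TD2

set_option autoImplicit false
set_option linter.unusedSectionVars false
set_option linter.unusedSimpArgs false

namespace H29.TD
open Subgroup H25 H25.FS H8.PU Dc
universe u v
variable {K : Type v} [Field K] [Finite K] {σ : K →+* K} [TV σ] {Γ : Type u} [Group Γ] [Finite Γ] {p : ℕ} [Fact p.Prime]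
  {S P A X Y : Subgroup Γ} {ev : Dc σ →* Γ} {g τ τ' w M1 M2 : Γ} {k l k' l' : K} {φ φ' : K ≃+* K} {c : Dc σ}

theorem Wt.mul (h : Wt ev τ k l φ) (h' : Wt ev τ' k' l' φ') : Wt ev (τ * τ') (k * φ k') (l * φ l') (φ'.trans φ) :=
  ⟨mul_ne_zero h.k0 ((map_ne_zero φ).2 h'.k0), mul_ne_zero h.l0 ((map_ne_zero φ).2 h'.l0), by rw [map_mul, cm, h.hl, h'.hl], fun c => by
    rw [cj_mul2, h'.cj, h.cj]
    refine congrArg ev ?_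
    ext <;> simp only [sc, RingEquiv.trans_apply] <;> fs [] <;> ring⟩
theorem Wt.mul1 (h : Wt ev τ k l (.refl K)) (h' : Wt ev τ' k' l' (.refl K)) : Wt ev (τ * τ') (k * k') (l * l') (.refl K) :=
  h.mul h'
theorem Wt.cast (h : Wt ev τ k l φ) (h1 : k = k') (h2 : l = l') : Wt ev τ k' l' φ := h1 ▸ h2 ▸ h
/-- an element killed by all cross products -/
theorem cr_nd {s : K} (h : ∀ a, cr σ a s = 0) : s = 0 := by
  obtain ⟨θ, hθ⟩ := ex_ne σ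
  obtain ⟨c, h1, e1⟩ := cr0' one_ne_zero (h 1)
  obtain ⟨d, h2, e2⟩ := cr0' (m := θ) (fun e => hθ (by simp [e])) (h θ)
  by_contra n
  have d0 : d ≠ 0 := fun e => n (by simp [e2, e])
  exact hθ (mul_left_cancel₀ d0 (by rw [← e2, e1, mul_one, ← h1, ← mul_one c, ← e1, e2, map_mul, h2]))

/-- passing to `O^{p'}` inside `A` -/
theorem gen' (e : Es p S P A) : ∃ H ≤ A, Es p S P H ∧ Gen S P H := by
  let H := sInf {N | ai S P ≤ N ∧ A ≤ nz N}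
  have h1 : ai S P ≤ H := le_sInf fun _ h => h.1
  have h2 : H ≤ A := sInf_le ⟨e.nA, le_nz_self A⟩
  have h3 : A ≤ nz H := le_nz_iff.2 fun g hg x hx => mem_sInf.2 fun N hN =>
    conj_mem_of_mem_nz (hN.2 hg) (mem_sInf.1 hx N hN)
  obtain ⟨X, x⟩ := e.ti
  refine ⟨H, h2, ⟨⟨e.pg, e.le, e.cen, h1, h2.trans e.An, e.syl.mono_right h1 h2⟩, e.ne, X ⊓ H, le_inf x.le h1, inf_le_right,
    fun c => x.ne fun g hg => ?_, fun g hg u hu n k => ⟨x.ti g (h2 hg) u hu n k, hg⟩⟩, fun N n1 n2 => ?_⟩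
  · obtain ⟨k, hk, c1⟩ := e.cjX x.le x.XA hg ((cj_le_n h1 (h3 hg)).trans (c.trans inf_le_left))
    obtain ⟨u, u1, u2⟩ := e.ex e.ne
    exact (mul_mem_cancel_left hk).1 (x.ti _ (mul_mem (x.XA hk) hg) u u1 u2 (c1 (cj_cj k g _ ▸ conj_mem_cj _ u1)))
  · let M : Subgroup Γ := ⨅ g : A, cj g N
    have m : H ≤ M := sInf_le ⟨le_iInf fun g => by
      obtain ⟨k, hk, c1⟩ := e.cjX h1 h2 (inv_mem g.2) (cj_le_n h1 (h3 (inv_mem g.2)))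
      rw [le_cj_iff, ← cj_le_cj (g := k), mem_nz.1 (n2 hk)]
      exact c1.trans n1, le_nz_iff.2 fun g hg x hx => mem_iInf.2 fun k => by
        have := mem_iInf.1 hx (⟨g, hg⟩⁻¹ * k)
        rw [mem_cj] at this ⊢
        simpa [mul_assoc] using this⟩
    simpa using m.trans (iInf_le _ 1)

namespace Co
variable (h : Co S ev)
include h
theorem up {Y' : Subgroup (Dc σ)} (hY : Y ≤ X) (k : ∀ c ∈ Y', ∃ w ∈ X, w⁻¹ * ev c ∈ Y) : Y'.map ev ≤ X := by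
  rintro _ ⟨c, hc, rfl⟩
  obtain ⟨w, hw, e⟩ := k c hc
  exact (mul_mem_cancel_left (inv_mem hw)).1 (hY e)
/-- `Z₁ = [c, Z₂]` for `c ∉ Q₂` -/
theorem Zle (hc : c.u ≠ 0) (k : ∀ v hv, ev c * ev (xv v hv) * (ev c)⁻¹ * (ev (xv v hv))⁻¹ ∈ X) : (Z1 σ).map ev ≤ X :=
  h.up bot_le fun d hd => ⟨_, k (d.z / c.u) (by rw [map_div₀, d.hz, c.hu]), by
    rw [mem_bot, inv_mul_eq_one, cm_eq]; ds h [] at hd; ds h [hd]; field_simp; cg⟩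
/-- `Z₁ = [c, Z₃]` for `c ∈ Z₄ \ Z₃` -/
theorem Zle' (h1 : c.a = 0) (h2 : c.u = 0) (hc : c.s ≠ 0) (k : ∀ r, ev c * ev (xr r) * (ev c)⁻¹ * (ev (xr r))⁻¹ ∈ X) :
    (Z1 σ).map ev ≤ X := h.up bot_le fun d hd => let ⟨r, e⟩ := tr_onto (σ := σ) hc (c := -d.z) (by rw [map_neg, d.hz])
  ⟨_, k r, by rw [mem_bot, inv_mul_eq_one, cm_eq]; ds h [] at hd e; ds h [hd, h1, h2]; cg⟩
/-- `Z₂ = Z₁ [c, Z₃]` for `c ∉ Q₁` -/
theorem Z2le (hZ : (Z1 σ).map ev ≤ X) (hc : c.a ≠ 0) (k : ∀ r, ev c * ev (xr r) * (ev c)⁻¹ * (ev (xr r))⁻¹ ∈ X) :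
    (Z2 σ).map ev ≤ X := h.up hZ fun d hd => let ⟨r, e⟩ := tr_onto (σ := σ) hc (c := -d.v) (by rw [map_neg, d.hv])
  ⟨_, k r, by ds h [] at hd e; ds h [hd]; cg⟩
/-- `Z₃ = Z₂ [X_a, X_{a+b}]` -/
theorem Z3le (hZ : (Z2 σ).map ev ≤ X) (k : ∀ a s, ev (xa a) * ev (xs s) * (ev (xa a))⁻¹ * (ev (xs s))⁻¹ ∈ X) :
    (Z3 σ).map ev ≤ X := by
  have k1 : ∀ a s, ev (xr (cr σ a s)) ∈ X := fun a s =>
    (mul_mem_cancel_left (k a s)).1 (hZ (by ds h []; cg))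
  have k2 : ∀ r r', ev (xr r) ∈ X → ev (xr r') ∈ X → ev (xr (r + r')) ∈ X := fun r r' a b => by
    have := mul_mem a b
    rwa [h.mul, show (xr r * xr r' : Dc σ) = xr (r + r') by ds h []] at this
  refine h.up hZ fun d hd => ⟨ev (xr d.r), ?_, by ds h [] at hd; ds h [hd]; ring⟩
  by_cases t : (2 : K) = 0
  · obtain ⟨θ, hθ⟩ := ex_ne σ
    obtain ⟨r, e1, e2⟩ := (ind_of (σ := σ) (y := θ) one_ne_zero fun c hc e => hθ (by rw [e, mul_one, hc])).onto (map_zero σ)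
      (s_tr (θ * d.r))
    obtain ⟨s, e⟩ := cr_onto2 one_ne_zero e1 t
    obtain ⟨s', e'⟩ := cr_onto2 (σ := σ) (m := θ) (r := d.r - r) (fun e => hθ (by simp [e])) (by rw [mul_sub, tr_sub, e2, sub_self]) t
    simpa [e, e'] using k2 _ _ (k1 1 s) (k1 θ s')
  · obtain ⟨s, e⟩ := cr_onto (σ := σ) t one_ne_zero d.r
    exact e ▸ k1 1 s
theorem frZ1 (hP : IsPGroup p P) (h2 : (Z2 σ).map ev ≤ P) (hS : P ≤ S) (hQ : ¬ P ≤ (Q2 σ).map ev) : (Z1 σ).map ev ≤ fr P := by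
  obtain ⟨u, hu, k⟩ := SetLike.not_le_iff_exists.1 hQ
  obtain ⟨c, -, rfl⟩ := h.ex (hS hu)
  exact h.Zle (c := c) (by dt h [] at k; exact k) fun z _ => cm_fr hP hu (h2 (by dt h []))
theorem frZ2 (hP : IsPGroup p P) (h3 : (Z3 σ).map ev ≤ P) (hS : P ≤ S) (hQ : ¬ P ≤ (Q1 σ).map ev)
    (hZ : (Z1 σ).map ev ≤ fr P) : (Z2 σ).map ev ≤ fr P := by
  obtain ⟨u, hu, k⟩ := SetLike.not_le_iff_exists.1 hQ
  obtain ⟨c, -, rfl⟩ := h.ex (hS hu)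
  exact h.Z2le hZ (c := c) (by dt h [] at k; exact k) fun z => cm_fr hP hu (h3 (by dt h []))
theorem fr1 (hS : IsPGroup p S) : (Z1 σ).map ev ≤ fr ((Q1 σ).map ev) :=
  h.Zle' (c := xs 1) rfl rfl one_ne_zero fun _ => cm_fr (hS.to_le (h.le _)) (by dt h []) (by dt h [])
theorem fr2 (hS : IsPGroup p S) : (Z3 σ).map ev ≤ fr ((Q2 σ).map ev) := by
  have cm : ∀ c c' : Dc σ, c.u = 0 → c'.u = 0 → ev c * ev c' * (ev c)⁻¹ * (ev c')⁻¹ ∈ fr ((Q2 σ).map ev) := fun c c' k k' =>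
    cm_fr (hS.to_le (h.le _)) (h.mm.2 k) (h.mm.2 k')
  exact h.Z3le (h.Z2le (h.Zle' (c := xs 1) rfl rfl one_ne_zero fun _ => cm _ _ rfl rfl) (c := xa 1) one_ne_zero
    fun _ => cm _ _ rfl rfl) fun _ _ => cm _ _ rfl rfl
theorem fr4 (hS : IsPGroup p S) : (Z4 σ).map ev ≤ fr S := by
  have cm : ∀ c c' : Dc σ, ev c * ev c' * (ev c)⁻¹ * (ev c')⁻¹ ∈ fr S := fun c c' => cm_fr hS (h.mS c) (h.mS c')
  exact h.up (h.Z3le (h.Z2le (h.Zle' (c := xs 1) rfl rfl one_ne_zero fun _ => cm _ _) (c := xa 1) one_ne_zero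
    fun _ => cm _ _) fun _ _ => cm _ _) fun d hd => ⟨_, cm (xu 1 (map_one σ)) (xa d.s), by dt h [] at hd; dt h [hd]; cg⟩
/-- `C_S(Z₂) = Q₂` -/
theorem cZ2 (hw : w ∈ S) (k : w ∈ cz ((Z2 σ).map ev)) : w ∈ (Q2 σ).map ev := by
  db h hw c hc
  have := mem_cz'.1 k (ev (xv 1 (map_one σ))) (by dt h [])
  ds h [] at this ⊢
  grind
/-- `C_S(Z₃ / Z₁) = Q₁` -/
theorem cQ1 (hw : w ∈ S) (k : Cm w ((Z3 σ).map ev) ((Z1 σ).map ev)) : w ∈ (Q1 σ).map ev := by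
  db h hw c hc
  refine h.mm.2 (tr_nd (σ := σ) fun r => ?_)
  have := k (ev (xr r)) (by dt h [])
  ds h [] at this ⊢
  grind
/-- `C_{Q₂}(Z₃ / Z₁) = Z₄` -/
theorem cZ4 (hw : w ∈ (Q2 σ).map ev) (k : Cm w ((Z3 σ).map ev) ((Z1 σ).map ev)) : w ∈ (Z4 σ).map ev := by
  have := h.cQ1 (h.le _ hw) k
  db h hw c hc
  exact h.mm.2 ⟨h.mm.1 this, hc⟩
/-- `C_S(Z₃) = Z₃` -/
theorem cZ3 (hw : w ∈ S) (k : w ∈ cz ((Z3 σ).map ev)) : w ∈ (Z3 σ).map ev := by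
  have := h.cZ4 (h.cZ2 hw (cz_anti h.l23 k)) (cm_of_cz k)
  db h this c hc
  refine h.mm.2 ⟨hc.1, hc.2, tr_nd (σ := σ) fun r => ?_⟩
  have := mem_cz'.1 k (ev (xr r)) (by dt h [])
  ds h [] at hc
  ds h [hc] at this ⊢
  grind
/-- `C_S(Z₄) = Z₂` -/
theorem cZ (hw : w ∈ S) (k : w ∈ cz ((Z4 σ).map ev)) : w ∈ (Z2 σ).map ev := by
  have := h.cZ3 hw (cz_anti h.l34 k)
  db h this c hc
  refine h.mm.2 ⟨hc.1, hc.2.1, hc.2.2, tr_nd (σ := σ) fun s => ?_⟩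
  have := mem_cz'.1 k (ev (xs s)) (by dt h [])
  ds h [] at hc
  ds h [hc] at this ⊢
  grind
theorem c42 : CC ((Z4 σ).map ev) ((Z2 σ).map ev) ⊥ := h.c2Z.mono h.l42 le_rfl le_rfl
theorem l31 : (Z3 σ).map ev ≤ (Q1 σ).map ev := h.l34.trans h.l41
theorem l32 : (Z3 σ).map ev ≤ (Q2 σ).map ev := h.l34.trans h.l42
theorem cen1 : S ⊓ cz ((Q1 σ).map ev) ≤ (Q1 σ).map ev := fun _ hw => h.l31 (h.cZ3 hw.1 (cz_anti h.l31 hw.2))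
theorem cen2 : S ⊓ cz ((Q2 σ).map ev) ≤ (Q2 σ).map ev := fun _ hw => h.l32 (h.cZ3 hw.1 (cz_anti h.l32 hw.2))
theorem nS (hX : (Z4 σ).map ev ≤ X) (h' : X ≤ S) : S ≤ nz X := h.cSS.nz' h' hX
theorem nQ1 : S ≤ nz ((Q1 σ).map ev) := h.nS h.l41 (h.le _)
theorem nQ2 : S ≤ nz ((Q2 σ).map ev) := h.nS h.l42 (h.le _)
theorem nZ4 : S ≤ nz ((Z4 σ).map ev) := h.nS le_rfl (h.le _)
theorem nZ3 : S ≤ nz ((Z3 σ).map ev) := h.cS3.nz' le_rfl h.l23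
theorem nZ2 : S ≤ nz ((Z2 σ).map ev) := h.cS2.nz' le_rfl h.l12
theorem nZ1 : S ≤ nz ((Z1 σ).map ev) := h.cS1.nz' le_rfl bot_le
theorem Z1P (e : Au p S P A) : (Z1 σ).map ev ≤ P := e.cP (h.le _) e.le h.cS1
/-- characteristic subgroups of `Q₂` -/
theorem q2Z2 (hg : g ∈ nz ((Q2 σ).map ev)) : g ∈ nz ((Z2 σ).map ev) :=
  nz_of_cz (fun _ => ⟨fun k => ⟨h.l32 (h.l23 k), h.c2Z.symm.cz k⟩, fun k => h.cZ (h.le _ k.1) (cz_anti h.l42 k.2)⟩) hg hg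
theorem q2Z3 (hg : g ∈ nz ((Q2 σ).map ev)) : g ∈ nz ((Z3 σ).map ev) :=
  nz_of_char (fun w => ⟨fun k => ⟨h.l32 k, h.cS3.symm.cm k (h.le _) le_rfl⟩, fun ⟨k1, k2⟩ => by
    db h k1 c hc
    refine h.mm.2 ⟨cr_nd (σ := σ) fun s => ?_, hc, cr_nd (σ := σ) fun a => ?_⟩
    · have := k2 (ev (xs s)) (by dt h [])
      ds h [mQ2.1 hc] at this ⊢
      grind
    · have := k2 (ev (xa a)) (by dt h [])
      ds h [mQ2.1 hc] at this ⊢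
      grind⟩) hg hg (h.q2Z2 hg)
theorem q2Z4 (hg : g ∈ nz ((Q2 σ).map ev)) (h1 : g ∈ nz ((Z1 σ).map ev)) : g ∈ nz ((Z4 σ).map ev) :=
  nz_of_char (fun _ => ⟨fun k => ⟨h.l42 k, h.c11.cm (h.l41 k) h.l31 le_rfl⟩, fun k => h.cZ4 k.1 k.2⟩) hg (h.q2Z3 hg) h1
/-- characteristic subgroups of `Q₁` -/
theorem q1Z1 (hg : g ∈ nz ((Q1 σ).map ev)) : g ∈ nz ((Z1 σ).map ev) :=
  nz_of_cz (fun w => ⟨fun k => ⟨h.l31 (h.l23 (h.l12 k)), cz_anti (h.le _) (h.cS1.symm.cz k)⟩, fun ⟨k1, k2⟩ => by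
    have := h.cZ (h.le _ k1) (cz_anti h.l41 k2)
    db h this c hc
    have := mem_cz'.1 k2 (ev (xu 1 (map_one σ))) (by dt h [])
    ds h [] at hc
    ds h [hc] at this ⊢
    grind⟩) hg hg
theorem q1Z4 (hg : g ∈ nz ((Q1 σ).map ev)) (h2 : g ∈ nz ((Z2 σ).map ev)) : g ∈ nz ((Z4 σ).map ev) :=
  nz_of_cz (fun w => ⟨fun k => ⟨h.l41 k, h.c42.cz k⟩, fun ⟨k1, k2⟩ => by
    have := h.cZ2 (h.le _ k1) k2
    db h k1 c hc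
    exact h.mm.2 ⟨hc, h.mm.1 this⟩⟩) hg h2
theorem z4Z2 (hg : g ∈ nz ((Z4 σ).map ev)) : g ∈ nz ((Z2 σ).map ev) :=
  nz_of_cz (fun _ => ⟨fun k => ⟨h.l34 (h.l23 k), h.c42.symm.cz k⟩, fun k => h.cZ (h.le _ k.1) k.2⟩) hg hg
/-- characteristic subgroups of `S` -/
theorem gZ1 (hg : g ∈ nz S) : g ∈ nz ((Z1 σ).map ev) :=
  nz_of_cz (fun w => ⟨fun k => ⟨h.le _ k, h.cS1.symm.cz k⟩, fun ⟨k1, k2⟩ => by
    have := h.cZ k1 (cz_anti (h.le _) k2)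
    db h this c hc
    have := mem_cz'.1 k2 _ (h.mS (xu 1 (map_one σ)))
    ds h [] at hc
    ds h [hc] at this ⊢
    grind⟩) hg hg
theorem gZ2 (hg : g ∈ nz S) : g ∈ nz ((Z2 σ).map ev) :=
  nz_of_char (fun w => ⟨fun k => ⟨h.le _ k, h.cS2.symm w k⟩, fun ⟨k1, k2⟩ => by
    have := h.cQ1 k1 (k2.mono (h.le _) le_rfl)
    db h this c hc
    have e1 := k2 _ (h.mS (xa 1))
    have e2 : c.u = 0 := by ds h [mQ1.1 hc] at e1; grind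
    have e3 : c.s = 0 := cr_nd (σ := σ) fun a => by
      have := k2 _ (h.mS (xa a))
      ds h [mQ1.1 hc, e2] at this ⊢
      grind
    refine h.mm.2 ⟨hc, e2, e3, tr_nd (σ := σ) fun a => ?_⟩
    have := k2 _ (h.mS (xa a))
    ds h [mQ1.1 hc, e2, e3] at this ⊢
    grind⟩) hg hg (h.gZ1 hg)
theorem gQ2 (hg : g ∈ nz S) : g ∈ nz ((Q2 σ).map ev) :=
  nz_of_cz (fun _ => ⟨fun k => ⟨h.le _ k, h.c2Z.cz k⟩, fun k => h.cZ2 k.1 k.2⟩) hg (h.gZ2 hg)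
theorem gZ3 (hg : g ∈ nz S) : g ∈ nz ((Z3 σ).map ev) := h.q2Z3 (h.gQ2 hg)
theorem gZ4 (hg : g ∈ nz S) : g ∈ nz ((Z4 σ).map ev) := h.q2Z4 (h.gQ2 hg) (h.gZ1 hg)
theorem gQ1 (hg : g ∈ nz S) : g ∈ nz ((Q1 σ).map ev) :=
  nz_of_char (fun _ => ⟨fun k => ⟨h.le _ k, h.c11.cm k h.l31 le_rfl⟩, fun k => h.cQ1 k.1 k.2⟩) hg (h.gZ3 hg) (h.gZ1 hg)
/-- the stabilizer of `Z₄` in the automizer of `Q₂` normalizes the Sylow subgroup -/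
theorem bor2 (e : Au p S ((Q2 σ).map ev) A) (hg : g ∈ A) (h2 : g ∈ nz ((Z4 σ).map ev)) : g ∈ nz (ai S ((Q2 σ).map ev)) := by
  have l : ∀ Y ∈ [(Z4 σ).map ev], Y ≤ (Q2 σ).map ev := by simp [h.l42]
  rw [e.kk_eq l (ai_le (fun s hs => kk_mem (by simp [h.nZ4 hs.1]) hs.2 ⟨h.cSS.cm hs.1 (h.le _) le_rfl,
    h.cS4.cm hs.1 le_rfl (h.fr2 e.pg)⟩) (kk_cz l le_rfl))]
  exact mem_nz_inf (le_nz_self A hg) (kk_nz (by simp [h2]) (nz_le_nz_fr _ (e.An hg)) (e.An hg))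
theorem ne2 (e : Es p S ((Q2 σ).map ev) A) : ∃ g ∈ A, g ∉ nz ((Z4 σ).map ev) := by
  by_contra! c
  exact e.not_nz fun g hg => h.bor2 e.toAu hg (c g hg)
/-- automorphisms trivial on `Q₁ / Z₁`, resp. `Q₂ / Z₃`, are inner -/
theorem in1 (e : Es p S ((Q1 σ).map ev) A) (hg : g ∈ A) (k : Cm g ((Q1 σ).map ev) ((Z1 σ).map ev)) :
    g ∈ ai ((Q1 σ).map ev) ((Q1 σ).map ev) :=
  e.kkP (l := []) trivial ⟨hg, mem_stab'.2 ⟨e.An hg, k.mono le_rfl (h.fr1 e.pg)⟩⟩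
theorem in2 (e : Es p S ((Q2 σ).map ev) A) (hg : g ∈ A) (k : Cm g ((Q2 σ).map ev) ((Z3 σ).map ev)) :
    g ∈ ai ((Q2 σ).map ev) ((Q2 σ).map ev) :=
  e.kkP (l := []) trivial ⟨hg, mem_stab'.2 ⟨e.An hg, k.mono le_rfl (h.fr2 e.pg)⟩⟩
theorem wn {X : Subgroup (Dc σ)} (hw : Wt ev τ k l φ) (k' : ∀ c ∈ X, sc k l hw.hl φ c ∈ X) : τ ∈ nz (X.map ev) :=
  mem_nz_of_conj_mem (by rintro _ ⟨c, hc, rfl⟩; exact hw.cj c ▸ h.mm.2 (k' c hc))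
theorem wS (hw : Wt ev τ k l φ) : τ ∈ nz S := h.top ▸ h.wn hw fun _ _ => trivial
theorem w1 (hw : Wt ev τ k l φ) : τ ∈ nz ((Q1 σ).map ev) := h.gQ1 (h.wS hw)
theorem w2 (hw : Wt ev τ k l φ) : τ ∈ nz ((Q2 σ).map ev) := h.gQ2 (h.wS hw)
theorem agW (h1 : Wt ev τ k l φ) (h2 : Wt ev τ' k l φ) : Agree S τ τ' := fun x hx => by
  obtain ⟨c, -, rfl⟩ := h.ex hx
  rw [h1.cj, h2.cj]
theorem nM1 (y : Wy ev M1 M2) : M1 ∈ nz ((Q1 σ).map ev) := mem_nz_of_conj_mem (by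
  rintro _ ⟨c, hc, rfl⟩; rw [y.f1 c hc]; dt h [])
theorem nM2 (y : Wy ev M1 M2) : M2 ∈ nz ((Q2 σ).map ev) := mem_nz_of_conj_mem (by
  rintro _ ⟨c, hc, rfl⟩; rw [y.f2 c hc]; dt h [])
/-- changing coordinates by an inner automorphism -/
theorem conj (d : Dc σ) : Co S (ev.comp (MulAut.conj d).toMonoidHom) :=
  ⟨h.inj.comp (MulAut.conj d).injective, fun w => (h.mem w).trans
    ⟨fun ⟨c, e⟩ => ⟨d⁻¹ * c * d, by simp [e, mul_assoc]⟩, fun ⟨_, e⟩ => ⟨_, e⟩⟩⟩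
theorem conj_map (d : Dc σ) {X : Subgroup (Dc σ)} (hX : S ≤ nz (X.map ev)) :
    X.map (ev.comp (MulAut.conj d).toMonoidHom) = X.map ev := by
  rw [← mem_nz.1 (hX (h.mS d))]
  ext w
  exact ⟨fun ⟨c, hc, e⟩ => e ▸ by simpa using conj_mem_cj (ev d) (h.mm.2 hc), fun ⟨_, ⟨c, hc, rfl⟩, e⟩ => ⟨c, hc, by simpa using e⟩⟩
end Co

end H29.TD
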