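import Cfsg.Agent.H29.EM1

/-! Involutions of `U₆(2).2` on the module of order `2 ^ 20`: data and the final statement. -/

set_option autoImplicit false
set_option linter.unusedSectionVars false

namespace H29.EM
open H16 H0.TR H10.SE H10.SE.D H14.E6 Subgroup Cfsg

universe u

noncomputable def x0a : List ℕ := [nat_lit 1044429, nat_lit 357702]
noncomputable def x0r : List ℕ := [nat_lit 1, nat_lit 2, nat_lit 2, nat_lit 3, nat_lit 0, nat_lit 0, nat_lit 2, nat_lit 3, nat_lit 2, nat_lit 3, nat_lit 2, nat_lit 3, nat_lit 3, nat_lit 1, nat_lit 2, nat_lit 3, nat_lit 2, nat_lit 3, nat_lit 2, nat_lit 3]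
theorem x0c : kerC [(nth [] ML 6, nth [] ML 6)] x0a x0r 2 = true ∧
    allZ (fun i => Nat.xor (apM ML [6, 6, 6] (tp i)) (apM ML [] (tp i))) 0 20 = true := by decide +kernel

noncomputable def aW : List (List ℕ) := [[nat_lit 7, nat_lit 1, nat_lit 7, nat_lit 1],
  [nat_lit 6, nat_lit 8, nat_lit 5, nat_lit 8, nat_lit 3, nat_lit 7],
  [nat_lit 7, nat_lit 8, nat_lit 2, nat_lit 7, nat_lit 8, nat_lit 5, nat_lit 2],
  [nat_lit 8, nat_lit 3, nat_lit 8, nat_lit 7, nat_lit 2, nat_lit 8, nat_lit 1],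
  [nat_lit 6, nat_lit 4, nat_lit 8, nat_lit 2, nat_lit 7, nat_lit 3, nat_lit 8, nat_lit 1],
  [nat_lit 7, nat_lit 9, nat_lit 6],
  [nat_lit 0]]
noncomputable def aM : List (List ℕ) := [[nat_lit 919000, nat_lit 461420, nat_lit 89222, nat_lit 173259, nat_lit 840971, nat_lit 289293, nat_lit 59988, nat_lit 32680, nat_lit 619556, nat_lit 956472, nat_lit 619395, nat_lit 954817, nat_lit 135547, nat_lit 205469, nat_lit 338001, nat_lit 670882, nat_lit 312157, nat_lit 541094, nat_lit 872226, nat_lit 427315],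
  [nat_lit 965491, nat_lit 515473, nat_lit 45012, nat_lit 62824, nat_lit 453202, nat_lit 753571, nat_lit 485233, nat_lit 637330, nat_lit 44728, nat_lit 63452, nat_lit 759379, nat_lit 912289, nat_lit 647026, nat_lit 943507, nat_lit 44396, nat_lit 63156, nat_lit 327683, nat_lit 655361, nat_lit 884305, nat_lit 432034],
  [nat_lit 924406, nat_lit 470875, nat_lit 766655, nat_lit 906197, nat_lit 53766, nat_lit 25355, nat_lit 394019, nat_lit 721201, nat_lit 905687, nat_lit 418409, nat_lit 155503, nat_lit 239029, nat_lit 669085, nat_lit 989926, nat_lit 140139, nat_lit 209341, nat_lit 71700, nat_lit 142376, nat_lit 234937, nat_lit 125662],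
  [nat_lit 983042, nat_lit 327683, nat_lit 352, nat_lit 688, nat_lit 4, nat_lit 8, nat_lit 880, nat_lit 400, nat_lit 496, nat_lit 592, nat_lit 62464, nat_lit 22528, nat_lit 458753, nat_lit 589826, nat_lit 851969, nat_lit 393218, nat_lit 47104, nat_lit 56320, nat_lit 59392, nat_lit 31744],
  [nat_lit 205020, nat_lit 77924, nat_lit 694587, nat_lit 1043997, nat_lit 448568, nat_lit 748572, nat_lit 522427, nat_lit 613597, nat_lit 898940, nat_lit 448916, nat_lit 653094, nat_lit 940347, nat_lit 897026, nat_lit 446467, nat_lit 541212, nat_lit 820004, nat_lit 1021030, nat_lit 387259, nat_lit 749300, nat_lit 898904],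
  [nat_lit 540701, nat_lit 819258, nat_lit 262247, nat_lit 786618, nat_lit 16605, nat_lit 49255, nat_lit 311396, nat_lit 819384, nat_lit 78848, nat_lit 207872, nat_lit 78080, nat_lit 135936, nat_lit 133888, nat_lit 200192, nat_lit 540881, nat_lit 819378, nat_lit 13568, nat_lit 6912, nat_lit 311367, nat_lit 540877],
  [nat_lit 78016, nat_lit 135232, nat_lit 35364, nat_lit 53048, nat_lit 525596, nat_lit 789028, nat_lit 135170, nat_lit 204803, nat_lit 540956, nat_lit 819748, nat_lit 541724, nat_lit 821284, nat_lit 131138, nat_lit 196739, nat_lit 541964, nat_lit 821764, nat_lit 12481, nat_lit 4162, nat_lit 315184, nat_lit 541968]]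
noncomputable def aWm : List ℕ := [nat_lit 0, nat_lit 0, nat_lit 0, nat_lit 0, nat_lit 0, nat_lit 0, nat_lit 0, nat_lit 0, nat_lit 0, nat_lit 0, nat_lit 0, nat_lit 0, nat_lit 0, nat_lit 0, nat_lit 12, nat_lit 4, nat_lit 1, nat_lit 2, nat_lit 48, nat_lit 16]
noncomputable def aLa : List ℕ := [nat_lit 66, nat_lit 131, nat_lit 284, nat_lit 548, nat_lit 1052, nat_lit 2084, nat_lit 4098, nat_lit 8195]
noncomputable def aRa : List ℕ := [nat_lit 0, nat_lit 0, nat_lit 0, nat_lit 0, nat_lit 0, nat_lit 0, nat_lit 1, nat_lit 2, nat_lit 4, nat_lit 8, nat_lit 16, nat_lit 32, nat_lit 64, nat_lit 128, nat_lit 20, nat_lit 40, nat_lit 195, nat_lit 65, nat_lit 60, nat_lit 20]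
noncomputable def axa : List ℕ := [nat_lit 224757, nat_lit 112218]
noncomputable def axr : List ℕ := [nat_lit 1, nat_lit 2, nat_lit 1, nat_lit 2, nat_lit 2, nat_lit 3, nat_lit 2, nat_lit 3, nat_lit 1, nat_lit 2, nat_lit 2, nat_lit 3, nat_lit 3, nat_lit 1, nat_lit 1, nat_lit 2, nat_lit 2, nat_lit 3, nat_lit 0, nat_lit 0]
noncomputable def aC : List (List ℕ × ℕ) := [([], nat_lit 0),
  ([], nat_lit 1),
  ([nat_lit 0, nat_lit 0], nat_lit 1),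
  ([nat_lit 0], nat_lit 1),
  ([nat_lit 0, nat_lit 5], nat_lit 2),
  ([nat_lit 5, nat_lit 3, nat_lit 2, nat_lit 1], nat_lit 2),
  ([nat_lit 5, nat_lit 0, nat_lit 4], nat_lit 2),
  ([nat_lit 5, nat_lit 4], nat_lit 2),
  ([nat_lit 2, nat_lit 5], nat_lit 2),
  ([nat_lit 3, nat_lit 2, nat_lit 5, nat_lit 1], nat_lit 2),
  ([nat_lit 0, nat_lit 5, nat_lit 4], nat_lit 2),
  ([nat_lit 5, nat_lit 4, nat_lit 3], nat_lit 2),
  ([nat_lit 5], nat_lit 2),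
  ([nat_lit 5, nat_lit 3, nat_lit 3], nat_lit 2),
  ([nat_lit 4, nat_lit 5, nat_lit 1], nat_lit 2),
  ([nat_lit 4, nat_lit 5, nat_lit 0, nat_lit 3], nat_lit 2),
  ([nat_lit 4], nat_lit 2),
  ([nat_lit 0, nat_lit 4], nat_lit 2),
  ([nat_lit 3, nat_lit 2, nat_lit 1], nat_lit 2),
  ([nat_lit 2, nat_lit 0, nat_lit 2], nat_lit 2),
  ([nat_lit 2, nat_lit 5, nat_lit 0, nat_lit 2, nat_lit 0], nat_lit 1),
  ([nat_lit 1, nat_lit 5, nat_lit 3], nat_lit 1),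
  ([nat_lit 3, nat_lit 5, nat_lit 0, nat_lit 2, nat_lit 0], nat_lit 1),
  ([nat_lit 2, nat_lit 1, nat_lit 5, nat_lit 2, nat_lit 0], nat_lit 1),
  ([nat_lit 2, nat_lit 5, nat_lit 1], nat_lit 1),
  ([nat_lit 1, nat_lit 5, nat_lit 4, nat_lit 0, nat_lit 0], nat_lit 1),
  ([nat_lit 3, nat_lit 5, nat_lit 1], nat_lit 1),
  ([nat_lit 3, nat_lit 4, nat_lit 5, nat_lit 3], nat_lit 1),
  ([nat_lit 0, nat_lit 3, nat_lit 5, nat_lit 1], nat_lit 1),
  ([nat_lit 1, nat_lit 5, nat_lit 2, nat_lit 1], nat_lit 1),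
  ([nat_lit 1, nat_lit 2, nat_lit 5, nat_lit 2], nat_lit 1),
  ([nat_lit 1, nat_lit 1, nat_lit 5, nat_lit 1], nat_lit 1),
  ([nat_lit 3, nat_lit 3], nat_lit 2),
  ([], nat_lit 2),
  ([nat_lit 0, nat_lit 3, nat_lit 3], nat_lit 2),
  ([nat_lit 1, nat_lit 4], nat_lit 2),
  ([nat_lit 2, nat_lit 5, nat_lit 2, nat_lit 0], nat_lit 1),
  ([nat_lit 5, nat_lit 1, nat_lit 1, nat_lit 5, nat_lit 1], nat_lit 1),
  ([nat_lit 1, nat_lit 5, nat_lit 4, nat_lit 0], nat_lit 1),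
  ([nat_lit 3, nat_lit 5, nat_lit 2, nat_lit 0], nat_lit 1),
  ([nat_lit 5, nat_lit 1, nat_lit 5, nat_lit 4], nat_lit 1),
  ([nat_lit 1, nat_lit 1, nat_lit 5, nat_lit 2, nat_lit 0], nat_lit 1),
  ([nat_lit 5, nat_lit 3, nat_lit 5, nat_lit 2], nat_lit 1),
  ([nat_lit 1, nat_lit 2, nat_lit 5, nat_lit 1], nat_lit 1),
  ([nat_lit 2, nat_lit 5, nat_lit 0, nat_lit 2], nat_lit 1),
  ([nat_lit 2, nat_lit 1, nat_lit 5, nat_lit 2], nat_lit 1),
  ([nat_lit 1, nat_lit 5, nat_lit 1, nat_lit 2], nat_lit 1),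
  ([nat_lit 3, nat_lit 5, nat_lit 0, nat_lit 2], nat_lit 1),
  ([nat_lit 3, nat_lit 1, nat_lit 2], nat_lit 2),
  ([nat_lit 4, nat_lit 3], nat_lit 2),
  ([nat_lit 4, nat_lit 1], nat_lit 2),
  ([nat_lit 4, nat_lit 0, nat_lit 3], nat_lit 2),
  ([nat_lit 0, nat_lit 3, nat_lit 5, nat_lit 2], nat_lit 1),
  ([nat_lit 5, nat_lit 2, nat_lit 5, nat_lit 1], nat_lit 1),
  ([nat_lit 1, nat_lit 1, nat_lit 5, nat_lit 2], nat_lit 1),
  ([nat_lit 5, nat_lit 3, nat_lit 5, nat_lit 1], nat_lit 1),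
  ([nat_lit 2, nat_lit 5, nat_lit 0, nat_lit 1], nat_lit 1),
  ([nat_lit 3, nat_lit 5, nat_lit 0, nat_lit 1], nat_lit 1),
  ([nat_lit 2, nat_lit 1, nat_lit 5, nat_lit 1], nat_lit 1),
  ([nat_lit 1, nat_lit 5, nat_lit 3, nat_lit 0], nat_lit 1),
  ([nat_lit 2, nat_lit 5, nat_lit 2], nat_lit 1),
  ([nat_lit 3, nat_lit 5, nat_lit 2], nat_lit 1),
  ([nat_lit 3, nat_lit 4, nat_lit 5, nat_lit 3, nat_lit 0], nat_lit 1),
  ([nat_lit 1, nat_lit 5, nat_lit 4], nat_lit 1),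
  ([nat_lit 4], nat_lit 1),
  ([nat_lit 0, nat_lit 1], nat_lit 1),
  ([nat_lit 1, nat_lit 1, nat_lit 4], nat_lit 2),
  ([nat_lit 4, nat_lit 1, nat_lit 1], nat_lit 2),
  ([nat_lit 1, nat_lit 5, nat_lit 3], nat_lit 2),
  ([nat_lit 4, nat_lit 5, nat_lit 0, nat_lit 2], nat_lit 2),
  ([nat_lit 3, nat_lit 3, nat_lit 5, nat_lit 1], nat_lit 1),
  ([nat_lit 4, nat_lit 5, nat_lit 2, nat_lit 0], nat_lit 1),
  ([nat_lit 1, nat_lit 0, nat_lit 5, nat_lit 1], nat_lit 2),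
  ([nat_lit 2, nat_lit 2, nat_lit 5, nat_lit 1], nat_lit 2),
  ([nat_lit 4, nat_lit 5, nat_lit 2, nat_lit 1], nat_lit 1),
  ([nat_lit 2, nat_lit 5, nat_lit 4], nat_lit 1),
  ([nat_lit 2, nat_lit 1, nat_lit 5, nat_lit 1], nat_lit 2),
  ([nat_lit 3, nat_lit 5, nat_lit 1], nat_lit 2),
  ([nat_lit 4, nat_lit 5, nat_lit 3], nat_lit 1),
  ([nat_lit 4, nat_lit 5, nat_lit 0, nat_lit 2], nat_lit 1),
  ([nat_lit 3, nat_lit 3, nat_lit 1], nat_lit 2),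
  ([nat_lit 0, nat_lit 2], nat_lit 2),
  ([nat_lit 4, nat_lit 2, nat_lit 1], nat_lit 1),
  ([nat_lit 3, nat_lit 0], nat_lit 1),
  ([nat_lit 0, nat_lit 4, nat_lit 5, nat_lit 2], nat_lit 1),
  ([nat_lit 1, nat_lit 5, nat_lit 0, nat_lit 2], nat_lit 1),
  ([nat_lit 0, nat_lit 4, nat_lit 5, nat_lit 3, nat_lit 1], nat_lit 2),
  ([nat_lit 2, nat_lit 5, nat_lit 2, nat_lit 3], nat_lit 2),
  ([nat_lit 2, nat_lit 2, nat_lit 5, nat_lit 2], nat_lit 1),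
  ([nat_lit 1, nat_lit 5, nat_lit 2, nat_lit 0], nat_lit 1),
  ([nat_lit 0, nat_lit 4, nat_lit 5, nat_lit 2], nat_lit 2),
  ([nat_lit 0, nat_lit 1, nat_lit 5, nat_lit 1], nat_lit 2),
  ([nat_lit 3, nat_lit 1, nat_lit 5, nat_lit 2], nat_lit 1),
  ([nat_lit 1, nat_lit 5, nat_lit 0, nat_lit 0, nat_lit 1], nat_lit 1),
  ([nat_lit 4, nat_lit 0, nat_lit 2, nat_lit 5, nat_lit 1], nat_lit 2),
  ([nat_lit 3, nat_lit 5, nat_lit 4], nat_lit 2),
  ([nat_lit 0, nat_lit 2, nat_lit 1], nat_lit 2),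
  ([nat_lit 4, nat_lit 0, nat_lit 2], nat_lit 2),
  ([nat_lit 3, nat_lit 3, nat_lit 1], nat_lit 1),
  ([nat_lit 3, nat_lit 1], nat_lit 1),
  ([nat_lit 5, nat_lit 2], nat_lit 1),
  ([nat_lit 5, nat_lit 2, nat_lit 2], nat_lit 1),
  ([nat_lit 5, nat_lit 3], nat_lit 2),
  ([nat_lit 2, nat_lit 5, nat_lit 2], nat_lit 2),
  ([nat_lit 5, nat_lit 4, nat_lit 2, nat_lit 1], nat_lit 1),
  ([nat_lit 5, nat_lit 3, nat_lit 0], nat_lit 1),
  ([nat_lit 0, nat_lit 5, nat_lit 1], nat_lit 2),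
  ([nat_lit 5, nat_lit 0, nat_lit 2], nat_lit 2),
  ([nat_lit 5, nat_lit 0, nat_lit 1], nat_lit 1),
  ([nat_lit 5, nat_lit 4], nat_lit 1),
  ([nat_lit 5, nat_lit 4, nat_lit 1, nat_lit 1], nat_lit 2),
  ([nat_lit 0, nat_lit 5, nat_lit 2], nat_lit 2),
  ([nat_lit 0, nat_lit 3, nat_lit 1], nat_lit 2),
  ([nat_lit 3], nat_lit 2),
  ([nat_lit 2, nat_lit 2], nat_lit 1),
  ([nat_lit 2], nat_lit 1),
  ([nat_lit 4, nat_lit 3, nat_lit 5, nat_lit 1], nat_lit 1),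
  ([nat_lit 1, nat_lit 3, nat_lit 3, nat_lit 5, nat_lit 1], nat_lit 1),
  ([nat_lit 0, nat_lit 2, nat_lit 5, nat_lit 3], nat_lit 2),
  ([nat_lit 1, nat_lit 5, nat_lit 4], nat_lit 2),
  ([nat_lit 3, nat_lit 5, nat_lit 1, nat_lit 2], nat_lit 1),
  ([nat_lit 4, nat_lit 3, nat_lit 5, nat_lit 4, nat_lit 0], nat_lit 1),
  ([nat_lit 4, nat_lit 2, nat_lit 5, nat_lit 3], nat_lit 2),
  ([nat_lit 2, nat_lit 5, nat_lit 3, nat_lit 3], nat_lit 2),
  ([nat_lit 3, nat_lit 5, nat_lit 4, nat_lit 0], nat_lit 1),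
  ([nat_lit 1, nat_lit 4, nat_lit 5, nat_lit 3], nat_lit 1),
  ([nat_lit 3, nat_lit 1, nat_lit 5, nat_lit 1], nat_lit 2),
  ([nat_lit 2, nat_lit 5, nat_lit 3, nat_lit 2, nat_lit 1], nat_lit 2),
  ([nat_lit 4, nat_lit 0, nat_lit 0], nat_lit 1),
  ([nat_lit 0, nat_lit 2, nat_lit 3], nat_lit 2),
  ([nat_lit 0, nat_lit 2, nat_lit 0], nat_lit 1),
  ([nat_lit 2], nat_lit 2),
  ([nat_lit 1, nat_lit 5, nat_lit 1], nat_lit 2),
  ([nat_lit 2, nat_lit 5, nat_lit 4, nat_lit 0, nat_lit 0], nat_lit 1),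
  ([nat_lit 4, nat_lit 5, nat_lit 2], nat_lit 2),
  ([nat_lit 0, nat_lit 3, nat_lit 5, nat_lit 3], nat_lit 1),
  ([nat_lit 4, nat_lit 4, nat_lit 5, nat_lit 1], nat_lit 2),
  ([nat_lit 4, nat_lit 5, nat_lit 0, nat_lit 1], nat_lit 1),
  ([nat_lit 3, nat_lit 5, nat_lit 4, nat_lit 4], nat_lit 2),
  ([nat_lit 4, nat_lit 5, nat_lit 1, nat_lit 2], nat_lit 1),
  ([nat_lit 1, nat_lit 5, nat_lit 1, nat_lit 2], nat_lit 2),
  ([nat_lit 4, nat_lit 5, nat_lit 2], nat_lit 1),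
  ([nat_lit 4, nat_lit 5, nat_lit 3, nat_lit 1], nat_lit 2),
  ([nat_lit 4, nat_lit 5, nat_lit 4, nat_lit 0], nat_lit 1),
  ([nat_lit 1, nat_lit 0, nat_lit 3], nat_lit 2),
  ([nat_lit 1], nat_lit 1),
  ([nat_lit 1, nat_lit 2], nat_lit 2),
  ([nat_lit 2, nat_lit 1], nat_lit 1),
  ([nat_lit 3, nat_lit 5, nat_lit 3, nat_lit 0], nat_lit 1),
  ([nat_lit 2, nat_lit 0, nat_lit 5, nat_lit 4], nat_lit 2),
  ([nat_lit 4, nat_lit 3, nat_lit 5, nat_lit 4], nat_lit 1),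
  ([nat_lit 0, nat_lit 2, nat_lit 5, nat_lit 1], nat_lit 2),
  ([nat_lit 3, nat_lit 5, nat_lit 4], nat_lit 1),
  ([nat_lit 4, nat_lit 3, nat_lit 5, nat_lit 1], nat_lit 2),
  ([nat_lit 5, nat_lit 4, nat_lit 5, nat_lit 2], nat_lit 1),
  ([nat_lit 4, nat_lit 2, nat_lit 5, nat_lit 1], nat_lit 2),
  ([nat_lit 3, nat_lit 5, nat_lit 2, nat_lit 2], nat_lit 1),
  ([nat_lit 1, nat_lit 5, nat_lit 3, nat_lit 3], nat_lit 2),
  ([nat_lit 4, nat_lit 3, nat_lit 5, nat_lit 3, nat_lit 0], nat_lit 1),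
  ([nat_lit 1, nat_lit 2, nat_lit 1, nat_lit 5, nat_lit 1], nat_lit 2),
  ([nat_lit 1], nat_lit 2),
  ([nat_lit 3], nat_lit 1),
  ([nat_lit 3, nat_lit 1], nat_lit 2),
  ([nat_lit 0, nat_lit 0, nat_lit 2], nat_lit 1),
  ([nat_lit 2, nat_lit 2, nat_lit 5, nat_lit 1], nat_lit 1),
  ([nat_lit 2, nat_lit 0, nat_lit 5, nat_lit 1], nat_lit 2),
  ([nat_lit 1, nat_lit 5, nat_lit 2], nat_lit 1),
  ([nat_lit 0, nat_lit 3, nat_lit 5, nat_lit 3], nat_lit 2),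
  ([nat_lit 3, nat_lit 1, nat_lit 5, nat_lit 1], nat_lit 1),
  ([nat_lit 5, nat_lit 1, nat_lit 5, nat_lit 1], nat_lit 2),
  ([nat_lit 0, nat_lit 4, nat_lit 5, nat_lit 3, nat_lit 0], nat_lit 1),
  ([nat_lit 5, nat_lit 4, nat_lit 5, nat_lit 2], nat_lit 2),
  ([nat_lit 0, nat_lit 4, nat_lit 5, nat_lit 1], nat_lit 1),
  ([nat_lit 2, nat_lit 5, nat_lit 3], nat_lit 2),
  ([nat_lit 1, nat_lit 5, nat_lit 0, nat_lit 1], nat_lit 1),
  ([nat_lit 4, nat_lit 1, nat_lit 1, nat_lit 5, nat_lit 1], nat_lit 2),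
  ([nat_lit 2, nat_lit 1], nat_lit 2),
  ([nat_lit 4, nat_lit 2], nat_lit 1),
  ([nat_lit 4, nat_lit 3, nat_lit 1], nat_lit 2),
  ([nat_lit 4, nat_lit 4, nat_lit 0], nat_lit 1),
  ([nat_lit 3, nat_lit 2, nat_lit 5, nat_lit 1], nat_lit 1),
  ([nat_lit 5, nat_lit 3, nat_lit 1], nat_lit 2),
  ([nat_lit 5, nat_lit 3], nat_lit 1),
  ([nat_lit 5, nat_lit 1], nat_lit 2),
  ([nat_lit 5, nat_lit 0, nat_lit 2, nat_lit 0], nat_lit 1),
  ([nat_lit 5, nat_lit 2], nat_lit 2),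
  ([nat_lit 5, nat_lit 4, nat_lit 0, nat_lit 0], nat_lit 1),
  ([nat_lit 2, nat_lit 3, nat_lit 5, nat_lit 1], nat_lit 2),
  ([nat_lit 5, nat_lit 1], nat_lit 1),
  ([nat_lit 5, nat_lit 1, nat_lit 0, nat_lit 3], nat_lit 2),
  ([nat_lit 5, nat_lit 2, nat_lit 1], nat_lit 1),
  ([nat_lit 5, nat_lit 1, nat_lit 2], nat_lit 2),
  ([nat_lit 4, nat_lit 0], nat_lit 1),
  ([nat_lit 2, nat_lit 4, nat_lit 1], nat_lit 2),
  ([nat_lit 0, nat_lit 3], nat_lit 2),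
  ([nat_lit 0, nat_lit 2], nat_lit 1),
  ([nat_lit 1, nat_lit 5, nat_lit 0, nat_lit 3], nat_lit 2),
  ([nat_lit 4, nat_lit 5, nat_lit 3, nat_lit 0], nat_lit 1),
  ([nat_lit 2, nat_lit 5, nat_lit 3, nat_lit 4], nat_lit 1),
  ([nat_lit 3, nat_lit 0, nat_lit 5, nat_lit 1], nat_lit 2),
  ([nat_lit 1, nat_lit 5, nat_lit 2, nat_lit 3], nat_lit 2),
  ([nat_lit 4, nat_lit 5, nat_lit 4], nat_lit 1),
  ([nat_lit 4, nat_lit 5, nat_lit 1], nat_lit 1),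
  ([nat_lit 2, nat_lit 2, nat_lit 5, nat_lit 3], nat_lit 2),
  ([nat_lit 4, nat_lit 5, nat_lit 4], nat_lit 2),
  ([nat_lit 4, nat_lit 5, nat_lit 2, nat_lit 2], nat_lit 1),
  ([nat_lit 2, nat_lit 5, nat_lit 4, nat_lit 0], nat_lit 1),
  ([nat_lit 3, nat_lit 5, nat_lit 3], nat_lit 2),
  ([nat_lit 1, nat_lit 1], nat_lit 2),
  ([nat_lit 4, nat_lit 4], nat_lit 1),
  ([nat_lit 4, nat_lit 1], nat_lit 1),
  ([nat_lit 2, nat_lit 0, nat_lit 4], nat_lit 2),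
  ([nat_lit 5, nat_lit 0, nat_lit 2], nat_lit 1),
  ([nat_lit 5, nat_lit 0, nat_lit 3], nat_lit 2),
  ([nat_lit 5, nat_lit 2, nat_lit 4, nat_lit 1], nat_lit 2),
  ([nat_lit 5, nat_lit 4, nat_lit 0], nat_lit 1),
  ([nat_lit 5, nat_lit 2, nat_lit 0], nat_lit 1),
  ([nat_lit 5, nat_lit 2, nat_lit 3], nat_lit 2),
  ([nat_lit 5, nat_lit 0, nat_lit 0, nat_lit 2], nat_lit 2),
  ([nat_lit 5, nat_lit 3, nat_lit 4], nat_lit 1),
  ([nat_lit 5, nat_lit 0, nat_lit 0, nat_lit 1], nat_lit 1),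
  ([nat_lit 5, nat_lit 4, nat_lit 4], nat_lit 2),
  ([nat_lit 5, nat_lit 1, nat_lit 2, nat_lit 1], nat_lit 2),
  ([nat_lit 5, nat_lit 1, nat_lit 2], nat_lit 1),
  ([nat_lit 0, nat_lit 0, nat_lit 2], nat_lit 2),
  ([nat_lit 3, nat_lit 4], nat_lit 1),
  ([nat_lit 2, nat_lit 0], nat_lit 1),
  ([nat_lit 2, nat_lit 3], nat_lit 2),
  ([nat_lit 2, nat_lit 3, nat_lit 5, nat_lit 4], nat_lit 1),
  ([nat_lit 1, nat_lit 1, nat_lit 5, nat_lit 1], nat_lit 2),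
  ([nat_lit 2, nat_lit 5, nat_lit 4, nat_lit 3], nat_lit 2),
  ([nat_lit 5, nat_lit 4, nat_lit 5, nat_lit 1], nat_lit 1),
  ([nat_lit 3, nat_lit 5, nat_lit 2, nat_lit 1], nat_lit 1),
  ([nat_lit 2, nat_lit 2, nat_lit 5, nat_lit 4], nat_lit 2),
  ([nat_lit 1, nat_lit 0, nat_lit 5, nat_lit 4], nat_lit 2),
  ([nat_lit 4, nat_lit 3, nat_lit 5, nat_lit 3], nat_lit 1),
  ([nat_lit 3, nat_lit 5, nat_lit 3], nat_lit 1),
  ([nat_lit 3, nat_lit 1, nat_lit 5, nat_lit 3], nat_lit 2),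
  ([nat_lit 2, nat_lit 5, nat_lit 4], nat_lit 2),
  ([nat_lit 1, nat_lit 4, nat_lit 5, nat_lit 2, nat_lit 2], nat_lit 1),
  ([nat_lit 4, nat_lit 4], nat_lit 2),
  ([nat_lit 0, nat_lit 0, nat_lit 1], nat_lit 1),
  ([nat_lit 1, nat_lit 2], nat_lit 1),
  ([nat_lit 1, nat_lit 2, nat_lit 1], nat_lit 2),
  ([nat_lit 4, nat_lit 2, nat_lit 5, nat_lit 1], nat_lit 1),
  ([nat_lit 0, nat_lit 3, nat_lit 5, nat_lit 1], nat_lit 2),
  ([nat_lit 3, nat_lit 0, nat_lit 5, nat_lit 4], nat_lit 2),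
  ([nat_lit 0, nat_lit 4, nat_lit 5, nat_lit 3], nat_lit 1),
  ([nat_lit 0, nat_lit 4, nat_lit 5, nat_lit 2, nat_lit 0], nat_lit 1),
  ([nat_lit 5, nat_lit 2, nat_lit 5, nat_lit 4], nat_lit 2),
  ([nat_lit 3, nat_lit 4, nat_lit 5, nat_lit 1], nat_lit 2),
  ([nat_lit 5, nat_lit 3, nat_lit 5, nat_lit 3], nat_lit 1),
  ([nat_lit 0, nat_lit 2, nat_lit 5, nat_lit 4], nat_lit 1),
  ([nat_lit 0, nat_lit 2, nat_lit 2, nat_lit 5, nat_lit 1], nat_lit 2),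
  ([nat_lit 2, nat_lit 5, nat_lit 1], nat_lit 2),
  ([nat_lit 1, nat_lit 5, nat_lit 1], nat_lit 1)]
theorem ac : CkC ML aW aM 10 6 1 := by decide +kernel
theorem ata : Ta (nth [] aM 6) aWm aLa aRa 8 := by decide +kernel
theorem ae : allZ (ent (nth [] aM 6) aM 6 aWm aLa [0, 1, 33] aC) 0 (2 ^ 8) = true := by decide +kernel

noncomputable def bW : List (List ℕ) := [[nat_lit 6, nat_lit 3, nat_lit 6, nat_lit 3, nat_lit 6, nat_lit 1],
  [nat_lit 3, nat_lit 0, nat_lit 1],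
  [nat_lit 1, nat_lit 5, nat_lit 6, nat_lit 3, nat_lit 7, nat_lit 2],
  [nat_lit 0, nat_lit 9]]
noncomputable def bM : List (List ℕ) := [[nat_lit 16643, nat_lit 33281, nat_lit 13524, nat_lit 6248, nat_lit 71752, nat_lit 142476, nat_lit 142396, nat_lit 209940, nat_lit 524801, nat_lit 787202, nat_lit 69736, nat_lit 139452, nat_lit 134332, nat_lit 197844, nat_lit 557057, nat_lit 835586, nat_lit 210128, nat_lit 71776, nat_lit 836352, nat_lit 278784],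
  [nat_lit 600422, nat_lit 933563, nat_lit 450388, nat_lit 746920, nat_lit 822792, nat_lit 313100, nat_lit 206980, nat_lit 81096, nat_lit 898804, nat_lit 449368, nat_lit 968029, nat_lit 477862, nat_lit 999035, nat_lit 333725, nat_lit 395100, nat_lit 723364, nat_lit 721282, nat_lit 852675, nat_lit 364027, nat_lit 706141],
  [nat_lit 32680, nat_lit 38396, nat_lit 675619, nat_lit 1017137, nat_lit 496067, nat_lit 647745, nat_lit 283909, nat_lit 567818, nat_lit 803503, nat_lit 295925, nat_lit 867491, nat_lit 398577, nat_lit 948268, nat_lit 498740, nat_lit 592504, nat_lit 921500, nat_lit 242885, nat_lit 120906, nat_lit 144239, nat_lit 201141],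
  [nat_lit 897244, nat_lit 675940, nat_lit 517586, nat_lit 4019, nat_lit 518725, nat_lit 517582, nat_lit 954398, nat_lit 516155, nat_lit 956452, nat_lit 619548, nat_lit 897572, nat_lit 676124, nat_lit 317818, nat_lit 12163, nat_lit 994042, nat_lit 730489, nat_lit 378617, nat_lit 444794, nat_lit 53123, nat_lit 240378]]
noncomputable def bWm : List ℕ := [nat_lit 0, nat_lit 0, nat_lit 0, nat_lit 0, nat_lit 0, nat_lit 28, nat_lit 0, nat_lit 0, nat_lit 0, nat_lit 339, nat_lit 27, nat_lit 348, nat_lit 0, nat_lit 0, nat_lit 0, nat_lit 0, nat_lit 16467, nat_lit 16402, nat_lit 94, nat_lit 16396]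
noncomputable def bLa : List ℕ := [nat_lit 131, nat_lit 4382, nat_lit 8212, nat_lit 49226]
noncomputable def bRa : List ℕ := [nat_lit 0, nat_lit 0, nat_lit 0, nat_lit 0, nat_lit 0, nat_lit 0, nat_lit 0, nat_lit 1, nat_lit 0, nat_lit 1, nat_lit 0, nat_lit 0, nat_lit 2, nat_lit 4, nat_lit 0, nat_lit 8, nat_lit 14, nat_lit 11, nat_lit 8, nat_lit 9]
noncomputable def bxa : List ℕ := [nat_lit 6244, nat_lit 11448]
noncomputable def bxr : List ℕ := [nat_lit 0, nat_lit 0, nat_lit 1, nat_lit 2, nat_lit 3, nat_lit 1, nat_lit 1, nat_lit 2, nat_lit 0, nat_lit 0, nat_lit 3, nat_lit 1, nat_lit 1, nat_lit 2, nat_lit 0, nat_lit 0, nat_lit 0, nat_lit 0, nat_lit 0, nat_lit 0]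
noncomputable def bC : List (List ℕ × ℕ) := [([], nat_lit 0),
  ([], nat_lit 1),
  ([], nat_lit 2),
  ([nat_lit 1], nat_lit 1),
  ([nat_lit 2], nat_lit 2),
  ([nat_lit 1], nat_lit 2),
  ([nat_lit 1, nat_lit 1], nat_lit 1),
  ([nat_lit 1, nat_lit 1], nat_lit 2),
  ([nat_lit 2], nat_lit 1),
  ([nat_lit 2, nat_lit 2], nat_lit 1),
  ([nat_lit 0, nat_lit 0], nat_lit 1),
  ([nat_lit 0, nat_lit 2], nat_lit 2),
  ([nat_lit 1, nat_lit 0], nat_lit 1),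
  ([nat_lit 1, nat_lit 2], nat_lit 1),
  ([nat_lit 0], nat_lit 1),
  ([nat_lit 2, nat_lit 1], nat_lit 2)]
theorem bc : CkC ML bW bM 10 3 1 := by decide +kernel
theorem bta : Ta (nth [] bM 3) bWm bLa bRa 4 := by decide +kernel
theorem be : allZ (ent (nth [] bM 3) bM 3 bWm bLa [0, 1, 2] bC) 0 (2 ^ 4) = true := by decide +kernel

noncomputable def cW : List (List ℕ) := [[nat_lit 0, nat_lit 6, nat_lit 0, nat_lit 7, nat_lit 9]]
noncomputable def cM : List (List ℕ) := [[nat_lit 618533, nat_lit 954398, nat_lit 730489, nat_lit 266115, nat_lit 240378, nat_lit 222585, nat_lit 675940, nat_lit 516280, nat_lit 956452, nat_lit 619548, nat_lit 897572, nat_lit 676124, nat_lit 317818, nat_lit 12163, nat_lit 518753, nat_lit 517586, nat_lit 378617, nat_lit 444794, nat_lit 3979, nat_lit 518725]]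
noncomputable def cWm : List ℕ := [nat_lit 0, nat_lit 0, nat_lit 0, nat_lit 0, nat_lit 0, nat_lit 0, nat_lit 4410, nat_lit 8963, nat_lit 0, nat_lit 0, nat_lit 513, nat_lit 258, nat_lit 0, nat_lit 0, nat_lit 4896, nat_lit 13072, nat_lit 37, nat_lit 30, nat_lit 8200, nat_lit 4868]
theorem cc : CkC ML cW cM 10 0 0 := by decide +kernel
theorem cta : Ta (nth [] cM 0) cWm [] [] 0 := by decide +kernel

noncomputable def dW : List (List ℕ) := [[nat_lit 1, nat_lit 6, nat_lit 8, nat_lit 0, nat_lit 5, nat_lit 8, nat_lit 1],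
  [nat_lit 5, nat_lit 1, nat_lit 5, nat_lit 7, nat_lit 9, nat_lit 2, nat_lit 7, nat_lit 0],
  [nat_lit 4, nat_lit 6, nat_lit 8, nat_lit 4, nat_lit 8, nat_lit 2, nat_lit 2, nat_lit 2],
  [nat_lit 1, nat_lit 7, nat_lit 8, nat_lit 4, nat_lit 8, nat_lit 0, nat_lit 2],
  [nat_lit 1, nat_lit 6, nat_lit 5, nat_lit 6, nat_lit 4, nat_lit 6],
  [nat_lit 6, nat_lit 4, nat_lit 8, nat_lit 0, nat_lit 4, nat_lit 2, nat_lit 8, nat_lit 1],
  [nat_lit 4, nat_lit 7, nat_lit 1, nat_lit 4, nat_lit 8, nat_lit 5, nat_lit 8, nat_lit 9, nat_lit 6, nat_lit 10]]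
noncomputable def dM : List (List ℕ) := [[nat_lit 745957, nat_lit 897658, nat_lit 851703, nat_lit 284505, nat_lit 1001878, nat_lit 364267, nat_lit 745831, nat_lit 897721, nat_lit 541094, nat_lit 819963, nat_lit 822328, nat_lit 312348, nat_lit 45259, nat_lit 53325, nat_lit 818943, nat_lit 300885, nat_lit 721058, nat_lit 852211, nat_lit 477622, nat_lit 626395],
  [nat_lit 706918, nat_lit 495545, nat_lit 678061, nat_lit 898138, nat_lit 311435, nat_lit 540741, nat_lit 678121, nat_lit 898198, nat_lit 137284, nat_lit 79052, nat_lit 244446, nat_lit 89445, nat_lit 149761, nat_lit 249603, nat_lit 690535, nat_lit 479162, nat_lit 179934, nat_lit 218469, nat_lit 99550, nat_lit 149605],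
  [nat_lit 804656, nat_lit 297232, nat_lit 143362, nat_lit 200707, nat_lit 52780, nat_lit 18228, nat_lit 264472, nat_lit 527916, nat_lit 295192, nat_lit 573996, nat_lit 131202, nat_lit 196803, nat_lit 8257, nat_lit 12418, nat_lit 73792, nat_lit 143488, nat_lit 296984, nat_lit 576556, nat_lit 297224, nat_lit 577036],
  [nat_lit 650748, nat_lit 947796, nat_lit 37762, nat_lit 57795, nat_lit 154357, nat_lit 241498, nat_lit 158389, nat_lit 245722, nat_lit 74976, nat_lit 145520, nat_lit 319130, nat_lit 550895, nat_lit 286106, nat_lit 567023, nat_lit 805424, nat_lit 298768, nat_lit 31348, nat_lit 40856, nat_lit 649692, nat_lit 949860],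
  [nat_lit 8324, nat_lit 12488, nat_lit 49921, nat_lit 16642, nat_lit 524288, nat_lit 786432, nat_lit 17155, nat_lit 33025, nat_lit 49411, nat_lit 16897, nat_lit 198688, nat_lit 68656, nat_lit 4232, nat_lit 8396, nat_lit 8264, nat_lit 12428, nat_lit 134176, nat_lit 197680, nat_lit 133168, nat_lit 199696],
  [nat_lit 3128, nat_lit 1052, nat_lit 745857, nat_lit 897730, nat_lit 618947, nat_lit 954945, nat_lit 350872, nat_lit 700396, nat_lit 370024, nat_lit 719548, nat_lit 1024643, nat_lit 390081, nat_lit 977368, nat_lit 491116, nat_lit 948136, nat_lit 498172, nat_lit 419572, nat_lit 768856, nat_lit 441748, nat_lit 775912],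
  [nat_lit 866149, nat_lit 333142, nat_lit 533044, nat_lit 390939, nat_lit 494730, nat_lit 936141, nat_lit 533104, nat_lit 391059, nat_lit 236750, nat_lit 123975, nat_lit 598576, nat_lit 512871, nat_lit 166350, nat_lit 116295, nat_lit 882532, nat_lit 365908, nat_lit 534064, nat_lit 319335, nat_lit 166042, nat_lit 115831]]
noncomputable def dWm : List ℕ := [nat_lit 0, nat_lit 0, nat_lit 0, nat_lit 0, nat_lit 0, nat_lit 0, nat_lit 0, nat_lit 0, nat_lit 0, nat_lit 0, nat_lit 0, nat_lit 0, nat_lit 0, nat_lit 0, nat_lit 2064, nat_lit 2074, nat_lit 57, nat_lit 2056, nat_lit 59, nat_lit 3]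
noncomputable def dLa : List ℕ := [nat_lit 7, nat_lit 67, nat_lit 136, nat_lit 299, nat_lit 563, nat_lit 1082, nat_lit 4114, nat_lit 8243]
noncomputable def dRa : List ℕ := [nat_lit 0, nat_lit 0, nat_lit 1, nat_lit 0, nat_lit 0, nat_lit 0, nat_lit 2, nat_lit 4, nat_lit 8, nat_lit 16, nat_lit 32, nat_lit 0, nat_lit 64, nat_lit 128, nat_lit 127, nat_lit 236, nat_lit 32, nat_lit 163, nat_lit 75, nat_lit 144]
noncomputable def dxa : List ℕ := [nat_lit 311901, nat_lit 541606]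
noncomputable def dxr : List ℕ := [nat_lit 1, nat_lit 2, nat_lit 2, nat_lit 3, nat_lit 1, nat_lit 2, nat_lit 1, nat_lit 2, nat_lit 3, nat_lit 1, nat_lit 0, nat_lit 0, nat_lit 0, nat_lit 0, nat_lit 2, nat_lit 3, nat_lit 0, nat_lit 0, nat_lit 1, nat_lit 2]
noncomputable def dC : List (List ℕ × ℕ) := [([], nat_lit 0),
  ([], nat_lit 1),
  ([nat_lit 0, nat_lit 1], nat_lit 1),
  ([nat_lit 0, nat_lit 4], nat_lit 1),
  ([nat_lit 1, nat_lit 5], nat_lit 1),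
  ([nat_lit 0, nat_lit 3], nat_lit 2),
  ([nat_lit 2, nat_lit 2, nat_lit 2], nat_lit 2),
  ([nat_lit 5], nat_lit 1),
  ([nat_lit 0, nat_lit 4, nat_lit 2], nat_lit 1),
  ([nat_lit 5, nat_lit 1, nat_lit 4, nat_lit 1], nat_lit 2),
  ([nat_lit 3, nat_lit 5], nat_lit 1),
  ([nat_lit 3, nat_lit 5, nat_lit 4], nat_lit 2),
  ([nat_lit 3, nat_lit 4, nat_lit 1], nat_lit 1),
  ([nat_lit 2, nat_lit 3, nat_lit 3], nat_lit 1),
  ([nat_lit 5], nat_lit 2),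
  ([nat_lit 2, nat_lit 4, nat_lit 4], nat_lit 2),
  ([nat_lit 3, nat_lit 1, nat_lit 3], nat_lit 2),
  ([nat_lit 4, nat_lit 3, nat_lit 2], nat_lit 2),
  ([nat_lit 2, nat_lit 2], nat_lit 2),
  ([nat_lit 0, nat_lit 5, nat_lit 1], nat_lit 2),
  ([nat_lit 3], nat_lit 2),
  ([nat_lit 3, nat_lit 0, nat_lit 4], nat_lit 1),
  ([nat_lit 5, nat_lit 0], nat_lit 1),
  ([nat_lit 5, nat_lit 4, nat_lit 2], nat_lit 2),
  ([nat_lit 1, nat_lit 5], nat_lit 2),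
  ([nat_lit 5, nat_lit 1, nat_lit 1], nat_lit 1),
  ([nat_lit 0, nat_lit 1], nat_lit 2),
  ([nat_lit 0, nat_lit 1, nat_lit 3], nat_lit 1),
  ([nat_lit 4, nat_lit 3, nat_lit 4], nat_lit 2),
  ([nat_lit 4, nat_lit 4, nat_lit 1], nat_lit 2),
  ([nat_lit 5, nat_lit 2, nat_lit 3, nat_lit 1], nat_lit 1),
  ([nat_lit 5, nat_lit 0, nat_lit 0], nat_lit 1),
  ([nat_lit 0, nat_lit 5], nat_lit 1),
  ([nat_lit 5, nat_lit 4, nat_lit 0], nat_lit 1),
  ([nat_lit 2, nat_lit 1, nat_lit 0, nat_lit 1], nat_lit 2),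
  ([nat_lit 1, nat_lit 1], nat_lit 2),
  ([nat_lit 0, nat_lit 1, nat_lit 4], nat_lit 1),
  ([nat_lit 1, nat_lit 1, nat_lit 2], nat_lit 2),
  ([nat_lit 2, nat_lit 2, nat_lit 1], nat_lit 1),
  ([nat_lit 3, nat_lit 0, nat_lit 2], nat_lit 2),
  ([nat_lit 1, nat_lit 3, nat_lit 4], nat_lit 1),
  ([nat_lit 2, nat_lit 1], nat_lit 2),
  ([nat_lit 4, nat_lit 2, nat_lit 1], nat_lit 2),
  ([nat_lit 3, nat_lit 3], nat_lit 1),
  ([nat_lit 2, nat_lit 1, nat_lit 0], nat_lit 1),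
  ([nat_lit 5, nat_lit 3, nat_lit 2], nat_lit 1),
  ([nat_lit 4, nat_lit 4, nat_lit 1], nat_lit 1),
  ([nat_lit 3, nat_lit 4], nat_lit 1),
  ([nat_lit 1, nat_lit 5, nat_lit 4, nat_lit 0], nat_lit 1),
  ([nat_lit 0, nat_lit 0, nat_lit 1], nat_lit 1),
  ([nat_lit 3, nat_lit 0, nat_lit 4], nat_lit 2),
  ([nat_lit 5, nat_lit 3], nat_lit 2),
  ([nat_lit 0, nat_lit 5, nat_lit 0], nat_lit 1),
  ([nat_lit 2, nat_lit 1, nat_lit 2], nat_lit 2),
  ([nat_lit 5, nat_lit 1, nat_lit 0], nat_lit 1),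
  ([nat_lit 5, nat_lit 2], nat_lit 2),
  ([nat_lit 3, nat_lit 1, nat_lit 2], nat_lit 1),
  ([nat_lit 2, nat_lit 4, nat_lit 0, nat_lit 1], nat_lit 2),
  ([nat_lit 2, nat_lit 3, nat_lit 3], nat_lit 2),
  ([nat_lit 4, nat_lit 2], nat_lit 1),
  ([nat_lit 3, nat_lit 4, nat_lit 0], nat_lit 1),
  ([nat_lit 2, nat_lit 1], nat_lit 1),
  ([nat_lit 5, nat_lit 4, nat_lit 5], nat_lit 1),
  ([nat_lit 5, nat_lit 0, nat_lit 2], nat_lit 1),
  ([nat_lit 4, nat_lit 2, nat_lit 2], nat_lit 2),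
  ([nat_lit 2, nat_lit 2, nat_lit 0, nat_lit 1], nat_lit 1),
  ([nat_lit 3, nat_lit 5, nat_lit 0], nat_lit 1),
  ([nat_lit 2, nat_lit 3, nat_lit 2], nat_lit 2),
  ([nat_lit 2, nat_lit 4], nat_lit 2),
  ([nat_lit 5, nat_lit 0, nat_lit 3], nat_lit 2),
  ([nat_lit 4, nat_lit 2, nat_lit 5], nat_lit 2),
  ([nat_lit 1, nat_lit 3], nat_lit 2),
  ([nat_lit 4, nat_lit 1], nat_lit 2),
  ([nat_lit 0, nat_lit 4, nat_lit 3], nat_lit 2),
  ([nat_lit 2, nat_lit 4, nat_lit 0], nat_lit 1),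
  ([nat_lit 4, nat_lit 1, nat_lit 4], nat_lit 1),
  ([nat_lit 2, nat_lit 2, nat_lit 3], nat_lit 2),
  ([nat_lit 4, nat_lit 2, nat_lit 1], nat_lit 1),
  ([nat_lit 5, nat_lit 3, nat_lit 1], nat_lit 2),
  ([nat_lit 2, nat_lit 3], nat_lit 1),
  ([nat_lit 1, nat_lit 1, nat_lit 0], nat_lit 1),
  ([nat_lit 2, nat_lit 0, nat_lit 1], nat_lit 2),
  ([nat_lit 1, nat_lit 4], nat_lit 2),
  ([nat_lit 0], nat_lit 1),
  ([nat_lit 1, nat_lit 0], nat_lit 1),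
  ([nat_lit 1, nat_lit 4, nat_lit 4], nat_lit 1),
  ([nat_lit 2, nat_lit 4], nat_lit 1),
  ([nat_lit 4, nat_lit 3, nat_lit 5], nat_lit 1),
  ([nat_lit 4], nat_lit 1),
  ([nat_lit 3, nat_lit 0, nat_lit 2], nat_lit 1),
  ([nat_lit 2, nat_lit 1, nat_lit 1], nat_lit 2),
  ([nat_lit 4, nat_lit 4], nat_lit 2),
  ([nat_lit 5, nat_lit 3, nat_lit 1], nat_lit 1),
  ([nat_lit 3, nat_lit 2, nat_lit 2], nat_lit 2),
  ([nat_lit 5, nat_lit 2, nat_lit 1], nat_lit 1),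
  ([nat_lit 1, nat_lit 0, nat_lit 1], nat_lit 2),
  ([nat_lit 0, nat_lit 5, nat_lit 2], nat_lit 1),
  ([nat_lit 3, nat_lit 2, nat_lit 3], nat_lit 2),
  ([nat_lit 4, nat_lit 2, nat_lit 3], nat_lit 1),
  ([nat_lit 2, nat_lit 3, nat_lit 4], nat_lit 2),
  ([nat_lit 2, nat_lit 5, nat_lit 2], nat_lit 1),
  ([nat_lit 5, nat_lit 0, nat_lit 1], nat_lit 1),
  ([nat_lit 1], nat_lit 2),
  ([nat_lit 4, nat_lit 3], nat_lit 2),
  ([nat_lit 3, nat_lit 3, nat_lit 5], nat_lit 1),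
  ([nat_lit 3, nat_lit 5, nat_lit 2], nat_lit 1),
  ([nat_lit 1, nat_lit 2], nat_lit 1),
  ([nat_lit 2, nat_lit 0, nat_lit 0], nat_lit 1),
  ([nat_lit 3, nat_lit 2], nat_lit 1),
  ([nat_lit 0, nat_lit 4], nat_lit 2),
  ([nat_lit 0, nat_lit 2], nat_lit 2),
  ([nat_lit 1, nat_lit 4, nat_lit 2], nat_lit 1),
  ([nat_lit 1, nat_lit 0, nat_lit 0, nat_lit 1], nat_lit 1),
  ([nat_lit 4, nat_lit 5, nat_lit 1], nat_lit 2),
  ([nat_lit 3, nat_lit 2, nat_lit 4, nat_lit 0], nat_lit 1),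
  ([nat_lit 5, nat_lit 2, nat_lit 0, nat_lit 1], nat_lit 2),
  ([nat_lit 2, nat_lit 5], nat_lit 1),
  ([nat_lit 1, nat_lit 1, nat_lit 4, nat_lit 0], nat_lit 1),
  ([nat_lit 0, nat_lit 2, nat_lit 2], nat_lit 2),
  ([nat_lit 3, nat_lit 5], nat_lit 2),
  ([nat_lit 2, nat_lit 3, nat_lit 1], nat_lit 1),
  ([nat_lit 1, nat_lit 1], nat_lit 1),
  ([nat_lit 3, nat_lit 3, nat_lit 1], nat_lit 1),
  ([nat_lit 0, nat_lit 2, nat_lit 1], nat_lit 1),
  ([nat_lit 3, nat_lit 1], nat_lit 1),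
  ([nat_lit 4, nat_lit 1, nat_lit 1], nat_lit 2),
  ([nat_lit 0, nat_lit 2, nat_lit 1], nat_lit 2),
  ([nat_lit 4, nat_lit 5], nat_lit 1),
  ([nat_lit 3, nat_lit 4], nat_lit 2),
  ([nat_lit 4, nat_lit 1, nat_lit 3], nat_lit 2),
  ([nat_lit 1, nat_lit 2, nat_lit 2], nat_lit 2),
  ([nat_lit 3, nat_lit 3], nat_lit 2),
  ([nat_lit 5, nat_lit 1, nat_lit 1], nat_lit 2),
  ([nat_lit 4, nat_lit 3], nat_lit 1),
  ([nat_lit 2], nat_lit 1),
  ([nat_lit 1, nat_lit 3, nat_lit 2], nat_lit 2),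
  ([nat_lit 0, nat_lit 2, nat_lit 4], nat_lit 1),
  ([nat_lit 5, nat_lit 4, nat_lit 1], nat_lit 2),
  ([nat_lit 1, nat_lit 4], nat_lit 1),
  ([nat_lit 0, nat_lit 5], nat_lit 2),
  ([nat_lit 1, nat_lit 4, nat_lit 0], nat_lit 1),
  ([nat_lit 5, nat_lit 4, nat_lit 4], nat_lit 1),
  ([nat_lit 3, nat_lit 1], nat_lit 2),
  ([nat_lit 2, nat_lit 4, nat_lit 1], nat_lit 2),
  ([nat_lit 5, nat_lit 0, nat_lit 0, nat_lit 1], nat_lit 1),
  ([nat_lit 2, nat_lit 2], nat_lit 1),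
  ([nat_lit 1, nat_lit 2, nat_lit 4], nat_lit 1),
  ([nat_lit 3, nat_lit 0], nat_lit 1),
  ([nat_lit 0, nat_lit 3, nat_lit 1], nat_lit 1),
  ([nat_lit 1, nat_lit 1, nat_lit 4], nat_lit 2),
  ([nat_lit 2, nat_lit 5, nat_lit 1], nat_lit 2),
  ([nat_lit 3, nat_lit 2, nat_lit 0, nat_lit 1], nat_lit 1),
  ([nat_lit 5, nat_lit 0, nat_lit 1], nat_lit 2),
  ([nat_lit 0, nat_lit 0], nat_lit 1),
  ([nat_lit 5, nat_lit 4, nat_lit 4], nat_lit 2),
  ([nat_lit 5, nat_lit 4, nat_lit 1], nat_lit 1),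
  ([nat_lit 0, nat_lit 1, nat_lit 3], nat_lit 2),
  ([nat_lit 3, nat_lit 1, nat_lit 2], nat_lit 2),
  ([nat_lit 0, nat_lit 2], nat_lit 1),
  ([nat_lit 3, nat_lit 4, nat_lit 4], nat_lit 1),
  ([nat_lit 0, nat_lit 1, nat_lit 2], nat_lit 1),
  ([nat_lit 2, nat_lit 3, nat_lit 2], nat_lit 1),
  ([nat_lit 5, nat_lit 5, nat_lit 1], nat_lit 2),
  ([nat_lit 4, nat_lit 0, nat_lit 1], nat_lit 2),
  ([nat_lit 0, nat_lit 5, nat_lit 1], nat_lit 1),
  ([nat_lit 2, nat_lit 5], nat_lit 2),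
  ([nat_lit 5, nat_lit 5, nat_lit 0, nat_lit 1], nat_lit 1),
  ([nat_lit 3, nat_lit 3, nat_lit 3], nat_lit 2),
  ([nat_lit 0, nat_lit 2, nat_lit 0, nat_lit 1], nat_lit 2),
  ([nat_lit 5, nat_lit 2, nat_lit 3], nat_lit 1),
  ([nat_lit 1, nat_lit 2, nat_lit 1], nat_lit 1),
  ([nat_lit 5, nat_lit 5], nat_lit 2),
  ([nat_lit 2, nat_lit 1, nat_lit 3], nat_lit 2),
  ([nat_lit 3, nat_lit 5, nat_lit 1, nat_lit 1], nat_lit 2),
  ([nat_lit 2, nat_lit 5, nat_lit 2], nat_lit 2),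
  ([nat_lit 3, nat_lit 2], nat_lit 2),
  ([nat_lit 4, nat_lit 2, nat_lit 2], nat_lit 1),
  ([nat_lit 3, nat_lit 1, nat_lit 1], nat_lit 1),
  ([nat_lit 4, nat_lit 2], nat_lit 2),
  ([nat_lit 3, nat_lit 4, nat_lit 1], nat_lit 2),
  ([nat_lit 4, nat_lit 0, nat_lit 1], nat_lit 1),
  ([nat_lit 2], nat_lit 2),
  ([nat_lit 0, nat_lit 4, nat_lit 1], nat_lit 1),
  ([nat_lit 0, nat_lit 1, nat_lit 1], nat_lit 2),
  ([nat_lit 5, nat_lit 4, nat_lit 4, nat_lit 1], nat_lit 2),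
  ([nat_lit 0, nat_lit 1, nat_lit 0], nat_lit 1),
  ([nat_lit 4, nat_lit 1], nat_lit 1),
  ([nat_lit 3, nat_lit 0, nat_lit 2, nat_lit 1], nat_lit 2),
  ([nat_lit 4, nat_lit 0, nat_lit 2, nat_lit 2], nat_lit 2),
  ([nat_lit 1, nat_lit 4, nat_lit 1, nat_lit 1], nat_lit 2),
  ([nat_lit 4, nat_lit 1, nat_lit 4], nat_lit 2),
  ([nat_lit 1, nat_lit 5, nat_lit 1], nat_lit 2),
  ([nat_lit 3, nat_lit 1, nat_lit 4, nat_lit 1], nat_lit 2),
  ([nat_lit 1], nat_lit 1),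
  ([nat_lit 5, nat_lit 2], nat_lit 1),
  ([nat_lit 5, nat_lit 4, nat_lit 3], nat_lit 2),
  ([nat_lit 5, nat_lit 1], nat_lit 2),
  ([nat_lit 3, nat_lit 3, nat_lit 1], nat_lit 2),
  ([nat_lit 2, nat_lit 3, nat_lit 1], nat_lit 2),
  ([nat_lit 0, nat_lit 4, nat_lit 1, nat_lit 1], nat_lit 2),
  ([nat_lit 0, nat_lit 3, nat_lit 0], nat_lit 1),
  ([nat_lit 0, nat_lit 3, nat_lit 5], nat_lit 1),
  ([nat_lit 1, nat_lit 4, nat_lit 1], nat_lit 2),
  ([], nat_lit 2),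
  ([nat_lit 2, nat_lit 5, nat_lit 1], nat_lit 1),
  ([nat_lit 4, nat_lit 4, nat_lit 2], nat_lit 2),
  ([nat_lit 1, nat_lit 2, nat_lit 3], nat_lit 1),
  ([nat_lit 5, nat_lit 4], nat_lit 2),
  ([nat_lit 1, nat_lit 1, nat_lit 3], nat_lit 1),
  ([nat_lit 1, nat_lit 5, nat_lit 0, nat_lit 3], nat_lit 2),
  ([nat_lit 2, nat_lit 2, nat_lit 1], nat_lit 2),
  ([nat_lit 5, nat_lit 3], nat_lit 1),
  ([nat_lit 3], nat_lit 1),
  ([nat_lit 0, nat_lit 0, nat_lit 5], nat_lit 1),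
  ([nat_lit 4, nat_lit 4, nat_lit 2, nat_lit 1], nat_lit 1),
  ([nat_lit 4, nat_lit 4, nat_lit 3], nat_lit 1),
  ([nat_lit 1, nat_lit 2], nat_lit 2),
  ([nat_lit 0, nat_lit 2, nat_lit 5, nat_lit 1], nat_lit 2),
  ([nat_lit 3, nat_lit 1, nat_lit 4], nat_lit 1),
  ([nat_lit 5, nat_lit 1, nat_lit 3], nat_lit 1),
  ([nat_lit 1, nat_lit 4, nat_lit 2], nat_lit 2),
  ([nat_lit 3, nat_lit 1, nat_lit 3], nat_lit 1),
  ([nat_lit 2, nat_lit 1, nat_lit 4], nat_lit 2),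
  ([nat_lit 2, nat_lit 0, nat_lit 1], nat_lit 1),
  ([nat_lit 0, nat_lit 3, nat_lit 2], nat_lit 2),
  ([nat_lit 4, nat_lit 2, nat_lit 1, nat_lit 0], nat_lit 1),
  ([nat_lit 0, nat_lit 0, nat_lit 2], nat_lit 2),
  ([nat_lit 2, nat_lit 3, nat_lit 0], nat_lit 1),
  ([nat_lit 4, nat_lit 3, nat_lit 5], nat_lit 2),
  ([nat_lit 5, nat_lit 3, nat_lit 4], nat_lit 2),
  ([nat_lit 4, nat_lit 0], nat_lit 1),
  ([nat_lit 5, nat_lit 1], nat_lit 1),
  ([nat_lit 3, nat_lit 5, nat_lit 1], nat_lit 1),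
  ([nat_lit 4, nat_lit 4], nat_lit 1),
  ([nat_lit 4, nat_lit 4, nat_lit 0, nat_lit 1], nat_lit 1),
  ([nat_lit 4, nat_lit 3, nat_lit 1], nat_lit 1),
  ([nat_lit 1, nat_lit 3, nat_lit 0], nat_lit 1),
  ([nat_lit 4], nat_lit 2),
  ([nat_lit 0, nat_lit 1, nat_lit 2], nat_lit 2),
  ([nat_lit 2, nat_lit 3, nat_lit 5, nat_lit 1], nat_lit 1),
  ([nat_lit 4, nat_lit 3, nat_lit 3], nat_lit 2),
  ([nat_lit 1, nat_lit 0, nat_lit 5], nat_lit 1),
  ([nat_lit 1, nat_lit 1, nat_lit 1], nat_lit 2),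
  ([nat_lit 1, nat_lit 0, nat_lit 0], nat_lit 1),
  ([nat_lit 2, nat_lit 3], nat_lit 2),
  ([nat_lit 4, nat_lit 1, nat_lit 2], nat_lit 2),
  ([nat_lit 5, nat_lit 3, nat_lit 0], nat_lit 1),
  ([nat_lit 0, nat_lit 4, nat_lit 0], nat_lit 1),
  ([nat_lit 5, nat_lit 4], nat_lit 1),
  ([nat_lit 1, nat_lit 1, nat_lit 2], nat_lit 1),
  ([nat_lit 3, nat_lit 2, nat_lit 2], nat_lit 1),
  ([nat_lit 2, nat_lit 2, nat_lit 3], nat_lit 1),
  ([nat_lit 0, nat_lit 4, nat_lit 3], nat_lit 1),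
  ([nat_lit 1, nat_lit 0, nat_lit 4], nat_lit 2),
  ([nat_lit 1, nat_lit 0, nat_lit 2], nat_lit 2),
  ([nat_lit 1, nat_lit 3], nat_lit 1)]
theorem dc : CkC ML dW dM 11 6 1 := by decide +kernel
theorem dta : Ta (nth [] dM 6) dWm dLa dRa 8 := by decide +kernel
theorem de : allZ (ent (nth [] dM 6) dM 6 dWm dLa [0, 1, 203] dC) 0 (2 ^ 8) = true := by decide +kernel

noncomputable def eW : List (List ℕ) := [[nat_lit 10]]
noncomputable def eM : List (List ℕ) := [[nat_lit 1, nat_lit 3, nat_lit 4, nat_lit 12, nat_lit 16, nat_lit 48, nat_lit 64, nat_lit 192, nat_lit 256, nat_lit 768, nat_lit 1024, nat_lit 3072, nat_lit 4096, nat_lit 12288, nat_lit 16384, nat_lit 49152, nat_lit 65536, nat_lit 196608, nat_lit 262144, nat_lit 786432]]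
noncomputable def eWm : List ℕ := [nat_lit 2, nat_lit 0, nat_lit 8, nat_lit 0, nat_lit 32, nat_lit 0, nat_lit 128, nat_lit 0, nat_lit 512, nat_lit 0, nat_lit 2048, nat_lit 0, nat_lit 8192, nat_lit 0, nat_lit 32768, nat_lit 0, nat_lit 131072, nat_lit 0, nat_lit 524288, nat_lit 0]
theorem ec : CkC ML eW eM 11 0 0 := by decide +kernel
theorem eta : Ta (nth [] eM 0) eWm [] [] 0 := by decide +kernel

variable {G V : Type u} [Group G] [AddCommGroup V] [DistribMulAction G V] {b : ℕ → V} {e : ℕ → G}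

theorem gx6 {r c : ℕ} (m : Mo b e ML r c) (h : 6 < r) : Gx V ⊤ (e 6) :=
  gx_of m.bas (m.ac.af h) (by simpa [pow_three'] using weq m (U := [6, 6, 6]) (ltAll_of (by simpa using h)) rfl x0c.2) x0c.1

theorem cnA (m : Mo b e ML 10 9196830720) : Cn V ⊤ (evA e [0]) :=
  ⟨p1 (m.ck ac) (xa := axa) (xr := axr) (a1 := 1) (a2 := 2) (a3 := 4) ata (by decide +kernel) ae,
    p2 m (m.ck ac).ak (y := 357702) (a := 357702) (u := 187311) (v := 695219) (A := []) (U := [6, 1]) (W := [9, 2, 5])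
      (by decide) (gx6 m (by decide)) (by decide +kernel)⟩

theorem cnB (m : Mo b e ML 10 9196830720) : Cn V ⊤ (evA e [0, 9]) :=
  ⟨p1 (m.ck bc) (xa := bxa) (xr := bxr) (a1 := 1) (a2 := 2) (a3 := 4) bta (by decide +kernel) be,
    p2 m (m.ck bc).ak (y := 357702) (a := 260965) (u := 825346) (v := 133220) (A := [8, 4]) (U := [2, 0, 8, 9]) (W := [6, 3, 0, 8, 9])
      (by decide) (gx6 m (by decide)) (by decide +kernel)⟩

theorem cnC (m : Mo b e ML 10 9196830720) : Cn V ⊤ (evA e [0, 6, 0, 7, 9]) :=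
  ⟨p1_zero cta m.bas (m.ck cc).ak,
    p2 m (m.ck cc).ak (y := 357702) (a := 357702) (u := 432737) (v := 652750) (A := []) (U := [7, 4, 1]) (W := [0, 7, 4])
      (by decide) (gx6 m (by decide)) (by decide +kernel)⟩

theorem cnD (m : Mo b e ML 11 18393661440) : Cn V ⊤ (evA e [4, 7, 1, 4, 8, 5, 8, 9, 6, 10]) :=
  ⟨p1 (m.ck dc) (xa := dxa) (xr := dxr) (a1 := 1) (a2 := 2) (a3 := 4) dta (by decide +kernel) de,
    p2 m (m.ck dc).ak (y := 357702) (a := 732797) (u := 703345) (v := 229126) (A := [5]) (U := [3, 8, 0]) (W := [9, 5, 8, 4, 0])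
      (by decide) (gx6 m (by decide)) (by decide +kernel)⟩

theorem cnE (m : Mo b e ML 11 18393661440) : Cn V ⊤ (evA e [10]) :=
  ⟨p1_zero eta m.bas (m.ck ec).ak,
    p2 m (m.ck ec).ak (y := 357702) (a := 33230) (u := 256) (v := 16709) (A := [6, 2]) (U := [6, 2, 0]) (W := [6, 0, 2])
      (by decide) (gx6 m (by decide)) (by decide +kernel)⟩

theorem inn (m : Mo b e ME 9 9196830720) {k : G} (k2 : k * k = 1) (k1 : k ≠ 1) : Cn V ⊤ k := by
  have m := m.sub gwc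
  obtain ⟨i, hi, q⟩ := (cv (mdG m) (e := 1) ((pow_two k).trans k2) ((pow_two k).trans k2)).resolve_left k1
  interval_cases i
  exacts [m.all (P := Cn V ⊤) (fun _ _ m => cnA m) q, m.all (P := Cn V ⊤) (fun _ _ m => cnB m) q,
    m.all (P := Cn V ⊤) (fun _ _ m => cnC m) q]

theorem out (m : Mo b e (ME ++ [MO]) 10 (2 * 9196830720)) {K : Subgroup G} [K.Normal] (h : ∀ k < 9, e k ∈ K) {k : G}
    (n : k ∉ K) (k2 : k * k = 1) : Cn V ⊤ k := by
  have m := m.sub lwc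
  obtain ⟨i, hi, q⟩ := (cl (mdL m) (e := 1) ((pow_two k).trans k2) ((pow_two k).trans k2)).resolve_left
    fun q => n (q ▸ K.one_mem)
  by_cases l : i < 3
  · obtain ⟨a, q⟩ := isConj_iff.1 q.symm
    refine (n (q ▸ Normal.conj_mem ‹_› _ (evA_mem _ fun j hj => evA_mem _ fun s hs => h s ?_) a)).elim
    exact (by decide +kernel : ∀ i < 3, ∀ j ∈ nth [] clr_W i, ∀ s ∈ nth [] LW j, s < 9) i l j hj s hs
  obtain rfl | rfl : i = 3 ∨ i = 4 := by omega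
  exacts [m.all (P := Cn V ⊤) (fun _ _ m => cnD m) q, m.all (P := Cn V ⊤) (fun _ _ m => cnE m) q]

theorem inn6 {L : Type u} [Group L] [Finite L] (e : L ≃* U6) (z : center L = ⊥) : (Inn L).index = 6 := by
  have e := e.trans H16.LU62.equiv.some
  have := Cfsg.Agent.S0815.result (F := H11.F4) 2 1 le_rfl (q := 2) rfl rfl 6 (by decide) (by decide)
  rw [← Nat.card_congr (MulAut.congr e).toEquiv, ← Nat.card_congr e.toEquiv, ← (Inn L).index_mul_card,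
    ← Nat.card_congr (MonoidHom.ofInjective ((injective_iff_map_eq_one _).2 fun a q => z.le
      (Subgroup.mem_center_iff.2 fun k => (mul_inv_eq_iff_eq_mul.1 (congrArg (· k) q)).symm))).toEquiv] at this
  exact Nat.eq_of_mul_eq_mul_right Nat.card_pos this

theorem mod : MOD.{u} := by
  intro K V _ _ _ _ L _ ⟨e⟩ hC h2 hc ff k k2 k1
  have := H16.U62.simple
  by_cases hk : k ∈ L
  · obtain ⟨_, g, M, -⟩ := H10.SE.D.md e.symm
    obtain ⟨b, m⟩ := mo0 (V := V) M h2 hc fun g hg => Subtype.ext (ff g.1 hg)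
    exact Cn.up (S := L) (fun g hg => L.pow_mem hg 2) (inn m (k := ⟨k, hk⟩) (Subtype.ext k2) (mt (congrArg Subtype.val) k1))
  set S := L ⊔ zpowers k with hS
  have kS : k ∈ S := mem_sup_right (mem_zpowers k)
  have LS : L ≤ S := le_sup_left
  have i2 : (L.subgroupOf S).index = 2 := by
    refine index_eq_two_iff.2 ⟨⟨k, kS⟩, fun g => ?_⟩
    obtain ⟨a, ha, x, ⟨n, rfl⟩, q⟩ := mem_sup_of_normal_left.1 g.2
    change Xor (g.1 * k ∈ L) (g.1 ∈ L)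
    have k2' : k ^ (2 : ℤ) = 1 := (zpow_two k).trans k2
    rw [← q, mul_assoc, L.mul_mem_cancel_left ha, L.mul_mem_cancel_left ha]
    beta_reduce
    rw [zpow_eq_zpow_emod n k2']
    rcases Int.emod_two_eq_zero_or_one n with c | c <;> rw [c]
    · exact .inr ⟨by simp, by simpa using hk⟩
    · exact .inl ⟨by simp [k2], by simpa using hk⟩
  let e' := (subgroupOfEquivOfLe LS).trans e
  have := e'.isSimpleGroup
  obtain ⟨_, g, M, -⟩ := H10.SE.D.md e'.symm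
  have hC' : centralizer (L.subgroupOf S : Set S) = ⊥ := eq_bot_iff.2 fun a ha =>
    Subtype.ext (hC.le fun x hx => congrArg Subtype.val (ha ⟨x, LS hx⟩ hx) : a.1 ∈ (⊥ : Subgroup K))
  have z : center (L.subgroupOf S) = ⊥ := eq_bot_iff.2 fun a ha =>
    Subtype.ext (hC'.le fun x hx => congrArg Subtype.val (mem_center_iff.1 ha ⟨x, hx⟩) : a.1 ∈ (⊥ : Subgroup S))
  obtain ⟨b, x, m, h⟩ := mo1 (V := V) (L.subgroupOf S) i2 hC' M (inn6 e' z) h2 hc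
    fun g hg => Subtype.ext (Subtype.ext (ff g.1.1 hg))
  exact Cn.up (S := S) (fun g hg => sq_mem_of_index_two i2 ⟨g, hg⟩) (out m h (k := ⟨k, kS⟩) hk (Subtype.ext k2))

end H29.EM
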