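import Cfsg.Agent.H16.M7I
import Cfsg.Agent.H15.IC.He
import Cfsg.Agent.S2134
import Cfsg.Agent.S5424
import Cfsg.Agent.H11.Small2
import Cfsg.Agent.H29.HB1

/-! Involution centralizers of the Held group. -/

set_option autoImplicit false
set_option linter.unusedSectionVars false

open Cfsg Subgroup
namespace H29.M7
open H19 H16 H16.M7
open scoped MatrixGroups

/-- the solvable radical lies in a nonabelian group of order 128 -/
def Pr (X : Type*) [Group X] : Prop :=
  ∃ E : Subgroup X, #E = 128 ∧ ¬ Ab E ∧ ∀ N : Subgroup X, N.Normal → Sol N → N ≤ E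

theorem Pr.equiv {X Y : Type*} [Group X] [Group Y] (h : Pr X) (e : X ≃* Y) : Pr Y := by
  obtain ⟨E, h1, h2, h3⟩ := h
  refine ⟨E.map e.toMonoidHom, (card_map_of_injective e.injective).trans h1, fun c => h2 ⟨⟨fun a b => ?_⟩⟩, fun N n s y hy => ?_⟩
  · exact Subtype.ext (e.injective (by
      simpa using mul_comm_of_comm c (mem_map_of_mem e.toMonoidHom a.2) (mem_map_of_mem e.toMonoidHom b.2)))
  refine ⟨e.symm y, h3 (N.comap e.toMonoidHom) (n.comap _) ?_ (by simpa using hy), by simp⟩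
  exact Group.isSolvable_of_isSolvable_injective (f := (e.toMonoidHom.comp (Subgroup.subtype _)).codRestrict N fun x => x.2)
    fun a b q => Subtype.ext (e.injective (congrArg Subtype.val q))

theorem Pr.amb {G : Type*} [Group G] {M : Subgroup G} (h : Pr M) :
    ∃ E : Subgroup G, #E = 128 ∧ ¬ Ab E ∧ ∀ N, N ⊴ M → Sol N → N ≤ E := by
  obtain ⟨E, h1, h2, h3⟩ := h
  refine ⟨E.map M.subtype, (card_map_of_injective M.subtype_injective).trans h1, fun c => h2 ⟨⟨fun a b => ?_⟩⟩,
    fun N n s y hy => ⟨⟨y, n.le hy⟩, h3 (N.subgroupOf M) n.subgroupOf ?_ hy, rfl⟩⟩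
  · exact Subtype.ext (Subtype.ext (mul_comm_of_comm c (mem_map_of_mem M.subtype a.2) (mem_map_of_mem M.subtype b.2)))
  exact Group.isSolvable_of_isSolvable_injective (f := (subgroupOfEquivOfLe n.le).toMonoidHom) (subgroupOfEquivOfLe n.le).injective

theorem sl3_simple : IsSimpleGroup SL(3, ZMod 2) :=
  have := H11.psl_simple (ι := Fin 3) (F := ZMod 2) (by simp)
  ((QuotientGroup.quotientMulEquivOfEq (card_eq_one.1 (H11.card_center_sl.trans (by simp)))).trans
    QuotientGroup.quotientBot).symm.isSimpleGroup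

theorem pr_s (s : SL(3 + 2, ZMod 2)) (hs : (s : Matrix (Fin (3 + 2)) (Fin (3 + 2)) (ZMod 2)) = Matrix.transvection 0 1 1) :
    #C[s] = 21504 ∧ Pr C[s] := by
  obtain ⟨h1, h2, -, -, K, k1, k2, k3, ⟨e⟩⟩ := Cfsg.Agent.S5424.result 3 (by decide) s hs _ rfl
  have nq : (pCore 2 C[s]).map (C[s]).subtype ⊴ C[s] := by rw [pCore_map_eq Nat.prime_two]; exact Oc_normal _ _
  generalize (pCore 2 C[s]).map (C[s]).subtype = Q at *
  have cK : #K = 168 := (Nat.card_congr e.toEquiv).trans H11.card_sl3_two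
  have := sl3_simple
  have := e.isSimpleGroup
  refine ⟨by rw [← k3, card_sup_of_disjoint (nq.norms k1) k2, h2, cK]; rfl, Q.subgroupOf C[s],
    by rw [card_subgroupOf' nq.le, h2]; rfl, fun c => ?_, fun N n sN => ?_⟩
  · have : center Q = ⊤ := eq_top_iff.2 fun a _ => mem_center_iff.2 fun b => Subtype.ext (show b.1 * a.1 = a.1 * b.1 from
      congrArg Subtype.val (mul_comm_of_comm c (a := ⟨b.1, nq.le b.2⟩) (b := ⟨a.1, nq.le a.2⟩) b.2 a.2))
    have := h1.2
    rw [‹center Q = ⊤›, card_top, h2] at this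
    exact absurd this (by decide)
  have n' := normalIn_map_subtype N
  have s' : Sol (N.map (C[s]).subtype) := Group.isSolvable_of_surjective (f := (C[s]).subtype.subgroupMap N)
    ((C[s]).subtype.subgroupMap_surjective N)
  refine map_le_iff_le_comap.1 ?_
  generalize N.map (C[s]).subtype = N' at n' s'
  have sq := sol_sup (PiN.sol (PiN.of_card_pow Nat.prime_two h2)) s' (nq.norms n'.le)
  have m := sup_inf_modl (nq.norms k1) (le_sup_left : Q ≤ Q ⊔ N')
  rw [k3, inf_eq_right.2 (nq.sup n').le] at m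
  rcases ((nq.sup n').inf_le k1).subgroupOf.eq_bot_or_eq_top with q | q
  · rw [inf_comm, subgroupOf_eq_bot, disjoint_iff, inf_assoc, inf_comm _ K, ← inf_assoc, inf_idem] at q
    rw [q, sup_bot_eq] at m
    exact m ▸ le_sup_right
  have : Sol K := sol_mono sq ((subgroupOf_eq_top.1 q).trans inf_le_left)
  letI : CommGroup K := { mul_comm := IsSimpleGroup.comm_iff_isSolvable.2 this }
  have := IsSimpleGroup.prime_card (α := K)
  rw [cK] at this
  exact absurd this (by norm_num)

theorem he : HE := by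
  obtain ⟨_, g, M, -⟩ := H15.IC.He.md H16.PHe.equiv.symm
  have := M.fin
  have c0 : #C[wds g H15.IC.He.covr_W 0] = 21504 := H15.IC.He.c0ac_card M
  have c1 : #C[wds g H15.IC.He.covr_W 1] = 161280 := H15.IC.He.c1ac_card M
  have k (τ : Spor.He) (h2 : τ * τ = 1) (h1 : τ ≠ 1) : #C[τ] = 161280 ∨ IsConj τ (wds g H15.IC.He.covr_W 0) := by
    obtain ⟨i, hi, q⟩ := (H15.IC.He.cov M (e := 1) ((sq τ).trans h2) ((sq τ).trans h2)).resolve_left h1
    interval_cases i
    exacts [.inr q, .inl ((H29.CoB.cen_conj q).trans c1)]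
  refine ⟨this, fun τ h2 h1 => (k τ h2 h1).imp_right fun q => ⟨(H29.CoB.cen_conj q).trans c0, ?_⟩⟩
  obtain ⟨p1, p2⟩ := pr_s (Matrix.SpecialLinearGroup.transvection (by decide : (0 : Fin (3 + 2)) ≠ 1) 1) rfl
  obtain ⟨z, o, ⟨e⟩⟩ := Cfsg.Agent.S2134.result (Matrix.SpecialLinearGroup.transvection (by decide : (0 : Fin 5) ≠ 1) 1) rfl
  have := (k z ((sq z).symm.trans (o ▸ pow_orderOf_eq_one z)) (fun e => by simp [e] at o)).resolve_left
    (by rw [Nat.card_congr e.toEquiv, p1]; decide)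
  obtain ⟨c, rfl⟩ := isConj_iff.1 (this.trans q.symm)
  rw [← cj_cent1]
  exact ((p2.equiv e.symm).equiv (cjEquiv c _)).amb

end H29.M7
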