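/-
Minimal `2`-fusion systems: the essential subgroups in root coordinates.
-/
import Cfsg.Agent.H4.MF2
import Cfsg.Agent.H22.FZ2

set_option autoImplicit false
set_option linter.unusedSectionVars false
set_option linter.unusedVariables false

namespace H29.MF
open Subgroup H25 H25.FS H4.MF H22.FZ

universe u
variable {K : Type} [Field K] [CharP K 2] {Γ : Type u} [Group Γ] {ε : Bool} {ρ : K ≃+* K}
  {ev : Uc K →* Γ} {a b c d g p t x y z : Γ} {T P A : Subgroup Γ} {u v : Uc K}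

/-- outer elements -/
def Ou (ev : Uc K →* Γ) (x t : Γ) : Prop := ∃ u, t = ev u * x
/-- every fixed point of `x` in `C` is a commutator -/
def HH (ev : Uc K →* Γ) (x : Γ) : Prop :=
  ∀ z ∈ (UC K).map ev, x * z * x⁻¹ = z → ∃ c ∈ (UC K).map ev, x * c * x⁻¹ * c⁻¹ = z
/-- `x` inverts `Δ` -/
structure GG (ε : Bool) (ρ : K ≃+* K) (ev : Uc K →* Γ) (x : Γ) : Prop where
  iv : ∀ t, Ou ev x t → t * t ∈ (UC K).map ev → ∀ d ∈ (UE ε ρ).map ev, t * d * t⁻¹ = d⁻¹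
  sq : ∀ t, Ou ev x t → t * t ∈ (UC K).map ev → t * t = 1
  rt : ∀ c ∈ (UC K).map ev, ∃ d ∈ (UE ε ρ).map ev, d * d = c
  big : ∃ c ∈ (UC K).map ev, ∃ d ∈ (UC K).map ev, c ≠ 1 ∧ d ≠ 1 ∧ c ≠ d

theorem oux (ev : Uc K →* Γ) (x : Γ) : Ou ev x x := ⟨1, by simp⟩
theorem sqC (hc : c ∈ (UC K).map ev) : c * c = 1 := H28.GC.sq_of_ea (eaA ev) (C_le_A ev hc)
theorem invC (hc : c ∈ (UC K).map ev) : c⁻¹ = c := inv_eq_of_mul_eq_one_right (sqC hc)
theorem sqB (hb : b ∈ ev.range) : b * b ∈ (UC K).map ev := by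
  obtain ⟨u, rfl⟩ := hb
  rw [← map_mul, Uc.sq]; exact mem_map_of_mem _ ⟨rfl, rfl⟩
theorem cBB : CC ev.range ev.range ((UC K).map ev) := by
  rintro _ ⟨u, rfl⟩ _ ⟨v, rfl⟩
  rw [← map_inv, ← map_inv, ← map_mul, ← map_mul, ← map_mul, Uc.comm]; exact mem_map_of_mem _ ⟨rfl, rfl⟩
theorem bc (hb : b ∈ ev.range) (hc : c ∈ (UC K).map ev) : b * c * b⁻¹ = c := mem_cz.1 (B_czC ev hb) c hc
theorem cb (hb : b ∈ ev.range) (hc : c ∈ (UC K).map ev) : c * b * c⁻¹ = b := by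
  rw [mem_cz'.1 (B_czC ev hb) c hc, mul_inv_cancel_right]
theorem cm_inv (a b : Γ) : (a * b * a⁻¹ * b⁻¹)⁻¹ = b * a * b⁻¹ * a⁻¹ := by group

/-- at most one nontrivial commutator -/
def V1 (P : Subgroup Γ) (y z : Γ) : Prop := ∀ p ∈ P, y * p * y⁻¹ * p⁻¹ = 1 ∨ y * p * y⁻¹ * p⁻¹ = z
theorem V1.cj (k : V1 P y z) (ha : a ∈ nz P) : V1 P (a * y * a⁻¹) (a * z * a⁻¹) := fun p hp => by
  have : a * y * a⁻¹ * p * (a * y * a⁻¹)⁻¹ * p⁻¹ = a * (y * (a⁻¹ * p * a) * y⁻¹ * (a⁻¹ * p * a)⁻¹) * a⁻¹ := by group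
  rw [this]
  rcases k _ (conj_mem_of_mem_nz' ha hp) with e | e <;> rw [e] <;> simp
theorem V1.eq (k : V1 P y z) (hp : p ∈ P) (n : y * p * y⁻¹ * p⁻¹ ≠ 1) : y * p * y⁻¹ * p⁻¹ = z := (k p hp).resolve_left n
/-- transvections with the same centre commute -/
theorem V1.comm (k : V1 P a z) (k' : V1 P b z) (hz : z * z = 1) (h1 : a * z * a⁻¹ = z) (h2 : b * z * b⁻¹ = z) :
    Agree P (b * a) (a * b) := fun p hp => by
  have f : ∀ {a}, V1 P a z → a * p * a⁻¹ = p ∨ a * p * a⁻¹ = z * p := fun k =>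
    (k p hp).imp mul_inv_eq_one.1 mul_inv_eq_iff_eq_mul.1
  have f' : ∀ {a}, a * z * a⁻¹ = z → a * (z * p) * a⁻¹ = z * (a * p * a⁻¹) := fun {a} k => by
    conv_rhs => rw [← k]
    group
  rw [show b * a * p * (b * a)⁻¹ = b * (a * p * a⁻¹) * b⁻¹ by group, show a * b * p * (a * b)⁻¹ = a * (b * p * b⁻¹) * a⁻¹ by group]
  rcases f k with e | e <;> rcases f k' with e' | e' <;> simp only [e, e', f' h1, f' h2]

section
variable (h : Cb ε ρ ev x)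
include h
theorem Ou.nB (k : Ou ev x t) : t ∉ ev.range := by obtain ⟨u, rfl⟩ := k; exact h.not_mem u
theorem Ou.div (k : Ou ev x t) (k' : Ou ev x y) : t * y⁻¹ ∈ ev.range := by
  obtain ⟨u, rfl⟩ := k
  obtain ⟨v, rfl⟩ := k'
  exact ⟨u * v⁻¹, by simp [mul_assoc]⟩
theorem Ou.nzB (k : Ou ev x t) : t ∈ nz ev.range := by
  obtain ⟨u, rfl⟩ := k; exact mul_mem (le_nz_self _ ⟨u, rfl⟩) h.xR
theorem Ou.act (k : Ou ev x t) (hc : c ∈ (UC K).map ev) : t * c * t⁻¹ = x * c * x⁻¹ := by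
  obtain ⟨u, rfl⟩ := k
  rw [← bc ⟨u, rfl⟩ (conj_mem_of_mem_nz h.xC hc)]; group
theorem Ou.cm_a (u v : Uc K) : ev u * x * ev v * (ev u * x)⁻¹ * (ev v)⁻¹ = ev (u * sw ε ρ v * u⁻¹ * v⁻¹) := by
  rw [h.out_conj, map_mul _ _ v⁻¹, map_inv]
theorem Ou.cmC (k : Ou ev x t) (hb : b ∈ ev.range) : t * b * t⁻¹ * b⁻¹ ∈ (UC K).map ev ↔ b ∈ (UE ε ρ).map ev := by
  obtain ⟨u, rfl⟩ := k
  obtain ⟨v, rfl⟩ := hb
  rw [Ou.cm_a h, h.memC, h.memE, Uc.conj]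
  simp only [Uc.mul_a, Uc.mul_s, Uc.inv_a, Uc.inv_s, sw_a, CharTwo.add_eq_zero]
  exact ⟨fun e => e.1.symm, fun e => ⟨(mem_UE.1 e).symm, (h.E_a e).symm⟩⟩
theorem Ou.cmE (k : Ou ev x t) (hb : b ∈ ev.range) : b * t * b⁻¹ * t⁻¹ ∈ (UE ε ρ).map ev := by
  have e := h.B_nzR0 hb
  obtain ⟨u, rfl⟩ := k
  have k1 : b * x * b⁻¹ * x⁻¹ ∈ (UE ε ρ).map ev := by
    obtain ⟨v, rfl⟩ := hb
    rw [show ev v * x * (ev v)⁻¹ * x⁻¹ = ev (v * sw ε ρ v⁻¹) by rw [map_mul, ← h.sw, map_inv]; group]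
    exact mem_map_of_mem _ (h.comm_x v)
  have := mul_mem (C_le_E ev (cBB b hb _ ⟨u, rfl⟩)) (conj_mem_of_mem_nz (B_nzE ev ⟨u, rfl⟩) k1)
  simpa [mul_assoc] using this
theorem Ou.sq (k : Ou ev x t) (e : t * t ∈ (UC K).map ev) : ∃ d ∈ (UE ε ρ).map ev, t = d * x := by
  obtain ⟨u, rfl⟩ := k
  rw [h.out_sq, h.memC] at e
  exact ⟨_, mem_map_of_mem _ (mem_UE.2 (CharTwo.add_eq_zero.1 e.1)), rfl⟩
theorem Ein (hd : d ∈ (UE ε ρ).map ev) (e : d * d = 1) : d ∈ (UC K).map ev := by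
  obtain ⟨u, k, rfl⟩ := hd; exact mem_map_of_mem _ (h.E_inv k e)
theorem exE : ∃ d ∈ (UE ε ρ).map ev, d ∉ (UC K).map ev :=
  ⟨ev ⟨1, (sw ε ρ ⟨1, 0, 0, 0⟩).s, 0, 0⟩, mem_map_of_mem _ (sw_s_eq rfl), fun e => one_ne_zero (h.memC.1 e).2⟩
/-- commutators with an element of `C` -/
theorem Ou.fix (k : Ou ev x t) (hc : c ∈ (UC K).map ev) :
    c * t * c⁻¹ * t⁻¹ = x * c * x⁻¹ * c⁻¹ ∧ x * c * x⁻¹ * c⁻¹ ∈ (UC K).map ev ∧
      x * (x * c * x⁻¹ * c⁻¹) * x⁻¹ = x * c * x⁻¹ * c⁻¹ := by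
  have m := mul_mem (conj_mem_of_mem_nz h.xC hc) (inv_mem hc)
  refine ⟨by rw [← invC m, ← k.act h hc, cm_inv], m, ?_⟩
  conv_rhs => rw [← invC m]
  rw [show x * (x * c * x⁻¹ * c⁻¹) * x⁻¹ = x * x * (c * (x * x)⁻¹ * x * c⁻¹ * x⁻¹) by group, h.xx]; group
theorem dich : HH ev x ∨ ε = false ∧ ρ = .refl K := by
  cases ε
  · refine or_iff_not_imp_right.2 fun k => ?_
    obtain ⟨w, hw⟩ : ∃ w, ρ w + w ≠ 0 := by
      by_contra! e
      exact k ⟨rfl, RingEquiv.ext fun a => CharTwo.add_eq_zero.1 (e a)⟩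
    rintro _ ⟨u, ⟨k1, k2⟩, rfl⟩ e
    rw [h.sw] at e
    have e1 : ρ u.c = u.c := by simpa [sw, mem_UB.1 k2] using h.eq_c e
    refine ⟨ev ⟨0, 0, u.c * w / (ρ w + w), 0⟩, mem_map_of_mem _ ⟨rfl, rfl⟩, ?_⟩
    rw [h.sw, ← map_inv, ← map_mul, h.eq_iff]
    simp [sw, mem_UA.1 k1, mem_UB.1 k2, e1, h.rL rfl, add_comm w]
    field_simp
  · left
    rintro _ ⟨u, ⟨k1, k2⟩, rfl⟩ e
    rw [h.sw] at e
    have e1 : ρ u.d = u.c := by simpa [sw, mem_UB.1 k2] using h.eq_c e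
    refine ⟨ev ⟨0, 0, 0, u.d⟩, mem_map_of_mem _ ⟨rfl, rfl⟩, ?_⟩
    rw [h.sw, ← map_inv, ← map_mul, h.eq_iff]
    simp [sw, mem_UA.1 k1, mem_UB.1 k2, e1]
theorem gg [Finite K] (k : ε = false ∧ ρ = .refl K) : GG ε ρ ev x := by
  obtain ⟨rfl, rfl⟩ := k
  have f : ∀ t, Ou ev x t → t * t ∈ (UC K).map ev → ∃ u : Uc K, u.s = u.a ∧ t = ev u * x := fun t k e => by
    obtain ⟨_, ⟨u, k', rfl⟩, rfl⟩ := k.sq h e
    exact ⟨u, mem_UE.1 k', rfl⟩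
  refine ⟨fun t k e => ?_, fun t k e => ?_, ?_, ?_⟩
  · obtain ⟨u, k0, rfl⟩ := f t k e
    rintro _ ⟨v, k', rfl⟩
    have k' : v.s = v.a := mem_UE.1 k'
    rw [h.out_conj, Uc.conj, ← map_inv, h.eq_iff]
    simp [sw, k0, k', add_assoc, mul_comm v.a u.a, aa]
  · obtain ⟨u, k0, rfl⟩ := f t k e
    rw [h.out_sq, h.ker]
    simp [sw, k0, aa, ← add_assoc]
  · rintro _ ⟨u, ⟨k1, k2⟩, rfl⟩
    obtain ⟨r, hr⟩ := (frobeniusEquiv K 2).surjective u.c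
    refine ⟨ev ⟨r, r, 0, 0⟩, mem_map_of_mem _ rfl, ?_⟩
    rw [← map_mul, Uc.sq, h.eq_iff]
    simp [mem_UA.1 k1, mem_UB.1 k2, ← hr, frobenius_def, pow_two]
  · obtain ⟨w, hw⟩ : ∃ w : K, w ≠ 0 ∧ w ≠ 1 := by
      by_contra! e
      have := Nat.card_le_card_of_surjective (fun b : Bool => if b then (1 : K) else 0) fun a => by
        by_cases a0 : a = 0
        exacts [⟨false, a0.symm⟩, ⟨true, (e a a0).symm⟩]
      have := h.q.resolve_right (by simp)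
      simp at *; omega
    exact ⟨ev ⟨0, 0, 1, 0⟩, mem_map_of_mem _ ⟨rfl, rfl⟩, ev ⟨0, 0, w, 0⟩, mem_map_of_mem _ ⟨rfl, rfl⟩,
      fun e => one_ne_zero ((h.ker _).1 e).2.2.1, fun e => hw.1 ((h.ker _).1 e).2.2.1, fun e => hw.2 (h.eq_c e).symm⟩
/-- squares of elements of `Δ` are central -/
theorem sqE (hd : d ∈ (UE ε ρ).map ev) : x * (d * d) * x⁻¹ = d * d := by
  have m := (Ou.cmC h (oux ev x) (mA_le _ _ hd)).2 hd
  generalize e : x * d * x⁻¹ * d⁻¹ = c at m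
  have e' : x * d * x⁻¹ = c * d := by rw [← e]; group
  rw [show x * (d * d) * x⁻¹ = x * d * x⁻¹ * (x * d * x⁻¹) by group, e', mul_assoc, ← mul_assoc d,
    ← mem_cz'.1 (B_czC ev (mA_le _ _ hd)) c m, mul_assoc, ← mul_assoc, sqC m, one_mul]
theorem HH.ex (k : HH ev x) : ∃ c ∈ (UC K).map ev, x * c * x⁻¹ * c⁻¹ ≠ 1 := by
  obtain ⟨d, hd, n⟩ := exE h
  obtain ⟨c, hc, e⟩ := k _ (sqB (mA_le _ _ hd)) (sqE h hd)
  exact ⟨c, hc, fun e' => n (Ein h hd (e ▸ e'))⟩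
theorem v1 (hc : c ∈ (UC K).map ev) (k : ∀ p ∈ P, p ∈ ev.range ∨ Ou ev x p) : V1 P c (x * c * x⁻¹ * c⁻¹) :=
  fun p hp => (k p hp).imp (fun q => by rw [cb q hc, mul_inv_cancel]) fun q => (q.fix h hc).1
theorem Ou.inv (k : Ou ev x t) (e : t * t = 1) (hc : c ∈ (UC K).map ev) : t * c * t⁻¹ * c⁻¹ = x * c * x⁻¹ * c⁻¹ := by
  rw [k.act h hc]
/-- an involution of `B` outside `C` and its conjugate do not commute -/
theorem Ou.nc (k : Ou ev x t) (hy : y ∈ ev.range) (e : y * y = 1) (c : y * (t * y * t⁻¹) * y⁻¹ = t * y * t⁻¹) :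
    y ∈ (UC K).map ev := by
  obtain ⟨u, rfl⟩ := k
  obtain ⟨v, rfl⟩ := hy
  rw [h.out_conj, h.comm_iff, Uc.conj] at c
  rw [h.memC]
  rcases h.sq_iff.1 e with s | s
  · exact ⟨s, by simpa [s, sw_s0] using c.1.symm⟩
  · exact ⟨by simpa [s] using c.1, s⟩
theorem czA' (hy : y ∈ (UA K).map ev) (n : y ∉ (UC K).map ev) (hb : b ∈ ev.range) (e : y * b * y⁻¹ = b) :
    b ∈ (UA K).map ev := by
  obtain ⟨u, k, rfl⟩ := hy
  obtain ⟨v, rfl⟩ := hb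
  have := (h.comm_iff.1 e).1
  rw [h.memC] at n
  rw [h.memA]; simpa [mem_UA.1 k, show u.a ≠ 0 from fun a => n ⟨k, a⟩] using this.symm
theorem czB' (hy : y ∈ (UB K).map ev) (n : y ∉ (UC K).map ev) (hb : b ∈ ev.range) (e : y * b * y⁻¹ = b) :
    b ∈ (UB K).map ev := by
  obtain ⟨u, k, rfl⟩ := hy
  obtain ⟨v, rfl⟩ := hb
  have := (h.comm_iff.1 e).1
  rw [h.memC] at n
  rw [h.memB]; simpa [mem_UB.1 k, show u.s ≠ 0 from fun a => n ⟨a, k⟩] using this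
end

section
variable [Finite Γ] (h : Co ε ρ T ev x) (e : Es T P A)
include h
theorem ou (a : t ∈ T) (b : t ∉ ev.range) : Ou ev x t := h.out a b
theorem cen (hz : z ∈ (UC K).map ev) (k : x * z * x⁻¹ = z) : z ∈ cz T := mem_cz'.2 fun t ht => by
  by_cases n : t ∈ ev.range
  · exact mul_inv_eq_iff_eq_mul.1 (bc n hz)
  · exact mul_inv_eq_iff_eq_mul.1 (((ou h ht n).act h.toCb hz).trans k)
theorem CT : (UC K).map ev ≤ T := (mA_le _ _).trans h.BT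
theorem cCT (hc : c ∈ (UC K).map ev) (ht : t ∈ T) : c * t * c⁻¹ * t⁻¹ ∈ (UC K).map ev ⊓ cz T := by
  by_cases n : t ∈ ev.range
  · rw [cb n hc, mul_inv_cancel]; exact one_mem _
  · obtain ⟨a, b, d⟩ := (ou h ht n).fix h.toCb hc
    exact a ▸ ⟨b, cen h b d⟩
theorem cET (hd : d ∈ (UE ε ρ).map ev) (ht : t ∈ T) : d * t * d⁻¹ * t⁻¹ ∈ (UC K).map ev := by
  by_cases n : t ∈ ev.range
  · exact cBB _ (mA_le _ _ hd) _ n
  · exact cm_inv t d ▸ inv_mem (((ou h ht n).cmC h.toCb (mA_le _ _ hd)).2 hd)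
theorem xR (hp : p ∈ R0 ε ρ ev x) : ∃ c ∈ T ⊓ cz T, x * p * x⁻¹ = c * p := by
  have f : ∀ d ∈ (UE ε ρ).map ev, x * d * x⁻¹ * d⁻¹ ∈ T ⊓ cz T := fun d hd => by
    have m := ((oux ev x).cmC h.toCb (mA_le _ _ hd)).2 hd
    refine ⟨CT h m, cen h m ?_⟩
    conv_rhs => rw [← invC m]
    rw [show x * (x * d * x⁻¹ * d⁻¹) * x⁻¹ = x * x * (d * (x * x)⁻¹ * x * d⁻¹ * x⁻¹) by group, h.xx]; group
  obtain ⟨u, k, rfl | rfl⟩ := h.mem_R0.1 hp <;> exact ⟨_, f _ (mem_map_of_mem _ k), by group⟩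
theorem xRR (hp : p ∈ R0 ε ρ ev x) (hd : d ∈ R0 ε ρ ev x) :
    x * (p * d * p⁻¹ * d⁻¹) * x⁻¹ = p * d * p⁻¹ * d⁻¹ := by
  obtain ⟨a, ha, e⟩ := xR h hp
  obtain ⟨b, hb, e'⟩ := xR h hd
  have p1 := h.R0_le hp
  have d1 := h.R0_le hd
  rw [show x * (p * d * p⁻¹ * d⁻¹) * x⁻¹ = x * p * x⁻¹ * (x * d * x⁻¹) * (x * p * x⁻¹)⁻¹ * (x * d * x⁻¹)⁻¹ by group, e, e',
    show a * p * (b * d) * (a * p)⁻¹ * (b * d)⁻¹ = a * (p * (b * d) * p⁻¹) * a⁻¹ * (b * d)⁻¹ by group,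
    mem_cz.1 ha.2 _ (mul_mem (mul_mem p1 (mul_mem hb.1 d1)) (inv_mem p1)), ← mem_cz'.1 hb.2 d d1,
    show p * (d * b) * p⁻¹ * (d * b)⁻¹ = p * d * (b * p⁻¹ * b⁻¹) * d⁻¹ by group, mem_cz.1 hb.2 _ (inv_mem p1)]
include e
theorem nz_of (k : Cm g P P) : g ∈ nz P := mem_nz_of_conj_mem fun p hp => by simpa using mul_mem (k p hp) hp
theorem ZP : (UC K).map ev ⊓ cz T ≤ zo P := fun z hz =>
  ⟨e.cen ⟨CT h hz.1, cz_anti e.le hz.2⟩, cz_anti e.le hz.2, sqC hz.1⟩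
theorem inB (k : P ≤ ev.range) : P = (UA K).map ev ∨ P = (UB K).map ev ∨ P = ev.range := by
  have c0 : (UC K).map ev ≤ cz P := (le_cz_comm.1 (B_czC ev)).trans (cz_anti k)
  have c1 : (UC K).map ev ≤ P := fun c hc => e.cen ⟨CT h hc, c0 hc⟩
  by_cases c : zo P ≤ (UC K).map ev
  · refine .inr (.inr (le_antisymm k fun b hb => e.chain [zo P] (by simpa using e.zo_n) (h.BT hb) (B_nz_of c1 k hb)
      ⟨fun p hp => ?_, cm_of_cz (cz_anti c (B_czC ev hb))⟩))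
    have := cBB b hb p (k hp)
    exact ⟨c1 this, c0 this, sqC this⟩
  obtain ⟨z, hz, n⟩ := SetLike.not_le_iff_exists.1 c
  have f : ∀ U : Subgroup Γ, Cfsg.IsElementaryAbelian 2 U → U ≤ ev.range → P ≤ U → P = U := fun U a b c =>
    le_antisymm c fun w hw => e.cen ⟨h.BT (b hw), mem_cz'.2 fun p hp => H28.GC.comm_of_ea a (c hp) hw⟩
  rcases h.inv_or (k hz.1) hz.2.2 with a | a
  · exact .inl (f _ (eaA ev) (mA_le _ _) fun p hp => czA' h.toCb a n (k hp) (mem_cz.1 hz.2.1 p hp))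
  · exact .inr (.inl (f _ (eaB ev) (mA_le _ _) fun p hp => czB' h.toCb a n (k hp) (mem_cz.1 hz.2.1 p hp)))
theorem CP : (UC K).map ev ≤ P := fun c hc => by
  have := h.finK
  have nz : ∀ c ∈ (UC K).map ev, c ∈ nz P := fun c hc => nz_of h e fun p hp => zo_le (ZP h e (cCT h hc (e.le hp)))
  by_cases k : zo P ≤ ev.range
  · exact e.chain [zo P] (by simpa using e.zo_n) (CT h hc) (nz c hc) ⟨fun p hp => ZP h e (cCT h hc (e.le hp)),
      cm_of_cz (cz_anti k (le_cz_comm.1 (B_czC ev) hc))⟩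
  obtain ⟨t, ht, n⟩ := SetLike.not_le_iff_exists.1 k
  have o := ou h (e.le ht.1) n
  rcases dich h.toCb with H | G
  swap
  · have := (gg h.toCb G).iv x (oux ev x) (by rw [h.xx]; exact one_mem _) c (C_le_E ev hc)
    exact zo_le (ZP h e ⟨hc, cen h hc (this.trans (invC hc))⟩)
  obtain ⟨b, hb, b1, b2⟩ : ∃ b ∈ P, b ∈ ev.range ∧ b ∉ (UC K).map ev := by
    by_contra! f
    obtain ⟨d, hd, n⟩ := exE h.toCb
    have m := (o.cmC h.toCb (mA_le _ _ hd)).2 hd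
    obtain ⟨c, hc, k⟩ := H _ m (by
      rw [← o.act h.toCb m]
      conv_rhs => rw [← invC m]
      rw [show t * (t * d * t⁻¹ * d⁻¹) * t⁻¹ = t * t * (d * (t * t)⁻¹ * t * d⁻¹ * t⁻¹) by group, ht.2.2]; group)
    have dc := mul_mem (mA_le _ _ hd) (mA_le _ _ hc)
    have k1 : t * (d * c) * t⁻¹ = d * c := by
      rw [← o.act h.toCb hc] at k
      rw [show t * (d * c) * t⁻¹ = t * d * t⁻¹ * d⁻¹ * (d * (t * c * t⁻¹ * c⁻¹) * d⁻¹) * (d * c) by group, k,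
        bc (mA_le _ _ hd) m, sqC m, one_mul]
    refine n ((mul_mem_cancel_right hc).1 (f _ (e.cen ⟨h.BT dc, mem_cz'.2 fun p hp => ?_⟩) dc))
    by_cases q : p ∈ ev.range
    · exact mem_cz'.1 (B_czC ev dc) p (f p hp q)
    · have := mem_cz'.1 (B_czC ev dc) _ (f _ (mul_mem hp (inv_mem ht.1)) ((ou h (e.le hp) q).div h.toCb o))
      rw [show p * (d * c) = p * t⁻¹ * (t * (d * c) * t⁻¹) * t by group, k1, this]; group
  have tb := mem_cz.1 ht.2.1 b hb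
  have bE := (o.cmC h.toCb b1).1 (by rw [tb, mul_inv_cancel]; exact one_mem _)
  obtain ⟨c, hc, k⟩ := H _ (sqB b1) (sqE h.toCb bE)
  have cP : c ∈ P := e.chain [] (by simp) (CT h hc) (nz c hc) fun p hp => by
    by_cases q : p ∈ ev.range
    · rw [cb q hc, mul_inv_cancel]; exact one_mem _
    · rw [((ou h (e.le hp) q).fix h.toCb hc).1, k, ← pow_two]; exact pow_mem_fr (e.pg.to_le e.le) hb
  exact (b2 (Ein h.toCb bE (by rw [← k, ← o.act h.toCb hc, mem_cz.1 ht.2.1 c cP, mul_inv_cancel]))).elim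
theorem nzE (hd : d ∈ (UE ε ρ).map ev) : d ∈ nz P := nz_of h e fun p hp => CP h e (cET h hd (e.le hp))
theorem nC (ht : t ∈ P) (n : t ∉ ev.range) : ¬ A ≤ nz ((UC K).map ev) := fun k => by
  have := h.finK
  have EP : (UE ε ρ).map ev ≤ P := fun d hd => e.chain [(UC K).map ev] (by simpa using ⟨CP h e, k⟩)
    (h.BT (mA_le _ _ hd)) (nzE h e hd) ⟨fun p hp => cET h hd (e.le hp), cm_of_cz (B_czC ev (mA_le _ _ hd))⟩
  obtain ⟨W, w1, w2, w3, w4⟩ : ∃ W, (UE ε ρ).map ev ≤ W ∧ W ≤ ev.range ∧ W ≤ P ∧ A ≤ nz W := by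
    rcases dich h.toCb with H | G
    · refine ⟨P ⊓ cz ((UC K).map ev), le_inf EP ((mA_le _ _).trans (B_czC ev)), fun w hw => by_contra fun n => ?_,
        inf_le_left, fun a ha => mem_nz_inf (e.An ha) (mem_nz_cz (k ha))⟩
      obtain ⟨c, hc, f⟩ := H.ex h.toCb
      exact f (by rw [← (ou h (e.le hw.1) n).act h.toCb hc, mem_cz.1 hw.2 c hc, mul_inv_cancel])
    have G := gg h.toCb G
    refine ⟨closure {g | g ∈ P ∧ g * g ∈ (UC K).map ev ∧ g * g ≠ 1}, fun d hd => ?_,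
      (closure_le _).2 fun g hg => by_contra fun n => hg.2.2 (G.sq g (ou h (e.le hg.1) n) hg.2.1),
      (closure_le _).2 fun g hg => hg.1, fun a ha => mem_nz_of_le ?_⟩
    · have f : ∀ d ∈ (UE ε ρ).map ev, d ∉ (UC K).map ev → d ∈ closure {g | g ∈ P ∧ g * g ∈ (UC K).map ev ∧ g * g ≠ 1} :=
        fun d hd n => subset_closure ⟨EP hd, sqB (mA_le _ _ hd), fun f => n (Ein h.toCb hd f)⟩
      by_cases c : d ∈ (UC K).map ev
      · obtain ⟨d', hd', n⟩ := exE h.toCb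
        exact (mul_mem_cancel_right (f d' hd' n)).1 (f _ (mul_mem hd hd') fun m => n ((mul_mem_cancel_left c).1 m))
      · exact f d hd c
    · rw [cj_le_iff, closure_le]
      intro g hg
      have : a * g * a⁻¹ * (a * g * a⁻¹) = a * (g * g) * a⁻¹ := by group
      refine mem_cj.2 (subset_closure ?_)
      rw [inv_inv, Set.mem_ofPred_eq, this]
      exact ⟨conj_mem_of_mem_nz (e.An ha) hg.1, conj_mem_of_mem_nz (k ha) hg.2.1, by
        simpa [mul_inv_eq_iff_eq_mul] using hg.2.2⟩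
  have f : ∀ b ∈ ev.range, Cm b P W := fun b hb p hp => w1 (by
    by_cases q : p ∈ ev.range
    exacts [C_le_E ev (cBB b hb p q), (ou h (e.le hp) q).cmE h.toCb hb])
  have BP : ev.range ≤ P := fun b hb => e.chain [W, (UC K).map ev] (by simpa using ⟨⟨w3, w4⟩, CP h e, k⟩) (h.BT hb)
    (nz_of h e ((f b hb).mono le_rfl w3)) ⟨f b hb, cBB.cm hb w2 le_rfl, cm_of_cz (B_czC ev hb)⟩
  obtain ⟨u, rfl⟩ := ou h (e.le ht) n
  exact e.ne (le_antisymm e.le (h.le_of BP ((mul_mem_cancel_left (BP ⟨u, rfl⟩)).1 ht)))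
theorem mv (ht : t ∈ P) (n : t ∉ ev.range) : P = R0 ε ρ ev x := by
  have := h.finK
  obtain ⟨a, ha, m⟩ := SetLike.not_le_iff_exists.1 (nC h e ht n)
  obtain ⟨c, hc, m⟩ : ∃ c ∈ (UC K).map ev, a * c * a⁻¹ ∉ (UC K).map ev := by
    by_contra! f; exact m (mem_nz_of_conj_mem f)
  have cp := CP h e
  have v := (v1 h.toCb hc fun p hp => or_iff_not_imp_left.2 (ou h (e.le hp))).cj (e.An ha)
  have yP := conj_mem_of_mem_nz (e.An ha) (cp hc)
  have yy := sq_cj (sqC hc) a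
  have o := ou h (e.le ht) n
  have yC : c ∈ cz P → a * c * a⁻¹ ∈ cz P := conj_mem_of_mem_nz (mem_nz_cz (e.An ha))
  generalize a * c * a⁻¹ = y at m v yP yy yC
  generalize a * (x * c * x⁻¹ * c⁻¹) * a⁻¹ = z at v
  have yB : y ∉ ev.range := fun q => by
    have k1 : y * t * y⁻¹ * t⁻¹ ∉ (UC K).map ev := fun f =>
      m (Ein h.toCb ((o.cmC h.toCb q).1 (cm_inv y t ▸ inv_mem f)) yy)
    have k2 := v.eq (mul_mem (mul_mem ht yP) (inv_mem ht)) fun f => m (o.nc h.toCb q yy (mul_inv_eq_one.1 f))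
    exact k1 (v.eq ht (fun f => k1 (f ▸ one_mem _)) ▸ k2 ▸ cBB _ q _ (conj_mem_of_mem_nz (o.nzB h.toCb) q))
  replace o := ou h (e.le yP) yB
  obtain ⟨d, hd, ed⟩ := o.sq h.toCb (yy ▸ one_mem _)
  have dv : ∀ p ∈ P, p ∉ ev.range → p * y⁻¹ ∈ P ∧ p * y⁻¹ ∈ ev.range := fun p hp q =>
    ⟨mul_mem hp (inv_mem yP), (ou h (e.le hp) q).div h.toCb o⟩
  rcases dich h.toCb with H | G
  · obtain ⟨c, hc, f⟩ := H.ex h.toCb
    have zC : z ∈ (UC K).map ev := by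
      rw [← v.eq (cp hc) (by rwa [o.act h.toCb hc]), o.act h.toCb hc]; exact (o.fix h.toCb hc).2.1
    have PE : ∀ p ∈ P, p ∈ ev.range → p ∈ (UE ε ρ).map ev := fun p hp q =>
      (o.cmC h.toCb q).1 ((v p hp).elim (fun f => f ▸ one_mem _) fun f => f ▸ zC)
    have yR : y ∈ R0 ε ρ ev x := ed ▸ mul_mem (h.E_le_R0 hd) h.x_R0
    have PR : P ≤ R0 ε ρ ev x := fun p hp => by
      by_cases q : p ∈ ev.range
      · exact h.E_le_R0 (PE p hp q)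
      · exact (mul_mem_cancel_right (inv_mem yR)).1 (h.E_le_R0 (PE _ (dv p hp q).1 (dv p hp q).2))
    have EP : (UE ε ρ).map ev ≤ P := fun d hd => e.chain [] (by simp) (h.BT (mA_le _ _ hd)) (nzE h e hd) fun p hp => by
      obtain ⟨c, hc, k⟩ := H _ (cET h hd (e.le hp)) (xRR h (h.E_le_R0 hd) (PR hp))
      rw [← k, ← o.act h.toCb hc]
      exact commutator_le_fr (e.pg.to_le e.le) (commutator_mem_commutator yP (cp hc))
    exact le_antisymm PR (sup_le EP (zpowers_le.2 ((mul_mem_cancel_left (EP hd)).1 (ed ▸ yP))))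
  exfalso
  have G := gg h.toCb G
  have xC : ∀ c ∈ (UC K).map ev, c ∈ cz T := fun c hc =>
    cen h hc ((G.iv x (oux ev x) (by rw [h.xx]; exact one_mem _) c (C_le_E ev hc)).trans (invC hc))
  have iv := G.iv y o (yy ▸ one_mem _)
  replace yC := yC (cz_anti e.le (xC c hc))
  have PC : ∀ p ∈ P, p ∈ ev.range → p ∈ (UC K).map ev := fun p hp q => by
    have f := mem_cz.1 yC p hp
    have pE := (o.cmC h.toCb q).1 (by rw [f, mul_inv_cancel]; exact one_mem _)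
    exact Ein h.toCb pE (mul_eq_one_iff_eq_inv.2 (f.symm.trans (iv p pE)))
  have vE : ∀ d ∈ (UE ε ρ).map ev, V1 P d (d * d) := fun d hd p hp => by
    by_cases q : p ∈ ev.range
    · left; rw [bc (mA_le _ _ hd) (PC p hp q), mul_inv_cancel]
    · right
      have m := PC _ (dv p hp q).1 (dv p hp q).2
      rw [show d * p * d⁻¹ * p⁻¹ = d * (p * y⁻¹ * (y * d * y⁻¹)⁻¹ * (p * y⁻¹)⁻¹) by group, iv d hd, inv_inv,
        cb (mA_le _ _ hd) m]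
  obtain ⟨X, w⟩ := e.ti
  obtain ⟨g, hg, gX⟩ := SetLike.not_le_iff_exists.1 w.ne
  obtain ⟨c, hc, c1, c2⟩ : ∃ c ∈ (UC K).map ev, c ≠ 1 ∧ g⁻¹ * c * g ∈ (UC K).map ev := by
    obtain ⟨c, hc, d, hd, c1, d1, cd⟩ := G.big
    by_contra! f
    have f1 := fun c hc c1 => mt (PC _ (conj_mem_of_mem_nz' (e.An hg) (cp hc))) (f c hc c1)
    have f2 := fun c hc c1 => ou h (e.le (conj_mem_of_mem_nz' (e.An hg) (cp hc))) (f1 c hc c1)
    exact f1 _ (mul_mem hc (inv_mem hd)) (by rwa [ne_eq, mul_inv_eq_one])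
      (by simpa [mul_assoc] using (f2 c hc c1).div h.toCb (f2 d hd d1))
  have I : ∀ d ∈ (UE ε ρ).map ev, d * d ≠ 1 → Iv P A d ∧ d ∈ X := fun d hd n =>
    ⟨e.iv (h.BT (mA_le _ _ hd)) (nzE h e hd) (fun f => n (sqC (PC d f (mA_le _ _ hd)))) (cp (sqB (mA_le _ _ hd))),
      w.le (mem_ai_of_mem (h.BT (mA_le _ _ hd)) (nzE h e hd))⟩
  obtain ⟨d1, h1, e1⟩ := G.rt c hc
  obtain ⟨d2, h2, e2⟩ := G.rt _ c2
  obtain ⟨i1, x1⟩ := I d1 h1 (e1 ▸ c1)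
  obtain ⟨i2, x2⟩ := I d2 h2 (e2 ▸ by simpa [mul_assoc, inv_mul_eq_one] using c1)
  have k := (e1 ▸ vE d1 h1).comm (by simpa [e2, mul_assoc] using (vE d2 h2).cj (e.An hg)) (sqC hc) (bc (mA_le _ _ h1) hc)
    (b := g * d2 * g⁻¹) (by
      rw [show g * d2 * g⁻¹ * c * (g * d2 * g⁻¹)⁻¹ = g * (d2 * (g⁻¹ * c * g) * d2⁻¹) * g⁻¹ by group, bc (mA_le _ _ h2) c2]; group)
  have i3 := e.ivc i2 hg
  refine gX (e.memX w i2 x2 hg (e.memX w i1 x1 i3.mem ?_))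
  generalize g * d2 * g⁻¹ = b at k i3
  have := conj_mem_of_mem_nz (mem_nz_cz (e.An i3.mem)) (agree_iff.1 k)
  simpa [mul_assoc] using mul_mem x1 (w.le (cz_le_ai _ _ this))
end

variable (K Γ) [Finite Γ]
theorem es : ES K Γ := fun ε ρ F ev x h hF _ P hP => by
  have e := es_of hF hP
  by_cases k : P ≤ ev.range
  · exact (inB h e k).imp_right (Or.imp_right .inl)
  obtain ⟨t, ht, n⟩ := SetLike.not_le_iff_exists.1 k
  have := mv h e ht n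
  exact .inr (.inr (.inr ⟨this, SetLike.not_le_iff_exists.1 (this ▸ nC h e ht n)⟩))

theorem ex : EX K Γ := fun ε ρ ev x h a ha m => by
  have := h.finK
  obtain ⟨c, hc, m⟩ : ∃ c ∈ (UC K).map ev, a * c * a⁻¹ ∉ (UC K).map ev := by
    by_contra! f; exact m (mem_nz_of_conj_mem f)
  have io : ∀ p ∈ R0 ε ρ ev x, p ∈ (UE ε ρ).map ev ∨ Ou ev x p := fun p hp => by
    obtain ⟨u, k, rfl | rfl⟩ := h.mem_R0.1 hp
    exacts [.inl (mem_map_of_mem _ k), .inr ⟨u, rfl⟩]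
  have CR := (C_le_E ev).trans h.E_le_R0
  have v := (v1 h hc fun p hp => (io p hp).imp_left fun k => mA_le _ _ k).cj ha
  have yy := sq_cj (sqC hc) a
  have o := (io _ (conj_mem_of_mem_nz ha (CR hc))).resolve_left fun k => m (Ein h k yy)
  generalize a * c * a⁻¹ = y at v yy o
  generalize a * (x * c * x⁻¹ * c⁻¹) * a⁻¹ = z at v
  by_cases G : ε = false ∧ ρ = .refl K
  · have G := gg h G
    obtain ⟨c, hc, d, hd, c1, d1, cd⟩ := G.big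
    have f : ∀ c ∈ (UC K).map ev, c ≠ 1 → c = z := fun c hc n => by
      obtain ⟨d, hd, rfl⟩ := G.rt c hc
      have := v d (h.E_le_R0 hd)
      rw [G.iv y o (yy ▸ one_mem _) d hd, ← mul_inv_rev, invC hc] at this
      exact this.resolve_left n
    exact (cd ((f c hc c1).trans (f d hd d1).symm)).elim
  have f : ∀ c d : K, x * ev ⟨0, 0, c, d⟩ * x⁻¹ = ev ⟨0, 0, c, d⟩ → ev ⟨0, 0, c, d⟩ = 1 ∨ ev ⟨0, 0, c, d⟩ = z :=
    fun c d e => by
      obtain ⟨c, hc, k⟩ := (dich h).resolve_right G _ (mem_map_of_mem _ ⟨rfl, rfl⟩) e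
      rw [← k, ← o.act h hc]; exact v c (CR hc)
  have t2 : 2 ≤ Nat.card K := Finite.one_lt_card
  cases ε
  · have f' : ∀ c, ρ c = c → c = 0 ∨ c = 1 := fun c k => by
      have g : ∀ c, ρ c = c → c ≠ 0 → ev ⟨0, 0, c, 0⟩ = z := fun c k n =>
        (f c 0 (by rw [h.sw, h.eq_iff]; simp [sw, k])).resolve_left fun e => n ((h.ker _).1 e).2.2.1
      exact or_iff_not_imp_left.2 fun n => h.eq_c ((g c k n).trans (g 1 (map_one ρ) one_ne_zero).symm)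
    have n : ρ ≠ .refl K := fun e => G ⟨rfl, e⟩
    refine .inr ⟨le_antisymm ?_ (h.q.resolve_right (by simp)), rfl, n⟩
    obtain ⟨w, hw⟩ : ∃ w, ρ w ≠ w := by
      by_contra! e; exact n (RingEquiv.ext e)
    have g : ∀ a, ρ a = a ∨ ρ a = a + 1 := fun a => (f' (ρ a + a) (by rw [map_add, h.rL rfl, add_comm])).imp
      CharTwo.add_eq_zero.1 fun e => by linear_combination e - a * Uc.two K
    have := Nat.card_le_card_of_surjective (fun b : Bool × Bool => (if b.1 then (1 : K) else 0) + if b.2 then w else 0) fun a => by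
      rcases g a with e | e
      · rcases f' a e with rfl | rfl
        exacts [⟨(false, false), by simp⟩, ⟨(true, false), by simp⟩]
      · rcases f' (a + w) (by rw [map_add, e, (g w).resolve_left hw]; linear_combination Uc.two K) with e | e
        · exact ⟨(false, true), by simp [CharTwo.add_eq_zero.1 e]⟩
        · exact ⟨(true, true), by simp only [if_true]; linear_combination w * Uc.two K - e⟩
    simpa using this
  · have g : ∀ d, d ≠ 0 → ev ⟨0, 0, ρ d, d⟩ = z := fun d n =>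
      (f _ d (by rw [h.sw, h.eq_iff]; simp [sw, h.rS rfl])).resolve_left fun e => n (((h.ker _).1 e).2.2.2 rfl)
    refine .inl ⟨le_antisymm ?_ t2, rfl⟩
    have := Nat.card_le_card_of_surjective (fun b : Bool => if b then (1 : K) else 0) fun a => by
      by_cases a0 : a = 0
      exacts [⟨false, a0.symm⟩, ⟨true, (h.eq_iff.1 ((g 1 one_ne_zero).trans (g a a0).symm)).2.2.2 rfl⟩]
    simpa using this

end H29.MF
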