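/-
Minimal `2`-fusion systems: matching two systems in root coordinates.
-/
import Cfsg.Agent.H29.MF1
import Cfsg.Agent.H25.Aut

set_option autoImplicit false
set_option linter.unusedSectionVars false
set_option linter.unusedVariables false

namespace H29.MF
open Subgroup H25 H25.FS H4.MF H22.FZ

universe u v
variable {K : Type} [Field K] [CharP K 2] {Γ : Type u} [Group Γ] {Γ' : Type v} [Group Γ'] {ε : Bool} {ρ σ : K ≃+* K}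
  {ev : Uc K →* Γ} {ev' : Uc K →* Γ'} {a b g s t x y w : Γ} {a' x' w' : Γ'} {T P Q Y : Subgroup Γ} {T' Y' : Subgroup Γ'}
  {F : FS Γ} {F' : FS Γ'} {l m : K}

theorem odd_of (h : (orderOf a).Coprime 2) : Odd (orderOf a) := Nat.coprime_two_right.1 h

variable (Γ Γ') in
theorem eg [Finite Γ] [Finite Γ'] : EG Γ Γ' := fun F F' j hF hF' inj rg h h' => by
  have eS : F'.S = im j F.S := by rw [im_self, rg]
  have iS : ∀ {P}, P ≤ F.S → im j P ≤ F'.S := fun k => eS ▸ im_mono j k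
  refine ⟨⟨le_rfl, fun {P g} => hF.alperin (M := fun P g => ∃ g', F'.T (im j P) g' ∧ IC j P g g') ?_ ?_ ?_ P g⟩, eS,
    fun {P' g'} H => hF'.alperin (M := fun P' g' => ∀ P, P ≤ F.S → im j P = P' → ∃ g, F.T P g ∧ IC j P g g') ?_ ?_ ?_
      P' g' H _ (F.pr_le _) (im_pr (eS ▸ H.le))⟩
  · rintro P g k H - ⟨g', H1, e1⟩ ⟨k', H2, e2⟩
    exact ⟨_, H1.mul (e1.im_cj H.le H.cj_le ▸ H2), e1.mul e2⟩
  · rintro P g k - ⟨g', H1, e1⟩ e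
    exact ⟨_, H1, e1.congr_left e⟩
  · intro Q hQ a ha P hP
    have q := (hF.cr_of_ess hQ).1
    obtain ⟨r, hr, s, hs, e⟩ := (hF.fa q).exists_resid ha
    obtain ⟨-, g', k, e'⟩ := mem_tb.1 (mul_mem ((resid_le_iff (K := tb j Q (F'.A (im j Q)))).2 (fun a ha o =>
      mem_tb.2 ⟨F.A_le_nz Q ha, h Q hQ a ha (odd_of o)⟩) hr) (mem_tb.2 ⟨hs.2, H25.ex j s, F'.N_le_A _
        ⟨iS le_rfl (ex_mem_im j le_rfl hs.1), ex_mem_nz j hs.1 q.1 hs.2⟩, ic_of_mem j q.1 hs.1⟩))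
    exact ⟨g', (T_of_mem_A (iS q.1) k).mono (im_mono j hP), (e'.congr_left e).mono hP⟩
  · rintro _ g' k' - - m1 m2 P hP rfl
    obtain ⟨g, H, e⟩ := m1 P hP rfl
    obtain ⟨k, H', e'⟩ := m2 _ H.cj_le (e.im_cj H.le H.cj_le)
    exact ⟨_, H.mul H', e.mul e'⟩
  · rintro _ g' k' - m e P hP rfl
    obtain ⟨g, H, e'⟩ := m P hP rfl
    exact ⟨g, H, e'.congr_right hP e⟩
  · rintro Q' hQ a' ha _ hP P p rfl
    have q := (hF'.cr_of_ess hQ).1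
    obtain ⟨Q, q1, -, rfl⟩ := exists_im (eS ▸ q.1)
    obtain ⟨r, hr, s', hs, e⟩ := (hF'.fa q).exists_resid ha
    obtain ⟨s, k, rfl⟩ := (mem_im' le_rfl).1 (eS ▸ hs.1)
    have n := (ex_mem_nz_iff inj k q1).1 hs.2
    obtain ⟨g, k, -, e'⟩ := mem_tr.1 (mul_mem ((resid_le_iff (K := tr j Q (F.A Q))).2 (fun a ha o =>
      let ⟨b, hb, e⟩ := h' Q q1 hQ a ha (odd_of o); mem_tr.2 ⟨b, hb, hb.1, e⟩) hr)
        (mem_tr.2 ⟨s, F.N_le_A _ ⟨k, n⟩, n, ic_of_mem j q1 k⟩))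
    have := (im_le_im inj p).1 hP
    exact ⟨g, (T_of_mem_A q1 k).mono this, (e'.congr_right q1 e).mono this⟩

variable (K Γ Γ') in
theorem iso : ISO K Γ Γ' := fun ε ρ T ev x T' ev' x' h h' => by
  let R : Γ → Γ' → Prop := fun t t' => ∃ u, t = ev u ∧ t' = ev' u ∨ t = ev u * x ∧ t' = ev' u * x'
  have mul : ∀ {s t s' t'}, R s s' → R t t' → R (s * t) (s' * t') := by
    rintro _ _ _ _ ⟨u, ⟨rfl, rfl⟩ | ⟨rfl, rfl⟩⟩ ⟨v, ⟨rfl, rfl⟩ | ⟨rfl, rfl⟩⟩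
    · exact ⟨u * v, .inl ⟨by simp, by simp⟩⟩
    · exact ⟨u * v, .inr ⟨by simp [mul_assoc], by simp [mul_assoc]⟩⟩
    · exact ⟨u * sw ε ρ v, .inr ⟨by simp [mul_assoc, h.x_mul], by simp [mul_assoc, h'.x_mul]⟩⟩
    · exact ⟨_, .inl ⟨h.out_mul u v, h'.out_mul u v⟩⟩
  have uq : ∀ {s t s' t'}, R s s' → R t t' → (s = t ↔ s' = t') := by
    rintro _ _ _ _ ⟨u, ⟨rfl, rfl⟩ | ⟨rfl, rfl⟩⟩ ⟨v, ⟨rfl, rfl⟩ | ⟨rfl, rfl⟩⟩
    · rw [h.eq_iff, h'.eq_iff]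
    · exact iff_of_false (fun e => h.not_mem v ⟨u, e⟩) fun e => h'.not_mem v ⟨u, e⟩
    · exact iff_of_false (fun e => h.not_mem u ⟨v, e.symm⟩) fun e => h'.not_mem u ⟨v, e.symm⟩
    · rw [mul_left_inj, mul_left_inj, h.eq_iff, h'.eq_iff]
  choose f hf using fun t : T => show ∃ t', R t t' from
    let ⟨u, e⟩ := (h.mem t).1 t.2; e.elim (fun e => ⟨_, u, .inl ⟨e, rfl⟩⟩) fun e => ⟨_, u, .inr ⟨e, rfl⟩⟩
  let j : T →* Γ' := MonoidHom.mk' f fun s t => (uq (hf _) (mul (hf s) (hf t))).1 rfl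
  have k : ∀ {t t'}, t ∈ T → R t t' → H25.ex j t = t' := fun ht r => (ex_of_mem j ht).trans ((uq (hf ⟨_, ht⟩) r).1 rfl)
  refine ⟨j, fun s t e => Subtype.ext ((uq (hf s) (hf t)).2 e), le_antisymm ?_ fun t' ht => ?_,
    fun u => k (h.ev_mem u) ⟨u, .inl ⟨rfl, rfl⟩⟩, k h.xT ⟨1, .inr ⟨by simp, by simp⟩⟩⟩
  · rintro _ ⟨t, rfl⟩
    obtain ⟨u, e⟩ := hf t
    exact (h'.mem _).2 ⟨u, e.imp And.right And.right⟩
  · obtain ⟨u, rfl | rfl⟩ := (h'.mem _).1 ht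
    · exact ⟨⟨_, h.ev_mem u⟩, (uq (hf _) ⟨u, .inl ⟨rfl, rfl⟩⟩).1 rfl⟩
    · exact ⟨⟨_, mul_mem (h.ev_mem u) h.xT⟩, (uq (hf _) ⟨u, .inr ⟨rfl, rfl⟩⟩).1 rfl⟩

/-- the isomorphism matching the coordinates -/
structure Jm (T : Subgroup Γ) (ev : Uc K →* Γ) (x : Γ) (T' : Subgroup Γ') (ev' : Uc K →* Γ') (x' : Γ')
    (j : T →* Γ') : Prop where
  inj : Function.Injective j
  rg : j.range = T'
  ev : ∀ u, H25.ex j (ev u) = ev' u
  x : H25.ex j x = x'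

namespace Jm
variable {j : T →* Γ'} {j' : T' →* Γ} (J : Jm T ev x T' ev' x' j) (h : Co ε ρ T ev x)
include J h
theorem imU (U : Subgroup (Uc K)) : im j (U.map ev) = U.map ev' := by
  ext y
  rw [mem_im' ((mA_le _ _).trans h.BT)]
  exact ⟨fun ⟨_, ⟨u, k, rfl⟩, e⟩ => ⟨u, k, (J.ev u).symm.trans e⟩, fun ⟨u, k, e⟩ => ⟨_, ⟨u, k, rfl⟩, (J.ev u).trans e⟩⟩
theorem imB : im j ev.range = ev'.range := by rw [ev.range_eq_map, ev'.range_eq_map, J.imU h]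
theorem imR : im j (R0 ε ρ ev x) = R0 ε ρ ev' x' := by
  rw [R0, im_sup j ((mA_le _ _).trans h.BT) (zpowers_le.2 h.xT), J.imU h, im_zpowers j h.xT, J.x, R0]
theorem icx (q : Q ≤ T) : IC j Q x x' := J.x ▸ ic_of_mem j q h.xT
theorem dg {y' : Γ'} (d : Dg ev y σ l m) (d' : Dg ev' y' σ l m) : IC j ev.range y y' := by
  rintro _ ⟨u, rfl⟩; rw [d.act, J.ev, J.ev, d'.act]
variable (J' : Jm T' ev' x' T ev x j')
include J'
theorem inv (ht : t ∈ T) : H25.ex j' (H25.ex j t) = t := by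
  have m : ∀ {t}, t ∈ T → H25.ex j t ∈ T' := fun k => J.rg ▸ im_self j ▸ ex_mem_im j le_rfl k
  obtain ⟨u, rfl | rfl⟩ := (h.mem t).1 ht
  · rw [J.ev, J'.ev]
  · rw [ex_mul j (h.ev_mem u) h.xT, ex_mul j' (m (h.ev_mem u)) (m h.xT), J.ev, J'.ev, J.x, J'.x]
theorem imim (q : Q ≤ T) : im j' (im j Q) = Q := by
  ext y
  rw [mem_im' (J.rg ▸ im_le_range j Q)]
  refine ⟨fun ⟨z, k, e⟩ => ?_, fun k => ⟨_, ex_mem_im j q k, J.inv h J' (q k)⟩⟩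
  obtain ⟨s, k', rfl⟩ := (mem_im' q).1 k
  rwa [← e, J.inv h J' (q k')]
theorem flip (h' : Co ε ρ T' ev' x') (q : Q ≤ T) (n : a' ∈ nz (im j Q)) (e : IC j' (im j Q) a' a) : IC j Q a a' :=
  fun s hs => by
    have := e _ (ex_mem_im j q hs)
    rw [J.inv h J' (q hs)] at this
    rw [← this, J'.inv h' J (J.rg ▸ im_le_range j Q (conj_mem_of_mem_nz n (ex_mem_im j q hs)))]
end Jm

section
variable [Finite Γ] [Finite Γ'] {j : F.S →* Γ'} {j' : F'.S →* Γ} (c : Cz ε ρ F ev x w Y) (c' : Cz ε ρ F' ev' x' w' Y')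
  (J : Jm F.S ev x F'.S ev' x' j) (L : La ev Y ev' Y')
include c in
theorem YA (hy : y ∈ Y) (p : P ≤ F.S) (n : y ∈ nz P) : y ∈ F.A P := (c.TY y hy P p ((mem_nz.1 n).le.trans p)).mem_A n
include c c' J L
theorem mY (hy : y ∈ Y) : ∃ y' ∈ Y', IC j ev.range y y' := by
  rcases c.dg y hy with ⟨σ, l, m, d⟩ | ⟨σ, l, m, d⟩
  · obtain ⟨y', k, d'⟩ := (L σ l m).1 ⟨y, hy, d⟩
    exact ⟨y', k, J.dg c.toCo d d'⟩
  · obtain ⟨y', k, d'⟩ := (L σ l m).1 ⟨_, mul_mem c.xY hy, d⟩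
    refine ⟨x' * y', mul_mem c'.xY k, ?_⟩
    simpa [← mul_assoc, c.xx] using (J.dg c.toCo d d').mul' (J.icx c.toCo c.BT) (mem_nz.1 d.nzR).le
theorem mB : F.A ev.range ≤ tb j ev.range (F'.A ev'.range) := fun a ha => by
  obtain ⟨b, hb, y, hy, e⟩ := c.nb _ a le_rfl (T_of_mem_A c.BT ha)
  obtain ⟨y', k, e'⟩ := mY c c' J L hy
  have m : H25.ex j b ∈ ev'.range := J.imB c.toCo ▸ ex_mem_im j c.BT hb
  exact mem_tb.2 ⟨ha.1, _, mul_mem (F'.N_le_A _ ⟨c'.BT m, le_nz_self _ m⟩) (YA c' k c'.BT (c'.toCy.nzR c'.toCb k)),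
    (e'.mul' (ic_of_mem j c.BT (c.BT hb)) (mem_nz.1 (c.toCy.nzR c.toCb hy)).le).congr_left e⟩
theorem mA : F.A ((UA K).map ev) ≤ tb j ((UA K).map ev) (F'.A ((UA K).map ev')) := fun a ha => by
  have q := (mA_le ev (UA K)).trans c.BT
  have f : ∀ a ∈ nz ((UA K).map ev), Bor F ev a → a ∈ tb j ((UA K).map ev) (F'.A ((UA K).map ev')) := by
    rintro a n ⟨g, hg, e⟩
    obtain ⟨-, g', k, e'⟩ := mem_tb.1 (mB c c' J L hg)
    have e2 := (e'.mono (mA_le _ _)).congr_left e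
    exact mem_tb.2 ⟨n, g', mem_A_of_le c'.BT k (mA_le _ _) (J.imU c.toCo _ ▸ e2.mem_nz q n), e2⟩
  rcases c.br a ha with k | ⟨b, hb, k⟩
  · exact f a ha.1 k
  have k1 := f b (B_nzA ev hb) ⟨b, F.N_le_A _ ⟨c.BT hb, le_nz_self _ hb⟩, .refl _ _⟩
  have k2 : w ∈ tb j ((UA K).map ev) (F'.A ((UA K).map ev')) := mem_tb.2 ⟨c.wa.nzA, w', c'.wT.mem_A c'.wa.nzA, by
    rintro _ ⟨⟨a, s, d, e⟩, (hu : s = 0), rfl⟩
    subst hu
    rw [c.wa, J.ev, J.ev, c'.wa]⟩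
  exact (mul_mem_cancel_left (mul_mem k2 k1)).1 (f _ (mul_mem (mul_mem c.wa.nzA (B_nzA ev hb)) ha.1) k)
theorem mA2 : F.A ((UB K).map ev) ≤ tb j ((UB K).map ev) (F'.A ((UB K).map ev')) := fun a ha => by
  have q := (mA_le ev (UA K)).trans c.BT
  have k := (F.of_mem ((mA_le ev (UB K)).trans c.BT) c.xT).cj_A_le (conj_mem_cj x ha)
  rw [c.cjB] at k
  obtain ⟨n, a', k, e⟩ := mem_tb.1 (mA c c' J L k)
  have k' := (F'.of_mem ((mA_le ev' (UA K)).trans c'.BT) c'.xT).cj_A_le (conj_mem_cj x' k)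
  have e' := e.conj (J.icx c.toCo q) le_rfl (mem_nz.1 n).le
  rw [c'.cjA] at k'
  rw [c.cjA, show x * (x * a * x⁻¹) * x⁻¹ = x * x * a * (x * x)⁻¹ by group, c.xx, one_mul, inv_one, mul_one] at e'
  exact mem_tb.2 ⟨ha.1, _, k', e'⟩
theorem mS : F.A F.S ≤ tb j F.S (F'.A F'.S) := fun a ha => by
  obtain ⟨b, hb, y, hy, e⟩ := c.nb _ a c.BT (T_of_mem_A le_rfl ha)
  obtain ⟨y', k, e'⟩ := mY c c' J L hy
  have n : y ∈ nz F.S := (mul_mem_cancel_left (le_nz_self _ (c.BT hb))).1 (e.symm.mem_nz ha.1)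
  have yx : y * x * y⁻¹ = x := (c.toCy.inf_T c.toCo (mul_mem (mul_mem hy c.xY) (inv_mem hy))
    (conj_mem_of_mem_nz n c.xT)).resolve_left fun f => c.xB (by
      rw [conj_eq_one_iff.1 f]; exact one_mem _)
  have e1 := e'.conj (J.icx c.toCo c.BT) le_rfl (mem_nz.1 (c.toCy.nzR c.toCb hy)).le
  rw [mem_nz.1 c.xR, show x * y * x⁻¹ = y by rw [mul_inv_eq_iff_eq_mul, mul_inv_eq_iff_eq_mul.1 yx]] at e1
  have yx' := c'.toCy.eq_of_agree c'.toCb k (mul_mem (mul_mem c'.xY k) (inv_mem c'.xY)) (J.imB c.toCo ▸ e'.agree e1)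
  have e2 : IC j F.S y y' := fun t ht => by
    obtain ⟨u, rfl | rfl⟩ := (c.mem t).1 ht
    · exact e' _ ⟨u, rfl⟩
    · rw [show y * (ev u * x) * y⁻¹ = y * ev u * y⁻¹ * (y * x * y⁻¹) by group, yx, ex_mul j (conj_mem_of_mem_nz n (c.ev_mem u)) c.xT,
        e' _ ⟨u, rfl⟩, ex_mul j (c.ev_mem u) c.xT, J.x]
      conv_rhs => rw [← mul_assoc, mul_assoc _ x', show x' * y'⁻¹ = y'⁻¹ * x' by
        rw [mul_inv_eq_iff_eq_mul, mul_assoc, eq_inv_mul_iff_mul_eq, eq_mul_inv_iff_mul_eq.1 yx'], ← mul_assoc]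
  have iS : im j F.S = F'.S := by rw [im_self, J.rg]
  have m : H25.ex j b ∈ F'.S := iS ▸ ex_mem_im j le_rfl (c.BT hb)
  exact mem_tb.2 ⟨ha.1, _, mul_mem (F'.N_le_A _ ⟨m, le_nz_self _ m⟩) (YA c' k le_rfl (iS ▸ e2.mem_nz le_rfl n)),
    (e2.mul' (ic_of_mem j le_rfl (c.BT hb)) (mem_nz.1 n).le).congr_left e⟩
theorem mt1 (J' : Jm F'.S ev' x' F.S ev x j') (E : EL ε ρ F ev x) (O : Mo ε ρ F ev x → OA F' (R0 ε ρ ev' x'))
    (hQ : Q = F.S ∨ F.Ess Q) (ha : a ∈ F.A Q) (o : Odd (orderOf a)) : ∃ a' ∈ F'.A (im j Q), IC j Q a a' := by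
  rcases hQ.imp_right (E Q) with rfl | rfl | rfl | rfl | ⟨rfl, M⟩
  · rw [im_self, J.rg]; exact (mem_tb.1 (mS c c' J L ha)).2
  · rw [J.imU c.toCo]; exact (mem_tb.1 (mA c c' J L ha)).2
  · rw [J.imU c.toCo]; exact (mem_tb.1 (mA2 c c' J L ha)).2
  · rw [J.imB c.toCo]; exact (mem_tb.1 (mB c c' J L ha)).2
  have n : a ∈ nz (im j' (R0 ε ρ ev' x')) := J'.imR c'.toCo ▸ ha.1
  obtain ⟨a', k, e⟩ := O M (H25.ex (act j' _) a) (by
    rw [ex_of_mem _ n]; exact o.of_dvd_nat ((orderOf_map_dvd _ _).trans (Subgroup.orderOf_mk a n).dvd))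
  have i := J.imR c.toCo
  exact ⟨a', i ▸ k, J.flip c.toCo J' c'.toCo c.R0_le (i ▸ k.1) (i ▸ fun r hr =>
    (congrArg _ (e ⟨r, hr⟩)).trans (hc_act J'.inj c'.R0_le n ⟨r, hr⟩))⟩
end

variable (K Γ Γ') [Finite Γ] [Finite Γ']
theorem mt : MT K Γ Γ' := fun ε ρ F ev x w Y F' ev' x' w' Y' c c' L E E' O O' => by
  obtain ⟨j, J⟩ := iso K Γ Γ' ε ρ _ ev x _ ev' x' c.toCo c'.toCo
  obtain ⟨j', J'⟩ := iso K Γ' Γ ε ρ _ ev' x' _ ev x c'.toCo c.toCo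
  replace J : Jm F.S ev x F'.S ev' x' j := ⟨J.1, J.2.1, J.2.2.1, J.2.2.2⟩
  replace J' : Jm F'.S ev' x' F.S ev x j' := ⟨J'.1, J'.2.1, J'.2.2.1, J'.2.2.2⟩
  refine ⟨j, J.inj, J.rg, eg Γ Γ' F F' j c.sat c'.sat J.inj J.rg (fun Q hQ a => mt1 c c' J L J' E O hQ)
    fun Q q hQ a' ha o => ?_⟩
  obtain ⟨a, k, e⟩ := mt1 c' c J' (fun σ l m => (L σ l m).symm) J E' O' hQ ha o
  exact ⟨a, J.imim c.toCo J' q ▸ k, J.flip c.toCo J' c'.toCo q ha.1 e⟩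

theorem gc : GC K Γ := fun ε ρ G T ev x w Y g => by
  have A := (mA_le ev (UA K)).trans g.BT
  have f : ∀ {a k}, k ∈ G → k ∈ nz ev.range → Agree ((UA K).map ev) a k → Bor (ofSub G T) ev a := fun k n e =>
    ⟨_, ofSub_A g.syl.le g.BT ▸ mem_ai_of_mem k n, e⟩
  refine ⟨⟨g.toCo, g.toCy, sat_ofSub g.pg g.syl, fun y hy P p p' => ofSub_T_of_mem p (g.YG hy) p', fun P a p H => ?_, g.wa,
    ofSub_T_of_mem A g.wG ((mem_nz.1 g.wa.nzA).le.trans A), fun a ha => ?_⟩, fun Z z1 z2 z3 => ?_⟩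
  · obtain ⟨-, p', k, hk, e⟩ := (ofSub_T g.syl.le).1 H
    obtain ⟨b, hb, y, hy, rfl⟩ := g.nb k hk (mem_nz.2 (g.wc (by rw [← e.cj_eq' p]; exact (cj_mono a p).trans p')))
    exact ⟨b, hb, y, hy, e⟩
  · obtain ⟨n, k, hk, e⟩ := mem_ai.1 (ofSub_A g.syl.le A ▸ ha)
    exact (g.br k hk (e.symm.mem_nz n)).imp (fun n => f hk n e) fun ⟨b, hb, n⟩ =>
      ⟨b, hb, f (mul_mem (mul_mem g.wG (g.syl.le (g.BT hb))) hk) n (e.mul_left _)⟩
  · have n : T ≤ nz Z := z3.trans (cz_le_nz Z)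
    rw [FS.NF, NK_ofSub g.syl.le z2 (cz_le_nz Z) le_rfl, inf_eq_left.2 n]
    exact constr_ofSub g.pg (g.syl.mono_right (le_inf g.syl.le n) inf_le_left) (g.con Z z1 z2 z3)

omit [Finite Γ'] in
theorem kt : KT K Γ := fun K' _ _ e ε ρ F ev x w Y c => by
  let φ : Uc K' →* Uc K := MonoidHom.mk' (fun u => ⟨e.symm u.a, e.symm u.s, e.symm u.c, e.symm u.d⟩) fun u v => by
    ext <;> simp
  have pa : ∀ u, (φ u).a = e.symm u.a := fun _ => rfl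
  have ps : ∀ u, (φ u).s = e.symm u.s := fun _ => rfl
  have pc : ∀ u, (φ u).c = e.symm u.c := fun _ => rfl
  have pd : ∀ u, (φ u).d = e.symm u.d := fun _ => rfl
  have sj : Function.Surjective φ := fun u => ⟨⟨e u.a, e u.s, e u.c, e u.d⟩, by ext <;> simp [pa, ps, pc, pd]⟩
  have s1 : ∀ u, φ (sw ε ((e.symm.trans ρ).trans e) u) = sw ε ρ (φ u) := fun u => by
    cases ε <;> ext <;> simp [pa, ps, pc, pd, sw]
  have mp : ∀ {U' : Subgroup (Uc K')} {U : Subgroup (Uc K)}, (∀ u, u ∈ U' ↔ φ u ∈ U) → U'.map (ev.comp φ) = U.map ev := fun {U' U} k => by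
    rw [← map_map, show U' = U.comap φ from Subgroup.ext k, map_comap_eq_self_of_surjective sj]
  have mA : (UA K').map (ev.comp φ) = (UA K).map ev := mp fun u => by simp [mem_UA, ps]
  have mC : (UC K').map (ev.comp φ) = (UC K).map ev := mp fun u => by simp [mem_UC, pa, ps]
  have mE : (UE ε ((e.symm.trans ρ).trans e)).map (ev.comp φ) = (UE ε ρ).map ev := mp fun u => by
    rw [mem_UE, mem_UE, ← s1, ps, ps, e.symm.injective.eq_iff]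
  have mB : (ev.comp φ).range = ev.range := by
    rw [MonoidHom.range_eq_map, MonoidHom.range_eq_map]; exact mp fun u => by simp
  have d1 : ∀ {y σ l m}, Dg ev y σ l m → Dg (ev.comp φ) y ((e.symm.trans σ).trans e) (e l) (e m) := fun d =>
    ⟨by simpa using d.l0, by simpa using d.m0, fun u => by
      rw [MonoidHom.comp_apply, d.act, MonoidHom.comp_apply]; congr 1; ext <;> simp [pa, ps, pc, pd]⟩
  refine ⟨ev.comp φ, ⟨⟨⟨by rw [← Nat.card_congr e.toEquiv]; exact c.q, fun u => ?_, fun k a => by simp [c.rL k],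
    fun k a => by simp [← map_pow, c.rS k], c.xx, fun u => ?_⟩, fun t => ?_⟩, ⟨c.xY, fun y hy => ?_, mB ▸ c.fth, c.y4, fun t n => ?_⟩,
    c.sat, c.TY, mB ▸ c.nb, fun a b d => ?_, mA ▸ c.wT, ?_⟩, by rw [Mo, Mo, R0, R0, mE, mC]⟩
  · rw [MonoidHom.comp_apply, c.ker]; simp [pa, ps, pc, pd]
  · rw [MonoidHom.comp_apply, c.sw, ← s1]; rfl
  · rw [c.mem]; exact sj.exists
  · exact (c.dg y hy).imp (fun ⟨_, _, _, d⟩ => ⟨_, _, _, d1 d⟩) fun ⟨_, _, _, d⟩ => ⟨_, _, _, d1 d⟩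
  · obtain ⟨y, hy, d⟩ := c.tor (e.symm t) (by simpa using n)
    refine ⟨y, hy, ?_⟩
    convert d1 d using 1
    · ext; simp
    · simp
    · simp
  · simpa [φ] using c.wa (e.symm a) (e.symm b) (e.symm d)
  · simpa only [Bor, mA, mB] using c.br

end H29.MF
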