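/-
Minimal `2`-fusion systems: automorphisms of `R₀` in the two small cases.
-/
import Cfsg.Agent.H29.MF2

set_option autoImplicit false
set_option linter.unusedSectionVars false
set_option linter.unusedVariables false

namespace H29.MF
open Subgroup H25 H25.FS H4.MF H22.FZ Equiv

universe u
/-- translation -/
def tl {V : Type} [AddGroup V] (b : V) : Perm (Option V) := optionCongr (Equiv.addRight b)
/-- translations and an element moving the point at infinity generate the even permutations -/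
def FL (V : Type) [AddGroup V] [Fintype V] [DecidableEq V] : Prop := ∀ H : Subgroup (Perm (Option V)), (∀ b, tl b ∈ H) →
  ∀ g ∈ H, g none ≠ none → ∀ π, Perm.sign π = 1 → π ∈ H

set_option synthInstance.maxSize 1000 in
theorem fl2 : FL (ZMod 2) := fun H h g hg n π s => by
  have : ∀ g π : Perm (Option (ZMod 2)), g none ≠ none → Perm.sign π = 1 →
      π = 1 ∨ π = tl 1 * (g * tl 1 * g⁻¹) ∨ π = g * tl 1 * g⁻¹ * tl 1 := by decide +kernel
  have k := mul_mem (mul_mem hg (h 1)) (inv_mem hg)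
  rcases this g π n s with rfl | rfl | rfl
  exacts [one_mem _, mul_mem (h 1) k, mul_mem k (h 1)]

theorem fl4 : FL (ZMod 2 × ZMod 2) := fun H h g hg n π s => by
  have a : ∀ g : Perm (Option (ZMod 2 × ZMod 2)), g none ≠ none → ∀ p ∈ [3, 5], ∃ b,
      (tl b * (g * tl 1 * g⁻¹)) ^ p = 1 ∧ tl b * (g * tl 1 * g⁻¹) ≠ 1 := by decide +kernel
  have b : ∀ b : ZMod 2 × ZMod 2, Perm.sign (tl b) = 1 := by decide +kernel
  have c : ∀ a b : ZMod 2 × ZMod 2, tl (a + b) = tl a * tl b ∧ (tl a = tl b → a = b) := by decide +kernel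
  have m : ∀ b, tl b ∈ H ⊓ alternatingGroup _ := fun i => ⟨h i, b i⟩
  have d : ∀ p ∈ [3, 5], p.Prime → p ∣ Nat.card ↥(H ⊓ alternatingGroup _) := fun p hp pp => by
    obtain ⟨i, e1, e2⟩ := a g n p hp
    have := Fact.mk pp
    rw [← orderOf_eq_prime e1 e2]
    exact Subgroup.orderOf_dvd_natCard _ (mul_mem (m i) (mem_inf.2 ⟨mul_mem (mul_mem hg (h 1)) (inv_mem hg),
      (alternatingGroup.normal).conj_mem _ (b 1) g⟩))
  have d4 : 4 ∣ Nat.card ↥(H ⊓ alternatingGroup _) := by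
    simpa using card_dvd_of_injective (MonoidHom.mk' (fun a : Multiplicative (ZMod 2 × ZMod 2) =>
      (⟨tl a.toAdd, m _⟩ : ↥(H ⊓ alternatingGroup _))) fun a b => Subtype.ext (c _ _).1)
      fun a b e => (c _ _).2 (congrArg Subtype.val e)
  have e : H ⊓ alternatingGroup _ = alternatingGroup _ := eq_of_le_of_card_ge inf_le_right (by
    rw [nat_card_alternatingGroup]
    simpa [Nat.factorial] using Nat.le_of_dvd Nat.card_pos (Nat.Coprime.mul_dvd_of_dvd_of_dvd (by norm_num) d4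
      (Nat.Coprime.mul_dvd_of_dvd_of_dvd (by norm_num) (d 3 (by simp) (by norm_num)) (d 5 (by simp) (by norm_num)))))
  exact (e.ge s).1

section
variable {R : Type u} [Group R] {ι : Type} {z δ y : R} {s : ι → R} {α β : MulAut R} {i j : ι}

/-- equality modulo `z` -/
def Ez (z a b : R) : Prop := a = b ∨ a = z * b
/-- an orthogonal frame of involutions -/
structure Fr (z : R) (s : ι → R) : Prop where
  zz : z * z = 1
  z1 : z ≠ 1
  cz : ∀ r, r * z = z * r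
  sq : ∀ i, s i * s i = 1
  anti : ∀ i j, i ≠ j → s i * s j * (s i)⁻¹ = z * s j
  cls : ∀ y, y * y = 1 → y = 1 ∨ y = z ∨ ∃ j, Ez z y (s j)

namespace Fr
variable (f : Fr z s)
include f
theorem tr {a b c : R} (h : Ez z a b) (k : Ez z b c) : Ez z a c := by
  rcases h with rfl | rfl <;> rcases k with rfl | rfl <;> simp [Ez, ← mul_assoc, f.zz]
theorem sy {a b : R} (h : Ez z a b) : Ez z b a := by
  rcases h with rfl | rfl <;> simp [Ez, ← mul_assoc, f.zz]
theorem cj (r a : R) : r * (z * a) * r⁻¹ = z * (r * a * r⁻¹) := by rw [← mul_assoc, f.cz]; group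
theorem nc (h : Ez z y (s j)) (n : i ≠ j) : s i * y * (s i)⁻¹ = z * y := by
  rcases h with rfl | rfl
  · exact f.anti i j n
  · rw [f.cj, f.anti i j n]
theorem inj (h : Ez z (s i) (s j)) : i = j := by_contra fun n => f.z1 (by simpa using (f.nc h n).symm)
variable [Nontrivial ι]
theorem az (α : MulAut R) : α z = z := by
  rcases f.cls (α z) (by rw [← map_mul, f.zz, map_one]) with e | e | ⟨j, e⟩
  · exact (f.z1 (by simpa using e)).elim
  · exact e
  obtain ⟨i, n⟩ := exists_ne j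
  have := f.nc e n
  rw [← α.apply_symm_apply (s i), ← map_inv, ← map_mul, ← map_mul, f.cz, mul_inv_cancel_right] at this
  exact (f.z1 (by simpa using this.symm)).elim
theorem mp (α : MulAut R) {a b : R} (h : Ez z a b) : Ez z (α a) (α b) :=
  h.imp (congrArg α) fun e => by rw [e, map_mul, f.az]
theorem hom : ∃ π : MulAut R →* Perm ι, ∀ α i, Ez z (α (s i)) (s (π α i)) := by
  choose p hp using fun (α : MulAut R) i => show ∃ j, Ez z (α (s i)) (s j) by
    obtain ⟨j, n⟩ := exists_ne i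
    have := f.anti j i n
    refine ((f.cls _ (by rw [← map_mul, f.sq, map_one])).resolve_left fun e => f.z1 ?_).resolve_left fun e => f.z1 ?_
    · simpa [(map_eq_one_iff _ α.injective).1 e] using this.symm
    · rw [α.injective (e.trans (f.az α).symm), f.cz] at this; simpa using this.symm
  exact ⟨MonoidHom.toHomPerm (⟨⟨p, funext fun i => (f.inj (hp 1 i)).symm⟩, fun α β => funext fun i =>
    f.inj (f.tr (f.sy (hp (α * β) i)) (f.tr (f.mp α (hp β i)) (hp α _)))⟩ : MulAut R →* Function.End ι), hp⟩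
theorem ker [Finite ι] (i0 : ι) (h : ∀ i, Ez z (α (s i)) (s i)) : ∃ r, ∀ i ≠ i0, r * α (s i) * r⁻¹ = s i := by
  classical
  have := Fintype.ofFinite ι
  suffices k : ∀ J : Finset ι, ∃ r, (∀ i, Ez z (r * α (s i) * r⁻¹) (s i)) ∧ ∀ i ∈ J, i ≠ i0 → r * α (s i) * r⁻¹ = s i from
    (k Finset.univ).imp fun r k i => k.2 i (Finset.mem_univ i)
  intro J
  induction J using Finset.induction_on with
  | empty => exact ⟨1, by simpa using h, by simp⟩
  | insert j J n ih =>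
    obtain ⟨r, h1, h2⟩ := ih
    by_cases c : j ≠ i0 → r * α (s j) * r⁻¹ = s j
    · exact ⟨r, h1, by simpa using ⟨c, h2⟩⟩
    push Not at c
    have e : ∀ i, s i0 * s j * r * α (s i) * (s i0 * s j * r)⁻¹ = s i0 * (s j * (r * α (s i) * r⁻¹) * (s j)⁻¹) * (s i0)⁻¹ :=
      fun i => by group
    have g : ∀ i k {y}, Ez z y (s i) → Ez z (s k * y * (s k)⁻¹) (s i) := fun i k y e => by
      by_cases c : k = i
      · subst c; rcases e with rfl | rfl
        · exact .inl (by group)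
        · exact .inr (by rw [f.cj]; group)
      · exact f.tr (.inr (f.nc e c)) e
    refine ⟨s i0 * s j * r, fun i => e i ▸ g _ _ (g _ _ (h1 i)), fun i hi n' => ?_⟩
    rw [e]
    rcases Finset.mem_insert.1 hi with rfl | hi
    · rw [(h1 i).resolve_left c.2, f.cj, mul_inv_cancel_right, f.cj, f.anti _ _ n'.symm, ← mul_assoc, f.zz, one_mul]
    · rw [h2 i hi n', f.anti j i fun e => n (e ▸ hi), f.cj, f.anti _ _ n'.symm, ← mul_assoc, f.zz, one_mul]
end Fr

theorem Fr.oa [Finite R] {V : Type} [AddGroup V] [Fintype V] [DecidableEq V] {s : Option V → R} (f : Fr z s) (fl : FL V)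
    (i0 : Option V) (A : Subgroup (MulAut R)) (c : ∀ r, r * δ * r⁻¹ = δ) (d : ∀ α : MulAut R, α (α δ) = δ)
    (gen : ∀ γ : MulAut R, γ δ = δ → (∀ i ≠ i0, γ (s i) = s i) → γ = 1) (inn : ∀ r, MulAut.conj r ∈ A)
    (tr : ∀ b, ∃ β ∈ A, ∀ i, Ez z (β (s i)) (s (tl b i))) (mv : ∃ β ∈ A, ¬ Ez z (β (s none)) (s none))
    (o : Odd (orderOf α)) : α ∈ A := by
  obtain ⟨π, hπ⟩ := f.hom
  obtain ⟨g, hg, n⟩ := mv
  obtain ⟨m, hm⟩ := o
  have e : α = α ^ (m + 1) * α ^ (m + 1) := by rw [← pow_add, show m + 1 + (m + 1) = 2 * m + 1 + 1 by ring, ← hm, pow_succ,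
    pow_orderOf_eq_one, one_mul]
  obtain ⟨β, hβ, k⟩ := fl (A.map π) (fun b => let ⟨β, h, k⟩ := tr b; ⟨β, h, Equiv.ext fun i => f.inj (f.tr (f.sy (hπ β i)) (k i))⟩)
    _ (mem_map_of_mem π hg) (fun e => n (by simpa only [e] using hπ g none)) (π (α ^ (m + 1))) (by
      rw [map_pow, map_pow, e, map_mul, map_mul, Int.units_mul_self, one_pow])
  obtain ⟨r, hr⟩ := f.ker (α := (β * β)⁻¹ * α) i0 fun i => by
    have := hπ ((β * β)⁻¹ * α) i
    rwa [map_mul, map_inv, map_mul, k, ← map_mul, ← e, inv_mul_cancel] at this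
  have k1 : α δ = δ := by rw [e]; exact d (α ^ (m + 1))
  have := gen (MulAut.conj r * ((β * β)⁻¹ * α)) (show r * (β * β).symm (α δ) * r⁻¹ = δ by
    rw [k1, (β * β).symm_apply_eq.2 (d β).symm, c]) hr
  exact (mul_mem_cancel_left (inv_mem (mul_mem hβ hβ))).1 ((mul_mem_cancel_left (inn r)).1 (this ▸ one_mem A))
end

variable {K : Type} [Field K] [CharP K 2] {Γ : Type u} [Group Γ] [Finite Γ] {ε : Bool} {ρ σ : K ≃+* K}
  {ev : Uc K →* Γ} {x z c δ : Γ} {F : FS Γ}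

/-- the standard element of `Δ` -/
def dl (ε : Bool) (ρ : K ≃+* K) (a : K) : Uc K := ⟨a, (sw ε ρ ⟨a, 0, 0, 0⟩).s, 0, 0⟩
theorem dl_mem (a : K) : dl ε ρ a ∈ UE ε ρ := sw_s_eq rfl
theorem dl_zero : dl ε ρ 0 = 1 := by ext <;> simp [dl, sw_s0]

theorem oa_of {V : Type} [AddGroup V] [Fintype V] [DecidableEq V] (fl : FL V) (κ : V ≃+ K) (h : Co ε ρ F.S ev x)
    (M : Mo ε ρ F ev x) (hz : z ∈ (UC K).map ev) (hc : c ∈ (UC K).map ev) (z1 : z ≠ 1) (xz : x * z * x⁻¹ = z)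
    (xc : x * c * x⁻¹ = z * c) (cl : ∀ y ∈ (UC K).map ev, y = 1 ∨ y = z ∨ Ez z y c)
    (sq : ∀ a, ev (dl ε ρ a) * x * (ev (dl ε ρ a) * x) = 1) (hδ : δ ∈ R0 ε ρ ev x ⊓ cz (R0 ε ρ ev x))
    (dδ : δ = 1 ∨ δ * δ ≠ 1 ∧ ∀ y ∈ R0 ε ρ ev x ⊓ cz (R0 ε ρ ev x), y * y ≠ 1 → Ez z y δ)
    (sp : ∀ a, (∃ u ∈ UE ε ρ, u.a = a ∧ ev u = δ) ∨ ∃ a₁ a₂ : K, a₁ ≠ 1 ∧ a₂ ≠ 1 ∧ a = a₁ + a₂) : OA F (R0 ε ρ ev x) := by
  have ER : ∀ {u}, u ∈ UE ε ρ → ev u ∈ R0 ε ρ ev x := h.ev_R0.2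
  have CR : (UC K).map ev ≤ R0 ε ρ ev x := (C_le_E ev).trans h.E_le_R0
  have zT := cen h hz xz
  have fx : ∀ y ∈ (UC K).map ev, x * y * x⁻¹ = y → y = 1 ∨ y = z := fun y hy e => by
    refine (cl y hy).imp_right fun k => k.elim id fun k => (z1 ?_).elim
    rcases k with rfl | rfl
    · simpa using xc.symm.trans e
    · rw [show x * (z * c) * x⁻¹ = x * z * x⁻¹ * (x * c * x⁻¹) by group, xz, xc] at e; simpa using e
  have dC : ∀ {u v}, u ∈ UE ε ρ → v ∈ UE ε ρ → u.a = v.a → ev u * (ev v)⁻¹ ∈ (UC K).map ev := fun {u v} a b e => by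
    rw [← map_inv, ← map_mul, h.memC, Uc.mul_s, Uc.inv_s, mem_UE.1 a, mem_UE.1 b, sw_s_eq e]; simp [e, aa]
  have c1 : ∀ u ∈ UE ε ρ, ev u * x * (ev u * x) = 1 → Ez z (ev u * x) (ev (dl ε ρ u.a) * x) := fun u k e => by
    have m := dC k (dl_mem u.a) rfl
    have e' : ev u * x = ev u * (ev (dl ε ρ u.a))⁻¹ * (ev (dl ε ρ u.a) * x) := by group
    have := sq u.a
    have o : Ou ev x _ := ⟨dl ε ρ u.a, rfl⟩
    generalize ev u * (ev (dl ε ρ u.a))⁻¹ = y at m e'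
    generalize ev (dl ε ρ u.a) * x = t at e' this o
    rw [e', show y * t * (y * t) = y * (t * y * t⁻¹) * (t * t) by group, this, mul_one, o.act h.toCb m,
      mul_eq_one_iff_inv_eq, invC m] at e
    rcases fx y m e.symm with rfl | rfl
    exacts [.inl (e'.trans (one_mul _)), .inr e']
  let s : Option V → R0 ε ρ ev x := fun i => i.elim ⟨c, CR hc⟩ fun a => ⟨ev (dl ε ρ (κ a)) * x, mul_mem (ER (dl_mem _)) h.x_R0⟩
  have ez : ∀ {a b : R0 ε ρ ev x}, Ez z (a : Γ) b → Ez ⟨z, CR hz⟩ a b := fun k => k.imp Subtype.ext Subtype.ext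
  have f : Fr ⟨z, CR hz⟩ s := by
    refine ⟨Subtype.ext (sqC hz), fun e => z1 (congrArg Subtype.val e), fun r => Subtype.ext (mem_cz'.1 zT _ (h.R0_le r.2)),
      fun i => Subtype.ext ?_, fun i j n => Subtype.ext ?_, fun ⟨y, hy⟩ e => ?_⟩
    · cases i
      exacts [sqC hc, sq _]
    · rcases i with _ | a <;> rcases j with _ | b
      · exact (n rfl).elim
      · exact mul_inv_eq_iff_eq_mul.1 ((Ou.fix h.toCb ⟨_, rfl⟩ hc).1.trans (by rw [xc, mul_inv_cancel_right]))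
      · exact (Ou.act h.toCb ⟨_, rfl⟩ hc).trans xc
      · have m := mem_map_of_mem ev (mul_mem (dl_mem (ε := ε) (ρ := ρ) (κ a)) (h.sw_memE (dl_mem (κ b))))
        have := (fx _ (sqB (mA_le _ _ m)) (sqE h.toCb m)).resolve_left fun e => n (by
          have := (h.memC.1 (Ein h.toCb m e)).2
          rw [Uc.mul_a, sw_a, ← h.E_a (dl_mem _), CharTwo.add_eq_zero] at this
          rw [κ.injective this])
        rw [← h.out_mul] at this
        show ev (dl ε ρ (κ a)) * x * (ev (dl ε ρ (κ b)) * x) * (ev (dl ε ρ (κ a)) * x)⁻¹ = z * (ev (dl ε ρ (κ b)) * x)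
        have a1 := sq (κ a)
        have a2 := sq (κ b)
        generalize ev (dl ε ρ (κ a)) * x = p at this a1
        generalize ev (dl ε ρ (κ b)) * x = q at this a2
        rw [← this, inv_eq_of_mul_eq_one_right a1, mul_assoc _ _ q, mul_assoc p q q, a2, mul_one]
    · have e := congrArg Subtype.val e
      obtain ⟨u, k, rfl | rfl⟩ := h.mem_R0.1 hy
      · exact (cl _ (Ein h.toCb (mem_map_of_mem _ k) e)).imp Subtype.ext (Or.imp Subtype.ext fun k => ⟨none, ez k⟩)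
      · exact .inr (.inr ⟨some (κ.symm u.a), ez (by simpa [s] using c1 u k e)⟩)
  let A : Subgroup (MulAut (R0 ε ρ ev x)) := ⟨⟨⟨{α | ∃ a ∈ F.A (R0 ε ρ ev x), ∀ r : R0 ε ρ ev x, a * r * a⁻¹ = α r},
    fun {α β} ⟨a, ha, e⟩ ⟨b, hb, e'⟩ => ⟨a * b, mul_mem ha hb, fun r => by rw [MulAut.mul_apply, ← e, ← e']; group⟩⟩,
    1, one_mem _, by simp⟩, fun {α} ⟨a, ha, e⟩ => ⟨a⁻¹, inv_mem ha, fun r => by
      conv_lhs => rw [← α.apply_symm_apply r, ← e]
      simp [mul_assoc]⟩⟩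
  have nA : ∀ a (ha : a ∈ F.A (R0 ε ρ ev x)), normalizerMonoidHom _ ⟨a, ha.1⟩ ∈ A := fun a ha => ⟨a, ha, fun r => rfl⟩
  refine fun α o => f.oa (δ := ⟨δ, hδ.1⟩) fl (some (κ.symm 1)) A (fun r => Subtype.ext (mem_cz.1 (le_cz_comm.1
    (zpowers_le.2 hδ.2) r.2) _ (mem_zpowers δ))) (fun α => ?_) (fun γ g1 g2 => ?_)
    (fun r => ⟨r, F.N_le_A _ ⟨h.R0_le r.2, le_nz_self _ r.2⟩, fun _ => rfl⟩) (fun b => ?_) ?_ o
  · rcases dδ with rfl | ⟨d1, d2⟩
    · exact (congrArg α (map_one α)).trans (map_one α)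
    rcases ez (d2 (α ⟨δ, hδ.1⟩) ⟨Subtype.prop _, mem_cz'.2 fun r hr => by
      have := congrArg (fun t => ((α t : R0 ε ρ ev x) : Γ)) (show α.symm ⟨r, hr⟩ * ⟨δ, hδ.1⟩ = ⟨δ, hδ.1⟩ * α.symm ⟨r, hr⟩ from
        Subtype.ext (mem_cz'.1 hδ.2 _ (Subtype.prop _)))
      simpa using this⟩ fun e => d1 (congrArg Subtype.val ((map_eq_one_iff _ α.injective).1
        ((map_mul α ⟨δ, hδ.1⟩ ⟨δ, hδ.1⟩).trans (Subtype.ext e))))) (b := ⟨δ, hδ.1⟩) with e | e
    · rw [e, e]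
    · rw [e, map_mul, f.az, e, ← mul_assoc, f.zz, one_mul]
  · let N := (γ.toMonoidHom.eqLocus (MonoidHom.id _)).map (R0 ε ρ ev x).subtype
    have m : ∀ r : R0 ε ρ ev x, γ r = r → (r : Γ) ∈ N := fun r e => ⟨r, e, rfl⟩
    have m1 : ∀ a, a ≠ 1 → ev (dl ε ρ a) * x ∈ N := fun a n => by
      simpa [s] using m _ (g2 (some (κ.symm a)) (by simpa using n))
    have mx : x ∈ N := by simpa [dl_zero] using m1 0 zero_ne_one
    have mz : z ∈ N := m _ (f.az γ)
    have mc : c ∈ N := m _ (g2 none (by simp))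
    have mC : (UC K).map ev ≤ N := fun y hy => by
      rcases cl y hy with rfl | rfl | rfl | rfl
      exacts [one_mem _, mz, mc, mul_mem mz mc]
    have : R0 ε ρ ev x ≤ N := sup_le (by
      rintro _ ⟨u, k, rfl⟩
      rcases sp u.a with ⟨v, k', e, e'⟩ | ⟨a, b, n, n', e⟩
      · exact (mul_mem_cancel_right (inv_mem (e' ▸ m _ g1))).1 (mC (dC k k' e.symm))
      · exact (mul_mem_cancel_right (inv_mem (ev.map_mul _ _ ▸ mul_mem ((mul_mem_cancel_right mx).1 (m1 a n))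
          ((mul_mem_cancel_right mx).1 (m1 b n'))))).1 (mC (dC k (mul_mem (dl_mem a) (dl_mem b)) e))) (zpowers_le.2 mx)
    refine MulEquiv.ext fun r => ?_
    obtain ⟨r', e, e'⟩ := this r.2
    exact (Subtype.ext e' : r' = r) ▸ e
  · have hb : ev ⟨κ b, 0, 0, 0⟩ ∈ ev.range := ⟨_, rfl⟩
    refine ⟨_, nA _ (F.N_le_A _ ⟨h.BT hb, h.B_nzR0 hb⟩), fun i => ez ?_⟩
    rcases i with _ | a
    · exact .inl (bc hb hc)
    · have e : ev ⟨κ b, 0, 0, 0⟩ * (ev (dl ε ρ (κ a)) * x) * (ev ⟨κ b, 0, 0, 0⟩)⁻¹ =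
          ev (⟨κ b, 0, 0, 0⟩ * dl ε ρ (κ a) * sw ε ρ (⟨κ b, 0, 0, 0⟩ : Uc K)⁻¹) * x := by
        rw [map_mul, map_mul, ← h.sw, map_inv]; group
      have m := conj_mem_of_mem_nz (h.B_nzR0 hb) (s (some a)).2
      have := c1 _ (h.ev_R0.1 ((mul_mem_cancel_right h.x_R0).1 (e ▸ m))) (e ▸ sq_cj (sq _) _)
      rw [← e] at this
      simpa [s, tl, dl, add_comm] using this
  · obtain ⟨a, ha, n⟩ := M
    refine ⟨_, nA a ha, fun e => n (mem_nz_of_conj_mem fun y hy => ?_)⟩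
    have e1 : a * z * a⁻¹ = z := congrArg Subtype.val (f.az (normalizerMonoidHom _ ⟨a, ha.1⟩))
    have e2 : a * c * a⁻¹ ∈ (UC K).map ev := by
      rcases e with e | e
      exacts [(show c = a * c * a⁻¹ from (congrArg Subtype.val e).symm) ▸ hc,
        (show z * c = a * c * a⁻¹ from (congrArg Subtype.val e).symm) ▸ mul_mem hz hc]
    rcases cl y hy with rfl | rfl | rfl | rfl
    · simp
    · rwa [e1]
    · exact e2
    · rw [show a * (z * c) * a⁻¹ = a * z * a⁻¹ * (a * c * a⁻¹) by group, e1]; exact mul_mem hz e2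

theorem kap {V : Type} [AddCommGroup V] [Module (ZMod 2) V] [Finite V] [Finite K] (h : Nat.card V = Nat.card K) :
    Nonempty (V ≃+ K) := by
  let _ := ZMod.algebra K 2
  refine ⟨(LinearEquiv.ofFinrankEq (R := ZMod 2) V K ?_).toAddEquiv⟩
  rw [Module.natCard_eq_pow_finrank (K := ZMod 2), Module.natCard_eq_pow_finrank (K := ZMod 2) (V := K)] at h
  exact Nat.pow_right_injective (by simp) h
theorem p4 [Finite K] (q : Nat.card K = 4) (a : K) : a = 0 ∨ a = 1 ∨ a ^ 2 = a + 1 := by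
  have := Fintype.ofFinite K
  have := FiniteField.pow_card a
  rw [← Nat.card_eq_fintype_card, q] at this
  have : a * ((a - 1) * (a ^ 2 - (a + 1))) = 0 := by linear_combination this - (a ^ 3 - a) * Uc.two K
  simpa only [mul_eq_zero, sub_eq_zero] using this
theorem rt4 {a w : K} (h : a ^ 2 = a + 1) (k : w ^ 2 = w + 1) : a = w ∨ a = w + 1 := by
  have : (a - w) * (a - (w + 1)) = 0 := by linear_combination h + k + (w + 1 - a * w) * Uc.two K
  simpa only [mul_eq_zero, sub_eq_zero] using this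
theorem s4 [Finite K] (q : Nat.card K = 4) (σ : K ≃+* K) : σ = .refl K ∨ ∀ a, σ a = a ^ 2 := by
  refine or_iff_not_imp_left.2 fun n a => ?_
  obtain ⟨w, hw⟩ : ∃ w, σ w ≠ w := by
    by_contra! e; exact n (RingEquiv.ext e)
  have k : w ^ 2 = w + 1 := ((p4 q w).resolve_left fun e => hw (by simp [e])).resolve_left fun e => hw (by simp [e])
  have k' := (rt4 (a := σ w) (by simpa using congrArg σ k) k).resolve_left hw
  rcases p4 q a with rfl | rfl | e
  · simp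
  · simp
  rcases rt4 e k with rfl | rfl
  · rw [k', k]
  · rw [map_add, k', map_one, e]
theorem ex4 [Finite K] (q : Nat.card K = 4) : ∃ w : K, w ^ 2 = w + 1 := by
  by_contra! e
  have := Nat.card_le_card_of_surjective (fun b : Bool => if b then (1 : K) else 0) fun a => by
    rcases p4 q a with rfl | rfl | k
    exacts [⟨false, rfl⟩, ⟨true, rfl⟩, (e a k).elim]
  simp [q] at this

variable (K Γ)
theorem j4 : J4 K Γ := fun ρ F ev x h _ q n M => by
  have := h.finK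
  obtain ⟨κ⟩ := kap (V := ZMod 2 × ZMod 2) (K := K) (by simp [q])
  have r := (s4 q ρ).resolve_left n
  obtain ⟨w, hw⟩ := ex4 q
  have w1 : w ≠ 1 := fun e => by simp [e, aa] at hw
  have w0 : w + 1 ≠ 1 := fun e => by simp [add_eq_right.1 e] at hw
  refine oa_of (z := ev ⟨0, 0, 1, 0⟩) (c := ev ⟨0, 0, w, 0⟩) (δ := 1) fl4 κ h M (mem_map_of_mem _ ⟨rfl, rfl⟩)
    (mem_map_of_mem _ ⟨rfl, rfl⟩) (fun e => one_ne_zero ((h.ker _).1 e).2.2.1) ?_ ?_ ?_ (fun a => ?_) (one_mem _) (.inl rfl)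
    fun a => .inr ?_
  · rw [h.sw, h.eq_iff]; simp [sw]
  · rw [h.sw, ← map_mul, h.eq_iff]; simp [sw, r, hw, add_comm]
  · rintro _ ⟨u, ⟨k1, k2⟩, rfl⟩
    simp only [Ez, ← map_mul, h.eq_iff, h.ker, mem_UA.1 k1, mem_UB.1 k2]
    rcases p4 q u.c with e | e | e
    · simp [e]
    · simp [e]
    · rcases rt4 e hw with e | e <;> simp [e, add_comm]
  · rw [h.out_sq, h.ker]; simp [sw, dl, h.rL, aa, mul_comm]
  · by_cases e : a = 1
    · exact ⟨w, w + 1, w1, w0, by rw [e, ← add_assoc, aa, zero_add]⟩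
    · exact ⟨a, 0, e, zero_ne_one, (add_zero a).symm⟩

theorem j2 : J2 K Γ := fun ρ F ev x h _ q M => by
  have := h.finK
  obtain ⟨κ⟩ := kap (V := ZMod 2) (K := K) (by simp [q])
  have p : ∀ a : K, a = 0 ∨ a = 1 := fun a => by
    have := Fintype.ofFinite K
    have := FiniteField.pow_card a
    rw [← Nat.card_eq_fintype_card, q] at this
    have : a * (a - 1) = 0 := by linear_combination this
    simpa only [mul_eq_zero, sub_eq_zero] using this
  have m : (⟨1, 1, 0, 1⟩ : Uc K) ∈ UE true ρ := by simp [mem_UE, sw]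
  have o : (1 : K) + 1 = 0 := aa 1
  refine oa_of (z := ev ⟨0, 0, 1, 1⟩) (c := ev ⟨0, 0, 1, 0⟩) (δ := ev ⟨1, 1, 0, 1⟩) fl2 κ h M (mem_map_of_mem _ ⟨rfl, rfl⟩)
    (mem_map_of_mem _ ⟨rfl, rfl⟩) (fun e => one_ne_zero ((h.ker _).1 e).2.2.1) ?_ ?_ ?_ (fun a => ?_) ⟨h.ev_R0.2 m, ?_⟩
    (.inr ⟨?_, fun y hy n => ?_⟩) fun a => ?_
  · rw [h.sw, h.eq_iff]; simp [sw]
  · rw [h.sw, ← map_mul, h.eq_iff]; simp [sw, o]
  · rintro _ ⟨u, ⟨k1, k2⟩, rfl⟩
    simp only [Ez, ← map_mul, h.eq_iff, h.ker, mem_UA.1 k1, mem_UB.1 k2]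
    rcases p u.c with e | e <;> rcases p u.d with e' | e' <;> simp [e, e', o]
  · rw [h.out_sq, h.ker]; rcases p a with rfl | rfl <;> simp [sw, dl, o]
  · rw [R0, cz_sup]
    refine ⟨mem_cz.2 ?_, le_cz_comm.1 (zpowers_le.2 (mem_cz_zpowers.2 ?_)) (mem_zpowers _)⟩
    · rintro _ ⟨u, k, rfl⟩
      rw [h.comm_iff, mem_UE.1 k]; rcases p u.a with e | e <;> simp [sw, e]
    · rw [h.sw, h.eq_iff]; simp [sw, o]
  · rw [ne_eq, h.sq_iff]; simp
  · obtain ⟨u, k, rfl | rfl⟩ := h.mem_R0.1 hy.1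
    · have := mem_cz'.1 hy.2 x h.x_R0
      rw [← mul_inv_eq_iff_eq_mul, h.sw, h.eq_iff] at this
      rw [ne_eq, h.sq_iff, not_or] at n
      have a1 := (p _).resolve_left n.1
      have a2 := (p _).resolve_left n.2
      simp only [Ez, ← map_mul, h.eq_iff]
      rcases p u.c with e | e <;> rcases p u.d with e' | e' <;> simp [sw, e, e', o, a1, a2] at this ⊢
    · have c : ev ⟨0, 0, 1, 0⟩ ∈ (UC K).map ev := mem_map_of_mem _ ⟨rfl, rfl⟩
      have := (Ou.act h.toCb ⟨u, rfl⟩ c).symm.trans (mem_cz.1 hy.2 _ (h.E_le_R0 (C_le_E ev c)))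
      rw [h.sw, h.eq_iff] at this
      simp [sw] at this
  · rcases p a with rfl | rfl
    exacts [.inr ⟨0, 0, zero_ne_one, zero_ne_one, (add_zero 0).symm⟩, .inl ⟨_, m, rfl, rfl⟩]

variable {K Γ} in
/-- the elements of `Y` normalizing `A₁` form a subgroup of odd order -/
theorem odd_Y {Y : Subgroup Γ} (k : Cy ev x Y) (h : Cb ε ρ ev x) : Odd (Nat.card ↥(nz ((UA K).map ev) ⊓ Y)) := by
  have a := H28.GC.card_idx (nz ((UA K).map ev)) Y
  rw [le_antisymm (H28.GC.two_idx (H := Y) fun a ha b hb a' b' => mem_nz.2 (by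
    rw [← cj_cj, ((h.swap (k.nzR h hb)).resolve_left fun e => b' e.1).1, ((h.swap (k.nzR h ha)).resolve_left fun e => a' e.1).2]))
    (H28.GC.two_le fun e => h.x_nA (e k.xY))] at a
  refine Nat.not_even_iff_odd.1 fun ⟨n, e⟩ => k.y4 ⟨n, by omega⟩

theorem j1 : J1 K Γ := fun ρ F ev x w Y c q n O => by
  have := c.finK
  have r := (s4 q ρ).resolve_left n
  have t4 : ∀ t : K, (t ^ 2) ^ 2 = t := fun t => by rw [← r, ← r, c.rL rfl]
  have t3 : ∀ t : K, t ≠ 0 → t * t ^ 2 = 1 := fun t n => mul_left_cancel₀ n (by linear_combination t4 t)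
  have sg : ∀ y ∈ Y, ∀ σ l m, Dg ev y σ l m → σ = .refl K := fun y hy σ l m d => by
    obtain ⟨k, e⟩ := odd_Y c.toCy c.toCb
    have ss : σ.trans σ = .refl K := by
      rcases s4 q σ with rfl | e
      exacts [rfl, RingEquiv.ext fun a => by simp [e, t4]]
    have : ∀ k, ∃ l m, Dg ev (y ^ (2 * k + 1)) σ l m := fun k => by
      induction k with
      | zero => exact ⟨l, m, by simpa using d⟩
      | succ k ih =>
        obtain ⟨l', m', d'⟩ := ih
        have := d'.mul (d.mul d)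
        rw [ss] at this
        exact ⟨_, _, by rw [show 2 * (k + 1) + 1 = 2 * k + 1 + 2 by ring, pow_add, pow_two]; exact this⟩
    obtain ⟨l', m', d'⟩ := this k
    rw [← e, show y ^ Nat.card ↥(nz ((UA K).map ev) ⊓ Y) = 1 from
      congrArg Subtype.val (pow_card_eq_one' (x := (⟨y, d.nzA, hy⟩ : ↥(nz ((UA K).map ev) ⊓ Y))))] at d'
    exact (c.dg_uniq d' (.one ev) (one_mem _) (by simpa using Agree.refl _ _)).1
  have ky : ∀ t : K, t ≠ 0 → ∃ y ∈ Y, Dg ev y (.refl K) t (t ^ 2) := fun t t0 => by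
    let φ : Uc K →* Uc K := MonoidHom.mk' (dg (.refl K) t (t ^ 2)) dg_mul
    have p3 : ∀ u, φ (φ (φ u)) = u := fun u => by
      show dg _ _ _ (dg _ _ _ (dg _ _ _ u)) = u
      rw [dg_dg, dg_dg]
      convert dg_one u using 2
      · rfl
      · simp only [RingEquiv.refl_apply, RingEquiv.trans_apply]; linear_combination t3 t t0
      · simp only [RingEquiv.refl_apply, RingEquiv.trans_apply]; linear_combination (t * t ^ 2 + 1) * t3 t t0
    have sj : Function.Surjective φ := fun u => ⟨_, p3 u⟩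
    have h' : Co false ρ F.S (ev.comp φ) x := ⟨⟨c.q, fun u => by simp [φ, c.ker, t0], c.rL, c.rS, c.xx, fun u => by
      rw [MonoidHom.comp_apply, c.sw, MonoidHom.comp_apply, c.eq_iff]
      simp [φ, sw, r t, t4]; ring⟩, fun s => by rw [c.mem]; exact sj.exists⟩
    obtain ⟨j, J⟩ := iso K Γ Γ false ρ _ ev x _ _ x c.toCo h'
    replace J : Jm F.S ev x F.S (ev.comp φ) x j := ⟨J.1, J.2.1, J.2.2.1, J.2.2.2⟩
    have jS : ∀ {s}, s ∈ F.S → H25.ex j s ∈ F.S := fun k => J.rg.le (im_le_range j _ (ex_mem_im j le_rfl k))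
    have iR : im j (R0 false ρ ev x) = R0 false ρ ev x := by
      rw [J.imR c.toCo, R0, R0, ← map_map, show (UE false ρ).map φ = UE false ρ from eq_of_le_of_card_ge (by
        rintro _ ⟨u, k, rfl⟩
        simp [φ, mem_UE, sw, r t, show u.s = ρ u.a from k]) (card_map_of_injective (Finite.injective_iff_surjective.2 sj)).ge]
    let α : MulAut (R0 false ρ ev x) := (imEquiv J.inj c.R0_le).trans (MulEquiv.subgroupCongr iR)
    have hα : ∀ r, (α r : Γ) = H25.ex j r := fun r => imEquiv_apply J.inj c.R0_le r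
    obtain ⟨a, ha, e⟩ := O α ((show Odd 3 by decide).of_dvd_nat (orderOf_dvd_of_pow_eq_one (MulEquiv.ext fun s => Subtype.ext (by
      rw [pow_three, MulAut.mul_apply, MulAut.mul_apply, hα, hα, hα, MulAut.one_apply]
      obtain ⟨u, e | e⟩ := (c.mem _).1 (c.R0_le s.2) <;> rw [e]
      · simp only [J.ev, MonoidHom.comp_apply, p3]
      · simp only [ex_mul j (c.ev_mem _) c.xT, J.ev, J.x, MonoidHom.comp_apply, p3]))))
    have e' : ∀ s ∈ R0 false ρ ev x, a * s * a⁻¹ = H25.ex j s := fun s hs => (e ⟨s, hs⟩).trans (hα _)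
    obtain ⟨g, H, ag⟩ := (c.sat.rec_fn (FN_of_le_nz c.R0_le c.nzR0)).ext (T_of_mem_A c.R0_le ha) (mem_nz.1 ha.1)
      (le_inf le_rfl c.nzR0) (cj_le.2 fun s hs => ⟨mul_mem (mul_mem ha.1 (c.nzR0 hs)) (inv_mem ha.1), _, jS hs, fun p hp => by
        have m := conj_mem_of_mem_nz' ha.1 hp
        rw [show a * s * a⁻¹ * p * (a * s * a⁻¹)⁻¹ = a * (s * (a⁻¹ * p * a) * s⁻¹) * a⁻¹ by group,
          e' _ (conj_mem_of_mem_nz (c.nzR0 hs) m), ex_conj j hs (c.R0_le m), ← e' _ m]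
        group⟩)
    obtain ⟨_, ⟨v, rfl⟩, y, hy, e⟩ := c.nb _ g (c.BT.trans le_sup_right) H
    have m : ev (dl false ρ 1) ∈ R0 false ρ ev x := c.ev_R0.2 (dl_mem 1)
    have k := (e _ (mem_sup_left m)).symm.trans ((ag _ m).trans ((e' _ m).trans (J.ev _)))
    rw [show ev v * y * ev (dl false ρ 1) * (ev v * y)⁻¹ = ev v * (y * ev (dl false ρ 1) * y⁻¹) * (ev v)⁻¹ by group] at k
    rcases c.dg y hy with ⟨σ, l, m, d⟩ | ⟨σ, l, m, d⟩
    · obtain rfl := sg y hy σ l m d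
      rw [d.act, ev_conj, MonoidHom.comp_apply, c.eq_iff] at k
      obtain ⟨rfl, rfl⟩ : l = t ∧ m = t ^ 2 := ⟨by simpa [φ, dl] using k.1, by simpa [φ, dl, sw] using k.2.1⟩
      exact ⟨y, hy, d⟩
    · obtain rfl := sg _ (mul_mem c.xY hy) σ l m d
      rw [show y * ev (dl false ρ 1) * y⁻¹ = x⁻¹ * (x * y * ev (dl false ρ 1) * (x * y)⁻¹) * x by group, d.act, c.xinv, c.sw',
        ev_conj, MonoidHom.comp_apply, c.eq_iff] at k
      have k1 : m ^ 2 = t := by simpa [φ, dl, sw, r] using k.1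
      have k2 : l ^ 2 = t ^ 2 := by simpa [φ, dl, sw, r] using k.2.1
      obtain ⟨rfl, rfl⟩ : l = t ∧ m = t ^ 2 := ⟨by rw [← t4 l, k2, t4], by rw [← k1, t4]⟩
      exact ⟨_, mul_mem c.xY hy, d⟩
  refine fun σ l m => ⟨fun ⟨y, hy, d⟩ => ⟨sg y hy σ l m d, d.l0, d.m0⟩, ?_⟩
  rintro ⟨rfl, l0, m0⟩
  obtain ⟨y, hy, d⟩ := ky (m / l) (div_ne_zero m0 l0)
  obtain ⟨y', hy', d'⟩ := c.tor (m / l ^ 2) (div_ne_zero m0 (pow_ne_zero _ l0))
  refine ⟨_, mul_mem hy hy', ?_⟩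
  convert d.mul d' using 1
  · rfl
  · simp only [RingEquiv.refl_apply]; field_simp
  · simp only [RingEquiv.refl_apply]; field_simp
    linear_combination (l * l ^ 2 + 1) * t3 l l0 - t3 m m0

end H29.MF
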