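/-
Minimal `2`-fusion systems: realization inside the automorphism group of a simple group.
-/
import Cfsg.Agent.H29.MF3
import Cfsg.Agent.H25.Pull
import Cfsg.Agent.H1.GFitting

set_option autoImplicit false
set_option linter.unusedSectionVars false
set_option linter.unusedVariables false

namespace H29.MF
open Subgroup H25 H25.FS H4.MF H22.FZ

universe u v
variable {K : Type} [Field K] [CharP K 2] {Γ : Type u} [Group Γ] {Γ' : Type v} [Group Γ'] {ε : Bool} {ρ σ : K ≃+* K}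
  {ev : Uc K →* Γ} {ev' : Uc K →* Γ'} {x y : Γ} {x' w' : Γ'} {Y : Subgroup Γ} {l m : K}

theorem ul : UL.{u, v} := fun S _ G _ _ G' _ ⟨e⟩ h => by
  have i : ∀ {X : Type} [Group X], Nonempty (G ≃* X) → Nonempty (G' ≃* X) := fun ⟨f⟩ => ⟨e.symm.trans f⟩
  rcases h with ⟨a, K, _, _, b, c⟩ | ⟨a, K, _, _, r, b, c, L, n, d, f, ⟨g⟩⟩ | ⟨a, b, c⟩ | ⟨a, b⟩ | ⟨a, F, _, _, w, b, c, d⟩ |
    ⟨K, _, _, a, b, c, d⟩
  · exact .inl ⟨a, K, _, _, b, c.imp i i⟩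
  · refine .inr (.inl ⟨a, K, _, _, r, b, c, L.map (e : G →* G'), n.map _ e.surjective, by rw [index_map_equiv, d], ?_,
      ⟨(e.subgroupMap L).symm.trans g⟩⟩)
    refine eq_bot_iff.2 fun z hz => ?_
    obtain ⟨z, rfl⟩ := e.surjective z
    rw [mem_bot.1 (f.le ((mem_centralizer_iff (g := z)).2 fun l hl => e.injective (by
      simpa using mem_centralizer_iff.1 hz _ (mem_map_of_mem _ hl)))), map_one]
    exact one_mem _
  · exact .inr (.inr (.inl ⟨a, b, i c⟩))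
  · exact .inr (.inr (.inr (.inl ⟨a, b.imp i i⟩)))
  · exact .inr (.inr (.inr (.inr (.inl ⟨a, F, _, _, w, b, c, i d⟩))))
  have e1 := H1.map_gf_equiv e
  have e2 : (Cfsg.pResidual 2 G).map (e : G →* G') = Cfsg.pResidual 2 G' := by
    rw [Cfsg.pResidual, MonoidHom.map_closure, Cfsg.pResidual]
    congr 1
    ext z
    exact ⟨by rintro ⟨y, hy, rfl⟩; simpa using hy, fun k => ⟨e.symm z, by simpa using k, by simp⟩⟩
  have i' : ∀ {X : Type} [Group X], Nonempty (Cfsg.generalizedFittingSubgroup G ≃* X) →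
      Nonempty (Cfsg.generalizedFittingSubgroup G' ≃* X) := fun ⟨f⟩ => e1 ▸ ⟨(e.subgroupMap _).symm.trans f⟩
  refine .inr (.inr (.inr (.inr (.inr ⟨K, _, _, a.imp i' (And.imp_left i'), ?_⟩))))
  rw [← e1, ← e2]
  exact ⟨map_mono b, by
    rw [← relIndex, relIndex_map_map_of_injective _ _ (f := (e : G →* G')) e.injective]; exact c, by rw [index_map_equiv, d]⟩

variable (Γ) in
theorem c6 [Finite Γ] : C6 Γ := fun L G ⟨s, c, n, G₀, a1, a2, a3, a4⟩ => by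
  have LG := a1.trans a2
  have L1 : L ≠ ⊥ := (nontrivial_iff_ne_bot L).1 s.toNontrivial
  have f : ∀ N, N ≤ L → L ≤ nz N → N = ⊥ ∨ N = L := fun N a b =>
    (s.eq_bot_or_eq_top_of_normal (N.subgroupOf L) ((normal_subgroupOf_iff_le_normalizer a).2 b)).imp
      (fun e => by rwa [subgroupOf_eq_bot, disjoint_iff, inf_eq_left.2 a] at e) fun e => le_antisymm a (subgroupOf_eq_top.1 e)
  have g : ∀ N, L ≤ nz N → N ≤ nz L → N = ⊥ ∨ L ≤ N := fun N a b =>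
    (f (L ⊓ N) inf_le_left fun g k => mem_nz_inf (le_nz_self L k) (a k)).imp (fun e => eq_bot_iff.2 (c ▸ fun z hz => mem_cz.2 fun l hl =>
      mul_inv_eq_one.1 (mem_bot.1 (e ▸ mem_inf.2 ⟨mul_mem (conj_mem_of_mem_nz (b hz) hl) (inv_mem hl), by
        simpa [mul_assoc] using mul_mem hz (conj_mem_of_mem_nz (a hl) (inv_mem hz))⟩)))) fun e => e.ge.trans inf_le_right
  have N : (L.subgroupOf G).Normal := (normal_subgroupOf_iff_le_normalizer LG).2 n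
  have q : Cfsg.IsQuasisimple (L.subgroupOf G) := (H1.isQuasisimple_subgroupOf_iff LG).2 (H1.isQuasisimple_subgroup_iff.2
    ⟨(f _ (commutator_le_self' L) fun g k => by rw [mem_nz, cj_commutator, cj_eq_of_mem k]).resolve_left fun e =>
      L1 (eq_bot_iff.2 (c ▸ commutator_eq_bot_iff_le_centralizer.1 e)), L1, fun N a b => (f N a b).symm.imp_right fun e => e.le.trans bot_le⟩)
  have hC : centralizer (L.subgroupOf G : Set G) ≤ L.subgroupOf G := fun z hz => by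
    rw [mem_subgroupOf, mem_bot.1 (c.le (mem_cz'.2 fun l hl => congrArg Subtype.val
      (mem_centralizer_iff.1 hz ⟨l, LG hl⟩ hl)))]
    exact one_mem _
  have e1 : Cfsg.generalizedFittingSubgroup G = L.subgroupOf G := by
    have le : L.subgroupOf G ≤ Cfsg.layer G := le_sSup ⟨N.isSubnormal, q⟩
    have := H1.fitting_isNilpotent (G := G)
    exact le_antisymm (H1.gf_le_of_centralizer_le N.isSubnormal (le_trans (le_centralizer_iff.1
      (le.trans (H1.layer_le_centralizer_of_isSolvable (Normal.isSubnormal inferInstance)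
        inferInstance))) hC) hC) (le.trans H1.layer_le_gf)
  have LR : L ≤ resid 2 G := (g _ (LG.trans ((le_nz_self G).trans (nz_le_nz_resid G))) ((resid_le _ _).trans n)).resolve_left fun e => by
    have p : IsPGroup 2 L := isPGroup_iff_pel.2 fun a ha => e ▸ pel_resid (LG ha)
    obtain ⟨⟨z, hz⟩, n⟩ := (nontrivial_iff_exists_ne 1).1 p.center_nontrivial
    exact n (Subtype.ext (Subtype.ext (mem_bot.1 (c.le (mem_cz'.2 fun l hl =>
      congrArg Subtype.val (mem_center_iff.1 hz ⟨l, hl⟩))))))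
  have e2 : Cfsg.pResidual 2 G = G₀.subgroupOf G := map_injective G.subtype_injective (by
    rw [map_pResidual, map_subgroupOf_eq_of_le a2]
    refine le_antisymm (resid_le_of_pel fun a ha => ⟨1, by rw [pow_one, pow_two]; exact mul_self_mem_of_index_two a3 ⟨a, ha⟩⟩) fun a ha => ?_
    have : (L.subgroupOf G₀).Normal := (normal_subgroupOf_iff_le_normalizer a1).2 (a2.trans n)
    exact PEl.odd a4 (LR ((L.subgroupOf G₀).pow_index_mem ⟨a, ha⟩)) (pel_resid (a2 ha)))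
  rw [e1, e2]
  exact ⟨rfl, LG, comap_mono a1, by rw [← relIndex, relIndex_subgroupOf a2]; exact a4, a3⟩

theorem co_of (h : Cb ε ρ ev x) : Co ε ρ (ev.range ⊔ zpowers x) ev x := ⟨h, fun t => by
  rw [mem_sup_of_le_nz_left (zpowers_le.2 h.xR)]
  constructor
  · rintro ⟨_, ⟨u, rfl⟩, _, ⟨n, rfl⟩, rfl⟩
    have e : x ^ (2 : ℤ) = 1 := by rw [zpow_two, h.xx]
    rcases Int.even_or_odd' n with ⟨k, rfl | rfl⟩
    · exact ⟨u, .inl (by simp [zpow_mul, e])⟩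
    · exact ⟨u, .inr (by simp [zpow_add, zpow_mul, e])⟩
  · rintro ⟨u, rfl | rfl⟩
    exacts [⟨_, ⟨u, rfl⟩, 1, one_mem _, mul_one _⟩, ⟨_, ⟨u, rfl⟩, x, mem_zpowers x, rfl⟩]⟩
theorem dg_x (h : Cb ε ρ ev x) (d : Dg ev y (.refl K) l m) :
    Dg ev (x * y * x⁻¹) (.refl K) (ρ m) (if ε then ρ l ^ 2 else ρ l) := by
  refine ⟨by simpa using d.m0, by cases ε <;> simpa using d.l0, fun u => ?_⟩
  rw [show x * y * x⁻¹ * ev u * (x * y * x⁻¹)⁻¹ = x * (y * (x⁻¹ * ev u * x) * y⁻¹) * x⁻¹ by group, h.xinv, h.sw', d.act, h.sw',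
    h.eq_iff]
  cases ε
  · simp [sw, h.rL]; linear_combination (ρ l * ρ m * u.a * u.s) * Uc.two K
  · have := h.rS rfl
    simp [sw, mul_pow, CharTwo.add_sq, this]
    constructor
    · linear_combination (ρ l ^ 2 * ρ m * u.a * u.s) * Uc.two K
    · linear_combination (ρ l ^ 2 * ρ m ^ 2 * u.a ^ 2 * u.s) * Uc.two K
theorem torg (h : Cb ε ρ ev x) (k : Cy ev x Y) (l0 : l ≠ 0) (m0 : m ≠ 0) (e : ε = true ∨ ∃ n, l = m * n ^ 3) :
    ∃ y ∈ Y, Dg ev y (.refl K) l m := by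
  have f : ∀ t s : K, t ≠ 0 → s ≠ 0 → ∃ y ∈ Y, Dg ev y (.refl K) (t⁻¹ * ρ (s ^ 2)) (t ^ 2 * if ε then ρ s⁻¹ ^ 2 else ρ s⁻¹) :=
    fun t s a b => let ⟨y, hy, d⟩ := k.tor t a; let ⟨z, hz, d'⟩ := k.tor s b
      ⟨_, mul_mem hy (mul_mem (mul_mem k.xY hz) (inv_mem k.xY)), d.mul (dg_x h d')⟩
  cases ε
  · obtain ⟨n, rfl⟩ := e.resolve_left (by simp)
    have n0 : n ≠ 0 := fun e => l0 (by simp [e])
    convert f (m * n) (ρ (m * n * n)) (by simp [*]) (by simp [*]) using 4 <;> simp [h.rL] <;> field_simp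
  · convert f (l * m) (ρ (l * l * m)) (by simp [*]) (by simp [*]) using 4 <;> simp [mul_pow, h.rS] <;> field_simp
theorem zoR [Finite Γ] {T : Subgroup Γ} (h : Co ε ρ T ev x) :
    zo (R0 ε ρ ev x) ≠ ⊥ ∧ zo (R0 ε ρ ev x) ≤ (UC K).map ev ⊓ cz T := by
  have := h.finK
  obtain ⟨d, hd, n⟩ := exE h.toCb
  have m := sqB (mA_le _ _ hd)
  refine ⟨fun e => n (Ein h.toCb hd (mem_bot.1 (e ▸ ⟨h.E_le_R0 (C_le_E ev m), cz_anti h.R0_le (cen h m (sqE h.toCb hd)), sqC m⟩))),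
    fun y hy => ?_⟩
  obtain ⟨u, k, rfl | rfl⟩ := h.mem_R0.1 hy.1
  · have := Ein h.toCb (mem_map_of_mem _ k) hy.2.2
    exact ⟨this, cen h this (mul_inv_eq_iff_eq_mul.2 (mem_cz'.1 hy.2.1 x h.x_R0))⟩
  rcases dich h.toCb with H | G
  · obtain ⟨c, hc, f⟩ := H.ex h.toCb
    exact (f (by rw [← Ou.act h.toCb ⟨u, rfl⟩ hc, mem_cz.1 hy.2.1 c (h.E_le_R0 (C_le_E ev hc)), mul_inv_cancel])).elim
  · exact (n (Ein h.toCb hd (mul_eq_one_iff_eq_inv.2 ((mem_cz.1 hy.2.1 d (h.E_le_R0 hd)).symm.trans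
      ((gg h.toCb G).iv _ ⟨u, rfl⟩ (hy.2.2.symm ▸ one_mem _) d hd))))).elim

variable (K Γ Γ') [Finite Γ] [Finite Γ']
theorem rl : RL K Γ Γ' := fun ε ρ ev x Y L Γ₀ ev' x' w' h k t _ => by
  have c := co_of h
  have c' := co_of t.toCb
  obtain ⟨j, J⟩ := iso K Γ Γ' ε ρ _ ev x _ ev' x' c c'
  replace J : Jm _ ev x _ ev' x' j := ⟨J.1, J.2.1, J.2.2.1, J.2.2.2⟩
  generalize ev'.range ⊔ zpowers x' = T at c' J
  obtain ⟨Y', m⟩ : ∃ Y' : Subgroup Γ', ∀ y', y' ∈ Y' ↔ y' ∈ Γ₀ ∧ ∃ y ∈ Y, IC j ev.range y y' :=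
    ⟨Γ₀ ⊓ tr j ev.range Y, fun y' => and_congr_right fun _ => mem_tr.trans (exists_congr fun y => and_congr_right fun hy =>
      and_iff_right (k.nzR h hy))⟩
  have d1 : ∀ {y y' σ l m}, IC j ev.range y y' → Dg ev y σ l m → Dg ev' y' σ l m := fun e d =>
    ⟨d.l0, d.m0, fun u => by rw [← J.ev, ← e _ ⟨u, rfl⟩, d.act, J.ev]⟩
  have la : La ev Y ev' Y' := fun σ l m' => ⟨fun ⟨y, hy, d⟩ => let ⟨y', k, d'⟩ := t.dg σ l m' d.l0 d.m0
    ⟨y', (m _).2 ⟨k, y, hy, J.dg c d d'⟩, d'⟩, fun ⟨y', hy, d⟩ => let ⟨_, y, hy, e⟩ := (m _).1 hy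
      ⟨y, hy, d.l0, d.m0, fun u => ex_inj J.inj (c.BT (conj_mem_of_mem_nz (k.nzR h hy) ⟨u, rfl⟩)) (c.ev_mem _)
        (by rw [e _ ⟨u, rfl⟩, J.ev, J.ev, d.act])⟩⟩
  have YΓ : Y' ≤ Γ₀ := fun y hy => ((m y).1 hy).1
  have k' : Cy ev' x' Y' := by
    refine ⟨(m _).2 ⟨t.xΓ, x, k.xY, J.icx c c.BT⟩, fun y' hy => ?_, fun y hy => t.fth y (YΓ hy), fun d => k.y4 (d.trans ?_),
      fun s n => (la _ _ _).1 (k.tor s n)⟩
    · obtain ⟨-, y, hy, e⟩ := (m _).1 hy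
      exact (k.dg y hy).imp (fun ⟨_, _, _, d⟩ => ⟨_, _, _, d1 e d⟩) fun ⟨_, _, _, d⟩ =>
        ⟨_, _, _, d1 (e.mul' (J.icx c c.BT) (mem_nz.1 (k.nzR h hy)).le) d⟩
    · choose f f1 f2 using fun y : Y' => ((m y).1 y.2).2
      refine card_dvd_of_injective (MonoidHom.mk' (fun y => (⟨f y, f1 y⟩ : Y)) fun a b => Subtype.ext (k.eq_of_agree h (f1 _)
        (mul_mem (f1 a) (f1 b)) fun s hs => ex_inj J.inj (c.BT (conj_mem_of_mem_nz (k.nzR h (f1 _)) hs))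
          (c.BT (conj_mem_of_mem_nz (k.nzR h (mul_mem (f1 a) (f1 b))) hs)) ((f2 _ s hs).trans
            (((f2 b).mul' (f2 a) (mem_nz.1 (k.nzR h (f1 b))).le) s hs).symm))) ((injective_iff_map_eq_one _).2 fun a e => ?_)
      have := (f2 a).agree ((show 1 = f a from (congrArg Subtype.val e).symm) ▸ ic_one j ev.range : IC j ev.range (f a) 1)
      exact Subtype.ext (t.fth _ (YΓ a.2) (agree_one_iff.1 (J.imB c ▸ this)))
  have YL := YΓ.trans t.nL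
  have YB := k'.nzR t.toCb
  have BL := t.syl.le
  have mG : ∀ {Z g}, Z ≤ Y' → g ∈ L ⊔ Z → ∃ l ∈ L, ∃ y ∈ Z, l * y = g := fun z => (mem_sup_of_le_nz_left (z.trans YL)).1
  have nA : ∀ l ∈ L, l ∈ nz ev'.range → l ∈ nz ((UA K).map ev') ∧ l ∈ nz ((UB K).map ev') := fun l a b => by
    obtain ⟨b, hb, y, -, rfl, _, _, d, -⟩ := t.nb l a b
    exact ⟨mul_mem (B_nzA _ hb) d.nzA, mul_mem (B_nzB _ hb) d.nzB⟩
  have nb : ∀ g ∈ L ⊔ Y', g ∈ nz ev'.range → ∃ b ∈ ev'.range, ∃ y ∈ Y', g = b * y := fun g a n => by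
    obtain ⟨l, hl, y, hy, rfl⟩ := mG le_rfl a
    obtain ⟨b, hb, z, hz, rfl, l, m', d, e⟩ := t.nb l hl ((mul_mem_cancel_right (YB hy)).1 n)
    obtain ⟨z', hz', d'⟩ := torg t.toCb k' d.l0 d.m0 e
    obtain rfl : z' = z := inv_mul_eq_one.1 (t.fth _ (mul_mem (inv_mem (YΓ hz')) hz) (agree_iff.1 (d'.agree d)))
    exact ⟨b, hb, _, mul_mem hz' hy, mul_assoc _ _ _⟩
  have o : Odd (L.relIndex (L ⊔ nz ((UA K).map ev') ⊓ Y')) := (odd_Y k' t.toCb).of_dvd_nat (by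
    rw [relIndex_eq_of_cover le_sup_right fun a ha => let ⟨l, hl, y, hy, e⟩ := mG inf_le_right ha
      ⟨y, hy, by simpa [← e, mul_assoc] using conj_mem_of_mem_nz' (YL hy.2) hl⟩]
    exact relIndex_dvd_card _ _)
  have G0 : L ⊔ nz ((UA K).map ev') ⊓ Y' ≤ L ⊔ Y' := sup_le_sup_left inf_le_right _
  have i2 : (L ⊔ nz ((UA K).map ev') ⊓ Y').relIndex (L ⊔ Y') = 2 := le_antisymm (H28.GC.two_idx fun a ha b hb a' b' => by
    obtain ⟨l, hl, y, hy, rfl⟩ := mG le_rfl ha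
    obtain ⟨l', hl', y', hy', rfl⟩ := mG le_rfl hb
    rw [show l * y * (l' * y') = l * (y * l' * y⁻¹) * (y * y') by group]
    refine mul_mem_sup (mul_mem hl (conj_mem_of_mem_nz (YL hy) hl')) ⟨mem_nz.2 ?_, mul_mem hy hy'⟩
    rw [← cj_cj, ((t.swap (YB hy')).resolve_left fun e => b' (mul_mem_sup hl' ⟨e.1, hy'⟩)).1,
      ((t.swap (YB hy)).resolve_left fun e => a' (mul_mem_sup hl ⟨e.1, hy⟩)).2]) (H28.GC.two_le fun e => by
    obtain ⟨l, hl, y, hy, e⟩ := mG inf_le_right (e (mem_sup_right k'.xY))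
    exact t.x_nA (e ▸ mul_mem (nA l hl ((mul_mem_cancel_right (YB hy.2)).1 (e.symm ▸ t.xR))).1 hy.1))
  have TG : T ≤ L ⊔ Y' := c'.le_of (BL.trans le_sup_left) (mem_sup_right k'.xY)
  have nZ : ∀ Z, Z ≠ ⊥ → Z ≤ T → T ≤ cz Z → (L ⊔ Y') ⊓ nz Z ≤ nz ev'.range := fun Z z1 z2 z3 g hg => by
    obtain ⟨⟨z, hz⟩, n⟩ := ne_bot_iff_exists_ne_one.1 z1
    replace n : z ≠ 1 := fun e => n (Subtype.ext e)
    obtain ⟨⟨a, s, c, d⟩, ⟨rfl : s = 0, rfl : a = 0⟩, rfl⟩ := c'.CB.le ⟨z2 hz, le_cz_comm.1 (c'.BT.trans z3) hz⟩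
    have e := mem_cz.1 (z3 c'.xT) _ hz
    rw [t.sw, t.eq_iff] at e
    rw [ne_eq, t.ker] at n
    have H : L ⊓ cz Z ≤ nz ev'.range := fun l hl => t.cz c d (by
      rintro rfl; cases ε <;> simp [sw] at e n; exact n e.1) (by
      rintro rfl rfl; simp [sw] at e n; exact n e.2) l hl.1 (mem_cz.1 hl.2 _ hz)
    have BH := le_inf BL (c'.BT.trans z3)
    have gH := mem_nz.1 (mem_nz_inf (sup_le (le_nz_self L) YL hg.1) (mem_nz_cz hg.2))
    exact mem_nz_of_le ((t.syl.mono_right BH inf_le_left).le_of_normal (isPGroup_cj g (pgB ev')) (gH ▸ cj_mono g BH)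
      (by rw [← cj_nz, ← gH]; exact cj_mono g H))
  refine ⟨L ⊔ Y', T, Y', ⟨c', k', ⟨TG, ?_⟩, le_sup_right, mem_sup_left t.wL, t.wa, nb, fun g a b => ?_, fun Z z1 z2 z3 => ?_⟩, la,
    ?_, t.simple, t.cL, sup_le (le_nz_self L) YL, _, le_sup_left, G0, i2, o⟩
  · have a := relIndex_mul_relIndex _ _ _ c'.BT TG
    have b := relIndex_mul_relIndex _ _ _ (BL.trans le_sup_left) G0
    rw [← a, i2, le_antisymm (H28.GC.two_idx c'.tw) (H28.GC.two_le fun e => t.xB (e c'.xT)), mul_comm, mul_right_inj' two_ne_zero] at b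
    exact b ▸ (t.syl.trans ⟨le_sup_left, o.not_two_dvd_nat⟩).2
  · obtain ⟨l, hl, y, hy, rfl⟩ := mG le_rfl a
    rcases t.swap (YB hy) with e | e
    · exact (t.br l hl ((mul_mem_cancel_right e.1).1 b)).imp (fun e => mul_mem e (YB hy)) fun ⟨b, hb, e⟩ =>
        ⟨b, hb, mul_assoc (w' * b) l y ▸ mul_mem e (YB hy)⟩
    rw [mem_nz, ← cj_cj, e.1] at b
    obtain ⟨s, hs, e⟩ := (t.syl.mono_right (le_inf BL (B_nzA ev')) inf_le_left).exists_cj_le (isPGroup_cj l (pgB ev'))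
      (le_inf (cj_le_of_mem hl BL) (by rw [← b, ← cj_nz]; exact cj_mono l (B_nzB ev')))
    have := (nA _ (mul_mem hs.1 hl) (mem_nz_of_le (cj_cj s l _ ▸ e))).2
    rw [mem_nz, ← cj_cj, b, mem_nz.1 hs.2] at this
    exact (t.A_ne this).elim
  · refine chP_of (le_inf (c'.BT.trans TG) (c'.BT.trans (z3.trans (cz_le_nz Z)))) (nZ Z z1 z2 z3) (pgB ev') fun g hg => ?_
    obtain ⟨b, hb, y, hy, rfl⟩ := nb g hg.1.1 (cz_le_nz _ hg.2)
    rwa [k'.eq_one t.toCb hy (inv_mem hb) (agree_iff.2 (by simpa using hg.2)), mul_one]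
  · rintro ⟨a, ha, n⟩
    obtain ⟨n', g, hg, e⟩ := mem_ai.1 (ofSub_A TG c'.R0_le ▸ ha)
    obtain ⟨z1, z2⟩ := zoR c'
    exact n ((e.mono ((C_le_E ev').trans t.E_le_R0)).mem_nz (t.nz_C (nZ _ z1 (zo_le.trans c'.R0_le)
      (le_cz_comm.1 (z2.trans inf_le_right)) ⟨hg, nz_zo (e.symm.mem_nz n')⟩)))

end H29.MF
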