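import Cfsg.Agent.H1.MS2
import Cfsg.Agent.H29.NA2

/-! S5899, part 3: transvections of a solvable group. -/

set_option autoImplicit false
set_option linter.unusedVariables false

namespace H29.MF
open Cfsg Subgroup H18 H17.GS H28.S H2.GW
open H19 hiding eq_bot_mono
open H28.NG hiding Hyp Uniq Ch Mo Tv
open H29.NA

universe u
variable {G : Type u} [Group G] [Finite G] {V W K L F Z : Subgroup G} {a c d s y : G}

theorem two4 (ab : Abelem 2 W) (c4 : #W = 4) (hs : s ∈ W) (s1 : s ≠ 1) (c1 : c ∈ N(W)) (d1 : d ∈ N(W))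
    (c2 : c ∈ C[s]) (d2 : d ∈ C[s]) (c3 : c ∉ C(W)) (d3 : d ∉ C(W)) : c * d⁻¹ ∈ C(W) := by
  have H := hyp_zp ab c4 hs s1
  have ss := H17.GS.sq_one ab hs
  obtain ⟨v, v1, v2⟩ := SetLike.not_le_iff_exists.1 (H.le.lt_of_ne H.ne).not_ge
  have g : ∀ {e}, e ∈ C[s] → e ∈ C[v] → e ∈ C(W) := fun {e} a b => le_cent1_iff.1
    (((H.max (le_inf H.le (zpowers_le' (mem_cent1_symm.1 a))) inf_le_left).resolve_left fun j =>
      v2 (j.le ⟨v1, mem_cent1_symm.1 b⟩)).ge.trans inf_le_right)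
  have k : ∀ {e}, e ∈ N(W) → e ∈ C[s] → e ∉ C(W) → e * v * e⁻¹ = s * v := fun {e} a b n => by
    rcases (H17.GS.mem_zp ss).1 ((cm_hyp H (cent1_le_norm_zpowers s b) a).2 v v1) with j | j
    · exact absurd (g b (mem_cent1_conj.2 (mul_inv_eq_one.1 j))) n
    · exact mul_inv_eq_iff_eq_mul.1 j
  refine g (mul_mem c2 (inv_mem d2)) (mem_cent1_conj.2 ?_)
  rw [← conj_conj', k (inv_mem d1) (inv_mem d2) (mt (inv_mem_iff).1 d3), ← conj_mul, k c1 c2 c3,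
    mem_cent1_conj.1 c2, ← mul_assoc, ss, one_mul]

theorem t1c (h : Mo V K L F) (ha : a ∈ L) (ta : Tr V a) : ∃ x ∈ L, Odd (orderOf x) ∧ x ∉ K ∧ x ^ 3 ∈ K ∧
    a * x * a⁻¹ * x ∈ K ∧ #(V ⊓ C[a]) = 2 * #(V ⊓ C[x]) ∧ V ⊓ C[x] ≤ C[a] ∧
    ∀ b ∈ L, Tr V b → a * b * a⁻¹ * b⁻¹ ∈ K ∨ x * a * x⁻¹ * b⁻¹ ∈ K ∨ x⁻¹ * a * x * b⁻¹ ∈ K := by
  obtain ⟨r, x, V₁, V₀, k⟩ := h.exists_tv ha ta
  have nf : ∀ {v}, v ∈ V₁ → v ≠ 1 → x ∉ C[v] := fun m n c => n (mem_bot.1 (k.fix.le ⟨m, mem_cent1_symm.1 c⟩))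
  have nz : ∀ {g}, g ∈ N(V₁) → g ∉ C[r] → g * r * g⁻¹ ∉ zpowers r := fun _ n c =>
    ((H17.GS.mem_zp k.rr).1 c).elim (fun e => k.r1 (conj_eq_one_iff.1 e)) fun e => n (mem_cent1_conj.2 e)
  have x1 := nf k.rV k.r1
  have x2 : x * x ∉ C[r] := mt (mem_of_sq k.odd) x1
  have tw : ∀ {u v w}, u ∈ V₁ → v ∈ V₁ → w ∈ V₁ → u ∉ zpowers r → v ∉ zpowers r → w ∉ zpowers r → u ≠ v → u ≠ w →
      v = w := fun {u v w} a b c a' b' c' n m => by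
    have q : ∀ {v}, v ∈ V₁ → v ∉ zpowers r → u ≠ v → u * v = r := fun b b' n =>
      ((H17.GS.mem_zp k.rr).1 (hyp_mul k.hyp a b a' b')).resolve_left fun e =>
        n (by rw [eq_inv_of_mul_eq_one_left e, inv_eq k.ab1 b])
    exact mul_left_cancel ((q b b' n).trans (q c c' m).symm)
  have ne : ∀ {g h : G}, h⁻¹ * g ∉ C[r] → g * r * g⁻¹ ≠ h * r * h⁻¹ := fun {g h} n e => n (mem_cent1_conj.2 (by
    rw [← conj_conj', e]; group))
  have cj1 : ∀ {g}, g ∈ N(V₁) → g * r * g⁻¹ ∈ V₁ := fun m => conj_mem_of_norm m k.rV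
  have xx := mul_mem k.xn k.xn
  have x3 : x * x * x ∈ C[r] := by_contra fun n => ne (g := x * x) (h := x * x * x) (by simpa [mul_assoc] using x1)
    (tw (cj1 k.xn) (cj1 xx) (cj1 (mul_mem xx k.xn)) (nz k.xn x1) (nz xx x2) (nz (mul_mem xx k.xn) n)
      (ne (by simpa [mul_assoc] using x1)) (ne (by
        rw [show (x * x * x)⁻¹ * x = (x * x)⁻¹ by group]; exact mt inv_mem_iff.1 x2)))
  have x0 : x ∈ C(V₀) := le_cent1_iff.1 k.x0
  have a0 : a ∈ C(V₀) := le_cent1_iff.1 k.t0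
  have a1 : a ∉ C(V₁) := mt le_cent1_iff.2 k.nt
  have an := (k.nrm_r ha k.tr').1
  refine ⟨x, k.xL, k.odd, fun c => x1 (cent_le_cent1 (k.l1 k.rV) (h.kc c)), ?_, k.inv, ?_, k.e0 ▸ k.t0, fun b hb tb => ?_⟩
  · rw [pow_succ, sq]
    exact k.ker' (mul_mem (mul_mem k.xL k.xL) k.xL) (k.cent_r (mul_mem (mul_mem k.xF k.xF) k.xF) x3)
      (mul_mem (mul_mem x0 x0) x0)
  · have := Hyp.card ta
    have := k.cardV
    rw [← k.e0]; omega
  obtain ⟨b1, b0⟩ := k.nrm_tr hb tb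
  have cL : a * b * a⁻¹ * b⁻¹ ∈ L := mul_mem (mul_mem (mul_mem ha hb) (inv_mem ha)) (inv_mem hb)
  have c0 : a * b * a⁻¹ * b⁻¹ ∈ C(V₀) := by
    rw [show a * b * a⁻¹ * b⁻¹ = a * (b * a⁻¹ * b⁻¹) by group]
    exact mul_mem a0 (conj_mem_of_norm (norm_le_norm_cent _ b0) (inv_mem a0))
  by_cases c : b ∈ C(V₁)
  · exact .inl (k.ker' cL (mul_mem (conj_mem_of_norm (norm_le_norm_cent _ an) c) (inv_mem c)) c0)
  have c2 := tb.card h.ab (h.nV hb)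
  have e1 : cm V₁ b = cm V b := (eq_bot_or_eq_of_prime (c2 ▸ Nat.prime_two) (cm_mono k.l1)).resolve_left fun j =>
    c (le_cent1_iff.1 (cm_eq_bot.1 j))
  have bc : b ∈ C(V₀) := le_cent1_iff.1 (cm_eq_bot.1 (le_bot_iff.1 ((le_inf
    ((cm_mono k.l0).trans (e1.ge.trans (cm_le b1))) (cm_le b0)).trans k.disj.le)))
  obtain ⟨s, s1, s2⟩ := exists_ne_one (ne_bot_iff_one_lt_card.2 (by
    have := Hyp.card_inf tb k.l1; rw [k.card] at this; omega : 1 < #(V₁ ⊓ (V ⊓ C[b]))))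
  have bs : b ∈ C[s] := mem_cent1_symm.1 s1.2.2
  have key : ∀ {g}, g ∈ L → g ∈ N(V₁) → g ∈ C(V₀) → g * r * g⁻¹ = s → g * a * g⁻¹ * b⁻¹ ∈ K := fun {g} l n z e =>
    k.ker' (mul_mem (mul_mem (mul_mem l ha) (inv_mem l)) (inv_mem hb)) (two4 k.ab1 k.card s1.1 s2
      (mul_mem (mul_mem n an) (inv_mem n)) b1 (e ▸ cj_cent1 g r ▸ conj_mem_cj.2 k.tr') bs (fun j => a1 (by
        simpa [mul_assoc] using conj_mem_of_norm' (norm_le_norm_cent _ n) j)) c)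
      (mul_mem (mul_mem (mul_mem z a0) (inv_mem z)) (inv_mem bc))
  by_cases e : s ∈ zpowers r
  · have j := key (one_mem _) (one_mem _) (one_mem _) (by
      simpa using (((H17.GS.mem_zp k.rr).1 e).resolve_left s2).symm)
    left
    convert mul_mem (conj_mem_of_norm (h.fs.nK.norm ha) (inv_mem j)) j using 1; group
  by_cases e' : x * r * x⁻¹ = s
  · exact .inr (.inl (key k.xL k.xn x0 e'))
  have xi := inv_mem k.xn
  have := key (inv_mem k.xL) xi (inv_mem x0) (tw (cj1 k.xn) (cj1 xi) s1.1 (nz k.xn x1)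
    (nz xi (mt inv_mem_iff.1 x1)) e (ne (by rwa [inv_inv])) e')
  rw [inv_inv] at this
  exact .inr (.inr this)

theorem lift_odd (hy : y ∈ N(Z)) (o : Odd (orderOf (qm Z y))) :
    ∃ f ∈ zpowers y, Odd (orderOf f) ∧ qm Z f = qm Z y := by
  have m := fun π => constt_mem π hy
  refine ⟨_, constt_mem_zpowers {2}ᶜ y, odd_iff_pi.2 (constt_pi {2}ᶜ y), ?_⟩
  have : qm Z (constt {2} y) = 1 := PiN.e_eq_one ((constt_pi {2} y).dvd (orderOf_qm_dvd (m _))) ((og_zp o).elt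
    (quo_zp hy ▸ qm_mem (m _) (constt_mem_zpowers _ y)))
  conv_rhs => rw [← constt_mul_compl {2} y, qm_mul (m _) (m _), this, one_mul]

theorem t1 : H1.MS.T1.{u} := fun {G} _ _ {C D Z U a} s ta => by
  have un := s.ea.norm
  have DC : D ≤ C := s.eD ▸ Oc_le _ _
  have hD : ∀ {g}, g ∈ C → (qm Z g ∈ C(quo Z U) ↔ g ∈ D) := fun {g} hg => by
    rw [← s.ker g hg, ← zpowers_le, ← quo_zp (s.nZ hg), quo_cents_iff (zpowers_le' (s.nZ hg)) un]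
    exact ⟨fun j => H28.NG.le_Cm (zpowers_le' (s.nZ hg)) j (mem_zpowers g), fun j => commg_of_Cm (zpowers_le' j)⟩
  obtain ⟨F, m⟩ := exists_Md (ea_bot s.ea.abq) (sol_quo s.sol Z) (quo_norms s.nU) (norm_bot.ge.trans' le_top)
    fun N n l o => by
      rw [H28.NG.Cm_bot] at l o ⊢
      have : C ⊓ qpre Z N ≤ D := s.eD ▸ le_Oc (inf_normal_of_norm' (norms_qpre s.nZ n.norm)) (pg_of_odd
        (fun x j ox => (hD j.1).1 (o _ ((mem_qpre (s.nZ j.1)).1 j.2) (odd_qm ox (s.nZ j.1)))) (s.eD ▸ Oc_pi _ _))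
      intro u hu
      obtain ⟨x, x1, x2, rfl⟩ := mem_quo (n.le hu)
      exact (hD x1).2 (this ⟨x1, (mem_qpre x2).2 hu⟩)
  rw [H28.NG.Cm_bot] at m
  have h : Mo (quo Z U) (quo Z C ⊓ C(quo Z U)) (quo Z C) F :=
    ⟨s.ea.abq, sol_quo s.sol Z, m.fs, m.nV, inf_le_right, fun g a b => ⟨a, b⟩⟩
  have q : ∀ {g}, g ∈ C → quo Z (U ⊓ H28.NG.Cm Z (zpowers g)) = quo Z U ⊓ C[qm Z g] := fun hg => by
    rw [quo_Cm (zpowers_le' (s.nZ hg)), quo_zp (s.nZ hg), cent_zpowers]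
  have cq : ∀ {X}, Z ≤ X → X ≤ U → #X = #Z * #(quo Z X) := fun l j => by
    rw [card_quo (j.trans un), card_mul_relIndex l]
  have cc : ∀ {g}, g ∈ C → #(U ⊓ H28.NG.Cm Z (zpowers g)) = #Z * #(quo Z U ⊓ C[qm Z g]) := fun hg => by
    rw [cq (s.ea.leC (zpowers_le' (s.nZ hg))) inf_le_left, q hg]
  have tr : ∀ {g}, H1.MS.Tr C D Z U g → Tr (quo Z U) (qm Z g) := fun ⟨g1, g2, g3⟩ =>
    tr_of h.ab (mt (hD g1).1 g2) le_rfl (Nat.le_of_mul_le_mul_left (by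
      have : #U ≤ _ := g3
      rw [cc g1, cq s.ea.le le_rfl] at this
      linarith) (card_pos Z))
  obtain ⟨x, x1, x2, x3, x4, x5, x6, x7, x8⟩ := t1c h (qm_mem (s.nZ ta.1) ta.1) (tr ta)
  obtain ⟨y, y1, y2, rfl⟩ := mem_quo x1
  obtain ⟨f, f1, f2, e⟩ := lift_odd y2 x2
  have fC : f ∈ C := zpowers_le' y1 f1
  rw [← e] at x3 x4 x5 x6 x7 x8
  have n := s.nZ
  have aC := ta.1
  refine ⟨f, fC, f2, fun j => x3 ⟨qm_mem (n fC) fC, (hD fC).2 j⟩, (hD (pow_mem fC 3)).1 (qm_pow (n fC) 3 ▸ x4.2),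
    (hD (mul_mem (mul_mem (mul_mem aC fC) (inv_mem aC)) fC)).1 ?_, by rw [cc aC, cc fC, x6]; ring, fun u hu => ?_,
    fun b tb => ?_⟩
  · rw [qm_mul (n (mul_mem (mul_mem aC fC) (inv_mem aC))) (n fC), qm_conj (n aC) (n fC)]; exact x5.2
  · have := x7 (q fC ▸ qm_mem (un hu.1) hu)
    refine (mem_Cm1 (n aC)).2 ⟨un hu.1, (qm_eq_one (mul_mem (mul_mem (mul_mem (un hu.1) (n aC)) (inv_mem (un hu.1)))
      (inv_mem (n aC)))).1 ?_⟩
    rw [qm_mul (mul_mem (mul_mem (un hu.1) (n aC)) (inv_mem (un hu.1))) (inv_mem (n aC)), qm_conj (un hu.1) (n aC),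
      qm_inv (n aC), mem_cent1_conj.1 this, mul_inv_cancel]
  have bC := tb.1
  have w : ∀ {g c d}, g ∈ C → c ∈ C → d ∈ C → qm Z g * qm Z c * (qm Z g)⁻¹ * (qm Z d)⁻¹ ∈ C(quo Z U) →
      g * c * g⁻¹ * d⁻¹ ∈ D := fun g c d j => (hD (mul_mem (mul_mem (mul_mem g c) (inv_mem g)) (inv_mem d))).1 (by
    rwa [qm_mul (n (mul_mem (mul_mem g c) (inv_mem g))) (n (inv_mem d)), qm_conj (n g) (n c), qm_inv (n d)])
  refine (x8 _ (qm_mem (n bC) bC) (tr tb)).imp (fun j => w aC bC bC j.2) (Or.imp (fun j => w fC aC bC j.2) fun j => ?_)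
  have := w (inv_mem fC) aC bC (by rw [qm_inv (n fC), inv_inv]; exact j.2)
  rwa [inv_inv] at this

end H29.MF
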