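import Cfsg.Agent.H29.PU14

/-! The pair of characteristic subgroups of Glauberman and Niles. -/

set_option autoImplicit false
set_option linter.unusedVariables false
set_option linter.unusedSectionVars false

namespace H29.PU
open Cfsg Subgroup H28 H9 H13.SL2 Matrix MatrixGroups
open scoped commutatorElement Pointwise

universe u v
section
variable {X : Type u} [Group X] [Finite X] {Y : Type v} [Group Y] [Finite Y] {f : X →* Y} {p n : ℕ}
  [hp : Fact p.Prime] {A B C G H K R S T W : Subgroup X} {𝓥 : Set (Subgroup X)}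

theorem family' (h1 : ∀ G ∈ 𝓥, Vx p G) (h2 : ∀ G ∈ 𝓥, ∀ g, cj g G ∈ 𝓥)
    (ex : ∃ n, ∃ A B, Near p 𝓥 n A B ∧ ¬ 𝐙 A ≤ 𝐐 B) :
    ∃ C ∈ 𝓥, ∃ T, IsSylowIn p T C ∧ (P0 p C T ∨ ∃ U a b d D, P2 p C T U a b d D) := by
  classical
  have h : Am p 𝓥 (Nat.find ex) := ⟨h1, h2, fun n hn A B e => by_contra fun k => Nat.find_min ex hn ⟨A, B, e, k⟩⟩
  obtain ⟨A, B, e, hn⟩ := Nat.find_spec ex
  generalize Nat.find ex = n at *
  have a1 : 1 ≤ n := Nat.pos_of_ne_zero (by rintro rfl; cases e with | refl k => exact hn (h1 _ k).Z_le_Q)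
  by_cases hx : 2 ≤ n → Ext p 𝓥 n
  · obtain ⟨C, hC, T, hT, k⟩ := h.main a1 e hn hx
    exact ⟨C, hC, T, hT, k.imp_left fun k => k.p0 (h1 C hC).toRk1 hT⟩
  · obtain ⟨b2, hx⟩ := Classical.not_imp.1 hx
    obtain ⟨A, B, C, T, k, k'⟩ := (h.ext_or' b2).resolve_left hx
    exact ⟨C, k.mem, T, k.sC, Or.inl ⟨_, (h1 A k.near.left).ea, k.sup h b2, k'⟩⟩

/-- the critical case -/
structure Hy (p : ℕ) (T : Subgroup X) : Prop where
  J : T ≤ 𝐂 (zj 0 T)
  Z : T ⊓ 𝐂 T ≤ 𝛀 T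
  big : Big T T T

theorem Hy.map (h : Hy p T) (hf : Function.Injective f) : Hy p (T.map f) :=
  ⟨map_zj hf T ▸ map_cen h.J, by
    rw [← map_centralizer_inf hf, ← map_omegaOneCenter hf]; exact map_mono h.Z, (big_map hf).2 h.big⟩

/-- the subgroup `S₁` -/
def s1 (p : ℕ) (T : Subgroup X) : Subgroup X := T ⊓ 𝐂 T ⊓ s0 p T

theorem map_s1 (hf : Function.Injective f) (T : Subgroup X) : (s1 p T).map f = s1 p (T.map f) := by
  rw [s1, Subgroup.map_inf _ _ _ hf, map_centralizer_inf hf, map_s0, s1]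

/-- the family -/
def fam (p : ℕ) (X : Type u) [Group X] [Finite X] : Set (Subgroup X) :=
  {C | Rk1 p C ∧ ∃ T, IsSylowIn p T C ∧ Hy p T ∧ ¬ C ≤ 𝐍 (s1 p T)}

theorem fam_map (h : C ∈ fam p X) (hf : Function.Injective f) : C.map f ∈ fam p Y :=
  let ⟨h1, T, h2, h3, h4⟩ := h
  ⟨h1.map hf, _, h2.map f, h3.map hf, fun e => h4 (nrm_of_map hf (map_s1 (p := p) hf T ▸ e))⟩

theorem fam_conj (C : Subgroup X) (h : C ∈ fam p X) (g : X) : cj g C ∈ fam p X := fam_map h (conj_injective' g)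

theorem fam_syl (h : C ∈ fam p X) (hT : IsSylowIn p T C) : Hy p T ∧ ¬ C ≤ 𝐍 (s1 p T) := by
  obtain ⟨h1, S, h2, h3, h4⟩ := h
  obtain ⟨g, hg, rfl⟩ := h2.exists_conj hT
  refine ⟨h3.map (conj_injective' g), fun e => h4 (nrm_of_map (conj_injective' g) ?_)⟩
  rwa [map_s1 (conj_injective' g), cj_eq_self_of_mem hg]

theorem fam_vx (C : Subgroup X) (h : C ∈ fam p X) : Vx p C :=
  let ⟨h1, T, h2, h3, h4⟩ := h
  (h1.cases' h2 h3.J).resolve_left fun e => h4 (le_normalizer_of_le_centralizer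
    (le_centralizer_comm.1 (inf_le_left.trans e)))

theorem fam_near (h : Near p (fam p X) n A B) : 𝐙 A ≤ 𝐐 B := by_contra fun e => by
  obtain ⟨C, hC, T, hT, k⟩ := family' fam_vx fam_conj ⟨n, A, B, h, e⟩
  refine (fam_syl hC hT).2 (le_normalizer_of_le_centralizer (hT.pResidualOf_sup.ge.trans (sup_le
    (le_centralizer_comm.1 (inf_le_right.trans ?_)) (le_centralizer_comm.1 (inf_le_left.trans inf_le_right)))))
  rcases k with k | ⟨_, _, _, _, _, k⟩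
  · by_cases h2 : p = 2
    exacts [k.s0_two (fam_vx C hC) hT h2, k.s0_odd (fam_vx C hC) hT h2]
  · exact k.s0_le (fam_vx C hC) hT

/-- the component of `S` -/
def Cp (p : ℕ) (S A : Subgroup X) : Prop := ∃ n H, Near p (fam p X) n A H ∧ IsSylowIn p S H

/-- the join of the modules in the component -/
def wf (p : ℕ) (S : Subgroup X) : Subgroup X := ⨆ A : {A // Cp p S A}, 𝐙 A.1

theorem Cp.le (h : Cp p S A) : 𝐙 A ≤ wf p S := le_iSup (fun A : {A // Cp p S A} => 𝐙 A.1) ⟨A, h⟩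

theorem Cp.of_near (h : Cp p S B) (e : Near p (fam p X) n A B) : Cp p S A :=
  let ⟨_, H, a, b⟩ := h; ⟨_, H, e.trans a, b⟩

theorem Cp.near (h : Cp p S A) (h' : Cp p S B) : ∃ n, Near p (fam p X) n A B :=
  let ⟨_, _, a, b⟩ := h; let ⟨_, _, c, d⟩ := h'; ⟨_, (a.step c.right b d).trans c.symm⟩

theorem Cp.wf_le (h : Cp p S B) : wf p S ≤ 𝐐 B := iSup_le fun A => let ⟨_, e⟩ := A.2.near h; fam_near e

theorem Cp.mem (h : Cp p S B) : B ∈ fam p X := let ⟨_, _, a, _⟩ := h; a.left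

theorem wf_comm : wf p S ≤ 𝐂 (wf p S) := iSup_le fun A =>
  le_centralizer_comm.1 (A.2.wf_le.trans (fam_vx _ A.2.mem).Q_le_C)

theorem wf_le : wf p S ≤ S := iSup_le fun ⟨_, _, _, a, b⟩ => (fam_near a).trans b.pCoreOf_le

theorem nrm_wf {g : X} (h : ∀ A, Cp p S A → Cp p S (cj g A)) : g ∈ 𝐍 (wf p S) := mem_normalizer_of_cj_le (by
  rw [wf, cj_iSup]; exact iSup_le fun A => (cj_Z _ _).le.trans (h _ A.2).le)

theorem Cp.nrm (h : Cp p S B) : B ≤ 𝐍 (wf p S) := fun g hg => nrm_wf fun A hA =>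
  let ⟨_, e⟩ := hA.near h; h.of_near (by simpa only [cj_eq_self_of_mem hg] using e.conj fam_conj g)

theorem nrm_wf' : 𝐍 S ≤ 𝐍 (wf p S) := fun g hg => nrm_wf fun A ⟨n, H, a, b⟩ =>
  ⟨n, _, a.conj fam_conj g, by simpa only [cj_eq_self hg] using b.conj g⟩

theorem big_Z (h : H ∈ fam p X) (hT : IsSylowIn p T H) : Big T T (𝐙 H) := by
  have hV := fam_vx H h
  obtain ⟨q, a1, a2, -⟩ := hV.card hT
  refine (fam_syl h hT).1.big.of_le (hV.Z_le_S hT) ?_
  rw [ms, ms, a1, a2, mul_right_comm]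
  exact Nat.mul_le_mul (Nat.mul_le_mul_left _ (card_le_of_le' (fam_syl h hT).1.Z))
    (card_le_of_le' (le_inf hT.pCoreOf_le hV.Q_le_C))

theorem Cp.big (e : Near p (fam p X) n A H) (h : Cp p S H) (hT : IsSylowIn p T H) :
    ∃ R ≤ wf p S, 𝐙 A ≤ R ∧ Big T T R := by
  induction e generalizing T with
  | refl k => exact ⟨_, h.le, le_rfl, big_Z k hT⟩
  | step e hH h1 h2 ih =>
    obtain ⟨R, a1, a2, a3⟩ := ih (h.of_near (.one e.right hH h1 h2)) h1
    have l := (sup_le a1 h.le).trans h.wf_le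
    refine ⟨_, sup_le a1 h.le, a2.trans le_sup_left, (fam_syl hH hT).1.big.of_le (l.trans hT.pCoreOf_le) ?_⟩
    obtain ⟨g, -, rfl⟩ := h2.exists_conj hT
    rw [ms_map (conj_injective' g)]
    exact ((a3.sup (big_Z hH h2)).max _ le_rfl).trans ((ms_eq h2.pCoreOf_le ((fam_vx _ hH).le_Q h2 inf_le_left
      (inf_le_right.trans (centralizer_anti le_sup_right)))).ge.trans (ms_le hT.pCoreOf_le))

theorem lg_wf (h : Hy p S) : Lg S (S ⊓ 𝐂 (wf p S)) := by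
  have h0 := big_cen h.big
  have h1 := sSup_closed (P := Big S S) (fun _ _ => Big.sup) (S := {R | R ≤ wf p S ⊔ S ⊓ 𝐂 S ∧ Big S S R})
    (fun _ k => k.2) ⟨_, le_sup_right, h0⟩
  have e0 : sSup {R | R ≤ wf p S ⊔ S ⊓ 𝐂 S ∧ Big S S R} = wf p S ⊔ S ⊓ 𝐂 S :=
    le_antisymm (sSup_le fun _ k => k.1) (sup_le (iSup_le fun ⟨A, n, H, a, b⟩ =>
      let ⟨R, a1, a2, a3⟩ := Cp.big a ⟨0, H, .refl a.right, b⟩ b
      a2.trans (le_sSup ⟨a1.trans le_sup_left, a3⟩)) (le_sSup ⟨le_sup_right, h0⟩))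
  rw [e0] at h1
  have e : S ⊓ 𝐂 (wf p S ⊔ S ⊓ 𝐂 S) = S ⊓ 𝐂 (wf p S) := by
    rw [centralizer_sup, inf_comm (𝐂 _), ← inf_assoc, inf_of_le_left (le_centralizer_comm.1 inf_le_right)]
  rw [← e]
  refine ⟨big_cen h1, (big_cc h1).trans (e ▸ sup_le (le_inf wf_le wf_comm) (inf_le_inf_left _ (centralizer_anti wf_le)))⟩

theorem fam_nrm (h : H ∈ fam p X) (hS : IsSylowIn p S H) : H ≤ 𝐍 (S ⊓ 𝐂 (wf p S)) := by
  have c : Cp p S H := ⟨0, H, .refl h, hS⟩
  rw [le_antisymm (le_inf ((fam_vx H h).le_Q hS inf_le_left (inf_le_right.trans (centralizer_anti c.le))) inf_le_right)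
    (inf_le_inf_right _ hS.pCoreOf_le)]
  exact le_normalizer_inf (le_normalizer_pCoreOf p H) (le_normalizer_centralizer c.nrm)

theorem exists_free (X : Type u) [Group X] [Finite X] {N : ℕ} (h : # X ∣ N) :
    ∃ φ : X →* Equiv.Perm (Fin N), ∀ g ω, φ g ω = ω → g = 1 := by
  obtain ⟨k, rfl⟩ := h
  obtain ⟨e⟩ : Nonempty (X × Fin k ≃ Fin (# X * k)) := Finite.card_eq.1 (by simp)
  exact ⟨MonoidHom.mk' (fun g => e.permCongr ((Equiv.mulLeft g).prodCongr (Equiv.refl _))) fun a b => by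
    ext; simp [Prod.map_map, Function.comp_def], fun g ω k => by
    obtain ⟨⟨x, i⟩, rfl⟩ := e.surjective ω
    simpa using k⟩

theorem card_le_of_charP (h : IsCharP p (⊤ : Subgroup X)) (hS : IsSylowIn p S ⊤) : # X ≤ # S * (# S).factorial := by
  haveI : (𝐐 (⊤ : Subgroup X)).Normal := normal_iff_top_le.2 (le_normalizer_pCoreOf p ⊤)
  let φ := (MulAut.toPerm _).comp (MulAut.conjNormal (H := 𝐐 (⊤ : Subgroup X)))
  have l := card_le_of_le' hS.pCoreOf_le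
  rw [← card_mul_index φ.ker, index_ker]
  refine Nat.mul_le_mul (card_le_of_le' (le_trans (fun g hg => h ⟨trivial, mem_centralizer'.2 fun q hq => ?_⟩)
    hS.pCoreOf_le)) ((card_le_card_group _).trans ((Nat.card_perm).le.trans (Nat.factorial_le l)))
  exact (mul_inv_eq_iff_eq_mul.1 (congrArg Subtype.val (DFunLike.congr_fun hg ⟨q, hq⟩))).symm

end

variable {S : Type u} [Group S] [Finite S] {p : ℕ} [hp : Fact p.Prime] {S₁ S₂ R : Subgroup S}

/-- one of the two subgroups is normal in every rank one group -/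
def Good (p : ℕ) (S₁ S₂ : Subgroup S) : Prop := ∀ (G : Type u) [Group G] [Finite G] (τ : S →* G),
  Function.Injective τ → IsSylowIn p ((⊤ : Subgroup S).map τ) ⊤ → Rk1 p (⊤ : Subgroup G) →
    ⊤ ≤ 𝐍 (S₁.map τ) ∨ ⊤ ≤ 𝐍 (S₂.map τ)

theorem exists_good (h : Hy p (⊤ : Subgroup S)) : ∃ S₂, S₂.Characteristic ∧ Lg ⊤ S₂ ∧ Good p (s1 p ⊤ : Subgroup S) S₂ := by
  have inj : ∀ {G : Type u} [Group G] {φ : G →* Equiv.Perm (Fin (# S * (# S).factorial).factorial)},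
      (∀ g ω, φ g ω = ω → g = 1) → Function.Injective φ := fun h =>
    (injective_iff_map_eq_one _).2 fun g e => h g ⟨0, Nat.factorial_pos _⟩ (by rw [e]; rfl)
  obtain ⟨φ, hφ⟩ := exists_free S (Nat.dvd_factorial Nat.card_pos (Nat.le_mul_of_pos_right _ (Nat.factorial_pos (# S))))
  obtain ⟨S₂, e⟩ := exists_map (inf_le_left : (⊤ : Subgroup S).map φ ⊓ 𝐂 (wf p ((⊤ : Subgroup S).map φ)) ≤ _)
  refine ⟨S₂, char_of_free (inj hφ) hφ ?_, (lg_map (inj hφ)).1 (e ▸ lg_wf (h.map (inj hφ))),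
    fun G _ _ τ h1 h2 h3 => or_iff_not_imp_left.2 fun k => ?_⟩
  · rw [e, MonoidHom.range_eq_map]; exact le_normalizer_inf le_rfl (le_normalizer_centralizer nrm_wf')
  obtain ⟨ψ, hψ⟩ := exists_free G (Nat.dvd_factorial Nat.card_pos ((card_le_of_charP h3.cp h2).trans_eq
    (by rw [card_map' h1, card_top])))
  obtain ⟨σ, hσ⟩ := exists_conj_of_free (ψ.comp τ) φ (fun s ω e => h1 ((hψ _ ω e).trans (map_one τ).symm)) hφ
  have hi : Function.Injective ((MulAut.conj σ).toMonoidHom.comp ψ) := (conj_injective' σ).comp (inj hψ)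
  have e' : ((MulAut.conj σ).toMonoidHom.comp ψ).comp τ = φ := MonoidHom.ext hσ
  refine nrm_of_map hi ?_
  rw [Subgroup.map_map, e', e]
  exact fam_nrm (fam_map ⟨h3, _, h2, h.map h1, map_s1 (p := p) h1 ⊤ ▸ k⟩ hi) (by
    rw [← e', ← Subgroup.map_map]; exact h2.map _)

theorem mcp_eq {X : Type*} [Group X] [Finite X] {T R : Subgroup X} (h : Lg T R) : maxCentralProduct T = ms T R := by
  obtain ⟨R, rfl⟩ := exists_sub h.big.le
  have := lg_iff.1 h
  rw [← show _ = _ from isCentrallyLarge_iff.2 this, card_center_eq, inf_of_le_right this.le]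
  have e := ms_map T.subtype_injective ⊤ R
  rw [map_top_subtype, ms_top] at e
  exact e.symm

theorem char_top (h : S₂.Characteristic) : (S₂.subgroupOf ⊤).Characteristic := characteristic_iff_map_le.2 fun α => by
  rintro _ ⟨x, hx, rfl⟩
  exact characteristic_iff_map_le.1 h ((topEquiv.symm.trans α).trans topEquiv) ⟨x, hx, rfl⟩

theorem char_of (Φ : ∀ {Y : Type u} [Group Y] [Finite Y], Subgroup Y → Subgroup Y)
    (hΦ : ∀ {Y Y' : Type u} [Group Y] [Group Y'] [Finite Y] [Finite Y'] (f : Y →* Y') (A : Subgroup Y),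
      Function.Injective f → (Φ A).map f = Φ (A.map f)) : (Φ (⊤ : Subgroup S)).Characteristic :=
  characteristic_iff_map_eq.2 fun α => by rw [hΦ _ _ α.injective, map_top_of_surjective _ α.surjective]

/-- a pair of characteristic subgroups for pushing up -/
structure GN (p : ℕ) (S₁ S₂ : Subgroup S) : Prop where
  n1 : S₁ ≠ ⊥
  n2 : S₂ ≠ ⊥
  c1 : S₁.Characteristic
  c2 : S₂.Characteristic
  l1 : S₁ ≤ center S
  l2 : S₂ ≤ 𝐂 (zj 0 (⊤ : Subgroup S))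
  c3 : (S₂.subgroupOf (𝐂 (zj 0 (⊤ : Subgroup S)))).Characteristic
  good : Good p S₁ S₂

theorem GN.of_bm (n1 : S₁ ≠ ⊥) (c1 : S₁.Characteristic) (l1 : S₁ ≤ ⊤ ⊓ 𝐂 (⊤ : Subgroup S))
    (h : ∀ (G : Type u) [Group G] [Finite G] (τ : S →* G) (A : Subgroup G), Function.Injective τ →
      IsSylowIn p ((⊤ : Subgroup S).map τ) ⊤ → Vx p (⊤ : Subgroup G) → MaxAb 0 ((⊤ : Subgroup S).map τ) A →
      ¬ A ≤ 𝐐 ⊤ → ⊤ ≤ 𝐍 (S₁.map τ)) : GN p S₁ (𝐂 (zj 0 (⊤ : Subgroup S))) := by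
  have e : 𝐂 (zj 0 (⊤ : Subgroup S)) = bm 0 ⊤ := (top_inf_eq _).symm
  refine ⟨n1, fun k => n1 (le_bot_iff.1 ((l1.trans (inf_le_inf_left _ (centralizer_anti le_top))).trans (e ▸ k).le)),
    c1, e ▸ char_of (fun A => bm 0 A) fun f A hf => map_bm hf A, (l1.trans inf_le_right).trans centralizer_top.le,
    le_rfl, by rw [subgroupOf_self]; infer_instance, fun G _ _ τ h1 h2 h3 => ?_⟩
  rcases h3.cases h2 with k | k | ⟨k, A, a, b⟩
  · exact Or.inl (le_normalizer_of_le_centralizer (le_centralizer_comm.1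
      (((map_mono l1).trans (map_centralizer_inf h1 _ _).le).trans k)))
  · exact Or.inr (by rwa [e, map_bm h1])
  · exact Or.inl (h G τ A h1 h2 k a b)

theorem GN.of_top (hJ : ⊤ ≤ 𝐂 (zj 0 (⊤ : Subgroup S))) (n1 : S₁ ≠ ⊥) (n2 : S₂ ≠ ⊥) (c1 : S₁.Characteristic)
    (c2 : S₂.Characteristic) (l1 : S₁ ≤ ⊤ ⊓ 𝐂 (⊤ : Subgroup S)) (h : Good p S₁ S₂) : GN p S₁ S₂ :=
  ⟨n1, n2, c1, c2, (l1.trans inf_le_right).trans centralizer_top.le, le_top.trans hJ,
    (top_unique hJ).symm ▸ char_top c2, h⟩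

theorem good_of (hJ : ⊤ ≤ 𝐂 (zj 0 (⊤ : Subgroup S))) (l1 : S₁ ≤ ⊤ ⊓ 𝐂 (⊤ : Subgroup S))
    (h : ∀ (G : Type u) [Group G] [Finite G] (τ : S →* G), Function.Injective τ →
      IsSylowIn p ((⊤ : Subgroup S).map τ) ⊤ → Vx p (⊤ : Subgroup G) →
      S₁.map τ ≤ 𝐂 (𝐄 (⊤ : Subgroup G)) ∨ ⊤ ≤ 𝐍 (S₂.map τ)) : Good p S₁ S₂ := fun G _ _ τ h1 h2 h3 => by
  have l := (map_mono l1).trans (map_centralizer_inf h1 _ _).le
  rcases h3.cases' h2 (map_zj h1 ⊤ ▸ map_cen hJ) with k | k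
  · exact Or.inl (le_normalizer_of_le_centralizer (le_centralizer_comm.1 (l.trans k)))
  · exact (h G τ h1 h2 k).imp_left fun e => le_normalizer_of_le_centralizer (h2.pResidualOf_sup.ge.trans
      (sup_le (le_centralizer_comm.1 e) (le_centralizer_comm.1 (l.trans inf_le_right))))

theorem JJ_eq_top (hJ : ⊤ ≤ 𝐂 (zj 0 (⊤ : Subgroup S))) (hR : Mn ⊤ R) (h : ⁅R, R⁆ = ⊥) :
    JJ 0 (⊤ : Subgroup S) = ⊤ ∧ CD (⊤ : Subgroup S) := by
  have h1 := mn_top.1 hR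
  have h2 := h1.cl.sup_JJ
  rw [sup_of_le_right ((h1.iff_maxAb (H28.commutator_eq_bot_iff.1 h)).1 h1).le_JJ] at h2
  have : JJ 0 (⊤ : Subgroup S) = ⊤ := top_unique (hJ.trans ((centralizer_anti fun x hx =>
    mem_omegaOneCenter.2 ⟨h2.le hx, hx, pow_zero x⟩).trans h2.cd.cc.le))
  exact ⟨this, this ▸ h2.cd⟩

theorem gn [Nontrivial S] (hS : IsPGroup p S) :
    (∃ S₁ S₂ : Subgroup S, GN p S₁ S₂ ∧ maxCentralProduct S₂ = maxCentralProduct (𝐂 (zj 0 (⊤ : Subgroup S)))) ∨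
    ⊤ ≤ 𝐂 (zj 0 (⊤ : Subgroup S)) ∧ IsElementaryAbelian p (⊤ ⊓ 𝐂 (⊤ : Subgroup S)) ∧
      (∃ R : Subgroup S, Mn ⊤ R ∧ ⁅R, R⁆ = ⊥) ∧ s0 p (⊤ : Subgroup S) = ⊥ := by
  have hT := hS.to_subgroup ⊤
  have ne : ∀ (N : Subgroup S) [N.Normal], N ≠ ⊥ → ⊤ ⊓ 𝐂 (⊤ : Subgroup S) ⊓ N ≠ ⊥ := fun N _ h => by
    rw [top_inf_eq, inf_comm]; exact inf_centralizer_ne_bot hT (hS.to_subgroup N) (le_normalizer_of_normal' _ _) h
  have cZ : (⊤ ⊓ 𝐂 (⊤ : Subgroup S)).Characteristic := char_of (fun A => A ⊓ 𝐂 A) fun f A hf => map_centralizer_inf hf A A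
  by_cases hJ : ⊤ ≤ 𝐂 (zj 0 (⊤ : Subgroup S))
  swap
  · haveI := char_of (S := S) (fun A => zj 0 A) fun f A hf => map_zj hf A
    refine Or.inl ⟨_, _, GN.of_bm (ne ⁅zj 0 ⊤, ⊤⁆ fun e => hJ (commutator_eq_bot_iff'.1 e)) inferInstance inf_le_left
      fun G _ _ τ A h1 h2 h3 h4 h5 => ?_, rfl⟩
    rw [Subgroup.map_inf _ _ _ h1, map_centralizer_inf h1, map_commutator, map_zj h1]
    exact le_normalizer_of_le_centralizer (h2.pResidualOf_sup.ge.trans (sup_le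
      (le_centralizer_comm.1 (inf_le_right.trans (h3.comm_zj_le h2 (dvd_zero p) h4 h5)))
      (le_centralizer_comm.1 (inf_le_left.trans inf_le_right))))
  by_cases hZ : IsElementaryAbelian p (⊤ ⊓ 𝐂 (⊤ : Subgroup S))
  swap
  · refine Or.inl ⟨_, _, GN.of_bm (S₁ := powerClosure p 1 (⊤ ⊓ 𝐂 (⊤ : Subgroup S))) (fun e => hZ
      (isElementaryAbelian_iff.2 ⟨inf_le_right.trans (centralizer_anti inf_le_left), fun a ha => by
        simpa using e.le (mem_pc ha)⟩)) (char_of (fun A => powerClosure p 1 (A ⊓ 𝐂 A)) fun f A hf => by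
          rw [map_pc, map_centralizer_inf hf]) (pc_le.2 fun x hx => pow_mem hx _) fun G _ _ τ A h1 h2 h3 h4 h5 => ?_, rfl⟩
    have n := le_normalizer_pCoreOf p (⊤ : Subgroup G)
    rw [map_pc, map_centralizer_inf h1, h3.pc_eq h2 h4 h5]
    exact nrm_pc (le_normalizer_inf n (le_normalizer_centralizer n))
  have key : ∀ {S₂ : Subgroup S}, Lg ⊤ S₂ → S₂ ≠ ⊥ ∧
      maxCentralProduct S₂ = maxCentralProduct (𝐂 (zj 0 (⊤ : Subgroup S))) := fun h =>
    ⟨fun e => center_ne_bot hT top_ne_bot (le_bot_iff.1 (((inf_le_inf_left _ (centralizer_anti le_top)).trans h.le).trans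
      e.le)), by rw [top_unique hJ, mcp_eq h, mcp_eq (h.down le_rfl le_top), ms_eq le_top h.le]⟩
  obtain ⟨R, hR⟩ := exists_mn (⊤ : Subgroup S)
  by_cases h : ⁅R, R⁆ = ⊥
  swap
  · haveI : ⁅R, R⁆.Characteristic := characteristic_iff_map_eq.2 fun α => by
      rw [map_commutator]
      refine Mn.comm_eq ?_ hR
      rw [← map_top_of_surjective α.toMonoidHom α.surjective]
      exact (mn_map α.injective).2 hR
    have := key (lg_top.2 (smcl_top (X := S) ▸ cl_minimalCentrallyLargeJoin S))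
    refine Or.inl ⟨_, _, GN.of_top hJ (ne _ h) this.1 inferInstance (char_of (fun A => smcl A)
      fun f A hf => map_smcl hf A) inf_le_left (good_of hJ inf_le_left fun G _ _ τ h1 h2 h3 => ?_), this.2⟩
    rw [map_smcl h1]
    exact (h3.mn_cases h2 ((mn_map h1).2 hR)).imp_left fun k =>
      ((map_mono inf_le_right).trans (map_commutator _ _ _).le).trans k
  by_cases h0 : s0 p (⊤ : Subgroup S) = ⊥
  · exact Or.inr ⟨hJ, hZ, ⟨R, hR, h⟩, h0⟩
  obtain ⟨S₂, a1, a2, a3⟩ := exists_good (p := p) ⟨hJ, le_omegaOneCenter inf_le_left inf_le_right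
    (isElementaryAbelian_iff.1 hZ).2, cd_iff_big.1 (JJ_eq_top hJ hR h).2⟩
  haveI := char_of (S := S) (fun A => s0 p A) fun f A _ => map_s0 f A
  exact Or.inl ⟨_, _, GN.of_top hJ (ne _ h0) (key a2).1 inferInstance a1 inf_le_left a3, (key a2).2⟩

theorem zj_top : thompsonSubgroupA S ⊓ 𝐂 (thompsonSubgroupA S) = zj 0 ⊤ := by
  rw [thompsonSubgroupA_eq]; ext x; simp [zj, mem_omegaOneCenter]

theorem Good.sit (h : Good p S₁ S₂) (G : Type u) [Group G] [Finite G] (P : Subgroup G) (e : S ≃* P)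
    (hP : IsPushingUpSituation p P) :
    (S₁.map (P.subtype.comp e.toMonoidHom)).Normal ∨ (S₂.map (P.subtype.comp e.toMonoidHom)).Normal := by
  obtain ⟨h1, h2⟩ := rk1_of_sit hP
  refine (h G _ (P.subtype_injective.comp e.injective) ?_ h1).imp normal_iff_top_le.2 normal_iff_top_le.2
  rwa [← Subgroup.map_map, map_top_of_surjective _ e.surjective, map_top_subtype]

theorem gn_comm [Nontrivial S] (h : IsMulCommutative S) : GN p (⊤ : Subgroup S) ⊤ := by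
  have : ∀ A : Subgroup S, ⊤ ≤ 𝐂 A := fun A x _ => mem_centralizer'.2 fun y _ => h.1.1 y x
  exact GN.of_top (this _) top_ne_bot top_ne_bot inferInstance inferInstance (le_inf le_rfl (this _))
    fun G _ _ τ h1 h2 h3 => (h3.ne h2 ((le_inf le_rfl (map_cen (this _))).trans (h3.cp.center_le h2))).elim

theorem exc [Nontrivial S] (hS : IsPGroup p S) (hJ : ⊤ ≤ 𝐂 (zj 0 (⊤ : Subgroup S)))
    (hZ : IsElementaryAbelian p (⊤ ⊓ 𝐂 (⊤ : Subgroup S))) (hR : Mn ⊤ R) (h : ⁅R, R⁆ = ⊥)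
    (h0 : s0 p (⊤ : Subgroup S) = ⊥) :
    (thompsonSubgroupA S = ⊤ ∧ IsElementaryAbelian p (center S) ∧ IsElementaryAbelian p (frattini S) ∧
      (p = 2 → frattini S ≤ center S) ∧ (p = 3 → frattini S ≤ Subgroup.upperCentralSeries S 2) ∧
      (3 < p → frattini S ≤ center S ∧ Monoid.exponent S = p)) ∧
    ∀ A ∈ maxAbelianSubgroups S, ∀ B ∈ maxAbelianSubgroups S, ∀ Q : Subgroup S,
      # A ^ 2 = # S * # (center S) ∧ # Q * # (center Q) ≤ # S * # (center S) ∧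
      ((A ⊔ B : Subgroup S) : Set S) = (A : Set S) * (B : Set S) ∧ A ⊔ B = 𝐂 (A ⊓ B) := by
  obtain ⟨h1, h2⟩ := JJ_eq_top hJ hR h
  have ea : ph p (ph p (⊤ : Subgroup S)) ≤ ⊥ → IsElementaryAbelian p (ph p (⊤ : Subgroup S)) := fun e =>
    isElementaryAbelian_iff.2 ⟨H28.commutator_eq_bot_iff.1 (le_bot_iff.1 (ph_le_iff.1 e).1), (ph_le_iff.1 e).2⟩
  have cz : ∀ {A : Subgroup S}, ⁅A, ⊤⁆ ≤ ⊥ → A ≤ center S := fun e =>
    (H28.commutator_eq_bot_iff.1 (le_bot_iff.1 e)).trans centralizer_top.le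
  rw [top_inf_eq, centralizer_top] at hZ
  rw [thompsonSubgroupA_eq, frattini_eq_ph hS]
  refine ⟨⟨h1, hZ, ?_⟩, fun A hA B hB Q => ?_⟩
  · unfold s0 at h0
    split_ifs at h0 with a1 a2 <;> obtain ⟨b1, b2⟩ := sup_le_iff.1 h0.le
    · exact ⟨ea b2, fun _ => cz b1, by omega, by omega⟩
    · exact ⟨ea b2, by omega, fun _ x hx => Subgroup.mem_upperCentralSeries_succ_iff.2 fun y =>
        (Subgroup.upperCentralSeries_one S).ge (cz b1 (commutator_mem_commutator hx trivial)), by omega⟩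
    · refine ⟨ea_of_le hZ (cz b1), by omega, by omega, fun _ => ⟨cz b1, ?_⟩⟩
      refine ((Nat.dvd_prime hp.out).1 (Monoid.exponent_dvd_iff_forall_pow_eq_one.2 fun x => ?_)).resolve_left
        Monoid.one_lt_exponent.ne'
      simpa using b2 (mem_pc (mem_top x))
  have k : ∀ {A : Subgroup S}, A ∈ maxAbelianSubgroups S → CD A ∧ 𝐂 A = A := fun hA =>
    ⟨(((mn_top.1 hR).iff_maxAb (H28.commutator_eq_bot_iff.1 h)).2 (mem_maxAbelian_iff.1 hA)).cl.cd,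
      by simpa using (mem_maxAbelian_iff.1 hA).inf_centralizer_eq⟩
  refine ⟨?_, ?_, Set.Subset.antisymm (fun g hg => ?_) ?_, by rw [(k hA).1.centralizer_inf (k hB).1, (k hA).2, (k hB).2]⟩
  · simpa only [(k hA).2, card_top, centralizer_top, pow_two] using (k hA).1.ms_eq h2
  · have := h2 Q
    rw [card_top, centralizer_top] at this
    exact (Nat.mul_le_mul_left _ ((card_center_eq Q).le.trans (card_le_of_le' inf_le_right))).trans this
  · obtain ⟨a, ha, b, hb, rfl⟩ := (k hA).1.permutes (k hB).1 g hg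
    exact Set.mul_mem_mul ha hb
  · rintro _ ⟨a, ha, b, hb, rfl⟩; exact mul_mem_sup ha hb

end H29.PU
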