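import Cfsg.Agent.H0.TRP
import Cfsg.Agent.H11.Order3

/-! Generated by tools/h0/tr.py. -/

set_option maxRecDepth 100000
set_option maxHeartbeats 0

namespace H29.D4m
open H16 H0.TR
open scoped commutatorElement

noncomputable def Pd : List ℕ := [nat_lit 0x992e549911e7ce9b0e14180fdf468b11d3970ddb357af1dae5ab1a3364c582f4a911ab54a54274c70d9a448501f3c74c982e58a9426488901e3868c16284880e182840608080,
  nat_lit 0x93223cf9d3664b9501fbe8d162438505bb66af5e3b74e5c3160bd72d58d19b2509d325488d5aa527cf1d386cd224280c982e58a9426488901e3868c16284880e182840608080,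
  nat_lit 0x3260bb160be4c88e4078e509d3407ef83860a7cf1d6ed9acf9d34b1528b96ac8d1620d182d2a446f5e3b080c11c3669a3365325ca26488ab54a61c28228488448503a72e0080,
  nat_lit 0x68cd9162a524c88ead5291a305c07ef912140101826ed9a99305e64b94b96ac203c74385052a4461c30574e5c1c366a7ce9ac582f26488c68b114274c284887af1d9f3c74080,
  nat_lit 0x9d367cb95324479312345830e13e80fdebc76e9cb86ed9ab364d182f62b562e52ad526509d1a548890a03e78e9c3668c173254a16244498e203c58d18205090e182840608080,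
  nat_lit 0x9b3e74a992e3c9911624685061bf7d01ebc76e9cb86ed9ab268cd7b160b172d54a55a74ca12234a890a03e78e9c3668b993050b15224c90f1c4060b1a2440a0e182840608080,
  nat_lit 0x8f2644d9f3a54c971a2c4870a0c07ef9cb874d9ab778edeb466c98b05eb96ac4e9942446955295668e1b408909d3e78a942c48893305cc8814247101e2c68c0e182840608080,
  nat_lit 0x972a6488f2674d9f1a2c4870a0c07ef9ab76cedebc70e9cb466c98b05eb96ac469522956a93284e78e9f3668e214088893245cc982858a8c1634488143c7100e182840608080,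
  nat_lit 0x7b166ba8529bbf8f3de4498e60c96cfa34e770e5b88121aa254c8fa75e7122c68854b13c9971b46ad9a050c0ea55a6838f2e1061402248990c38b03164c008206028d2a08512,
  nat_lit 0x8cf26c3732a0368ef6744752e0b790fa7c5773213892fdaab42c941e5e94dac44cd49f6098e2d46d1520629ceae48688062e34194140088730382151604908323c2961808989]
noncomputable def P (k u : ℕ) : ℕ := Nat.land (Nat.shiftRight (nth (nat_lit 0) Pd k) (Nat.mul u (nat_lit 7))) (nat_lit 127)
noncomputable def B : List ℕ := [nat_lit 0, nat_lit 8, nat_lit 2, nat_lit 26]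
def Ms : List (List ℕ) := [[1, 0, 0, 0, 0, 1, 0, 1, 0, 0, 1, 0, 0, 0, 0, 1], [1, 0, 0, 0, 0, 1, 0, 2, 0, 0, 1, 0, 0, 0, 0, 1], [1, 0, 0, 0, 0, 1, 0, 0, 0, 0, 1, 0, 0, 2, 0, 1], [1, 0, 0, 0, 0, 1, 0, 0, 0, 0, 1, 0, 0, 1, 0, 1], [1, 0, 1, 0, 0, 1, 0, 0, 0, 0, 1, 0, 0, 0, 0, 1], [1, 0, 2, 0, 0, 1, 0, 0, 0, 0, 1, 0, 0, 0, 0, 1], [1, 0, 1, 1, 0, 1, 1, 1, 0, 0, 1, 0, 0, 0, 0, 1], [1, 0, 2, 2, 0, 1, 2, 2, 0, 0, 1, 0, 0, 0, 0, 1], [1, 0, 0, 0, 0, 1, 0, 0, 2, 0, 1, 0, 0, 0, 0, 1], [1, 0, 0, 0, 0, 1, 0, 0, 1, 0, 1, 0, 0, 0, 0, 1]]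
noncomputable def l0Dd : ℕ := nat_lit 0xbeabea6a919a65e74dd2729bf6d9ad6b17159d5352d494d12a4650e429053e8f33c8e93a0df378d5350c62fcbc2d0b02aca023c8e22c85210811ec7a1d8711c0671985d170571584d130440fc3e0d4340c02f0b8250901b06819060110400f0380902000
noncomputable def l0D (u : ℕ) : ℕ := Nat.land (Nat.shiftRight l0Dd (Nat.mul u (nat_lit 10))) (nat_lit 1023)
noncomputable def l0Pd : ℕ := nat_lit 0x414eb834d5b3b6e80e1b5a85e397e7913d591e4495cd27cb60ce74a5eea01f4a911be829832a8a0e1270eae3329b318992a60a0486a14c4022c78c205cb11263470a1048480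
noncomputable def l0P (u : ℕ) : ℕ := Nat.land (Nat.shiftRight l0Pd (Nat.mul u (nat_lit 7))) (nat_lit 127)
noncomputable def l0Qd : ℕ := nat_lit 0x6ac4d9a68c1c39747519026853ad7ea1e4190ba04c8f265366470cb35ede1bb3c9089240995aa52f614658fa6c5892cc161424b950e0840b1a1430c1c100833e96714453c780
noncomputable def l0Q (u : ℕ) : ℕ := Nat.land (Nat.shiftRight l0Qd (Nat.mul u (nat_lit 7))) (nat_lit 127)
noncomputable def l0 : Lev := ⟨80, 10, l0D, l0P, l0Q⟩
noncomputable def l1Dd : ℕ := nat_lit 0x81615856514843423b3a33322b2a23221b1a17160f0e0706050400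
noncomputable def l1D (u : ℕ) : ℕ := Nat.land (Nat.shiftRight l1Dd (Nat.mul u (nat_lit 8))) (nat_lit 255)
noncomputable def l1Pd : ℕ := nat_lit 0xf9fa4469604350a62414caa2c24eae30d1c2c78c2024508
noncomputable def l1P (u : ℕ) : ℕ := Nat.land (Nat.shiftRight l1Pd (Nat.mul u (nat_lit 7))) (nat_lit 127)
noncomputable def l1Qd : ℕ := nat_lit 0x25b1a3215ce8000000000000000000000053a535bed8b80000000000000000000000329d04304400000000000
noncomputable def l1Q (u : ℕ) : ℕ := Nat.land (Nat.shiftRight l1Qd (Nat.mul u (nat_lit 5))) (nat_lit 31)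
noncomputable def l1 : Lev := ⟨27, 8, l1D, l1P, l1Q⟩
noncomputable def l2Dd : ℕ := nat_lit 0x9250520c40
noncomputable def l2D (u : ℕ) : ℕ := Nat.land (Nat.shiftRight l2Dd (Nat.mul u (nat_lit 5))) (nat_lit 31)
noncomputable def l2Pd : ℕ := nat_lit 0x175ee06b8742
noncomputable def l2P (u : ℕ) : ℕ := Nat.land (Nat.shiftRight l2Pd (Nat.mul u (nat_lit 6))) (nat_lit 63)
noncomputable def l2Qd : ℕ := nat_lit 0xa020300000000000000040080c0000000000000038000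
noncomputable def l2Q (u : ℕ) : ℕ := Nat.land (Nat.shiftRight l2Qd (Nat.mul u (nat_lit 3))) (nat_lit 7)
noncomputable def l2 : Lev := ⟨8, 4, l2D, l2P, l2Q⟩
noncomputable def l3Dd : ℕ := nat_lit 4
noncomputable def l3D (u : ℕ) : ℕ := Nat.land (Nat.shiftRight l3Dd (Nat.mul u (nat_lit 1))) (nat_lit 1)
noncomputable def l3Pd : ℕ := nat_lit 0x1d81a
noncomputable def l3P (u : ℕ) : ℕ := Nat.land (Nat.shiftRight l3Pd (Nat.mul u (nat_lit 6))) (nat_lit 63)
noncomputable def l3Qd : ℕ := nat_lit 0x10800000000000000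
noncomputable def l3Q (u : ℕ) : ℕ := Nat.land (Nat.shiftRight l3Qd (Nat.mul u (nat_lit 2))) (nat_lit 3)
noncomputable def l3 : Lev := ⟨3, 2, l3D, l3P, l3Q⟩
abbrev Sp := Matrix.symplecticGroup (Fin 2) (ZMod 3)
abbrev V := Fin 2 ⊕ Fin 2 → ZMod 3
instance instAct : MulAction Sp V where
  smul x v := x.1.mulVec v
  one_smul v := Matrix.one_mulVec v
  mul_smul x y v := (Matrix.mulVec_mulVec v x.1 y.1).symm
def ix : Fin 2 ⊕ Fin 2 → ℕ := Sum.elim (·.1) (·.1 + 2)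
def mk (k : ℕ) : Matrix (Fin 2 ⊕ Fin 2) (Fin 2 ⊕ Fin 2) (ZMod 3) :=
  Matrix.of fun i j => (((Ms.getD k []).getD (4 * ix i + ix j) 0 : ℕ) : ZMod 3)
def pt (i : ℕ) : V := fun a => (((i + 1) / 3 ^ ix a : ℕ) : ZMod 3)

theorem l0_e_0 : allZ (dent l0 P (nat_lit 80)) (nat_lit 0) (nat_lit 79) = true := by decide +kernel
theorem l0_h : 0 < l0.n ∧ 0 < l0.K ∧ l0.Pt 0 < 80 ∧ l0.Q (l0.Pt 0) = 0 := by decide +kernel
theorem l1_e_0 : allZ (dent l1 P (nat_lit 80)) (nat_lit 0) (nat_lit 26) = true := by decide +kernel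
theorem l1_h : 0 < l1.n ∧ 0 < l1.K ∧ l1.Pt 0 < 80 ∧ l1.Q (l1.Pt 0) = 0 := by decide +kernel
theorem l2_e_0 : allZ (dent l2 P (nat_lit 80)) (nat_lit 0) (nat_lit 7) = true := by decide +kernel
theorem l2_h : 0 < l2.n ∧ 0 < l2.K ∧ l2.Pt 0 < 80 ∧ l2.Q (l2.Pt 0) = 0 := by decide +kernel
theorem l3_e_0 : allZ (dent l3 P (nat_lit 80)) (nat_lit 0) (nat_lit 2) = true := by decide +kernel
theorem l3_h : 0 < l3.n ∧ 0 < l3.K ∧ l3.Pt 0 < 80 ∧ l3.Q (l3.Pt 0) = 0 := by decide +kernel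
theorem mem : ∀ k < 10, mk k * Matrix.J (Fin 2) (ZMod 3) * (mk k).transpose = Matrix.J (Fin 2) (ZMod 3) := by decide +kernel
theorem act0 : ∀ k < 10, ∀ i < 80, P k i < 80 ∧ (mk k).mulVec (pt i) = pt (P k i) := by decide +kernel
theorem inj : PtInj pt 80 := by unfold PtInj; decide +kernel

theorem l0_e : ∀ i < 79, (dent l0 P (nat_lit 80)) i = 0 := allZ_sound0 l0_e_0
theorem l0_ok : DOK l0 P 80 := ⟨l0_h, l0_e⟩
theorem l1_e : ∀ i < 26, (dent l1 P (nat_lit 80)) i = 0 := allZ_sound0 l1_e_0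
theorem l1_ok : DOK l1 P 80 := ⟨l1_h, l1_e⟩
theorem l2_e : ∀ i < 7, (dent l2 P (nat_lit 80)) i = 0 := allZ_sound0 l2_e_0
theorem l2_ok : DOK l2 P 80 := ⟨l2_h, l2_e⟩
theorem l3_e : ∀ i < 2, (dent l3 P (nat_lit 80)) i = 0 := allZ_sound0 l3_e_0
theorem l3_ok : DOK l3 P 80 := ⟨l3_h, l3_e⟩
noncomputable def g (k : ℕ) : Sp := if h : k < 10 then ⟨mk k, SymplecticGroup.mem_iff.2 (mem k h)⟩ else 1
theorem act : Act g pt P 80 10 := fun k hk i hi => by rw [g, dif_pos hk]; exact act0 k hk i hi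
theorem low : SLow (gi g) pt 80 [l0, l1, l2, l3] :=
  (((SLow.nil.cons l3_ok act (by decide +kernel)).cons l2_ok act (by decide +kernel)).cons l1_ok act
    (by decide +kernel)).cons l0_ok act (by decide +kernel)
theorem card : Nat.card Sp = 51840 := by rw [H11.card_sp]; decide +kernel
theorem cc : chainCard [l0, l1, l2, l3] = 51840 ∧ chainBase [l0, l1, l2, l3] = B := by decide +kernel
theorem md : Md g pt P 80 10 B 51840 := by
  have top : gen (gi g) 10 = ⊤ := Subgroup.eq_top_of_le_card _ (card.le.trans (cc.1.ge.trans (low.card_ge inj)))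
  exact ⟨act, inj, gen_gi g 10 ▸ top, card, inferInstance, top ▸ cc.2 ▸
    (low.isChain inj ((Subgroup.card_le_card_group _).trans (card.trans cc.1.symm).le)).isBase inj,
    by decide +kernel⟩

end H29.D4m
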