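import Cfsg.Agent.H29.D4m
import Cfsg.Agent.H1.Am1

/-! Generated by tools/h0/tr.py. -/

set_option maxRecDepth 100000
set_option maxHeartbeats 0

namespace H29.D4s
open H16 H0.TR
open scoped commutatorElement

noncomputable def p2t_W : List (List ℕ) := [[nat_lit 0, nat_lit 3, nat_lit 0, nat_lit 3, nat_lit 4, nat_lit 9, nat_lit 4, nat_lit 9],
  [nat_lit 1, nat_lit 7, nat_lit 2, nat_lit 8, nat_lit 4, nat_lit 7, nat_lit 2, nat_lit 9, nat_lit 6],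
  [nat_lit 0, nat_lit 7, nat_lit 2, nat_lit 0, nat_lit 9, nat_lit 6, nat_lit 2, nat_lit 9, nat_lit 7],
  [nat_lit 0, nat_lit 3, nat_lit 4, nat_lit 8, nat_lit 4],
  [nat_lit 1, nat_lit 4, nat_lit 6, nat_lit 2, nat_lit 9, nat_lit 6, nat_lit 3, nat_lit 0],
  [nat_lit 1, nat_lit 2, nat_lit 8, nat_lit 5],
  [nat_lit 0, nat_lit 2, nat_lit 0, nat_lit 6, nat_lit 3, nat_lit 8, nat_lit 6, nat_lit 2, nat_lit 0]]
noncomputable def p2t_P : ℕ → ℕ → ℕ := wdsP H29.D4m.P p2t_W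
noncomputable def p2Pd : List ℕ := [nat_lit 0x8608a379f7689e9aa59a46195db71a5b5db8df3d32f3dffeebbe6dbacc31beb30b38d24a21349551044f0c40861c5001,
  nat_lit 0x56adcdc066d3f4b80362d9bb45dc8803e50e8b11dc4a7335119ba4e4f7b3241fe9e23bc56a8f21d825ec97a41fd0a5ab,
  nat_lit 0xb877f69bd55c123d2aed3671061e0a465f2d19ed4ea7a6c38b3328fd063000974d9145ac1722f949aac2837227f8f5ef,
  nat_lit 0x4c4d3b8ea70c0f3ea2a5b2d20b2e6b69f9951f6f6e7a5386d7cb5d91635416ce3185929107fc28609400dfebe09d720f,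
  nat_lit 0x1f9e1622dab74c9ba117a2aca601bb49b467382fdfae80dd70fd44f9e690d8d96ff405336620745e62f0572624331f23,
  nat_lit 0xcba1cd660a39d141a7621cfbace5455c42dd971dff48391ffb0e0c4c27a65af729bbc04841b8edd8f00a8aa6b5f6c251,
  nat_lit 0x2bba46812b2f53d6739400f5a0fadd7308972f498113641e37e696239a87e2d0a745f3bf6c9e85de14eec6357c60cca4]
noncomputable def p2P (k u : ℕ) : ℕ := Nat.land (Nat.shiftRight (nth (nat_lit 0) p2Pd k) (Nat.mul u (nat_lit 6))) (nat_lit 63)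
noncomputable def p2Ed : ℕ := nat_lit 0x9d3664b93223c6890e1407ef9ebc76e9cb86ad19b05eb96ac56a94264a911a24280f9e3a68c972c50992223c70c16284880e182840608080
noncomputable def p2E (u : ℕ) : ℕ := Nat.land (Nat.shiftRight p2Ed (Nat.mul u (nat_lit 7))) (nat_lit 127)
noncomputable def p2Id : ℕ := nat_lit 0x3ffbdf00efae78037db5034cf2c70beeb6c000aeaa400289e69648e20210207de75c6da6585c00165405130124503c038d00c2ca2481c61440c2040
noncomputable def p2I (u : ℕ) : ℕ := Nat.land (Nat.shiftRight p2Id (Nat.mul u (nat_lit 6))) (nat_lit 63)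
noncomputable def p2B : List ℕ := [nat_lit 0, nat_lit 8, nat_lit 2, nat_lit 22]
noncomputable def p2C : List (List (List ℕ)) := [[[],
  [],
  [],
  [],
  [],
  [],
  []], [[],
  [],
  [],
  [],
  [],
  [nat_lit 0],
  []], [[],
  [],
  [nat_lit 0],
  [nat_lit 0],
  [],
  [nat_lit 0],
  [nat_lit 1]], [[],
  [],
  [],
  [nat_lit 0],
  [nat_lit 1],
  [nat_lit 0],
  [nat_lit 0]], [[],
  [],
  [],
  [],
  [nat_lit 1],
  [nat_lit 0, nat_lit 2],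
  [nat_lit 1]], [[],
  [],
  [],
  [],
  [],
  [nat_lit 0],
  [nat_lit 0, nat_lit 3]], [[],
  [],
  [],
  [],
  [],
  [],
  [nat_lit 0]]]
noncomputable def p2e : List (List ℕ) := [[],
  [],
  [],
  [],
  [],
  [],
  [],
  [],
  [],
  [],
  [],
  [],
  [],
  [],
  [],
  [],
  [],
  [],
  [],
  [],
  [],
  [],
  [],
  [],
  [nat_lit 0, nat_lit 1, nat_lit 2, nat_lit 5],
  [nat_lit 0],
  [nat_lit 0, nat_lit 4],
  [nat_lit 3, nat_lit 4],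
  [nat_lit 0, nat_lit 1, nat_lit 4],
  [nat_lit 0, nat_lit 5],
  [nat_lit 1, nat_lit 3, nat_lit 4],
  [nat_lit 1, nat_lit 2, nat_lit 6]]
noncomputable def p2l0Dd : ℕ := nat_lit 0xcbb4fe5d3bf6f0c615c37f6f86e1bd31b634aed2fa3f43e77d2d23a43a7f4ee9bd3766e8af95e2b84fc8f8f82b65689d11b1fa3ec7d09f13c2703f87e0be26c4d07a0b61681f83e0780f41d83a03e0780e01d0360680c800
noncomputable def p2l0D (u : ℕ) : ℕ := Nat.land (Nat.shiftRight p2l0Dd (Nat.mul u (nat_lit 11))) (nat_lit 2047)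
noncomputable def p2l0Pd : ℕ := nat_lit 0xba4e8cc9b185aa1fb57d380454e2af4025f99627315079ff9a922c774f6d60b0d6df3d8f6abe1e8c9652a3bf11c0d040
noncomputable def p2l0P (u : ℕ) : ℕ := Nat.land (Nat.shiftRight p2l0Pd (Nat.mul u (nat_lit 6))) (nat_lit 63)
noncomputable def p2l0Qd : ℕ := nat_lit 0x8356451bda0d4d1d1a4bb903b3f61c3b778785f9fe2e6db1ccc6e5e8f257a54be3c8812b42e0bc5ad29d8b9e3056a040
noncomputable def p2l0Q (u : ℕ) : ℕ := Nat.land (Nat.shiftRight p2l0Qd (Nat.mul u (nat_lit 6))) (nat_lit 63)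
noncomputable def p2l0 : Lev := ⟨64, 32, p2l0D, p2l0P, p2l0Q⟩
noncomputable def p2l1Dd : ℕ := nat_lit 0x300
noncomputable def p2l1D (u : ℕ) : ℕ := Nat.land (Nat.shiftRight p2l1Dd (Nat.mul u (nat_lit 5))) (nat_lit 31)
noncomputable def p2l1Pd : ℕ := nat_lit 0x2a
noncomputable def p2l1P (u : ℕ) : ℕ := Nat.land (Nat.shiftRight p2l1Pd (Nat.mul u (nat_lit 3))) (nat_lit 7)
noncomputable def p2l1Qd : ℕ := nat_lit 0x20
noncomputable def p2l1Q (u : ℕ) : ℕ := Nat.land (Nat.shiftRight p2l1Qd (Nat.mul u (nat_lit 1))) (nat_lit 1)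
noncomputable def p2l1 : Lev := ⟨2, 25, p2l1D, p2l1P, p2l1Q⟩
noncomputable def cv2r_W : List (List ℕ) := [[nat_lit 0, nat_lit 3, nat_lit 0, nat_lit 3, nat_lit 4, nat_lit 9, nat_lit 4, nat_lit 9],
  [nat_lit 1, nat_lit 7, nat_lit 2, nat_lit 8, nat_lit 4, nat_lit 7, nat_lit 2, nat_lit 9, nat_lit 6],
  [nat_lit 0, nat_lit 7, nat_lit 2, nat_lit 0, nat_lit 9, nat_lit 6, nat_lit 2, nat_lit 9, nat_lit 7],
  [nat_lit 1, nat_lit 4, nat_lit 6, nat_lit 2, nat_lit 9, nat_lit 6, nat_lit 3, nat_lit 0],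
  [nat_lit 0, nat_lit 6, nat_lit 8, nat_lit 6, nat_lit 3, nat_lit 1, nat_lit 6],
  [nat_lit 1, nat_lit 2, nat_lit 4, nat_lit 6, nat_lit 2, nat_lit 8, nat_lit 5, nat_lit 7]]
noncomputable def cv2r_P : ℕ → ℕ → ℕ := wdsP H29.D4m.P cv2r_W
noncomputable def cv2T0 : CT := (.split (.more (.split (.more (.split (.more (.split (.more (.split (.more (.split (.more (.split (.more .one (.more (.leaf (nat_lit 0) []) .one))) (.more (.fuse [nat_lit 5] [] (.leaf (nat_lit 1) [])) .one))) (.more (.fuse [nat_lit 6] [] (.fuse [nat_lit 3] [] (.leaf (nat_lit 2) []))) .one))) (.more (.split (.more (.fuse [nat_lit 4] [] (.fuse [nat_lit 2] [] (.leaf (nat_lit 2) [nat_lit 1, nat_lit 6, nat_lit 2, nat_lit 8, nat_lit 4, nat_lit 7, nat_lit 3]))) (.more (.fuse [nat_lit 4] [] (.fuse [nat_lit 2] [] (.leaf (nat_lit 2) [nat_lit 2, nat_lit 1]))) .one))) .one))) (.more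 (.split (.more (.fuse [nat_lit 5] [nat_lit 0] (.fuse [nat_lit 3] [] (.split (.more (.leaf (nat_lit 3) []) (.more (.leaf (nat_lit 4) []) .one))))) (.more (.fuse [nat_lit 5] [nat_lit 0] (.fuse [nat_lit 3] [] (.fuse [nat_lit 2] [] (.leaf (nat_lit 2) [nat_lit 0, nat_lit 2, nat_lit 0, nat_lit 7])))) .one))) .one))) (.more (.split (.more (.fuse [nat_lit 6] [] (.fuse [nat_lit 4] [nat_lit 0] (.split (.more (.fuse [nat_lit 1] [] (.leaf (nat_lit 2) [nat_lit 7, nat_lit 3, nat_lit 1, nat_lit 8, nat_lit 7])) (.more (.fuse [nat_lit 1] [] (.leaf (nat_lit 1) [nat_lit 2, nat_lit 6, nat_lit 2, nat_lit 8, nat_lit 7, nat_lit 2, nat_lit 7])) .one))))) (.more (.fuse [nat_lit 6] [] (.fuse [nat_lit 4] [nat_lit 0] (.fuse [nat_lit 3] [nat_lit 0] (.fuse [nat_lit 1] [] (.leaf (nat_lit 5) []))))) .one))) .one))) (.more (.split (.more (.split (.more (.fuse [nat_lit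 5] [nat_lit 0] (.split (.more (.fuse [nat_lit 2] [] (.fuse [nat_lit 3] [] (.leaf (nat_lit 2) [nat_lit 6, nat_lit 8, nat_lit 7]))) (.more (.fuse [nat_lit 2] [] (.split (.more (.leaf (nat_lit 3) [nat_lit 1, nat_lit 3, nat_lit 4, nat_lit 7, nat_lit 9, nat_lit 4]) (.more (.leaf (nat_lit 4) [nat_lit 0, nat_lit 2, nat_lit 4, nat_lit 6, nat_lit 8]) .one)))) .one)))) (.more (.fuse [nat_lit 5] [nat_lit 1, nat_lit 2] (.split (.more (.fuse [nat_lit 2] [] (.fuse [nat_lit 2, nat_lit 3] [] (.leaf (nat_lit 2) [nat_lit 0, nat_lit 2, nat_lit 5, nat_lit 7]))) (.more (.fuse [nat_lit 2] [] (.split (.more (.leaf (nat_lit 4) [nat_lit 0, nat_lit 2, nat_lit 4, nat_lit 8]) (.more (.leaf (nat_lit 3) [nat_lit 0, nat_lit 2, nat_lit 1, nat_lit 7, nat_lit 8]) .one)))) .one)))) .one))) (.more (.split (.more (.fuse [nat_lit 5] [] (.fuse [nat_lit 4] [nat_lit 1] (.fuse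 [nat_lit 2] [] (.fuse [nat_lit 1] [] (.leaf (nat_lit 5) [nat_lit 0, nat_lit 2, nat_lit 1, nat_lit 8]))))) (.more (.fuse [nat_lit 5] [nat_lit 0, nat_lit 1, nat_lit 2] (.fuse [nat_lit 4] [nat_lit 1] (.fuse [nat_lit 2] [] (.fuse [nat_lit 1] [] (.leaf (nat_lit 5) [nat_lit 2, nat_lit 4, nat_lit 6, nat_lit 3, nat_lit 8, nat_lit 6, nat_lit 3]))))) .one))) .one))) .one)))
noncomputable def x2_2_W : List (List ℕ) := [[nat_lit 0, nat_lit 7, nat_lit 2, nat_lit 0, nat_lit 9, nat_lit 6, nat_lit 2, nat_lit 9, nat_lit 7]]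
noncomputable def x2_2_P : ℕ → ℕ → ℕ := wdsP H29.D4m.P x2_2_W
noncomputable def t2_2h_W : List (List ℕ) := [[nat_lit 4],
  [nat_lit 5],
  [nat_lit 1, nat_lit 2, nat_lit 0],
  [nat_lit 2, nat_lit 5, nat_lit 6, nat_lit 3],
  [nat_lit 0],
  [nat_lit 1],
  [nat_lit 2],
  [nat_lit 3],
  [nat_lit 6],
  [nat_lit 7],
  [nat_lit 8],
  [nat_lit 9],
  [nat_lit 0, nat_lit 2, nat_lit 5, nat_lit 7, nat_lit 8, nat_lit 7]]
noncomputable def t2_2h_P : ℕ → ℕ → ℕ := wdsP H29.D4m.P t2_2h_W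
noncomputable def t2_2l0Dd : ℕ := nat_lit 0x9233bc2329b1ed39b693815de6ac67a391c43d023d0db39d55135213e899230734bcb027c19214fb3b8af28cab31c95220631789e2e8871b8772186d1b06015c3e17c561283d144490f030110370bc5c0a85b08c220581d054100301b0680e0340b02800
noncomputable def t2_2l0D (u : ℕ) : ℕ := Nat.land (Nat.shiftRight t2_2l0Dd (Nat.mul u (nat_lit 10))) (nat_lit 1023)
noncomputable def t2_2l0Pd : ℕ := nat_lit 0x4d5d857069b9d7485ca0441819f7a6c3c96d227843cf16328e7272e813664a7ca25a786d15b355056c27e98c815254c0b5e5078c63188248894b961ac0745464498a1048480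
noncomputable def t2_2l0P (u : ℕ) : ℕ := Nat.land (Nat.shiftRight t2_2l0Pd (Nat.mul u (nat_lit 7))) (nat_lit 127)
noncomputable def t2_2l0Qd : ℕ := nat_lit 0x72c572d52b1e3a664840f4e8112f3eadfb69b1e2cb92ee72648d098a2ec10b54a8cdaa50787100f0e34480de4327d28e991a30d160a083112a2459430100837b0a638833ce00
noncomputable def t2_2l0Q (u : ℕ) : ℕ := Nat.land (Nat.shiftRight t2_2l0Qd (Nat.mul u (nat_lit 7))) (nat_lit 127)
noncomputable def t2_2l0 : Lev := ⟨80, 13, t2_2l0D, t2_2l0P, t2_2l0Q⟩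
noncomputable def t2_2l1Dd : ℕ := nat_lit 0x935d6a497c4227261d1c1317120d16220c09080706050400
noncomputable def t2_2l1D (u : ℕ) : ℕ := Nat.land (Nat.shiftRight t2_2l1Dd (Nat.mul u (nat_lit 8))) (nat_lit 255)
noncomputable def t2_2l1Pd : ℕ := nat_lit 0x1877a18846dfdfcf5ce4369d0bad85838d7b
noncomputable def t2_2l1P (u : ℕ) : ℕ := Nat.land (Nat.shiftRight t2_2l1Pd (Nat.mul u (nat_lit 6))) (nat_lit 63)
noncomputable def t2_2l1Qd : ℕ := nat_lit 0x1ae01962794200000000000000000000004e838550c8a40000000000000000000000b5c9251c00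
noncomputable def t2_2l1Q (u : ℕ) : ℕ := Nat.land (Nat.shiftRight t2_2l1Qd (Nat.mul u (nat_lit 5))) (nat_lit 31)
noncomputable def t2_2l1 : Lev := ⟨24, 10, t2_2l1D, t2_2l1P, t2_2l1Q⟩
noncomputable def t2_2l2Dd : ℕ := nat_lit 0x1b9bd6730c40
noncomputable def t2_2l2D (u : ℕ) : ℕ := Nat.land (Nat.shiftRight t2_2l2Dd (Nat.mul u (nat_lit 5))) (nat_lit 31)
noncomputable def t2_2l2Pd : ℕ := nat_lit 0x22103df6d61802
noncomputable def t2_2l2P (u : ℕ) : ℕ := Nat.land (Nat.shiftRight t2_2l2Pd (Nat.mul u (nat_lit 6))) (nat_lit 63)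
noncomputable def t2_2l2Qd : ℕ := nat_lit 0x54300000000000000000082100000000000000000000000000076000
noncomputable def t2_2l2Q (u : ℕ) : ℕ := Nat.land (Nat.shiftRight t2_2l2Qd (Nat.mul u (nat_lit 4))) (nat_lit 15)
noncomputable def t2_2l2 : Lev := ⟨9, 4, t2_2l2D, t2_2l2P, t2_2l2Q⟩
noncomputable def t2_2l3Dd : ℕ := nat_lit 4
noncomputable def t2_2l3D (u : ℕ) : ℕ := Nat.land (Nat.shiftRight t2_2l3Dd (Nat.mul u (nat_lit 1))) (nat_lit 1)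
noncomputable def t2_2l3Pd : ℕ := nat_lit 0x4e51
noncomputable def t2_2l3P (u : ℕ) : ℕ := Nat.land (Nat.shiftRight t2_2l3Pd (Nat.mul u (nat_lit 5))) (nat_lit 31)
noncomputable def t2_2l3Qd : ℕ := nat_lit 0x9000000000
noncomputable def t2_2l3Q (u : ℕ) : ℕ := Nat.land (Nat.shiftRight t2_2l3Qd (Nat.mul u (nat_lit 2))) (nat_lit 3)
noncomputable def t2_2l3 : Lev := ⟨3, 2, t2_2l3D, t2_2l3P, t2_2l3Q⟩
noncomputable def c2_2e_W : List (List ℕ) := [[nat_lit 1, nat_lit 3, nat_lit 0, nat_lit 5],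
  [nat_lit 2, nat_lit 5, nat_lit 8, nat_lit 4],
  [nat_lit 1, nat_lit 2, nat_lit 7, nat_lit 3, nat_lit 8, nat_lit 5, nat_lit 7, nat_lit 9]]
noncomputable def c2_2e_P : ℕ → ℕ → ℕ := wdsP H29.D4m.P c2_2e_W
noncomputable def c2_2c2Dd : ℕ := nat_lit 4
noncomputable def c2_2c2D (u : ℕ) : ℕ := Nat.land (Nat.shiftRight c2_2c2Dd (Nat.mul u (nat_lit 1))) (nat_lit 1)
noncomputable def c2_2c2Pd : ℕ := nat_lit 0x20d42
noncomputable def c2_2c2P (u : ℕ) : ℕ := Nat.land (Nat.shiftRight c2_2c2Pd (Nat.mul u (nat_lit 6))) (nat_lit 63)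
noncomputable def c2_2c2Qd : ℕ := nat_lit 0x400000000020000000000000000
noncomputable def c2_2c2Q (u : ℕ) : ℕ := Nat.land (Nat.shiftRight c2_2c2Qd (Nat.mul u (nat_lit 2))) (nat_lit 3)
noncomputable def c2_2c2 : Lev := ⟨3, 1, c2_2c2D, c2_2c2P, c2_2c2Q⟩
noncomputable def t2_2n0Fd : ℕ := nat_lit 0x288c040
noncomputable def t2_2n0F (u : ℕ) : ℕ := Nat.land (Nat.shiftRight t2_2n0Fd (Nat.mul u (nat_lit 3))) (nat_lit 7)
noncomputable def t2_2n0 : Nd := ⟨t2_2n0F, (nat_lit 2), (nat_lit 1), [], [((nat_lit 0), []), ((nat_lit 0), [nat_lit 0])], []⟩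
noncomputable def c2_2c0Dd : ℕ := nat_lit 0x95120be8ad592946cd8202e9d0911c6ca8b103c60a0a243040608080
noncomputable def c2_2c0D (u : ℕ) : ℕ := Nat.land (Nat.shiftRight c2_2c0Dd (Nat.mul u (nat_lit 7))) (nat_lit 127)
noncomputable def c2_2c0Pd : ℕ := nat_lit 0x1d0d9a49279ea02869a9d772c2823e4973c702c9812e2559110fc500
noncomputable def c2_2c0P (u : ℕ) : ℕ := Nat.land (Nat.shiftRight c2_2c0Pd (Nat.mul u (nat_lit 7))) (nat_lit 127)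
noncomputable def c2_2c0Qd : ℕ := nat_lit 0x9036000000f00001032c9800b002a0e800003400280000001c000187ea8005800380174b88007c00504c30022004100
noncomputable def c2_2c0Q (u : ℕ) : ℕ := Nat.land (Nat.shiftRight c2_2c0Qd (Nat.mul u (nat_lit 5))) (nat_lit 31)
noncomputable def c2_2c0 : Lev := ⟨32, 3, c2_2c0D, c2_2c0P, c2_2c0Q⟩
noncomputable def t2_2n1Fd : ℕ := nat_lit 0x1a03352051500019204b18c001a7691a04a9694ac0a04000230e303580629a0500e740cc032409324010800000000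
noncomputable def t2_2n1F (u : ℕ) : ℕ := Nat.land (Nat.shiftRight t2_2n1Fd (Nat.mul u (nat_lit 5))) (nat_lit 31)
noncomputable def t2_2n1 : Nd := ⟨t2_2n1F, (nat_lit 3), (nat_lit 3), [], [((nat_lit 0), []), ((nat_lit 0), [nat_lit 0])], []⟩
noncomputable def x2_3_W : List (List ℕ) := [[nat_lit 1, nat_lit 4, nat_lit 6, nat_lit 2, nat_lit 9, nat_lit 6, nat_lit 3, nat_lit 0]]
noncomputable def x2_3_P : ℕ → ℕ → ℕ := wdsP H29.D4m.P x2_3_W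
noncomputable def t2_3h_W : List (List ℕ) := [[nat_lit 0, nat_lit 2, nat_lit 7, nat_lit 3, nat_lit 1],
  [nat_lit 6, nat_lit 8, nat_lit 7],
  [nat_lit 0],
  [nat_lit 1],
  [nat_lit 2],
  [nat_lit 3],
  [nat_lit 4],
  [nat_lit 5],
  [nat_lit 6],
  [nat_lit 7],
  [nat_lit 8],
  [nat_lit 9],
  [nat_lit 3, nat_lit 1, nat_lit 9, nat_lit 7]]
noncomputable def t2_3h_P : ℕ → ℕ → ℕ := wdsP H29.D4m.P t2_3h_W
noncomputable def t2_3l0Dd : ℕ := nat_lit 0x8c216825cb5917a09a3e5f53d58d532988d201394f0be414653e0eb378d52c04b344d42ecaf23ca2254322dc682207b1883d0c4252a85b274900f024060831d8791a42f05c5c14816084150d4200502804c1b0381d02c1c0400a03c09020070180501000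
noncomputable def t2_3l0D (u : ℕ) : ℕ := Nat.land (Nat.shiftRight t2_3l0Dd (Nat.mul u (nat_lit 10))) (nat_lit 1023)
noncomputable def t2_3l0Pd : ℕ := nat_lit 0x9478082646a4bc973a6996f3da1d30d8d9c0d1d0a258488bd0ab97bf280e4398aa918f2b3103e700053a62d58102e20fb388920a927093074eed6c02d195844a3848b190d40d
noncomputable def t2_3l0P (u : ℕ) : ℕ := Nat.land (Nat.shiftRight t2_3l0Pd (Nat.mul u (nat_lit 7))) (nat_lit 127)
noncomputable def t2_3l0Qd : ℕ := nat_lit 0x851a2a68f3e4ad74295970448a8c6091a481c8162386f8f41312cf9d62c86b712a8a011e4439652e1ca5333a03c7b2a23f362d3af26d9a9c5018003088429a20ed9885d326a2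
noncomputable def t2_3l0Q (u : ℕ) : ℕ := Nat.land (Nat.shiftRight t2_3l0Qd (Nat.mul u (nat_lit 7))) (nat_lit 127)
noncomputable def t2_3l0 : Lev := ⟨80, 13, t2_3l0D, t2_3l0P, t2_3l0Q⟩
noncomputable def t2_3l1Dd : ℕ := nat_lit 0x1626bd8709dba50b54a04a7109d32546111a3c708080c100
noncomputable def t2_3l1D (u : ℕ) : ℕ := Nat.land (Nat.shiftRight t2_3l1Dd (Nat.mul u (nat_lit 7))) (nat_lit 127)
noncomputable def t2_3l1Pd : ℕ := nat_lit 0x380134ea97b22d0232416b0cc39d2c30890e1a83767d11c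
noncomputable def t2_3l1P (u : ℕ) : ℕ := Nat.land (Nat.shiftRight t2_3l1Pd (Nat.mul u (nat_lit 7))) (nat_lit 127)
noncomputable def t2_3l1Qd : ℕ := nat_lit 0x2c005000704400600120000018006000a005000a800e05800b80100040010000001a004c00c000006800780080240020019
noncomputable def t2_3l1Q (u : ℕ) : ℕ := Nat.land (Nat.shiftRight t2_3l1Qd (Nat.mul u (nat_lit 5))) (nat_lit 31)
noncomputable def t2_3l1 : Lev := ⟨27, 4, t2_3l1D, t2_3l1P, t2_3l1Q⟩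
noncomputable def t2_3l2Dd : ℕ := nat_lit 0xb6742310
noncomputable def t2_3l2D (u : ℕ) : ℕ := Nat.land (Nat.shiftRight t2_3l2Dd (Nat.mul u (nat_lit 4))) (nat_lit 15)
noncomputable def t2_3l2Pd : ℕ := nat_lit 0x96a9aaf8c58700
noncomputable def t2_3l2P (u : ℕ) : ℕ := Nat.land (Nat.shiftRight t2_3l2Pd (Nat.mul u (nat_lit 7))) (nat_lit 127)
noncomputable def t2_3l2Qd : ℕ := nat_lit 0xe000c0000000000028000800180000000000000080000040000000000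
noncomputable def t2_3l2Q (u : ℕ) : ℕ := Nat.land (Nat.shiftRight t2_3l2Qd (Nat.mul u (nat_lit 3))) (nat_lit 7)
noncomputable def t2_3l2 : Lev := ⟨8, 2, t2_3l2D, t2_3l2P, t2_3l2Q⟩
noncomputable def t2_3l3Dd : ℕ := nat_lit 4
noncomputable def t2_3l3D (u : ℕ) : ℕ := Nat.land (Nat.shiftRight t2_3l3Dd (Nat.mul u (nat_lit 1))) (nat_lit 1)
noncomputable def t2_3l3Pd : ℕ := nat_lit 0x1107ab
noncomputable def t2_3l3P (u : ℕ) : ℕ := Nat.land (Nat.shiftRight t2_3l3Pd (Nat.mul u (nat_lit 7))) (nat_lit 127)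
noncomputable def t2_3l3Qd : ℕ := nat_lit 0x20000000000000000000000000040000000
noncomputable def t2_3l3Q (u : ℕ) : ℕ := Nat.land (Nat.shiftRight t2_3l3Qd (Nat.mul u (nat_lit 2))) (nat_lit 3)
noncomputable def t2_3l3 : Lev := ⟨3, 1, t2_3l3D, t2_3l3P, t2_3l3Q⟩
noncomputable def c2_3e_W : List (List ℕ) := [[nat_lit 0, nat_lit 6, nat_lit 8, nat_lit 6, nat_lit 3, nat_lit 1, nat_lit 6],
  [nat_lit 1, nat_lit 9, nat_lit 5, nat_lit 7, nat_lit 8],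
  [nat_lit 3, nat_lit 0, nat_lit 8, nat_lit 5]]
noncomputable def c2_3e_P : ℕ → ℕ → ℕ := wdsP H29.D4m.P c2_3e_W
noncomputable def c2_3c2Dd : ℕ := nat_lit 0x90
noncomputable def c2_3c2D (u : ℕ) : ℕ := Nat.land (Nat.shiftRight c2_3c2Dd (Nat.mul u (nat_lit 2))) (nat_lit 3)
noncomputable def c2_3c2Pd : ℕ := nat_lit 0x96d4700
noncomputable def c2_3c2P (u : ℕ) : ℕ := Nat.land (Nat.shiftRight c2_3c2Pd (Nat.mul u (nat_lit 7))) (nat_lit 127)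
noncomputable def c2_3c2Qd : ℕ := nat_lit 0xc0000000000800000000000000000010000000
noncomputable def c2_3c2Q (u : ℕ) : ℕ := Nat.land (Nat.shiftRight c2_3c2Qd (Nat.mul u (nat_lit 2))) (nat_lit 3)
noncomputable def c2_3c2 : Lev := ⟨4, 1, c2_3c2D, c2_3c2P, c2_3c2Q⟩
noncomputable def t2_3n0Fd : ℕ := nat_lit 0x182840
noncomputable def t2_3n0F (u : ℕ) : ℕ := Nat.land (Nat.shiftRight t2_3n0Fd (Nat.mul u (nat_lit 3))) (nat_lit 7)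
noncomputable def t2_3n0 : Nd := ⟨t2_3n0F, (nat_lit 2), (nat_lit 1), [], [((nat_lit 0), []), ((nat_lit 0), [nat_lit 0])], []⟩
noncomputable def c2_3c1Dd : ℕ := nat_lit 0x34
noncomputable def c2_3c1D (u : ℕ) : ℕ := Nat.land (Nat.shiftRight c2_3c1Dd (Nat.mul u (nat_lit 2))) (nat_lit 3)
noncomputable def c2_3c1Pd : ℕ := nat_lit 0x329dc
noncomputable def c2_3c1P (u : ℕ) : ℕ := Nat.land (Nat.shiftRight c2_3c1Pd (Nat.mul u (nat_lit 6))) (nat_lit 63)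
noncomputable def c2_3c1Qd : ℕ := nat_lit 0x20000040000000000000000000
noncomputable def c2_3c1Q (u : ℕ) : ℕ := Nat.land (Nat.shiftRight c2_3c1Qd (Nat.mul u (nat_lit 2))) (nat_lit 3)
noncomputable def c2_3c1 : Lev := ⟨3, 2, c2_3c1D, c2_3c1P, c2_3c1Q⟩
noncomputable def t2_3n1Fd : ℕ := nat_lit 0x8640850a3632446856824a61610
noncomputable def t2_3n1F (u : ℕ) : ℕ := Nat.land (Nat.shiftRight t2_3n1Fd (Nat.mul u (nat_lit 4))) (nat_lit 15)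
noncomputable def t2_3n1 : Nd := ⟨t2_3n1F, (nat_lit 2), (nat_lit 2), [[nat_lit 0, nat_lit 0]], [((nat_lit 0), [])], []⟩
noncomputable def c2_3c0Dd : ℕ := nat_lit 0xdab84520
noncomputable def c2_3c0D (u : ℕ) : ℕ := Nat.land (Nat.shiftRight c2_3c0Dd (Nat.mul u (nat_lit 4))) (nat_lit 15)
noncomputable def c2_3c0Pd : ℕ := nat_lit 0x393d3b26c6208d
noncomputable def c2_3c0P (u : ℕ) : ℕ := Nat.land (Nat.shiftRight c2_3c0Pd (Nat.mul u (nat_lit 7))) (nat_lit 127)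
noncomputable def c2_3c0Qd : ℕ := nat_lit 0xc000000000080000000c0100000000a00000007002000000000000000000
noncomputable def c2_3c0Q (u : ℕ) : ℕ := Nat.land (Nat.shiftRight c2_3c0Qd (Nat.mul u (nat_lit 3))) (nat_lit 7)
noncomputable def c2_3c0 : Lev := ⟨8, 3, c2_3c0D, c2_3c0P, c2_3c0Q⟩
noncomputable def t2_3n2Fd : ℕ := nat_lit 0x43928011466a0cc18189000a062ded5c934745695bd07440ab2a48353d890a8e363da72c001649c90206a8b4c60c5a933420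
noncomputable def t2_3n2F (u : ℕ) : ℕ := Nat.land (Nat.shiftRight t2_3n2Fd (Nat.mul u (nat_lit 5))) (nat_lit 31)
noncomputable def t2_3n2 : Nd := ⟨t2_3n2F, (nat_lit 3), (nat_lit 3), [[nat_lit 0, nat_lit 0]], [((nat_lit 0), [])], []⟩
noncomputable def x2_4_W : List (List ℕ) := [[nat_lit 0, nat_lit 6, nat_lit 8, nat_lit 6, nat_lit 3, nat_lit 1, nat_lit 6]]
noncomputable def x2_4_P : ℕ → ℕ → ℕ := wdsP H29.D4m.P x2_4_W
noncomputable def t2_4h_W : List (List ℕ) := [[nat_lit 1, nat_lit 3, nat_lit 6, nat_lit 2, nat_lit 0],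
  [nat_lit 0, nat_lit 3, nat_lit 4, nat_lit 6],
  [nat_lit 1, nat_lit 5, nat_lit 7],
  [nat_lit 0],
  [nat_lit 1],
  [nat_lit 2],
  [nat_lit 3],
  [nat_lit 4],
  [nat_lit 5],
  [nat_lit 6],
  [nat_lit 7],
  [nat_lit 8],
  [nat_lit 9],
  [nat_lit 6, nat_lit 8, nat_lit 5, nat_lit 8]]
noncomputable def t2_4h_P : ℕ → ℕ → ℕ := wdsP H29.D4m.P t2_4h_W
noncomputable def t2_4l0Dd : ℕ := nat_lit 0xe07add5b58bf6aaa3ea98ee1287e04b2aa0652a1a896948d075ccdd47dd2498985f8fc181c35845138494108e52dc1b1a85c2ec771004d1c4541687511c38158590f87412c8f0e83d1cc4a19449098250602405c230581c0541d0381e03c100340c02c00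
noncomputable def t2_4l0D (u : ℕ) : ℕ := Nat.land (Nat.shiftRight t2_4l0Dd (Nat.mul u (nat_lit 10))) (nat_lit 1023)
noncomputable def t2_4l0Pd : ℕ := nat_lit 0x4d429d7081b1b0c0de1e76e5ea134e911c961152e5addf3f0ebe31f61207b18a55218893862758cda328108a4f832a1cc209a3ab5294b961a44713152444d466540b0248480
noncomputable def t2_4l0P (u : ℕ) : ℕ := Nat.land (Nat.shiftRight t2_4l0Pd (Nat.mul u (nat_lit 7))) (nat_lit 127)
noncomputable def t2_4l0Qd : ℕ := nat_lit 0x3898418766852e2ac55a73278d9f68d60c586fa14b6d26721448162f64e1ba328e498548589290ef604a611263c90fc328224151d18087175a347a5082c089671e6ba8d3c180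
noncomputable def t2_4l0Q (u : ℕ) : ℕ := Nat.land (Nat.shiftRight t2_4l0Qd (Nat.mul u (nat_lit 7))) (nat_lit 127)
noncomputable def t2_4l0 : Lev := ⟨80, 14, t2_4l0D, t2_4l0P, t2_4l0Q⟩
noncomputable def t2_4l1Dd : ℕ := nat_lit 0x97655d2b2a33292d2e1d132216230b110c100a0908070605040300
noncomputable def t2_4l1D (u : ℕ) : ℕ := Nat.land (Nat.shiftRight t2_4l1Dd (Nat.mul u (nat_lit 8))) (nat_lit 255)
noncomputable def t2_4l1Pd : ℕ := nat_lit 0x4963422658942cca4cd5eb899730b59cf8f2a6302b2274b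
noncomputable def t2_4l1P (u : ℕ) : ℕ := Nat.land (Nat.shiftRight t2_4l1Pd (Nat.mul u (nat_lit 7))) (nat_lit 127)
noncomputable def t2_4l1Qd : ℕ := nat_lit 0x4060501a2238000000000000000000000184caa47b95900000000000000000000002cb64c746eae000000000000000000000
noncomputable def t2_4l1Q (u : ℕ) : ℕ := Nat.land (Nat.shiftRight t2_4l1Qd (Nat.mul u (nat_lit 5))) (nat_lit 31)
noncomputable def t2_4l1 : Lev := ⟨27, 11, t2_4l1D, t2_4l1P, t2_4l1Q⟩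
noncomputable def t2_4l2Dd : ℕ := nat_lit 0x88d0428440
noncomputable def t2_4l2D (u : ℕ) : ℕ := Nat.land (Nat.shiftRight t2_4l2Dd (Nat.mul u (nat_lit 5))) (nat_lit 31)
noncomputable def t2_4l2Pd : ℕ := nat_lit 0x743885f1beb5
noncomputable def t2_4l2P (u : ℕ) : ℕ := Nat.land (Nat.shiftRight t2_4l2Pd (Nat.mul u (nat_lit 6))) (nat_lit 63)
noncomputable def t2_4l2Qd : ℕ := nat_lit 0x3040000000000000000140038400000000000000020c00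
noncomputable def t2_4l2Q (u : ℕ) : ℕ := Nat.land (Nat.shiftRight t2_4l2Qd (Nat.mul u (nat_lit 3))) (nat_lit 7)
noncomputable def t2_4l2 : Lev := ⟨8, 3, t2_4l2D, t2_4l2P, t2_4l2Q⟩
noncomputable def t2_4l3Dd : ℕ := nat_lit 4
noncomputable def t2_4l3D (u : ℕ) : ℕ := Nat.land (Nat.shiftRight t2_4l3Dd (Nat.mul u (nat_lit 1))) (nat_lit 1)
noncomputable def t2_4l3Pd : ℕ := nat_lit 0x397c2
noncomputable def t2_4l3P (u : ℕ) : ℕ := Nat.land (Nat.shiftRight t2_4l3Pd (Nat.mul u (nat_lit 6))) (nat_lit 63)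
noncomputable def t2_4l3Qd : ℕ := nat_lit 0x80000000000004000000000000000
noncomputable def t2_4l3Q (u : ℕ) : ℕ := Nat.land (Nat.shiftRight t2_4l3Qd (Nat.mul u (nat_lit 2))) (nat_lit 3)
noncomputable def t2_4l3 : Lev := ⟨3, 1, t2_4l3D, t2_4l3P, t2_4l3Q⟩
noncomputable def c2_4e_W : List (List ℕ) := [[nat_lit 1, nat_lit 3, nat_lit 7, nat_lit 2, nat_lit 0],
  [nat_lit 1, nat_lit 9, nat_lit 5, nat_lit 7, nat_lit 8],
  [nat_lit 0, nat_lit 3, nat_lit 8, nat_lit 6, nat_lit 3, nat_lit 1]]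
noncomputable def c2_4e_P : ℕ → ℕ → ℕ := wdsP H29.D4m.P c2_4e_W
noncomputable def c2_4c3Dd : ℕ := nat_lit 4
noncomputable def c2_4c3D (u : ℕ) : ℕ := Nat.land (Nat.shiftRight c2_4c3Dd (Nat.mul u (nat_lit 1))) (nat_lit 1)
noncomputable def c2_4c3Pd : ℕ := nat_lit 0x1fe42
noncomputable def c2_4c3P (u : ℕ) : ℕ := Nat.land (Nat.shiftRight c2_4c3Pd (Nat.mul u (nat_lit 6))) (nat_lit 63)
noncomputable def c2_4c3Qd : ℕ := nat_lit 0x40000000000008000000000000000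
noncomputable def c2_4c3Q (u : ℕ) : ℕ := Nat.land (Nat.shiftRight c2_4c3Qd (Nat.mul u (nat_lit 2))) (nat_lit 3)
noncomputable def c2_4c3 : Lev := ⟨3, 1, c2_4c3D, c2_4c3P, c2_4c3Q⟩
noncomputable def t2_4n0Fd : ℕ := nat_lit 0
noncomputable def t2_4n0F (u : ℕ) : ℕ := Nat.land (Nat.shiftRight t2_4n0Fd (Nat.mul u (nat_lit 1))) (nat_lit 1)
noncomputable def t2_4n0 : Nd := ⟨t2_4n0F, (nat_lit 2), (nat_lit 1), [], [((nat_lit 0), [])], []⟩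
noncomputable def c2_4c0Dd : ℕ := nat_lit 0x8f3a2386ac97a94cb53a1345ca182258a9018284880e143040608080
noncomputable def c2_4c0D (u : ℕ) : ℕ := Nat.land (Nat.shiftRight c2_4c0Dd (Nat.mul u (nat_lit 7))) (nat_lit 127)
noncomputable def c2_4c0Pd : ℕ := nat_lit 0x8e755ad26e81b52ed1db31c300c39c510cb9a6a1260e8e0195024580
noncomputable def c2_4c0P (u : ℕ) : ℕ := Nat.land (Nat.shiftRight c2_4c0Pd (Nat.mul u (nat_lit 7))) (nat_lit 127)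
noncomputable def c2_4c0Qd : ℕ := nat_lit 0x3d6060000f80008240500000ae80000316a000000380e800302000301a0003c002880b800ed800004c120804038000c8220
noncomputable def c2_4c0Q (u : ℕ) : ℕ := Nat.land (Nat.shiftRight c2_4c0Qd (Nat.mul u (nat_lit 5))) (nat_lit 31)
noncomputable def c2_4c0 : Lev := ⟨32, 3, c2_4c0D, c2_4c0P, c2_4c0Q⟩
noncomputable def t2_4n1Fd : ℕ := nat_lit 0x481c05b94b7014803160001e50254c0150f034a771dc8095285000318007000083200b580000c4110ac00599c00000000400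
noncomputable def t2_4n1F (u : ℕ) : ℕ := Nat.land (Nat.shiftRight t2_4n1Fd (Nat.mul u (nat_lit 5))) (nat_lit 31)
noncomputable def t2_4n1 : Nd := ⟨t2_4n1F, (nat_lit 3), (nat_lit 3), [[nat_lit 0]], [((nat_lit 0), []), ((nat_lit 0), [nat_lit 0]), ((nat_lit 0), [nat_lit 0, nat_lit 0])], []⟩
noncomputable def x2_5_W : List (List ℕ) := [[nat_lit 1, nat_lit 2, nat_lit 4, nat_lit 6, nat_lit 2, nat_lit 8, nat_lit 5, nat_lit 7]]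
noncomputable def x2_5_P : ℕ → ℕ → ℕ := wdsP H29.D4m.P x2_5_W
noncomputable def t2_5h_W : List (List ℕ) := [[nat_lit 0],
  [nat_lit 1],
  [nat_lit 0, nat_lit 3, nat_lit 6, nat_lit 2],
  [nat_lit 2],
  [nat_lit 3],
  [nat_lit 4],
  [nat_lit 5],
  [nat_lit 6],
  [nat_lit 7],
  [nat_lit 8],
  [nat_lit 9],
  [nat_lit 3, nat_lit 8, nat_lit 7, nat_lit 8, nat_lit 5]]
noncomputable def t2_5h_P : ℕ → ℕ → ℕ := wdsP H29.D4m.P t2_5h_W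
noncomputable def t2_5l0Dd : ℕ := nat_lit 0xc6eeb57a7348aad5293240d1a3f90e63ce62f1e1378bb291e0605752d8c628d805d09e08c451fd444e0731406e16d140e0ac13c430b03e3f0a00dcab2202b1f09f24c871ec5818c570d0790cc78154540c4200c01f0501a078130381d0480b0440a02400
noncomputable def t2_5l0D (u : ℕ) : ℕ := Nat.land (Nat.shiftRight t2_5l0Dd (Nat.mul u (nat_lit 10))) (nat_lit 1023)
noncomputable def t2_5l0Pd : ℕ := nat_lit 0xc0969e7e7583337142c24085e2c90e1caf9500d246b1e30356065ae4a54c4e54f9b32283c627381ddcd8640ca262a1a0b8904fcc09254a36e5de961b3c88e4c4c53a1048480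
noncomputable def t2_5l0P (u : ℕ) : ℕ := Nat.land (Nat.shiftRight t2_5l0Pd (Nat.mul u (nat_lit 7))) (nat_lit 127)
noncomputable def t2_5l0Qd : ℕ := nat_lit 0x14b101462ec93f6cd63173f10b3a96a86c14211ebe1ea5b9990a0dc978c26c066ac89a481d7b820721432b325238ee4ead1c317270c0849e4c205a53014083453e2936939900
noncomputable def t2_5l0Q (u : ℕ) : ℕ := Nat.land (Nat.shiftRight t2_5l0Qd (Nat.mul u (nat_lit 7))) (nat_lit 127)
noncomputable def t2_5l0 : Lev := ⟨80, 12, t2_5l0D, t2_5l0P, t2_5l0Q⟩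
noncomputable def t2_5l1Dd : ℕ := nat_lit 0xb2fc5fc8d9a264e8cc2722cb8f1c4c412141c4860a10180
noncomputable def t2_5l1D (u : ℕ) : ℕ := Nat.land (Nat.shiftRight t2_5l1Dd (Nat.mul u (nat_lit 7))) (nat_lit 127)
noncomputable def t2_5l1Pd : ℕ := nat_lit 0x4a4349e457195ace4979d325b1611c9cd64616162b29794
noncomputable def t2_5l1P (u : ℕ) : ℕ := Nat.land (Nat.shiftRight t2_5l1Pd (Nat.mul u (nat_lit 7))) (nat_lit 127)
noncomputable def t2_5l1Qd : ℕ := nat_lit 0xbbd0e68a39500000000000000000000001891d8b0d6650000000000000000000000286810604eac000000000000000000000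
noncomputable def t2_5l1Q (u : ℕ) : ℕ := Nat.land (Nat.shiftRight t2_5l1Qd (Nat.mul u (nat_lit 5))) (nat_lit 31)
noncomputable def t2_5l1 : Lev := ⟨27, 9, t2_5l1D, t2_5l1P, t2_5l1Q⟩
noncomputable def t2_5l2Dd : ℕ := nat_lit 0x83d6820c40
noncomputable def t2_5l2D (u : ℕ) : ℕ := Nat.land (Nat.shiftRight t2_5l2Dd (Nat.mul u (nat_lit 5))) (nat_lit 31)
noncomputable def t2_5l2Pd : ℕ := nat_lit 0x66b5819951e693
noncomputable def t2_5l2P (u : ℕ) : ℕ := Nat.land (Nat.shiftRight t2_5l2Pd (Nat.mul u (nat_lit 7))) (nat_lit 127)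
noncomputable def t2_5l2Qd : ℕ := nat_lit 0x80c0400000000000000e05030000000000000020000000000000000000
noncomputable def t2_5l2Q (u : ℕ) : ℕ := Nat.land (Nat.shiftRight t2_5l2Qd (Nat.mul u (nat_lit 3))) (nat_lit 7)
noncomputable def t2_5l2 : Lev := ⟨8, 3, t2_5l2D, t2_5l2P, t2_5l2Q⟩
noncomputable def t2_5l3Dd : ℕ := nat_lit 4
noncomputable def t2_5l3D (u : ℕ) : ℕ := Nat.land (Nat.shiftRight t2_5l3Dd (Nat.mul u (nat_lit 1))) (nat_lit 1)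
noncomputable def t2_5l3Pd : ℕ := nat_lit 0x2dc33
noncomputable def t2_5l3P (u : ℕ) : ℕ := Nat.land (Nat.shiftRight t2_5l3Pd (Nat.mul u (nat_lit 6))) (nat_lit 63)
noncomputable def t2_5l3Qd : ℕ := nat_lit 0x1080000000000000000000000
noncomputable def t2_5l3Q (u : ℕ) : ℕ := Nat.land (Nat.shiftRight t2_5l3Qd (Nat.mul u (nat_lit 2))) (nat_lit 3)
noncomputable def t2_5l3 : Lev := ⟨3, 2, t2_5l3D, t2_5l3P, t2_5l3Q⟩
noncomputable def c2_5e_W : List (List ℕ) := [[nat_lit 1, nat_lit 2, nat_lit 4, nat_lit 9],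
  [nat_lit 3, nat_lit 4, nat_lit 7, nat_lit 2, nat_lit 9, nat_lit 7]]
noncomputable def c2_5e_P : ℕ → ℕ → ℕ := wdsP H29.D4m.P c2_5e_W
noncomputable def c2_5c0Dd : ℕ := nat_lit 0xb7632100
noncomputable def c2_5c0D (u : ℕ) : ℕ := Nat.land (Nat.shiftRight c2_5c0Dd (Nat.mul u (nat_lit 4))) (nat_lit 15)
noncomputable def c2_5c0Pd : ℕ := nat_lit 0x290c48e02cc980
noncomputable def c2_5c0P (u : ℕ) : ℕ := Nat.land (Nat.shiftRight c2_5c0Pd (Nat.mul u (nat_lit 7))) (nat_lit 127)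
noncomputable def c2_5c0Qd : ℕ := nat_lit 0xc00000000000400000000000000000000007200100028000018
noncomputable def c2_5c0Q (u : ℕ) : ℕ := Nat.land (Nat.shiftRight c2_5c0Qd (Nat.mul u (nat_lit 3))) (nat_lit 7)
noncomputable def c2_5c0 : Lev := ⟨8, 2, c2_5c0D, c2_5c0P, c2_5c0Q⟩
noncomputable def t2_5n0Fd : ℕ := nat_lit 0x99692750975334435763525794956026974677620424293403623274761353915151116010412100
noncomputable def t2_5n0F (u : ℕ) : ℕ := Nat.land (Nat.shiftRight t2_5n0Fd (Nat.mul u (nat_lit 4))) (nat_lit 15)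
noncomputable def t2_5n0 : Nd := ⟨t2_5n0F, (nat_lit 2), (nat_lit 2), [], [((nat_lit 0), []), ((nat_lit 0), [nat_lit 0]), ((nat_lit 0), [nat_lit 0, nat_lit 0])], []⟩
noncomputable def p3t_W : List (List ℕ) := [[nat_lit 5],
  [nat_lit 0, nat_lit 2, nat_lit 1, nat_lit 6, nat_lit 3, nat_lit 1],
  [nat_lit 3, nat_lit 5],
  [nat_lit 1, nat_lit 6]]
noncomputable def p3t_P : ℕ → ℕ → ℕ := wdsP H29.D4m.P p3t_W
noncomputable def p3Pd : List ℕ := [nat_lit 0x9e69638a481f85d71e6996d759851355141238d3cb28c2481c61440c2040,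
  nat_lit 0x9e69514123ce34a30b8e292181f71e75a65b6175935542072451060810c0,
  nat_lit 0x9e695a65b38d3dd71e4504a07e15135638a45d660b28c0c2049207185100,
  nat_lit 0x96799e75c9238a181f51355a65b5d660a30b41244d3ce2072441850c2040]
noncomputable def p3P (k u : ℕ) : ℕ := Nat.land (Nat.shiftRight (nth (nat_lit 0) p3Pd k) (Nat.mul u (nat_lit 6))) (nat_lit 63)
noncomputable def p3Ed : ℕ := nat_lit 0x386cd468b121c28301fbe56a94a84e992a4464078e1a3058a1221d39707cf1d080c100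
noncomputable def p3E (u : ℕ) : ℕ := Nat.land (Nat.shiftRight p3Ed (Nat.mul u (nat_lit 7))) (nat_lit 127)
noncomputable def p3Id : ℕ := nat_lit 0x248e28607de75c0000092070000000000000000006da6585d65544c00001851279a50000000000000124503ce34c2ca000003081000
noncomputable def p3I (u : ℕ) : ℕ := Nat.land (Nat.shiftRight p3Id (Nat.mul u (nat_lit 6))) (nat_lit 63)
noncomputable def p3B : List ℕ := [nat_lit 0, nat_lit 10, nat_lit 1, nat_lit 37]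
noncomputable def p3C : List (List (List ℕ)) := [[[],
  [],
  [],
  []], [[],
  [],
  [],
  [nat_lit 0]], [[],
  [],
  [],
  [nat_lit 1, nat_lit 1]], [[],
  [],
  [],
  []]]
noncomputable def p3e : List (List ℕ) := [[],
  [],
  [nat_lit 0],
  [],
  [],
  [nat_lit 0, nat_lit 3],
  [],
  [],
  [nat_lit 2, nat_lit 2]]
noncomputable def p3l0Dd : ℕ := nat_lit 0x3ed6069744e200
noncomputable def p3l0D (u : ℕ) : ℕ := Nat.land (Nat.shiftRight p3l0Dd (Nat.mul u (nat_lit 6))) (nat_lit 63)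
noncomputable def p3l0Pd : ℕ := nat_lit 0x238957641
noncomputable def p3l0P (u : ℕ) : ℕ := Nat.land (Nat.shiftRight p3l0Pd (Nat.mul u (nat_lit 4))) (nat_lit 15)
noncomputable def p3l0Qd : ℕ := nat_lit 0x5632417800
noncomputable def p3l0Q (u : ℕ) : ℕ := Nat.land (Nat.shiftRight p3l0Qd (Nat.mul u (nat_lit 4))) (nat_lit 15)
noncomputable def p3l0 : Lev := ⟨9, 9, p3l0D, p3l0P, p3l0Q⟩
noncomputable def p3l1Dd : ℕ := nat_lit 0xb50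
noncomputable def p3l1D (u : ℕ) : ℕ := Nat.land (Nat.shiftRight p3l1Dd (Nat.mul u (nat_lit 4))) (nat_lit 15)
noncomputable def p3l1Pd : ℕ := nat_lit 0x174
noncomputable def p3l1P (u : ℕ) : ℕ := Nat.land (Nat.shiftRight p3l1Pd (Nat.mul u (nat_lit 3))) (nat_lit 7)
noncomputable def p3l1Qd : ℕ := nat_lit 0x1800
noncomputable def p3l1Q (u : ℕ) : ℕ := Nat.land (Nat.shiftRight p3l1Qd (Nat.mul u (nat_lit 2))) (nat_lit 3)
noncomputable def p3l1 : Lev := ⟨3, 6, p3l1D, p3l1P, p3l1Q⟩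
noncomputable def p3l2Dd : ℕ := nat_lit 0x150
noncomputable def p3l2D (u : ℕ) : ℕ := Nat.land (Nat.shiftRight p3l2Dd (Nat.mul u (nat_lit 3))) (nat_lit 7)
noncomputable def p3l2Pd : ℕ := nat_lit 0xcba
noncomputable def p3l2P (u : ℕ) : ℕ := Nat.land (Nat.shiftRight p3l2Pd (Nat.mul u (nat_lit 4))) (nat_lit 15)
noncomputable def p3l2Qd : ℕ := nat_lit 0x2400000
noncomputable def p3l2Q (u : ℕ) : ℕ := Nat.land (Nat.shiftRight p3l2Qd (Nat.mul u (nat_lit 2))) (nat_lit 3)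
noncomputable def p3l2 : Lev := ⟨3, 3, p3l2D, p3l2P, p3l2Q⟩
noncomputable def cv3r_W : List (List ℕ) := [[nat_lit 5],
  [nat_lit 4],
  [nat_lit 0, nat_lit 2, nat_lit 1, nat_lit 6, nat_lit 3, nat_lit 1],
  [nat_lit 3, nat_lit 5],
  [nat_lit 3, nat_lit 1, nat_lit 5, nat_lit 6],
  [nat_lit 2, nat_lit 1, nat_lit 4, nat_lit 6]]
noncomputable def cv3r_P : ℕ → ℕ → ℕ := wdsP H29.D4m.P cv3r_W
noncomputable def cv3T0 : CT := (.split (.more (.split (.more (.split (.more (.split (.more .one (.more (.leaf (nat_lit 0) []) (.more (.leaf (nat_lit 1) []) .one)))) (.more (.fuse [nat_lit 3] [] (.leaf (nat_lit 2) [])) (.more (.fuse [nat_lit 3, nat_lit 3] [] (.leaf (nat_lit 2) [nat_lit 7, nat_lit 2, nat_lit 1])) .one)))) (.more (.fuse [nat_lit 3, nat_lit 3] [nat_lit 0, nat_lit 0] (.split (.more (.leaf (nat_lit 3) []) (.more (.leaf (nat_lit 2) [nat_lit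 5, nat_lit 9, nat_lit 6, nat_lit 3, nat_lit 6, nat_lit 8]) (.more (.leaf (nat_lit 0) [nat_lit 6, nat_lit 2, nat_lit 8, nat_lit 4, nat_lit 6, nat_lit 8]) .one))))) (.more (.fuse [nat_lit 3] [] (.split (.more (.leaf (nat_lit 3) [nat_lit 1, nat_lit 3, nat_lit 8, nat_lit 7, nat_lit 2, nat_lit 8, nat_lit 6]) (.more (.leaf (nat_lit 1) [nat_lit 6, nat_lit 2, nat_lit 8, nat_lit 4, nat_lit 6, nat_lit 8]) (.more (.leaf (nat_lit 2) [nat_lit 0, nat_lit 2, nat_lit 8, nat_lit 4, nat_lit 6, nat_lit 2, nat_lit 8, nat_lit 6]) .one))))) .one)))) (.more (.split (.more (.fuse [nat_lit 2] [nat_lit 0, nat_lit 0] (.fuse [nat_lit 1, nat_lit 1] [] (.leaf (nat_lit 2) [nat_lit 3, nat_lit 1]))) (.more (.fuse [nat_lit 2] [nat_lit 0, nat_lit 0] (.fuse [nat_lit 1, nat_lit 1] [] (.leaf (nat_lit 4) []))) (.more (.fuse [nat_lit 2] [nat_lit 0, nat_lit 0] (.fuse [nat_lit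 1, nat_lit 1] [] (.leaf (nat_lit 5) []))) .one)))) (.more (.split (.more (.fuse [nat_lit 2, nat_lit 2] [] (.fuse [nat_lit 1] [] (.leaf (nat_lit 2) [nat_lit 2, nat_lit 6]))) (.more (.fuse [nat_lit 2, nat_lit 2] [] (.fuse [nat_lit 1] [] (.leaf (nat_lit 4) [nat_lit 0, nat_lit 3, nat_lit 1, nat_lit 7]))) (.more (.fuse [nat_lit 2, nat_lit 2] [] (.fuse [nat_lit 1] [] (.leaf (nat_lit 5) [nat_lit 2, nat_lit 6, nat_lit 3, nat_lit 0]))) .one)))) .one))))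
noncomputable def x3_4_W : List (List ℕ) := [[nat_lit 3, nat_lit 1, nat_lit 5, nat_lit 6]]
noncomputable def x3_4_P : ℕ → ℕ → ℕ := wdsP H29.D4m.P x3_4_W
noncomputable def t3_4h_W : List (List ℕ) := [[nat_lit 4, nat_lit 7, nat_lit 8, nat_lit 5, nat_lit 6],
  [nat_lit 0],
  [nat_lit 1],
  [nat_lit 8],
  [nat_lit 9],
  [nat_lit 2],
  [nat_lit 3],
  [nat_lit 4],
  [nat_lit 5],
  [nat_lit 6],
  [nat_lit 7],
  [nat_lit 2, nat_lit 9, nat_lit 6, nat_lit 2, nat_lit 1]]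
noncomputable def t3_4h_P : ℕ → ℕ → ℕ := wdsP H29.D4m.P t3_4h_W
noncomputable def t3_4l0Dd : ℕ := nat_lit 0xe57899b632956b897dae76d71825634a1bf610b22f577551483acbc3d8e454cc7260f5348b448caf05cd12887f144842848a1f86c398891c84f394c22d8712a8c12d4922a49108821058300d815090350a80b0d0290cc2809c1c06c1003c0a0240801c00
noncomputable def t3_4l0D (u : ℕ) : ℕ := Nat.land (Nat.shiftRight t3_4l0Dd (Nat.mul u (nat_lit 10))) (nat_lit 1023)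
noncomputable def t3_4l0Pd : ℕ := nat_lit 0xa09da0707561a64d57ca7d210c74670db182a59b65a9a24e74b9bcd787dc972818f4b6859fb044462aa4af6624510e4c01a38598843c227573c1c62a64380244c08c2024508
noncomputable def t3_4l0P (u : ℕ) : ℕ := Nat.land (Nat.shiftRight t3_4l0Pd (Nat.mul u (nat_lit 7))) (nat_lit 127)
noncomputable def t3_4l0Qd : ℕ := nat_lit 0x1cd181d5110cc280310b5344dd984b0cf2f9acd6cb62e2327731de248ac9bc91e81d1b20d8f9c7e8e0cc5ca653e7b2051458985ab0c1d1032458b842a0410012aa7911b38288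
noncomputable def t3_4l0Q (u : ℕ) : ℕ := Nat.land (Nat.shiftRight t3_4l0Qd (Nat.mul u (nat_lit 7))) (nat_lit 127)
noncomputable def t3_4l0 : Lev := ⟨80, 12, t3_4l0D, t3_4l0P, t3_4l0Q⟩
noncomputable def t3_4l1Dd : ℕ := nat_lit 0xc9829e3a5325b87cf5523385508e0e407891018280
noncomputable def t3_4l1D (u : ℕ) : ℕ := Nat.land (Nat.shiftRight t3_4l1Dd (Nat.mul u (nat_lit 7))) (nat_lit 127)
noncomputable def t3_4l1Pd : ℕ := nat_lit 0x585012f70ec2b52eca5473a8074d34fa229470530b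
noncomputable def t3_4l1P (u : ℕ) : ℕ := Nat.land (Nat.shiftRight t3_4l1Pd (Nat.mul u (nat_lit 7))) (nat_lit 127)
noncomputable def t3_4l1Qd : ℕ := nat_lit 0x10003400600050004001800900130020003800a001700080004001800a0016001c00780160000002400000000022005400
noncomputable def t3_4l1Q (u : ℕ) : ℕ := Nat.land (Nat.shiftRight t3_4l1Qd (Nat.mul u (nat_lit 5))) (nat_lit 31)
noncomputable def t3_4l1 : Lev := ⟨24, 7, t3_4l1D, t3_4l1P, t3_4l1Q⟩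
noncomputable def t3_4l2Dd : ℕ := nat_lit 0xed9843210
noncomputable def t3_4l2D (u : ℕ) : ℕ := Nat.land (Nat.shiftRight t3_4l2Dd (Nat.mul u (nat_lit 4))) (nat_lit 15)
noncomputable def t3_4l2Pd : ℕ := nat_lit 0x1bb5ec21ce49ea
noncomputable def t3_4l2P (u : ℕ) : ℕ := Nat.land (Nat.shiftRight t3_4l2Pd (Nat.mul u (nat_lit 6))) (nat_lit 63)
noncomputable def t3_4l2Qd : ℕ := nat_lit 0x3005007000001002004006008000000000000000000000000000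
noncomputable def t3_4l2Q (u : ℕ) : ℕ := Nat.land (Nat.shiftRight t3_4l2Qd (Nat.mul u (nat_lit 4))) (nat_lit 15)
noncomputable def t3_4l2 : Lev := ⟨9, 5, t3_4l2D, t3_4l2P, t3_4l2Q⟩
noncomputable def t3_4l3Dd : ℕ := nat_lit 4
noncomputable def t3_4l3D (u : ℕ) : ℕ := Nat.land (Nat.shiftRight t3_4l3Dd (Nat.mul u (nat_lit 1))) (nat_lit 1)
noncomputable def t3_4l3Pd : ℕ := nat_lit 0x1aa9
noncomputable def t3_4l3P (u : ℕ) : ℕ := Nat.land (Nat.shiftRight t3_4l3Pd (Nat.mul u (nat_lit 5))) (nat_lit 31)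
noncomputable def t3_4l3Qd : ℕ := nat_lit 0x40000002000
noncomputable def t3_4l3Q (u : ℕ) : ℕ := Nat.land (Nat.shiftRight t3_4l3Qd (Nat.mul u (nat_lit 2))) (nat_lit 3)
noncomputable def t3_4l3 : Lev := ⟨3, 1, t3_4l3D, t3_4l3P, t3_4l3Q⟩
noncomputable def c3_4e_W : List (List ℕ) := [[nat_lit 8, nat_lit 5, nat_lit 8, nat_lit 6, nat_lit 3, nat_lit 0]]
noncomputable def c3_4e_P : ℕ → ℕ → ℕ := wdsP H29.D4m.P c3_4e_W
noncomputable def c3_4c0Dd : ℕ := nat_lit 0x20f7358b525073148310400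
noncomputable def c3_4c0D (u : ℕ) : ℕ := Nat.land (Nat.shiftRight c3_4c0Dd (Nat.mul u (nat_lit 5))) (nat_lit 31)
noncomputable def c3_4c0Pd : ℕ := nat_lit 0x258b24a8c0994308ab2e2a60d26a4c88
noncomputable def c3_4c0P (u : ℕ) : ℕ := Nat.land (Nat.shiftRight c3_4c0Pd (Nat.mul u (nat_lit 7))) (nat_lit 127)
noncomputable def c3_4c0Qd : ℕ := nat_lit 0x58ac0000000000000000000000000000000000000438400000000000000000002d380001bd200008a819800000000000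
noncomputable def c3_4c0Q (u : ℕ) : ℕ := Nat.land (Nat.shiftRight c3_4c0Qd (Nat.mul u (nat_lit 5))) (nat_lit 31)
noncomputable def c3_4c0 : Lev := ⟨18, 1, c3_4c0D, c3_4c0P, c3_4c0Q⟩
noncomputable def t3_4n0Fd : ℕ := nat_lit 0x10a08808868a28418021a28e80219e70058808462210e05620228018618089e81210030020101440409401800040c05c00a181480042000040040000
noncomputable def t3_4n0F (u : ℕ) : ℕ := Nat.land (Nat.shiftRight t3_4n0Fd (Nat.mul u (nat_lit 6))) (nat_lit 63)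
noncomputable def t3_4n0 : Nd := ⟨t3_4n0F, (nat_lit 2), (nat_lit 1), [[nat_lit 0, nat_lit 0, nat_lit 0]], [((nat_lit 0), []), ((nat_lit 0), [nat_lit 0])], []⟩
noncomputable def x3_5_W : List (List ℕ) := [[nat_lit 2, nat_lit 1, nat_lit 4, nat_lit 6]]
noncomputable def x3_5_P : ℕ → ℕ → ℕ := wdsP H29.D4m.P x3_5_W
noncomputable def t3_5h_W : List (List ℕ) := [[nat_lit 2, nat_lit 4, nat_lit 7, nat_lit 9, nat_lit 5, nat_lit 6, nat_lit 3],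
  [nat_lit 0],
  [nat_lit 1],
  [nat_lit 2],
  [nat_lit 3],
  [nat_lit 8],
  [nat_lit 9],
  [nat_lit 4],
  [nat_lit 5],
  [nat_lit 6],
  [nat_lit 7],
  [nat_lit 2, nat_lit 9, nat_lit 4, nat_lit 7, nat_lit 2, nat_lit 9]]
noncomputable def t3_5h_P : ℕ → ℕ → ℕ := wdsP H29.D4m.P t3_5h_W
noncomputable def t3_5l0Dd : ℕ := nat_lit 0xd334b9b5de749bcac1cf6517d509083f185818f75b5554c9253a8af1758e5dd3c345764ecf416c504e8f32847e30d393c87d1c44e308f1134c10c09e0909d1e86e088181e46d128210580c124360540b0d42a0d029078330a01d048270440a0240801c00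
noncomputable def t3_5l0D (u : ℕ) : ℕ := Nat.land (Nat.shiftRight t3_5l0Dd (Nat.mul u (nat_lit 10))) (nat_lit 1023)
noncomputable def t3_5l0Pd : ℕ := nat_lit 0xa80e9a8e0a54d64edc2c6b21f2f9c70d9f925ca2d0818c3742588c4733259e82d9a30453d4ae7a8d9bf75155251af122886385b1800c7a62a66107009d592271808c2024508
noncomputable def t3_5l0P (u : ℕ) : ℕ := Nat.land (Nat.shiftRight t3_5l0Pd (Nat.mul u (nat_lit 7))) (nat_lit 127)
noncomputable def t3_5l0Qd : ℕ := nat_lit 0x4cfe42e5b25dc29618f302e35593410519a8c7d7c568aa1a9431ca288091c4412752981440e19449d9ce78b26be7b3073574c87b90e218832258d842a0410018da7b7252828b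
noncomputable def t3_5l0Q (u : ℕ) : ℕ := Nat.land (Nat.shiftRight t3_5l0Qd (Nat.mul u (nat_lit 7))) (nat_lit 127)
noncomputable def t3_5l0 : Lev := ⟨80, 12, t3_5l0D, t3_5l0P, t3_5l0Q⟩
noncomputable def t3_5l1Dd : ℕ := nat_lit 0x1fb4ed628df3d60d97a90ea169426346101e244060a10180
noncomputable def t3_5l1D (u : ℕ) : ℕ := Nat.land (Nat.shiftRight t3_5l1Dd (Nat.mul u (nat_lit 7))) (nat_lit 127)
noncomputable def t3_5l1Pd : ℕ := nat_lit 0x28099261e4b768f512e9e7084c74c4fc08cad296090d40d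
noncomputable def t3_5l1P (u : ℕ) : ℕ := Nat.land (Nat.shiftRight t3_5l1Pd (Nat.mul u (nat_lit 7))) (nat_lit 127)
noncomputable def t3_5l1Qd : ℕ := nat_lit 0x7800c002a001c00100080024002c00a0013001400400030001000a0044004800e0030001000b800d0000006800b000300320
noncomputable def t3_5l1Q (u : ℕ) : ℕ := Nat.land (Nat.shiftRight t3_5l1Qd (Nat.mul u (nat_lit 5))) (nat_lit 31)
noncomputable def t3_5l1 : Lev := ⟨27, 7, t3_5l1D, t3_5l1P, t3_5l1Q⟩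
noncomputable def t3_5l2Dd : ℕ := nat_lit 0x9ba63210
noncomputable def t3_5l2D (u : ℕ) : ℕ := Nat.land (Nat.shiftRight t3_5l2Dd (Nat.mul u (nat_lit 4))) (nat_lit 15)
noncomputable def t3_5l2Pd : ℕ := nat_lit 0x2868e974105f44
noncomputable def t3_5l2P (u : ℕ) : ℕ := Nat.land (Nat.shiftRight t3_5l2Pd (Nat.mul u (nat_lit 7))) (nat_lit 127)
noncomputable def t3_5l2Qd : ℕ := nat_lit 0x10040000000000000000000003028180807000000000000000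
noncomputable def t3_5l2Q (u : ℕ) : ℕ := Nat.land (Nat.shiftRight t3_5l2Qd (Nat.mul u (nat_lit 3))) (nat_lit 7)
noncomputable def t3_5l2 : Lev := ⟨8, 3, t3_5l2D, t3_5l2P, t3_5l2Q⟩
noncomputable def t3_5l3Dd : ℕ := nat_lit 4
noncomputable def t3_5l3D (u : ℕ) : ℕ := Nat.land (Nat.shiftRight t3_5l3Dd (Nat.mul u (nat_lit 1))) (nat_lit 1)
noncomputable def t3_5l3Pd : ℕ := nat_lit 0x3dc4a
noncomputable def t3_5l3P (u : ℕ) : ℕ := Nat.land (Nat.shiftRight t3_5l3Pd (Nat.mul u (nat_lit 6))) (nat_lit 63)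
noncomputable def t3_5l3Qd : ℕ := nat_lit 0x8000004000000000000000000000000
noncomputable def t3_5l3Q (u : ℕ) : ℕ := Nat.land (Nat.shiftRight t3_5l3Qd (Nat.mul u (nat_lit 2))) (nat_lit 3)
noncomputable def t3_5l3 : Lev := ⟨3, 1, t3_5l3D, t3_5l3P, t3_5l3Q⟩
noncomputable def c3_5e_W : List (List ℕ) := [[nat_lit 5],
  [nat_lit 2, nat_lit 1, nat_lit 5, nat_lit 6],
  [nat_lit 0, nat_lit 3, nat_lit 9, nat_lit 4, nat_lit 9, nat_lit 6]]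
noncomputable def c3_5e_P : ℕ → ℕ → ℕ := wdsP H29.D4m.P c3_5e_W
noncomputable def c3_5c0Dd : ℕ := nat_lit 0x9a06943932cd20a147084043000
noncomputable def c3_5c0D (u : ℕ) : ℕ := Nat.land (Nat.shiftRight c3_5c0Dd (Nat.mul u (nat_lit 6))) (nat_lit 63)
noncomputable def c3_5c0Pd : ℕ := nat_lit 0x892265cc0b323580c63197c58828488
noncomputable def c3_5c0P (u : ℕ) : ℕ := Nat.land (Nat.shiftRight c3_5c0Pd (Nat.mul u (nat_lit 7))) (nat_lit 127)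
noncomputable def c3_5c0Qd : ℕ := nat_lit 0x188300000000000000000000000e928000000000000000000000000016d700007c22000148608200000000000
noncomputable def c3_5c0Q (u : ℕ) : ℕ := Nat.land (Nat.shiftRight c3_5c0Qd (Nat.mul u (nat_lit 5))) (nat_lit 31)
noncomputable def c3_5c0 : Lev := ⟨18, 3, c3_5c0D, c3_5c0P, c3_5c0Q⟩
noncomputable def t3_5n0Fd : ℕ := nat_lit 0x29ce8711685a10b3ad402acab4016841c045b8002ba25504a022c6e2350d080ca004e438c003acc7880812a8200002008000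
noncomputable def t3_5n0F (u : ℕ) : ℕ := Nat.land (Nat.shiftRight t3_5n0Fd (Nat.mul u (nat_lit 5))) (nat_lit 31)
noncomputable def t3_5n0 : Nd := ⟨t3_5n0F, (nat_lit 3), (nat_lit 3), [[nat_lit 0, nat_lit 0, nat_lit 0]], [((nat_lit 0), []), ((nat_lit 0), [nat_lit 0])], []⟩
noncomputable def p5t_W : List (List ℕ) := [[nat_lit 9, nat_lit 5, nat_lit 6, nat_lit 3]]
noncomputable def p5t_P : ℕ → ℕ → ℕ := wdsP H29.D4m.P p5t_W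
noncomputable def p5Pd : List ℕ := [nat_lit 0x8be129ad8e534a649d0120043]
noncomputable def p5P (k u : ℕ) : ℕ := Nat.land (Nat.shiftRight (nth (nat_lit 0) p5Pd k) (Nat.mul u (nat_lit 5))) (nat_lit 31)
noncomputable def p5Ed : ℕ := nat_lit 0x88e559a16b93241c2271d121814c4e48600
noncomputable def p5E (u : ℕ) : ℕ := Nat.land (Nat.shiftRight p5Ed (Nat.mul u (nat_lit 7))) (nat_lit 127)
noncomputable def p5Id : ℕ := nat_lit 0x24040000000013000000000000240000000000003800880001b40c000000010004000000000080002c01780ea0180001400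
noncomputable def p5I (u : ℕ) : ℕ := Nat.land (Nat.shiftRight p5Id (Nat.mul u (nat_lit 5))) (nat_lit 31)
noncomputable def p5B : List ℕ := [nat_lit 0, nat_lit 10, nat_lit 5, nat_lit 16]
noncomputable def p5C : List (List (List ℕ)) := [[[]]]
noncomputable def p5e : List (List ℕ) := [[nat_lit 0, nat_lit 0, nat_lit 0, nat_lit 0]]
noncomputable def p5l0Dd : ℕ := nat_lit 0x390
noncomputable def p5l0D (u : ℕ) : ℕ := Nat.land (Nat.shiftRight p5l0Dd (Nat.mul u (nat_lit 2))) (nat_lit 3)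
noncomputable def p5l0Pd : ℕ := nat_lit 0x2318
noncomputable def p5l0P (u : ℕ) : ℕ := Nat.land (Nat.shiftRight p5l0Pd (Nat.mul u (nat_lit 3))) (nat_lit 7)
noncomputable def p5l0Qd : ℕ := nat_lit 0x2318
noncomputable def p5l0Q (u : ℕ) : ℕ := Nat.land (Nat.shiftRight p5l0Qd (Nat.mul u (nat_lit 3))) (nat_lit 7)
noncomputable def p5l0 : Lev := ⟨5, 1, p5l0D, p5l0P, p5l0Q⟩
noncomputable def cv5r_W : List (List ℕ) := [[nat_lit 9, nat_lit 5, nat_lit 6, nat_lit 3]]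
noncomputable def cv5r_P : ℕ → ℕ → ℕ := wdsP H29.D4m.P cv5r_W
noncomputable def cv5T0 : CT := (.split (.more .one (.more (.leaf (nat_lit 0) []) (.more (.leaf (nat_lit 0) [nat_lit 2, nat_lit 0, nat_lit 6, nat_lit 2, nat_lit 9, nat_lit 4, nat_lit 6, nat_lit 9]) (.more (.leaf (nat_lit 0) [nat_lit 0, nat_lit 7, nat_lit 2, nat_lit 0, nat_lit 9, nat_lit 7, nat_lit 3, nat_lit 1]) (.more (.leaf (nat_lit 0) [nat_lit 1, nat_lit 4, nat_lit 6, nat_lit 2, nat_lit 8, nat_lit 4, nat_lit 7]) .one))))))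
noncomputable def x5_0_W : List (List ℕ) := [[nat_lit 9, nat_lit 5, nat_lit 6, nat_lit 3]]
noncomputable def x5_0_P : ℕ → ℕ → ℕ := wdsP H29.D4m.P x5_0_W
noncomputable def t5_0h_W : List (List ℕ) := [[nat_lit 0, nat_lit 4, nat_lit 6],
  [nat_lit 1, nat_lit 3, nat_lit 0],
  [nat_lit 0],
  [nat_lit 1],
  [nat_lit 2],
  [nat_lit 3],
  [nat_lit 4],
  [nat_lit 5],
  [nat_lit 6],
  [nat_lit 7],
  [nat_lit 8],
  [nat_lit 9],
  [nat_lit 1, nat_lit 4, nat_lit 7, nat_lit 9, nat_lit 7]]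
noncomputable def t5_0h_P : ℕ → ℕ → ℕ := wdsP H29.D4m.P t5_0h_W
noncomputable def t5_0l0Dd : ℕ := nat_lit 0xe0b85e3b5ac1f4dcce8791b0cbfdde6a9905714f509353d0da33499619633c065358c9389544b84b378e12b92d3e8ba284aa30cad3e4c627431280931e8c51d8790bc460e842114390b4350e02c0d0280ac2309c220582105420050130301a0340b02800
noncomputable def t5_0l0D (u : ℕ) : ℕ := Nat.land (Nat.shiftRight t5_0l0Dd (Nat.mul u (nat_lit 10))) (nat_lit 1023)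
noncomputable def t5_0l0Pd : ℕ := nat_lit 0xa0903b6a68eb96c79c3a3edd08336f111c7a12127540524568c25865d3e0c8653663e7e99643921d8a853011c418ccaad9d287c75eacca58c5c5961a447131420c142048480
noncomputable def t5_0l0P (u : ℕ) : ℕ := Nat.land (Nat.shiftRight t5_0l0Pd (Nat.mul u (nat_lit 7))) (nat_lit 127)
noncomputable def t5_0l0Qd : ℕ := nat_lit 0x5c5d52962591ac283da1c48e569e4ea1dbe9912445851e5b334ad0b226bcc2524dcfa070988353af60cd871a4bc7f288851c30c8410085032a2459b1a1c08644c27ba8139b00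
noncomputable def t5_0l0Q (u : ℕ) : ℕ := Nat.land (Nat.shiftRight t5_0l0Qd (Nat.mul u (nat_lit 7))) (nat_lit 127)
noncomputable def t5_0l0 : Lev := ⟨80, 13, t5_0l0D, t5_0l0P, t5_0l0Q⟩
noncomputable def t5_0l1Dd : ℕ := nat_lit 0x8882784b305a4a2f2e25241a11281e211820090807060504030200
noncomputable def t5_0l1D (u : ℕ) : ℕ := Nat.land (Nat.shiftRight t5_0l1Dd (Nat.mul u (nat_lit 8))) (nat_lit 255)
noncomputable def t5_0l1Pd : ℕ := nat_lit 0x247408c21f101a2e1c152945447e3e2a356a130c84a9227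
noncomputable def t5_0l1P (u : ℕ) : ℕ := Nat.land (Nat.shiftRight t5_0l1Pd (Nat.mul u (nat_lit 7))) (nat_lit 127)
noncomputable def t5_0l1Qd : ℕ := nat_lit 0x5d2c88e185d40000000000000000000000389e6015c1400000000000000000000001456664937560000000000
noncomputable def t5_0l1Q (u : ℕ) : ℕ := Nat.land (Nat.shiftRight t5_0l1Qd (Nat.mul u (nat_lit 5))) (nat_lit 31)
noncomputable def t5_0l1 : Lev := ⟨27, 10, t5_0l1D, t5_0l1P, t5_0l1Q⟩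
noncomputable def t5_0l2Dd : ℕ := nat_lit 0xa9643210
noncomputable def t5_0l2D (u : ℕ) : ℕ := Nat.land (Nat.shiftRight t5_0l2Dd (Nat.mul u (nat_lit 4))) (nat_lit 15)
noncomputable def t5_0l2Pd : ℕ := nat_lit 0x611d9145c48ccc
noncomputable def t5_0l2P (u : ℕ) : ℕ := Nat.land (Nat.shiftRight t5_0l2Pd (Nat.mul u (nat_lit 7))) (nat_lit 127)
noncomputable def t5_0l2Qd : ℕ := nat_lit 0xc000000000000001470c0000000000000008004080000000000000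
noncomputable def t5_0l2Q (u : ℕ) : ℕ := Nat.land (Nat.shiftRight t5_0l2Qd (Nat.mul u (nat_lit 3))) (nat_lit 7)
noncomputable def t5_0l2 : Lev := ⟨8, 2, t5_0l2D, t5_0l2P, t5_0l2Q⟩
noncomputable def t5_0l3Dd : ℕ := nat_lit 4
noncomputable def t5_0l3D (u : ℕ) : ℕ := Nat.land (Nat.shiftRight t5_0l3Dd (Nat.mul u (nat_lit 1))) (nat_lit 1)
noncomputable def t5_0l3Pd : ℕ := nat_lit 0xeac
noncomputable def t5_0l3P (u : ℕ) : ℕ := Nat.land (Nat.shiftRight t5_0l3Pd (Nat.mul u (nat_lit 4))) (nat_lit 15)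
noncomputable def t5_0l3Qd : ℕ := nat_lit 0x20100000
noncomputable def t5_0l3Q (u : ℕ) : ℕ := Nat.land (Nat.shiftRight t5_0l3Qd (Nat.mul u (nat_lit 2))) (nat_lit 3)
noncomputable def t5_0l3 : Lev := ⟨3, 1, t5_0l3D, t5_0l3P, t5_0l3Q⟩
noncomputable def c5_0e_W : List (List ℕ) := [[nat_lit 9, nat_lit 5, nat_lit 6, nat_lit 3],
  [nat_lit 0, nat_lit 3, nat_lit 1, nat_lit 6, nat_lit 9, nat_lit 4]]
noncomputable def c5_0e_P : ℕ → ℕ → ℕ := wdsP H29.D4m.P c5_0e_W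
noncomputable def c5_0c0Dd : ℕ := nat_lit 0xfba7632100
noncomputable def c5_0c0D (u : ℕ) : ℕ := Nat.land (Nat.shiftRight c5_0c0Dd (Nat.mul u (nat_lit 4))) (nat_lit 15)
noncomputable def c5_0c0Pd : ℕ := nat_lit 0x15194e2a601193c900
noncomputable def c5_0c0P (u : ℕ) : ℕ := Nat.land (Nat.shiftRight c5_0c0Pd (Nat.mul u (nat_lit 7))) (nat_lit 127)
noncomputable def c5_0c0Qd : ℕ := nat_lit 0x20050000000000000000000000000000000009007000000000000080000001000003060000000040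
noncomputable def c5_0c0Q (u : ℕ) : ℕ := Nat.land (Nat.shiftRight c5_0c0Qd (Nat.mul u (nat_lit 4))) (nat_lit 15)
noncomputable def c5_0c0 : Lev := ⟨10, 2, c5_0c0D, c5_0c0P, c5_0c0Q⟩
noncomputable def t5_0n0Fd : ℕ := nat_lit 0xb64994429398373628748740009493b2707626072b2b4b93657806518b52360b8511585503111010
noncomputable def t5_0n0F (u : ℕ) : ℕ := Nat.land (Nat.shiftRight t5_0n0Fd (Nat.mul u (nat_lit 4))) (nat_lit 15)
noncomputable def t5_0n0 : Nd := ⟨t5_0n0F, (nat_lit 2), (nat_lit 2), [], [((nat_lit 0), []), ((nat_lit 0), [nat_lit 0]), ((nat_lit 0), [nat_lit 0, nat_lit 0])], []⟩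
noncomputable def L0 : List (List ℕ × List ℕ × List ℕ × List ℕ) := [([nat_lit 1, nat_lit 7, nat_lit 2, nat_lit 0, nat_lit 9, nat_lit 6, nat_lit 2, nat_lit 0, nat_lit 9, nat_lit 7], [nat_lit 0, nat_lit 3, nat_lit 0, nat_lit 3], [nat_lit 0, nat_lit 3, nat_lit 0, nat_lit 3], []),
  ([nat_lit 3, nat_lit 7, nat_lit 3, nat_lit 1, nat_lit 8, nat_lit 4, nat_lit 6, nat_lit 2, nat_lit 8, nat_lit 6], [], [], []),
  ([nat_lit 1, nat_lit 7, nat_lit 2, nat_lit 8, nat_lit 7, nat_lit 2, nat_lit 8, nat_lit 7, nat_lit 2], [nat_lit 0, nat_lit 3, nat_lit 0, nat_lit 3], [nat_lit 0, nat_lit 3, nat_lit 0, nat_lit 3], []),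
  ([nat_lit 0, nat_lit 6, nat_lit 3, nat_lit 1, nat_lit 8, nat_lit 7, nat_lit 3, nat_lit 8, nat_lit 6], [nat_lit 0, nat_lit 3, nat_lit 0, nat_lit 3], [nat_lit 0, nat_lit 3, nat_lit 0, nat_lit 3], []),
  ([nat_lit 2, nat_lit 7, nat_lit 3, nat_lit 1, nat_lit 8, nat_lit 5, nat_lit 6, nat_lit 2, nat_lit 9, nat_lit 7, nat_lit 2], [nat_lit 0, nat_lit 3, nat_lit 0, nat_lit 3], [nat_lit 0, nat_lit 3, nat_lit 0, nat_lit 3], []),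
  ([nat_lit 1, nat_lit 7, nat_lit 2, nat_lit 8, nat_lit 4, nat_lit 7, nat_lit 2, nat_lit 9, nat_lit 6], [], [], []),
  ([nat_lit 0, nat_lit 2, nat_lit 0, nat_lit 9, nat_lit 4], [nat_lit 0, nat_lit 3, nat_lit 4, nat_lit 9], [nat_lit 0, nat_lit 3, nat_lit 4, nat_lit 9], []),
  ([nat_lit 0, nat_lit 2, nat_lit 9, nat_lit 4, nat_lit 9], [], [], []),
  ([nat_lit 0, nat_lit 2, nat_lit 1, nat_lit 4, nat_lit 8, nat_lit 5], [], [], []),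
  ([nat_lit 1, nat_lit 3, nat_lit 1, nat_lit 5, nat_lit 8], [nat_lit 0, nat_lit 3, nat_lit 4, nat_lit 9], [nat_lit 0, nat_lit 3, nat_lit 4, nat_lit 9], []),
  ([nat_lit 1, nat_lit 3, nat_lit 5, nat_lit 9], [], [], []),
  ([nat_lit 1, nat_lit 3, nat_lit 0, nat_lit 5], [], [], []),
  ([nat_lit 1, nat_lit 2, nat_lit 4, nat_lit 7, nat_lit 2, nat_lit 8, nat_lit 4, nat_lit 7, nat_lit 2, nat_lit 9, nat_lit 6], [nat_lit 0, nat_lit 3, nat_lit 0, nat_lit 3], [nat_lit 0, nat_lit 3, nat_lit 0, nat_lit 3], []),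
  ([nat_lit 0, nat_lit 3, nat_lit 4, nat_lit 7, nat_lit 3, nat_lit 8, nat_lit 5, nat_lit 6, nat_lit 3, nat_lit 9, nat_lit 6], [], [], []),
  ([nat_lit 0, nat_lit 2, nat_lit 6, nat_lit 3, nat_lit 1, nat_lit 9, nat_lit 6, nat_lit 2, nat_lit 9, nat_lit 7], [nat_lit 0, nat_lit 2, nat_lit 5], [nat_lit 0, nat_lit 2, nat_lit 5], []),
  ([nat_lit 2, nat_lit 1, nat_lit 5, nat_lit 6, nat_lit 3, nat_lit 9, nat_lit 6, nat_lit 3, nat_lit 9, nat_lit 6], [nat_lit 2, nat_lit 9, nat_lit 5], [nat_lit 2, nat_lit 9, nat_lit 5], []),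
  ([nat_lit 8, nat_lit 7, nat_lit 2, nat_lit 8, nat_lit 4, nat_lit 7, nat_lit 2, nat_lit 9, nat_lit 6], [nat_lit 2, nat_lit 9, nat_lit 5], [nat_lit 2, nat_lit 9, nat_lit 5], []),
  ([nat_lit 0, nat_lit 7, nat_lit 2, nat_lit 0, nat_lit 9, nat_lit 6, nat_lit 2, nat_lit 9, nat_lit 7], [nat_lit 0, nat_lit 2, nat_lit 5], [nat_lit 0, nat_lit 2, nat_lit 5], []),
  ([nat_lit 3, nat_lit 1, nat_lit 6, nat_lit 2, nat_lit 9, nat_lit 4, nat_lit 7, nat_lit 2, nat_lit 8, nat_lit 7, nat_lit 2], [], [], []),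
  ([nat_lit 0, nat_lit 6, nat_lit 2, nat_lit 0, nat_lit 8, nat_lit 4, nat_lit 6, nat_lit 2, nat_lit 8, nat_lit 6], [nat_lit 0, nat_lit 3, nat_lit 0, nat_lit 3], [nat_lit 0, nat_lit 3, nat_lit 0, nat_lit 3], []),
  ([nat_lit 0, nat_lit 7, nat_lit 2, nat_lit 8, nat_lit 7, nat_lit 2, nat_lit 8, nat_lit 7], [nat_lit 0, nat_lit 2, nat_lit 5], [nat_lit 0, nat_lit 2, nat_lit 5], []),
  ([nat_lit 8, nat_lit 5, nat_lit 7, nat_lit 3, nat_lit 0, nat_lit 8, nat_lit 5, nat_lit 7], [nat_lit 0, nat_lit 2, nat_lit 0, nat_lit 5, nat_lit 8], [nat_lit 0, nat_lit 2, nat_lit 0, nat_lit 5, nat_lit 8], []),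
  ([nat_lit 2, nat_lit 8, nat_lit 7, nat_lit 3, nat_lit 8, nat_lit 5, nat_lit 7, nat_lit 9], [nat_lit 1, nat_lit 2, nat_lit 8, nat_lit 5], [nat_lit 1, nat_lit 2, nat_lit 8, nat_lit 5], []),
  ([nat_lit 2, nat_lit 8, nat_lit 7, nat_lit 3, nat_lit 0, nat_lit 8, nat_lit 5, nat_lit 7], [nat_lit 0, nat_lit 2, nat_lit 0, nat_lit 5, nat_lit 8], [nat_lit 0, nat_lit 3, nat_lit 0, nat_lit 3], [nat_lit 0, nat_lit 2, nat_lit 0, nat_lit 9, nat_lit 4]),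
  ([nat_lit 1, nat_lit 4, nat_lit 6, nat_lit 2, nat_lit 9, nat_lit 6, nat_lit 3, nat_lit 0], [nat_lit 0, nat_lit 2, nat_lit 0, nat_lit 5, nat_lit 8], [nat_lit 0, nat_lit 2, nat_lit 0, nat_lit 5, nat_lit 8], []),
  ([nat_lit 3, nat_lit 7, nat_lit 2, nat_lit 8, nat_lit 4, nat_lit 6, nat_lit 2, nat_lit 0], [nat_lit 1, nat_lit 2, nat_lit 8, nat_lit 5], [nat_lit 1, nat_lit 2, nat_lit 8, nat_lit 5], []),
  ([nat_lit 1, nat_lit 4, nat_lit 6, nat_lit 2, nat_lit 9, nat_lit 6, nat_lit 3, nat_lit 9], [nat_lit 0, nat_lit 2, nat_lit 0, nat_lit 5, nat_lit 8], [nat_lit 0, nat_lit 3, nat_lit 0, nat_lit 3], [nat_lit 0, nat_lit 2, nat_lit 0, nat_lit 9, nat_lit 4]),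
  ([nat_lit 3, nat_lit 6, nat_lit 3, nat_lit 9, nat_lit 6, nat_lit 3, nat_lit 0, nat_lit 9, nat_lit 6], [nat_lit 0, nat_lit 3, nat_lit 0, nat_lit 3], [nat_lit 0, nat_lit 3, nat_lit 0, nat_lit 3], []),
  ([nat_lit 6, nat_lit 3, nat_lit 9, nat_lit 6, nat_lit 3, nat_lit 1, nat_lit 9, nat_lit 6], [nat_lit 0, nat_lit 2, nat_lit 5], [nat_lit 0, nat_lit 2, nat_lit 5], []),
  ([nat_lit 2, nat_lit 6, nat_lit 3, nat_lit 9, nat_lit 6, nat_lit 3, nat_lit 9, nat_lit 6], [], [], []),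
  ([nat_lit 0, nat_lit 2, nat_lit 7, nat_lit 2, nat_lit 1, nat_lit 9, nat_lit 6, nat_lit 3, nat_lit 9, nat_lit 6, nat_lit 3], [], [], []),
  ([nat_lit 3, nat_lit 7, nat_lit 2, nat_lit 0, nat_lit 8, nat_lit 7, nat_lit 3, nat_lit 1, nat_lit 8, nat_lit 6], [nat_lit 0, nat_lit 2, nat_lit 5], [nat_lit 0, nat_lit 2, nat_lit 5], []),
  ([nat_lit 7, nat_lit 2, nat_lit 0, nat_lit 9, nat_lit 6, nat_lit 2, nat_lit 1, nat_lit 9, nat_lit 7], [nat_lit 0, nat_lit 3, nat_lit 0, nat_lit 3], [nat_lit 0, nat_lit 3, nat_lit 0, nat_lit 3], []),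
  ([nat_lit 7, nat_lit 3, nat_lit 8, nat_lit 5, nat_lit 6, nat_lit 3, nat_lit 9, nat_lit 6, nat_lit 9], [nat_lit 2, nat_lit 9, nat_lit 5], [nat_lit 2, nat_lit 9, nat_lit 5], []),
  ([nat_lit 6, nat_lit 3, nat_lit 1, nat_lit 8, nat_lit 7, nat_lit 3, nat_lit 1, nat_lit 8, nat_lit 6], [nat_lit 0, nat_lit 2, nat_lit 5], [nat_lit 0, nat_lit 2, nat_lit 5], []),
  ([nat_lit 2, nat_lit 9, nat_lit 6, nat_lit 3, nat_lit 1, nat_lit 9, nat_lit 6, nat_lit 2, nat_lit 9, nat_lit 7], [nat_lit 2, nat_lit 9, nat_lit 5], [nat_lit 2, nat_lit 9, nat_lit 5], []),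
  ([nat_lit 0, nat_lit 6, nat_lit 8, nat_lit 6, nat_lit 3, nat_lit 1, nat_lit 6], [nat_lit 0, nat_lit 2, nat_lit 0, nat_lit 5, nat_lit 8], [nat_lit 0, nat_lit 2, nat_lit 0, nat_lit 5, nat_lit 8], []),
  ([nat_lit 0, nat_lit 3, nat_lit 8, nat_lit 7, nat_lit 2, nat_lit 0, nat_lit 8, nat_lit 6], [nat_lit 0, nat_lit 2, nat_lit 0, nat_lit 5, nat_lit 8], [nat_lit 0, nat_lit 3, nat_lit 0, nat_lit 3], [nat_lit 0, nat_lit 2, nat_lit 0, nat_lit 9, nat_lit 4]),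
  ([nat_lit 0, nat_lit 6, nat_lit 8, nat_lit 6, nat_lit 3, nat_lit 6, nat_lit 8], [nat_lit 1, nat_lit 2, nat_lit 8, nat_lit 5], [nat_lit 1, nat_lit 2, nat_lit 8, nat_lit 5], []),
  ([nat_lit 1, nat_lit 7, nat_lit 3, nat_lit 9, nat_lit 6, nat_lit 2], [nat_lit 0, nat_lit 2, nat_lit 0, nat_lit 5, nat_lit 8], [nat_lit 0, nat_lit 2, nat_lit 0, nat_lit 5, nat_lit 8], []),
  ([nat_lit 1, nat_lit 7, nat_lit 3, nat_lit 9, nat_lit 6, nat_lit 2, nat_lit 1, nat_lit 9], [nat_lit 0, nat_lit 2, nat_lit 0, nat_lit 5, nat_lit 8], [nat_lit 0, nat_lit 3, nat_lit 0, nat_lit 3], [nat_lit 0, nat_lit 2, nat_lit 0, nat_lit 9, nat_lit 4]),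
  ([nat_lit 1, nat_lit 2, nat_lit 7, nat_lit 3, nat_lit 8, nat_lit 7, nat_lit 2, nat_lit 0], [nat_lit 1, nat_lit 2, nat_lit 8, nat_lit 5], [nat_lit 1, nat_lit 2, nat_lit 8, nat_lit 5], []),
  ([], [], [], []),
  ([nat_lit 3, nat_lit 5, nat_lit 9, nat_lit 4], [], [], []),
  ([nat_lit 2, nat_lit 5, nat_lit 8, nat_lit 4], [], [], []),
  ([nat_lit 0, nat_lit 8], [], [], []),
  ([nat_lit 3, nat_lit 0, nat_lit 8, nat_lit 5], [nat_lit 0, nat_lit 3, nat_lit 5, nat_lit 8], [nat_lit 0, nat_lit 3, nat_lit 5, nat_lit 8], []),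
  ([nat_lit 2, nat_lit 0, nat_lit 8, nat_lit 4], [], [], []),
  ([nat_lit 1, nat_lit 3, nat_lit 6, nat_lit 2, nat_lit 9, nat_lit 5, nat_lit 6, nat_lit 2, nat_lit 0], [nat_lit 1, nat_lit 2, nat_lit 8, nat_lit 5], [nat_lit 0, nat_lit 3, nat_lit 0, nat_lit 3], [nat_lit 1, nat_lit 2, nat_lit 4, nat_lit 9]),
  ([nat_lit 1, nat_lit 3, nat_lit 6, nat_lit 2, nat_lit 9, nat_lit 6, nat_lit 3, nat_lit 0], [nat_lit 1, nat_lit 2, nat_lit 8, nat_lit 5], [nat_lit 1, nat_lit 2, nat_lit 8, nat_lit 5], []),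
  ([nat_lit 1, nat_lit 3, nat_lit 6, nat_lit 2, nat_lit 0, nat_lit 9, nat_lit 4, nat_lit 6], [nat_lit 3, nat_lit 7, nat_lit 9], [nat_lit 3, nat_lit 7, nat_lit 9], []),
  ([nat_lit 0, nat_lit 2, nat_lit 6, nat_lit 3, nat_lit 9, nat_lit 4, nat_lit 7, nat_lit 2, nat_lit 0], [nat_lit 1, nat_lit 2, nat_lit 8, nat_lit 5], [nat_lit 0, nat_lit 3, nat_lit 0, nat_lit 3], [nat_lit 1, nat_lit 2, nat_lit 4, nat_lit 9]),
  ([nat_lit 1, nat_lit 3, nat_lit 5, nat_lit 7, nat_lit 3, nat_lit 9, nat_lit 6, nat_lit 2], [nat_lit 1, nat_lit 2, nat_lit 8, nat_lit 5], [nat_lit 1, nat_lit 2, nat_lit 8, nat_lit 5], []),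
  ([nat_lit 0, nat_lit 2, nat_lit 6, nat_lit 3, nat_lit 0, nat_lit 9, nat_lit 7], [nat_lit 1, nat_lit 2, nat_lit 8, nat_lit 5], [nat_lit 1, nat_lit 2, nat_lit 8, nat_lit 5], []),
  ([nat_lit 1, nat_lit 9], [], [], []),
  ([nat_lit 3, nat_lit 1, nat_lit 8, nat_lit 5, nat_lit 8], [], [], []),
  ([nat_lit 2, nat_lit 1, nat_lit 4, nat_lit 8, nat_lit 4], [nat_lit 1, nat_lit 2, nat_lit 4, nat_lit 9], [nat_lit 1, nat_lit 2, nat_lit 4, nat_lit 9], []),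
  ([nat_lit 3, nat_lit 7, nat_lit 2, nat_lit 8, nat_lit 5, nat_lit 6, nat_lit 3, nat_lit 0], [nat_lit 0, nat_lit 2, nat_lit 0, nat_lit 5, nat_lit 8], [nat_lit 0, nat_lit 3, nat_lit 0, nat_lit 3], [nat_lit 0, nat_lit 2, nat_lit 0, nat_lit 9, nat_lit 4]),
  ([nat_lit 1, nat_lit 6, nat_lit 2, nat_lit 8, nat_lit 7, nat_lit 3, nat_lit 8], [nat_lit 1, nat_lit 2, nat_lit 8, nat_lit 5], [nat_lit 0, nat_lit 3, nat_lit 0, nat_lit 3], [nat_lit 1, nat_lit 2, nat_lit 4, nat_lit 9]),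
  ([nat_lit 1, nat_lit 3, nat_lit 6, nat_lit 2, nat_lit 9, nat_lit 4, nat_lit 6, nat_lit 9], [nat_lit 0, nat_lit 3, nat_lit 4, nat_lit 8, nat_lit 4], [nat_lit 0, nat_lit 3, nat_lit 0, nat_lit 3], [nat_lit 0, nat_lit 3, nat_lit 5, nat_lit 9, nat_lit 5]),
  ([nat_lit 1, nat_lit 2, nat_lit 7, nat_lit 3, nat_lit 8, nat_lit 4, nat_lit 7, nat_lit 3, nat_lit 9], [nat_lit 0, nat_lit 3, nat_lit 4, nat_lit 8, nat_lit 4], [nat_lit 0, nat_lit 3, nat_lit 0, nat_lit 3], [nat_lit 0, nat_lit 3, nat_lit 5, nat_lit 9, nat_lit 5]),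
  ([nat_lit 1, nat_lit 5, nat_lit 7, nat_lit 3, nat_lit 8, nat_lit 7, nat_lit 2, nat_lit 0], [nat_lit 3, nat_lit 7, nat_lit 9], [nat_lit 3, nat_lit 7, nat_lit 9], []),
  ([nat_lit 0, nat_lit 7, nat_lit 2, nat_lit 1, nat_lit 7, nat_lit 9, nat_lit 7], [nat_lit 0, nat_lit 2, nat_lit 0, nat_lit 5, nat_lit 8], [nat_lit 0, nat_lit 2, nat_lit 0, nat_lit 5, nat_lit 8], []),
  ([nat_lit 0, nat_lit 2, nat_lit 6, nat_lit 3, nat_lit 9, nat_lit 4, nat_lit 7, nat_lit 2, nat_lit 9], [nat_lit 0, nat_lit 2, nat_lit 0, nat_lit 5, nat_lit 8], [nat_lit 0, nat_lit 3, nat_lit 0, nat_lit 3], [nat_lit 0, nat_lit 2, nat_lit 0, nat_lit 9, nat_lit 4]),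
  ([nat_lit 0, nat_lit 2, nat_lit 6, nat_lit 3, nat_lit 9, nat_lit 5, nat_lit 7, nat_lit 3, nat_lit 9], [nat_lit 1, nat_lit 2, nat_lit 8, nat_lit 5], [nat_lit 0, nat_lit 3, nat_lit 0, nat_lit 3], [nat_lit 1, nat_lit 2, nat_lit 4, nat_lit 9]),
  ([nat_lit 0, nat_lit 7, nat_lit 2, nat_lit 9, nat_lit 7], [nat_lit 0, nat_lit 3, nat_lit 4, nat_lit 8, nat_lit 4], [nat_lit 0, nat_lit 3, nat_lit 0, nat_lit 3], [nat_lit 0, nat_lit 3, nat_lit 5, nat_lit 9, nat_lit 5]),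
  ([nat_lit 3, nat_lit 7, nat_lit 2, nat_lit 8, nat_lit 5, nat_lit 6, nat_lit 3, nat_lit 9], [nat_lit 0, nat_lit 3, nat_lit 4, nat_lit 8, nat_lit 4], [nat_lit 0, nat_lit 3, nat_lit 0, nat_lit 3], [nat_lit 0, nat_lit 3, nat_lit 5, nat_lit 9, nat_lit 5]),
  ([nat_lit 1, nat_lit 6, nat_lit 2, nat_lit 8, nat_lit 7, nat_lit 3, nat_lit 1], [nat_lit 1, nat_lit 2, nat_lit 8, nat_lit 5], [nat_lit 1, nat_lit 2, nat_lit 8, nat_lit 5], []),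
  ([nat_lit 1, nat_lit 4, nat_lit 6, nat_lit 2, nat_lit 9, nat_lit 4, nat_lit 6, nat_lit 9], [nat_lit 0, nat_lit 2, nat_lit 0, nat_lit 5, nat_lit 8], [nat_lit 0, nat_lit 2, nat_lit 0, nat_lit 5, nat_lit 8], []),
  ([nat_lit 0, nat_lit 3, nat_lit 0, nat_lit 3, nat_lit 4, nat_lit 9, nat_lit 4, nat_lit 9], [], [], []),
  ([nat_lit 0, nat_lit 3, nat_lit 0, nat_lit 9, nat_lit 5], [], [], []),
  ([nat_lit 1, nat_lit 2, nat_lit 1, nat_lit 4, nat_lit 8], [], [], []),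
  ([nat_lit 3, nat_lit 0, nat_lit 3, nat_lit 5, nat_lit 8, nat_lit 5], [], [], []),
  ([nat_lit 0, nat_lit 3, nat_lit 5, nat_lit 9, nat_lit 5], [nat_lit 1, nat_lit 2, nat_lit 4, nat_lit 9], [nat_lit 1, nat_lit 2, nat_lit 4, nat_lit 9], []),
  ([nat_lit 1, nat_lit 2, nat_lit 0, nat_lit 4], [], [], []),
  ([nat_lit 2, nat_lit 1, nat_lit 2, nat_lit 4, nat_lit 9, nat_lit 4], [], [], []),
  ([nat_lit 0, nat_lit 3, nat_lit 1, nat_lit 4, nat_lit 9, nat_lit 5], [], [], []),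
  ([nat_lit 1, nat_lit 2, nat_lit 4, nat_lit 9], [nat_lit 0, nat_lit 3, nat_lit 5, nat_lit 8], [nat_lit 0, nat_lit 3, nat_lit 5, nat_lit 8], []),
  ([nat_lit 0, nat_lit 2, nat_lit 4, nat_lit 8, nat_lit 5, nat_lit 7, nat_lit 2, nat_lit 9, nat_lit 7], [nat_lit 1, nat_lit 2, nat_lit 8, nat_lit 5], [nat_lit 0, nat_lit 3, nat_lit 0, nat_lit 3], [nat_lit 1, nat_lit 2, nat_lit 4, nat_lit 9]),
  ([nat_lit 1, nat_lit 2, nat_lit 7, nat_lit 3, nat_lit 8, nat_lit 5, nat_lit 7, nat_lit 9], [nat_lit 1, nat_lit 2, nat_lit 8, nat_lit 5], [nat_lit 1, nat_lit 2, nat_lit 8, nat_lit 5], []),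
  ([nat_lit 7, nat_lit 9, nat_lit 7, nat_lit 2, nat_lit 1, nat_lit 7, nat_lit 9], [nat_lit 1, nat_lit 2, nat_lit 8, nat_lit 5], [nat_lit 1, nat_lit 2, nat_lit 8, nat_lit 5], []),
  ([nat_lit 1, nat_lit 3, nat_lit 5, nat_lit 6, nat_lit 2, nat_lit 8, nat_lit 7, nat_lit 3, nat_lit 1], [nat_lit 1, nat_lit 2, nat_lit 8, nat_lit 5], [nat_lit 0, nat_lit 3, nat_lit 0, nat_lit 3], [nat_lit 1, nat_lit 2, nat_lit 4, nat_lit 9]),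
  ([nat_lit 6, nat_lit 3, nat_lit 6, nat_lit 8, nat_lit 6], [nat_lit 3, nat_lit 7, nat_lit 9], [nat_lit 3, nat_lit 7, nat_lit 9], []),
  ([nat_lit 5, nat_lit 8, nat_lit 4, nat_lit 7, nat_lit 2, nat_lit 7, nat_lit 8, nat_lit 6], [nat_lit 1, nat_lit 2, nat_lit 8, nat_lit 5], [nat_lit 1, nat_lit 2, nat_lit 8, nat_lit 5], []),
  ([nat_lit 1, nat_lit 2, nat_lit 4, nat_lit 7, nat_lit 3, nat_lit 9, nat_lit 6, nat_lit 2], [nat_lit 0, nat_lit 2, nat_lit 0, nat_lit 5, nat_lit 8], [nat_lit 0, nat_lit 3, nat_lit 0, nat_lit 3], [nat_lit 0, nat_lit 2, nat_lit 0, nat_lit 9, nat_lit 4]),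
  ([nat_lit 1, nat_lit 5, nat_lit 7, nat_lit 3, nat_lit 0, nat_lit 8, nat_lit 5, nat_lit 7], [nat_lit 0, nat_lit 3, nat_lit 4, nat_lit 8, nat_lit 4], [nat_lit 0, nat_lit 3, nat_lit 0, nat_lit 3], [nat_lit 0, nat_lit 3, nat_lit 5, nat_lit 9, nat_lit 5]),
  ([nat_lit 2, nat_lit 9, nat_lit 6, nat_lit 3, nat_lit 0, nat_lit 9, nat_lit 7], [nat_lit 1, nat_lit 2, nat_lit 8, nat_lit 5], [nat_lit 0, nat_lit 3, nat_lit 0, nat_lit 3], [nat_lit 1, nat_lit 2, nat_lit 4, nat_lit 9]),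
  ([nat_lit 1, nat_lit 2, nat_lit 5, nat_lit 6, nat_lit 2, nat_lit 9, nat_lit 6, nat_lit 3, nat_lit 9], [nat_lit 0, nat_lit 3, nat_lit 4, nat_lit 8, nat_lit 4], [nat_lit 0, nat_lit 3, nat_lit 0, nat_lit 3], [nat_lit 0, nat_lit 3, nat_lit 5, nat_lit 9, nat_lit 5]),
  ([nat_lit 3, nat_lit 7, nat_lit 2, nat_lit 0, nat_lit 8, nat_lit 6], [nat_lit 0, nat_lit 2, nat_lit 0, nat_lit 5, nat_lit 8], [nat_lit 0, nat_lit 2, nat_lit 0, nat_lit 5, nat_lit 8], []),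
  ([nat_lit 5, nat_lit 8, nat_lit 4, nat_lit 7, nat_lit 2, nat_lit 0, nat_lit 8, nat_lit 6], [nat_lit 1, nat_lit 2, nat_lit 8, nat_lit 5], [nat_lit 1, nat_lit 2, nat_lit 8, nat_lit 5], []),
  ([nat_lit 1, nat_lit 2, nat_lit 5, nat_lit 6, nat_lit 2, nat_lit 9, nat_lit 6, nat_lit 3, nat_lit 0], [nat_lit 0, nat_lit 2, nat_lit 0, nat_lit 5, nat_lit 8], [nat_lit 0, nat_lit 3, nat_lit 0, nat_lit 3], [nat_lit 0, nat_lit 2, nat_lit 0, nat_lit 9, nat_lit 4]),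
  ([nat_lit 6, nat_lit 3, nat_lit 1, nat_lit 8, nat_lit 6], [nat_lit 0, nat_lit 3, nat_lit 4, nat_lit 8, nat_lit 4], [nat_lit 0, nat_lit 3, nat_lit 0, nat_lit 3], [nat_lit 0, nat_lit 3, nat_lit 5, nat_lit 9, nat_lit 5]),
  ([nat_lit 0, nat_lit 3, nat_lit 9, nat_lit 6, nat_lit 2, nat_lit 0, nat_lit 9, nat_lit 4, nat_lit 6], [nat_lit 1, nat_lit 2, nat_lit 8, nat_lit 5], [nat_lit 0, nat_lit 3, nat_lit 0, nat_lit 3], [nat_lit 1, nat_lit 2, nat_lit 4, nat_lit 9]),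
  ([nat_lit 2, nat_lit 4, nat_lit 8, nat_lit 4, nat_lit 7, nat_lit 2, nat_lit 9, nat_lit 7], [nat_lit 0, nat_lit 3, nat_lit 4, nat_lit 8, nat_lit 4], [nat_lit 0, nat_lit 3, nat_lit 0, nat_lit 3], [nat_lit 0, nat_lit 3, nat_lit 5, nat_lit 9, nat_lit 5]),
  ([nat_lit 1, nat_lit 2, nat_lit 7, nat_lit 3, nat_lit 0, nat_lit 8, nat_lit 5, nat_lit 7], [nat_lit 0, nat_lit 2, nat_lit 0, nat_lit 5, nat_lit 8], [nat_lit 0, nat_lit 2, nat_lit 0, nat_lit 5, nat_lit 8], []),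
  ([nat_lit 7, nat_lit 9, nat_lit 7, nat_lit 2, nat_lit 7], [nat_lit 3, nat_lit 7, nat_lit 9], [nat_lit 3, nat_lit 7, nat_lit 9], [])]
noncomputable def L1 : List (List ℕ × List ℕ × List ℕ × List ℕ) := [([nat_lit 3, nat_lit 7, nat_lit 3, nat_lit 1, nat_lit 8, nat_lit 4, nat_lit 6, nat_lit 2, nat_lit 8, nat_lit 6], [], [], []),
  ([nat_lit 2, nat_lit 8, nat_lit 7, nat_lit 3, nat_lit 0, nat_lit 8, nat_lit 4, nat_lit 6, nat_lit 8], [], [], []),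
  ([nat_lit 1, nat_lit 5, nat_lit 9, nat_lit 5, nat_lit 7, nat_lit 2, nat_lit 9, nat_lit 6, nat_lit 9], [], [], []),
  ([nat_lit 1, nat_lit 7, nat_lit 2, nat_lit 8, nat_lit 4, nat_lit 7, nat_lit 2, nat_lit 9, nat_lit 6], [], [], []),
  ([nat_lit 0, nat_lit 4, nat_lit 8, nat_lit 4, nat_lit 6, nat_lit 3, nat_lit 8, nat_lit 7, nat_lit 8, nat_lit 5], [], [], []),
  ([nat_lit 1, nat_lit 2, nat_lit 6, nat_lit 3, nat_lit 8, nat_lit 4, nat_lit 7, nat_lit 2, nat_lit 9, nat_lit 6], [], [], []),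
  ([nat_lit 7, nat_lit 3, nat_lit 0, nat_lit 9, nat_lit 7, nat_lit 2, nat_lit 7, nat_lit 9], [nat_lit 0, nat_lit 2, nat_lit 4, nat_lit 7, nat_lit 8], [nat_lit 0, nat_lit 2, nat_lit 4, nat_lit 7, nat_lit 8], []),
  ([nat_lit 5, nat_lit 8, nat_lit 7, nat_lit 3, nat_lit 8, nat_lit 7, nat_lit 8], [nat_lit 0, nat_lit 2, nat_lit 0, nat_lit 5, nat_lit 8], [nat_lit 0, nat_lit 2, nat_lit 0, nat_lit 5, nat_lit 8], []),
  ([nat_lit 2, nat_lit 8, nat_lit 5, nat_lit 6, nat_lit 2, nat_lit 0], [nat_lit 4, nat_lit 8, nat_lit 7, nat_lit 3, nat_lit 8, nat_lit 6], [nat_lit 4, nat_lit 8, nat_lit 7, nat_lit 3, nat_lit 8, nat_lit 6], []),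
  ([nat_lit 5, nat_lit 7, nat_lit 2, nat_lit 7, nat_lit 9, nat_lit 6, nat_lit 2, nat_lit 0], [nat_lit 0, nat_lit 2, nat_lit 4, nat_lit 7, nat_lit 8], [nat_lit 0, nat_lit 2, nat_lit 4, nat_lit 7, nat_lit 8], []),
  ([nat_lit 2, nat_lit 4, nat_lit 9, nat_lit 5, nat_lit 7, nat_lit 3, nat_lit 1], [nat_lit 4, nat_lit 8, nat_lit 7, nat_lit 3, nat_lit 8, nat_lit 6], [nat_lit 4, nat_lit 8, nat_lit 7, nat_lit 3, nat_lit 8, nat_lit 6], []),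
  ([nat_lit 9, nat_lit 6, nat_lit 2, nat_lit 9, nat_lit 6, nat_lit 9, nat_lit 4], [nat_lit 0, nat_lit 2, nat_lit 0, nat_lit 5, nat_lit 8], [nat_lit 0, nat_lit 2, nat_lit 0, nat_lit 5, nat_lit 8], []),
  ([nat_lit 0, nat_lit 7, nat_lit 2, nat_lit 0, nat_lit 9, nat_lit 6, nat_lit 2, nat_lit 9, nat_lit 7], [nat_lit 0, nat_lit 2, nat_lit 5], [nat_lit 0, nat_lit 2, nat_lit 5], []),
  ([nat_lit 0, nat_lit 3, nat_lit 8, nat_lit 7, nat_lit 2, nat_lit 8, nat_lit 4, nat_lit 7, nat_lit 8], [nat_lit 4, nat_lit 8, nat_lit 7, nat_lit 3, nat_lit 8, nat_lit 6], [nat_lit 4, nat_lit 8, nat_lit 7, nat_lit 3, nat_lit 8, nat_lit 6], []),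
  ([nat_lit 3, nat_lit 9, nat_lit 6, nat_lit 2, nat_lit 9, nat_lit 4, nat_lit 7], [nat_lit 0, nat_lit 2, nat_lit 1, nat_lit 6, nat_lit 8], [nat_lit 0, nat_lit 2, nat_lit 1, nat_lit 6, nat_lit 8], []),
  ([nat_lit 2, nat_lit 0, nat_lit 7, nat_lit 3, nat_lit 1, nat_lit 8, nat_lit 5, nat_lit 6, nat_lit 2], [], [], []),
  ([nat_lit 8, nat_lit 5, nat_lit 7, nat_lit 3, nat_lit 0, nat_lit 8, nat_lit 5, nat_lit 7], [nat_lit 0, nat_lit 2, nat_lit 0, nat_lit 5, nat_lit 8], [nat_lit 0, nat_lit 2, nat_lit 0, nat_lit 5, nat_lit 8], []),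
  ([nat_lit 3, nat_lit 4, nat_lit 7, nat_lit 8, nat_lit 5, nat_lit 6, nat_lit 2], [], [], []),
  ([nat_lit 3, nat_lit 1, nat_lit 7, nat_lit 3, nat_lit 8, nat_lit 5, nat_lit 6, nat_lit 3], [], [], []),
  ([nat_lit 4, nat_lit 7, nat_lit 2, nat_lit 0, nat_lit 8, nat_lit 5, nat_lit 6, nat_lit 3], [nat_lit 1, nat_lit 2, nat_lit 4, nat_lit 9], [nat_lit 1, nat_lit 2, nat_lit 4, nat_lit 9], []),
  ([nat_lit 0, nat_lit 3, nat_lit 1, nat_lit 6, nat_lit 8, nat_lit 5, nat_lit 6, nat_lit 3], [], [], []),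
  ([nat_lit 0, nat_lit 4, nat_lit 6, nat_lit 2, nat_lit 9, nat_lit 5, nat_lit 7, nat_lit 2], [nat_lit 2, nat_lit 4, nat_lit 6, nat_lit 8, nat_lit 7], [nat_lit 2, nat_lit 4, nat_lit 6, nat_lit 8, nat_lit 7], []),
  ([nat_lit 1, nat_lit 4, nat_lit 6, nat_lit 9, nat_lit 6, nat_lit 3, nat_lit 0], [nat_lit 2, nat_lit 4, nat_lit 6, nat_lit 8, nat_lit 7], [nat_lit 2, nat_lit 4, nat_lit 6, nat_lit 8, nat_lit 7], []),
  ([nat_lit 1, nat_lit 4, nat_lit 6, nat_lit 2, nat_lit 9, nat_lit 6, nat_lit 3, nat_lit 0], [nat_lit 0, nat_lit 2, nat_lit 0, nat_lit 5, nat_lit 8], [nat_lit 0, nat_lit 2, nat_lit 0, nat_lit 5, nat_lit 8], []),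
  ([nat_lit 6, nat_lit 3, nat_lit 1, nat_lit 8, nat_lit 7, nat_lit 3, nat_lit 1, nat_lit 8, nat_lit 6], [nat_lit 0, nat_lit 2, nat_lit 5], [nat_lit 0, nat_lit 2, nat_lit 5], []),
  ([nat_lit 0, nat_lit 9, nat_lit 6, nat_lit 3, nat_lit 1, nat_lit 6, nat_lit 8, nat_lit 7], [nat_lit 0, nat_lit 2, nat_lit 1, nat_lit 6, nat_lit 8], [nat_lit 0, nat_lit 2, nat_lit 1, nat_lit 6, nat_lit 8], []),
  ([nat_lit 6, nat_lit 8, nat_lit 4, nat_lit 6, nat_lit 2, nat_lit 0, nat_lit 8, nat_lit 6], [nat_lit 4, nat_lit 8, nat_lit 7, nat_lit 3, nat_lit 8, nat_lit 6], [nat_lit 4, nat_lit 8, nat_lit 7, nat_lit 3, nat_lit 8, nat_lit 6], []),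
  ([nat_lit 1, nat_lit 6, nat_lit 3, nat_lit 0, nat_lit 8, nat_lit 4, nat_lit 7, nat_lit 2], [nat_lit 2, nat_lit 4, nat_lit 6, nat_lit 8, nat_lit 7], [nat_lit 2, nat_lit 4, nat_lit 6, nat_lit 8, nat_lit 7], []),
  ([nat_lit 0, nat_lit 6, nat_lit 8, nat_lit 6, nat_lit 3, nat_lit 1, nat_lit 6], [nat_lit 0, nat_lit 2, nat_lit 0, nat_lit 5, nat_lit 8], [nat_lit 0, nat_lit 2, nat_lit 0, nat_lit 5, nat_lit 8], []),
  ([nat_lit 6, nat_lit 8, nat_lit 4, nat_lit 7, nat_lit 2], [nat_lit 2, nat_lit 4, nat_lit 6, nat_lit 8, nat_lit 7], [nat_lit 2, nat_lit 4, nat_lit 6, nat_lit 8, nat_lit 7], []),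
  ([nat_lit 1, nat_lit 2, nat_lit 7, nat_lit 2, nat_lit 7, nat_lit 9, nat_lit 6, nat_lit 2], [], [], []),
  ([nat_lit 1, nat_lit 2, nat_lit 6, nat_lit 9, nat_lit 6, nat_lit 2], [], [], []),
  ([nat_lit 1, nat_lit 7, nat_lit 3, nat_lit 9, nat_lit 6, nat_lit 2], [nat_lit 0, nat_lit 2, nat_lit 0, nat_lit 5, nat_lit 8], [nat_lit 0, nat_lit 2, nat_lit 0, nat_lit 5, nat_lit 8], []),
  ([nat_lit 1, nat_lit 2, nat_lit 1, nat_lit 5, nat_lit 6, nat_lit 3, nat_lit 9, nat_lit 6, nat_lit 3], [], [], []),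
  ([nat_lit 2, nat_lit 7, nat_lit 9, nat_lit 6, nat_lit 3], [], [], []),
  ([nat_lit 0, nat_lit 5, nat_lit 7, nat_lit 3, nat_lit 1, nat_lit 9, nat_lit 6, nat_lit 3], [nat_lit 1, nat_lit 2, nat_lit 4, nat_lit 9], [nat_lit 1, nat_lit 2, nat_lit 4, nat_lit 9], []),
  ([], [], [], []),
  ([nat_lit 1, nat_lit 3, nat_lit 7, nat_lit 2, nat_lit 0], [], [], []),
  ([nat_lit 1, nat_lit 3, nat_lit 6, nat_lit 2, nat_lit 0], [], [], []),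
  ([nat_lit 0, nat_lit 2, nat_lit 0, nat_lit 5, nat_lit 7, nat_lit 3, nat_lit 8, nat_lit 5], [nat_lit 0, nat_lit 2, nat_lit 1, nat_lit 6, nat_lit 8], [nat_lit 0, nat_lit 2, nat_lit 1, nat_lit 6, nat_lit 8], []),
  ([nat_lit 3, nat_lit 0, nat_lit 8, nat_lit 5], [nat_lit 0, nat_lit 3, nat_lit 5, nat_lit 8], [nat_lit 0, nat_lit 3, nat_lit 5, nat_lit 8], []),
  ([nat_lit 0, nat_lit 2, nat_lit 4, nat_lit 6, nat_lit 3, nat_lit 8, nat_lit 5], [nat_lit 4, nat_lit 8, nat_lit 7, nat_lit 3, nat_lit 8, nat_lit 6], [nat_lit 4, nat_lit 8, nat_lit 7, nat_lit 3, nat_lit 8, nat_lit 6], []),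
  ([nat_lit 0, nat_lit 3, nat_lit 0, nat_lit 4, nat_lit 9, nat_lit 7, nat_lit 2, nat_lit 0], [nat_lit 0, nat_lit 2, nat_lit 1, nat_lit 6, nat_lit 8], [nat_lit 0, nat_lit 2, nat_lit 1, nat_lit 6, nat_lit 8], []),
  ([nat_lit 5, nat_lit 7, nat_lit 2, nat_lit 7, nat_lit 9, nat_lit 7, nat_lit 2, nat_lit 0], [nat_lit 0, nat_lit 3, nat_lit 4, nat_lit 8, nat_lit 4], [nat_lit 0, nat_lit 3, nat_lit 4, nat_lit 8, nat_lit 4], []),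
  ([nat_lit 8, nat_lit 6, nat_lit 3, nat_lit 1, nat_lit 6, nat_lit 2, nat_lit 8, nat_lit 6], [nat_lit 0, nat_lit 2, nat_lit 4, nat_lit 7, nat_lit 8], [nat_lit 0, nat_lit 2, nat_lit 4, nat_lit 7, nat_lit 8], []),
  ([nat_lit 8, nat_lit 5, nat_lit 6, nat_lit 9, nat_lit 6, nat_lit 2], [nat_lit 0, nat_lit 2, nat_lit 4, nat_lit 7, nat_lit 8], [nat_lit 0, nat_lit 2, nat_lit 4, nat_lit 7, nat_lit 8], []),
  ([nat_lit 0, nat_lit 6, nat_lit 2, nat_lit 9, nat_lit 5, nat_lit 6, nat_lit 3, nat_lit 0, nat_lit 8], [nat_lit 0, nat_lit 5, nat_lit 6, nat_lit 3], [nat_lit 0, nat_lit 5, nat_lit 6, nat_lit 3], []),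
  ([nat_lit 0, nat_lit 6, nat_lit 9, nat_lit 7, nat_lit 2, nat_lit 1, nat_lit 7, nat_lit 8], [nat_lit 0, nat_lit 2, nat_lit 1, nat_lit 6, nat_lit 8], [nat_lit 0, nat_lit 2, nat_lit 1, nat_lit 6, nat_lit 8], []),
  ([nat_lit 0, nat_lit 5, nat_lit 9, nat_lit 5, nat_lit 7, nat_lit 2, nat_lit 8, nat_lit 7], [], [], []),
  ([nat_lit 3, nat_lit 7, nat_lit 8, nat_lit 7, nat_lit 3, nat_lit 0], [], [], []),
  ([nat_lit 3, nat_lit 6, nat_lit 3, nat_lit 9, nat_lit 5, nat_lit 7, nat_lit 2, nat_lit 8], [nat_lit 1, nat_lit 2, nat_lit 4, nat_lit 9], [nat_lit 1, nat_lit 2, nat_lit 4, nat_lit 9], []),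
  ([nat_lit 1, nat_lit 9, nat_lit 5, nat_lit 7, nat_lit 8], [], [], []),
  ([nat_lit 1, nat_lit 3, nat_lit 7, nat_lit 2, nat_lit 9, nat_lit 5, nat_lit 7, nat_lit 8], [nat_lit 1, nat_lit 2, nat_lit 4, nat_lit 9], [nat_lit 1, nat_lit 2, nat_lit 4, nat_lit 9], []),
  ([nat_lit 1, nat_lit 3, nat_lit 6, nat_lit 2, nat_lit 9, nat_lit 5, nat_lit 7, nat_lit 8], [], [], []),
  ([nat_lit 3, nat_lit 1, nat_lit 5, nat_lit 6, nat_lit 2, nat_lit 0, nat_lit 9, nat_lit 7], [nat_lit 2, nat_lit 4, nat_lit 6, nat_lit 8, nat_lit 7], [nat_lit 2, nat_lit 4, nat_lit 6, nat_lit 8, nat_lit 7], []),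
  ([nat_lit 3, nat_lit 5, nat_lit 6, nat_lit 9, nat_lit 7], [nat_lit 2, nat_lit 4, nat_lit 6, nat_lit 8, nat_lit 7], [nat_lit 2, nat_lit 4, nat_lit 6, nat_lit 8, nat_lit 7], []),
  ([nat_lit 0, nat_lit 7, nat_lit 2, nat_lit 1, nat_lit 7, nat_lit 9, nat_lit 7], [nat_lit 0, nat_lit 2, nat_lit 0, nat_lit 5, nat_lit 8], [nat_lit 0, nat_lit 2, nat_lit 0, nat_lit 5, nat_lit 8], []),
  ([nat_lit 1, nat_lit 8, nat_lit 4, nat_lit 6, nat_lit 3, nat_lit 8, nat_lit 6, nat_lit 3], [nat_lit 2, nat_lit 4, nat_lit 7, nat_lit 2], [nat_lit 2, nat_lit 4, nat_lit 7, nat_lit 2], []),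
  ([nat_lit 3, nat_lit 7, nat_lit 8, nat_lit 4, nat_lit 7, nat_lit 9], [nat_lit 0, nat_lit 2, nat_lit 4, nat_lit 7, nat_lit 8], [nat_lit 0, nat_lit 2, nat_lit 4, nat_lit 7, nat_lit 8], []),
  ([nat_lit 0, nat_lit 2, nat_lit 6, nat_lit 3, nat_lit 0, nat_lit 9, nat_lit 5, nat_lit 6, nat_lit 8], [nat_lit 4, nat_lit 8, nat_lit 7, nat_lit 3, nat_lit 8, nat_lit 6], [nat_lit 4, nat_lit 8, nat_lit 7, nat_lit 3, nat_lit 8, nat_lit 6], []),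
  ([nat_lit 0, nat_lit 9, nat_lit 4, nat_lit 6, nat_lit 8], [], [], []),
  ([nat_lit 1, nat_lit 4, nat_lit 6, nat_lit 3, nat_lit 9, nat_lit 4, nat_lit 6, nat_lit 9], [], [], []),
  ([nat_lit 1, nat_lit 4, nat_lit 6, nat_lit 2, nat_lit 9, nat_lit 4, nat_lit 6, nat_lit 9], [nat_lit 0, nat_lit 2, nat_lit 0, nat_lit 5, nat_lit 8], [nat_lit 0, nat_lit 2, nat_lit 0, nat_lit 5, nat_lit 8], []),
  ([nat_lit 0, nat_lit 7, nat_lit 3, nat_lit 9, nat_lit 7, nat_lit 2, nat_lit 1], [], [], []),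
  ([nat_lit 0, nat_lit 3, nat_lit 7, nat_lit 9, nat_lit 4, nat_lit 6, nat_lit 3, nat_lit 8], [], [], []),
  ([nat_lit 3, nat_lit 9, nat_lit 4, nat_lit 6, nat_lit 2, nat_lit 8, nat_lit 7, nat_lit 2], [nat_lit 1, nat_lit 2, nat_lit 4, nat_lit 9], [nat_lit 1, nat_lit 2, nat_lit 4, nat_lit 9], []),
  ([nat_lit 0, nat_lit 3, nat_lit 0, nat_lit 3, nat_lit 4, nat_lit 9, nat_lit 4, nat_lit 9], [], [], []),
  ([nat_lit 6, nat_lit 3, nat_lit 6, nat_lit 8, nat_lit 5, nat_lit 8], [], [], []),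
  ([nat_lit 9, nat_lit 4, nat_lit 9, nat_lit 7, nat_lit 2, nat_lit 7], [], [], []),
  ([nat_lit 0, nat_lit 3, nat_lit 8, nat_lit 6, nat_lit 3, nat_lit 1], [nat_lit 0, nat_lit 2, nat_lit 1, nat_lit 6, nat_lit 8], [nat_lit 0, nat_lit 2, nat_lit 1, nat_lit 6, nat_lit 8], []),
  ([nat_lit 1, nat_lit 3, nat_lit 7, nat_lit 8, nat_lit 4, nat_lit 6, nat_lit 3, nat_lit 6], [nat_lit 0, nat_lit 2, nat_lit 4, nat_lit 7, nat_lit 8], [nat_lit 0, nat_lit 2, nat_lit 4, nat_lit 7, nat_lit 8], []),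
  ([nat_lit 1, nat_lit 3, nat_lit 6, nat_lit 8, nat_lit 4, nat_lit 6, nat_lit 3, nat_lit 6], [nat_lit 0, nat_lit 3, nat_lit 4, nat_lit 8, nat_lit 4], [nat_lit 0, nat_lit 3, nat_lit 4, nat_lit 8, nat_lit 4], []),
  ([nat_lit 0, nat_lit 2, nat_lit 7, nat_lit 2, nat_lit 1, nat_lit 9], [nat_lit 0, nat_lit 2, nat_lit 1, nat_lit 6, nat_lit 8], [nat_lit 0, nat_lit 2, nat_lit 1, nat_lit 6, nat_lit 8], []),
  ([nat_lit 1, nat_lit 3, nat_lit 4, nat_lit 7, nat_lit 3, nat_lit 9], [nat_lit 4, nat_lit 8, nat_lit 7, nat_lit 3, nat_lit 8, nat_lit 6], [nat_lit 4, nat_lit 8, nat_lit 7, nat_lit 3, nat_lit 8, nat_lit 6], []),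
  ([nat_lit 1, nat_lit 2, nat_lit 4, nat_lit 9], [nat_lit 0, nat_lit 3, nat_lit 5, nat_lit 8], [nat_lit 0, nat_lit 3, nat_lit 5, nat_lit 8], []),
  ([nat_lit 0, nat_lit 2, nat_lit 7, nat_lit 2, nat_lit 8, nat_lit 4, nat_lit 6, nat_lit 8], [nat_lit 2, nat_lit 4, nat_lit 7, nat_lit 2], [nat_lit 2, nat_lit 4, nat_lit 7, nat_lit 2], []),
  ([nat_lit 1, nat_lit 5, nat_lit 7, nat_lit 3, nat_lit 9, nat_lit 5, nat_lit 7, nat_lit 9], [nat_lit 4, nat_lit 8, nat_lit 7, nat_lit 3, nat_lit 8, nat_lit 6], [nat_lit 4, nat_lit 8, nat_lit 7, nat_lit 3, nat_lit 8, nat_lit 6], []),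
  ([nat_lit 1, nat_lit 2, nat_lit 0, nat_lit 4, nat_lit 8, nat_lit 4, nat_lit 6, nat_lit 8], [nat_lit 0, nat_lit 2, nat_lit 4, nat_lit 7, nat_lit 8], [nat_lit 0, nat_lit 2, nat_lit 4, nat_lit 7, nat_lit 8], []),
  ([nat_lit 0, nat_lit 5, nat_lit 7, nat_lit 3, nat_lit 1, nat_lit 8, nat_lit 6, nat_lit 3], [], [], []),
  ([nat_lit 1, nat_lit 2, nat_lit 1, nat_lit 5, nat_lit 6, nat_lit 3, nat_lit 8, nat_lit 6, nat_lit 3], [nat_lit 1, nat_lit 2, nat_lit 4, nat_lit 9], [nat_lit 1, nat_lit 2, nat_lit 4, nat_lit 9], []),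
  ([nat_lit 2, nat_lit 7, nat_lit 8, nat_lit 6, nat_lit 3], [], [], []),
  ([nat_lit 2, nat_lit 1, nat_lit 2, nat_lit 5, nat_lit 6, nat_lit 8, nat_lit 6], [], [], []),
  ([nat_lit 3, nat_lit 7, nat_lit 2, nat_lit 0, nat_lit 8, nat_lit 6], [nat_lit 0, nat_lit 2, nat_lit 0, nat_lit 5, nat_lit 8], [nat_lit 0, nat_lit 2, nat_lit 0, nat_lit 5, nat_lit 8], []),
  ([nat_lit 0, nat_lit 3, nat_lit 6, nat_lit 2, nat_lit 1, nat_lit 8, nat_lit 6], [], [], []),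
  ([nat_lit 1, nat_lit 7, nat_lit 9, nat_lit 5, nat_lit 7, nat_lit 3, nat_lit 0, nat_lit 9], [nat_lit 0, nat_lit 2, nat_lit 4, nat_lit 7, nat_lit 8], [nat_lit 0, nat_lit 2, nat_lit 4, nat_lit 7, nat_lit 8], []),
  ([nat_lit 5, nat_lit 6, nat_lit 3, nat_lit 8, nat_lit 7, nat_lit 2, nat_lit 8], [nat_lit 0, nat_lit 2, nat_lit 1, nat_lit 6, nat_lit 8], [nat_lit 0, nat_lit 2, nat_lit 1, nat_lit 6, nat_lit 8], []),
  ([nat_lit 0, nat_lit 5, nat_lit 6, nat_lit 2, nat_lit 0, nat_lit 8, nat_lit 7, nat_lit 2, nat_lit 8], [nat_lit 0, nat_lit 5, nat_lit 6, nat_lit 3], [nat_lit 0, nat_lit 5, nat_lit 6, nat_lit 3], []),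
  ([nat_lit 1, nat_lit 2, nat_lit 7, nat_lit 2, nat_lit 0, nat_lit 8, nat_lit 5, nat_lit 7], [nat_lit 2, nat_lit 4, nat_lit 6, nat_lit 8, nat_lit 7], [nat_lit 2, nat_lit 4, nat_lit 6, nat_lit 8, nat_lit 7], []),
  ([nat_lit 1, nat_lit 2, nat_lit 7, nat_lit 3, nat_lit 0, nat_lit 8, nat_lit 5, nat_lit 7], [nat_lit 0, nat_lit 2, nat_lit 0, nat_lit 5, nat_lit 8], [nat_lit 0, nat_lit 2, nat_lit 0, nat_lit 5, nat_lit 8], []),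
  ([nat_lit 1, nat_lit 2, nat_lit 0, nat_lit 7, nat_lit 8, nat_lit 5, nat_lit 7], [nat_lit 2, nat_lit 4, nat_lit 6, nat_lit 8, nat_lit 7], [nat_lit 2, nat_lit 4, nat_lit 6, nat_lit 8, nat_lit 7], []),
  ([nat_lit 4, nat_lit 8, nat_lit 5, nat_lit 6, nat_lit 3, nat_lit 0, nat_lit 8, nat_lit 7], [], [], []),
  ([nat_lit 1, nat_lit 5, nat_lit 9, nat_lit 5, nat_lit 7, nat_lit 3, nat_lit 9, nat_lit 6, nat_lit 9], [nat_lit 1, nat_lit 2, nat_lit 4, nat_lit 9], [nat_lit 1, nat_lit 2, nat_lit 4, nat_lit 9], []),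
  ([nat_lit 3, nat_lit 4, nat_lit 7, nat_lit 9, nat_lit 5, nat_lit 6, nat_lit 2], [], [], []),
  ([nat_lit 7, nat_lit 9, nat_lit 4, nat_lit 7, nat_lit 3, nat_lit 0, nat_lit 3], [], [], []),
  ([nat_lit 3, nat_lit 5, nat_lit 7, nat_lit 2, nat_lit 0, nat_lit 9, nat_lit 5, nat_lit 6], [], [], []),
  ([nat_lit 0, nat_lit 2, nat_lit 6, nat_lit 2, nat_lit 8, nat_lit 4, nat_lit 7, nat_lit 8], [nat_lit 1, nat_lit 2, nat_lit 4, nat_lit 9], [nat_lit 1, nat_lit 2, nat_lit 4, nat_lit 9], [])]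
noncomputable def L2 : List (List ℕ × List ℕ × List ℕ × List ℕ) := [([nat_lit 0, nat_lit 8, nat_lit 4, nat_lit 6, nat_lit 3, nat_lit 0, nat_lit 9, nat_lit 7], [nat_lit 0, nat_lit 2, nat_lit 0, nat_lit 9, nat_lit 4], [nat_lit 0, nat_lit 7, nat_lit 2, nat_lit 9, nat_lit 4, nat_lit 7, nat_lit 3, nat_lit 8], [nat_lit 0, nat_lit 5, nat_lit 7, nat_lit 2, nat_lit 7, nat_lit 8, nat_lit 6]),
  ([nat_lit 6, nat_lit 3, nat_lit 8, nat_lit 5, nat_lit 6, nat_lit 2], [nat_lit 0, nat_lit 2, nat_lit 0, nat_lit 9, nat_lit 4], [nat_lit 0, nat_lit 7, nat_lit 2, nat_lit 9, nat_lit 4, nat_lit 7, nat_lit 3, nat_lit 8], [nat_lit 0, nat_lit 5, nat_lit 7, nat_lit 2, nat_lit 7, nat_lit 8, nat_lit 6]),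
  ([], [], [], []),
  ([nat_lit 3, nat_lit 0, nat_lit 8, nat_lit 5], [nat_lit 0, nat_lit 3, nat_lit 5, nat_lit 8], [nat_lit 0, nat_lit 3, nat_lit 5, nat_lit 8], []),
  ([nat_lit 1, nat_lit 2, nat_lit 4, nat_lit 6, nat_lit 2, nat_lit 8, nat_lit 5, nat_lit 7], [nat_lit 0, nat_lit 2, nat_lit 0, nat_lit 9, nat_lit 4], [nat_lit 0, nat_lit 7, nat_lit 2, nat_lit 9, nat_lit 4, nat_lit 7, nat_lit 3, nat_lit 8], [nat_lit 0, nat_lit 5, nat_lit 7, nat_lit 2, nat_lit 7, nat_lit 8, nat_lit 6]),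
  ([nat_lit 0, nat_lit 3, nat_lit 0, nat_lit 3, nat_lit 4, nat_lit 9, nat_lit 4, nat_lit 9], [], [], []),
  ([nat_lit 1, nat_lit 2, nat_lit 4, nat_lit 9], [nat_lit 0, nat_lit 3, nat_lit 5, nat_lit 8], [nat_lit 0, nat_lit 3, nat_lit 5, nat_lit 8], []),
  ([nat_lit 3, nat_lit 4, nat_lit 7, nat_lit 2, nat_lit 9, nat_lit 7], [nat_lit 0, nat_lit 2, nat_lit 0, nat_lit 9, nat_lit 4], [nat_lit 0, nat_lit 7, nat_lit 2, nat_lit 9, nat_lit 4, nat_lit 7, nat_lit 3, nat_lit 8], [nat_lit 0, nat_lit 5, nat_lit 7, nat_lit 2, nat_lit 7, nat_lit 8, nat_lit 6])]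
noncomputable def L3 : List (List ℕ × List ℕ × List ℕ × List ℕ) := [([], [], [], []),
  ([nat_lit 4], [], [], []),
  ([nat_lit 5], [], [], []),
  ([nat_lit 3, nat_lit 1, nat_lit 5, nat_lit 6], [nat_lit 2, nat_lit 0, nat_lit 7], [], []),
  ([nat_lit 3, nat_lit 1, nat_lit 6], [nat_lit 2, nat_lit 0, nat_lit 7], [], []),
  ([nat_lit 3, nat_lit 1, nat_lit 4, nat_lit 6], [nat_lit 2, nat_lit 0, nat_lit 7], [], []),
  ([nat_lit 0, nat_lit 4, nat_lit 7, nat_lit 2], [nat_lit 2, nat_lit 0, nat_lit 7], [], []),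
  ([nat_lit 0, nat_lit 5, nat_lit 7, nat_lit 2], [nat_lit 2, nat_lit 0, nat_lit 7], [], []),
  ([nat_lit 0, nat_lit 7, nat_lit 2], [nat_lit 2, nat_lit 0, nat_lit 7], [], []),
  ([nat_lit 0, nat_lit 3, nat_lit 0, nat_lit 3, nat_lit 4, nat_lit 9, nat_lit 4, nat_lit 9], [], [], []),
  ([nat_lit 0, nat_lit 3, nat_lit 0, nat_lit 3, nat_lit 9, nat_lit 4, nat_lit 9], [], [], []),
  ([nat_lit 0, nat_lit 3, nat_lit 0, nat_lit 3, nat_lit 8, nat_lit 5, nat_lit 8], [], [], []),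
  ([nat_lit 9, nat_lit 4, nat_lit 9, nat_lit 6, nat_lit 3, nat_lit 0], [nat_lit 2, nat_lit 0, nat_lit 7], [], []),
  ([nat_lit 8, nat_lit 5, nat_lit 8, nat_lit 6, nat_lit 3, nat_lit 0], [nat_lit 2, nat_lit 0, nat_lit 7], [], []),
  ([nat_lit 1, nat_lit 7, nat_lit 3, nat_lit 0, nat_lit 9, nat_lit 4, nat_lit 9], [nat_lit 2, nat_lit 0, nat_lit 7], [], []),
  ([nat_lit 1, nat_lit 2, nat_lit 7, nat_lit 8, nat_lit 5, nat_lit 8], [nat_lit 2, nat_lit 0, nat_lit 7], [], []),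
  ([nat_lit 1, nat_lit 2, nat_lit 0, nat_lit 8, nat_lit 5, nat_lit 8, nat_lit 6], [nat_lit 2, nat_lit 0, nat_lit 7], [], []),
  ([nat_lit 1, nat_lit 2, nat_lit 7, nat_lit 9, nat_lit 4, nat_lit 9], [nat_lit 2, nat_lit 0, nat_lit 7], [], [])]
noncomputable def L4 : List (List ℕ × List ℕ × List ℕ × List ℕ) := [([], [], [], []),
  ([nat_lit 4], [], [], []),
  ([nat_lit 5], [], [], []),
  ([nat_lit 2, nat_lit 1, nat_lit 5, nat_lit 6], [nat_lit 3, nat_lit 0, nat_lit 7], [], []),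
  ([nat_lit 2, nat_lit 1, nat_lit 6], [nat_lit 3, nat_lit 0, nat_lit 7], [], []),
  ([nat_lit 2, nat_lit 1, nat_lit 4, nat_lit 6], [nat_lit 3, nat_lit 0, nat_lit 7], [], []),
  ([nat_lit 0, nat_lit 4, nat_lit 7, nat_lit 3], [nat_lit 3, nat_lit 0, nat_lit 7], [], []),
  ([nat_lit 0, nat_lit 5, nat_lit 7, nat_lit 3], [nat_lit 3, nat_lit 0, nat_lit 7], [], []),
  ([nat_lit 0, nat_lit 7, nat_lit 3], [nat_lit 3, nat_lit 0, nat_lit 7], [], []),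
  ([nat_lit 0, nat_lit 3, nat_lit 0, nat_lit 3, nat_lit 4, nat_lit 9, nat_lit 4, nat_lit 9], [], [], []),
  ([nat_lit 0, nat_lit 3, nat_lit 0, nat_lit 3, nat_lit 9, nat_lit 4, nat_lit 9], [], [], []),
  ([nat_lit 0, nat_lit 3, nat_lit 0, nat_lit 3, nat_lit 8, nat_lit 5, nat_lit 8], [], [], []),
  ([nat_lit 7, nat_lit 2, nat_lit 1, nat_lit 8, nat_lit 5, nat_lit 8], [nat_lit 3, nat_lit 0, nat_lit 7], [], []),
  ([nat_lit 0, nat_lit 8, nat_lit 5, nat_lit 8, nat_lit 6, nat_lit 2, nat_lit 1], [nat_lit 3, nat_lit 0, nat_lit 7], [], []),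
  ([nat_lit 7, nat_lit 2, nat_lit 1, nat_lit 9, nat_lit 4, nat_lit 9], [nat_lit 3, nat_lit 0, nat_lit 7], [], []),
  ([nat_lit 0, nat_lit 3, nat_lit 9, nat_lit 4, nat_lit 9, nat_lit 6], [nat_lit 3, nat_lit 0, nat_lit 7], [], []),
  ([nat_lit 0, nat_lit 3, nat_lit 8, nat_lit 5, nat_lit 8, nat_lit 6], [nat_lit 3, nat_lit 0, nat_lit 7], [], []),
  ([nat_lit 0, nat_lit 3, nat_lit 1, nat_lit 7, nat_lit 9, nat_lit 4, nat_lit 9], [nat_lit 3, nat_lit 0, nat_lit 7], [], [])]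
noncomputable def L5 : List (List ℕ × List ℕ × List ℕ × List ℕ) := [([nat_lit 0, nat_lit 4, nat_lit 7, nat_lit 2, nat_lit 8, nat_lit 7, nat_lit 2], [nat_lit 0, nat_lit 3, nat_lit 7, nat_lit 2, nat_lit 0, nat_lit 9, nat_lit 6, nat_lit 2], [], []),
  ([nat_lit 1, nat_lit 5, nat_lit 7, nat_lit 3, nat_lit 0, nat_lit 9, nat_lit 4, nat_lit 7, nat_lit 2], [nat_lit 0, nat_lit 3, nat_lit 7, nat_lit 2, nat_lit 0, nat_lit 9, nat_lit 6, nat_lit 2], [], []),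
  ([], [], [], []),
  ([nat_lit 0, nat_lit 5, nat_lit 8, nat_lit 7, nat_lit 2, nat_lit 1], [nat_lit 0, nat_lit 3, nat_lit 7, nat_lit 2, nat_lit 0, nat_lit 9, nat_lit 6, nat_lit 2], [], []),
  ([nat_lit 2, nat_lit 4, nat_lit 7, nat_lit 8], [nat_lit 0, nat_lit 3, nat_lit 7, nat_lit 2, nat_lit 0, nat_lit 9, nat_lit 6, nat_lit 2], [], []),
  ([nat_lit 0, nat_lit 3, nat_lit 1, nat_lit 6, nat_lit 2, nat_lit 9, nat_lit 5, nat_lit 7, nat_lit 8], [nat_lit 0, nat_lit 3, nat_lit 7, nat_lit 2, nat_lit 0, nat_lit 9, nat_lit 6, nat_lit 2], [], []),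
  ([nat_lit 0, nat_lit 3, nat_lit 0, nat_lit 3, nat_lit 4, nat_lit 9, nat_lit 4, nat_lit 9], [], [], []),
  ([nat_lit 9, nat_lit 5, nat_lit 6, nat_lit 3], [nat_lit 0, nat_lit 3, nat_lit 7, nat_lit 2, nat_lit 0, nat_lit 9, nat_lit 6, nat_lit 2], [], []),
  ([nat_lit 3, nat_lit 6, nat_lit 3, nat_lit 1, nat_lit 9, nat_lit 5, nat_lit 6], [nat_lit 0, nat_lit 3, nat_lit 7, nat_lit 2, nat_lit 0, nat_lit 9, nat_lit 6, nat_lit 2], [], []),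
  ([nat_lit 0, nat_lit 3, nat_lit 1, nat_lit 6, nat_lit 9, nat_lit 4], [nat_lit 0, nat_lit 3, nat_lit 7, nat_lit 2, nat_lit 0, nat_lit 9, nat_lit 6, nat_lit 2], [], [])]

theorem p2t_lt : allL (ltAll 10) p2t_W = true := by decide +kernel
theorem p2_r_a : allZ2 (resEnt p2t_P p2P p2E p2I (nat_lit 80) (nat_lit 64)) (nat_lit 7) (nat_lit 64) = true := by decide +kernel
theorem p2_b : neL H29.D4m.B (p2B.map p2E) = 0 ∧ ltAll 64 p2B = 0 := by decide +kernel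
theorem p2_p : allZ2 (pcEnt p2P (nat_lit 2) p2B p2C) 7 7 = true := by decide +kernel
theorem p2_e : allL (ltAll 7) p2e = true := by decide +kernel
theorem p2l0_e_0 : allZ (dent p2l0 (wdsP p2P p2e) (nat_lit 64)) (nat_lit 0) (nat_lit 63) = true := by decide +kernel
theorem p2l0_h : 0 < p2l0.n ∧ 0 < p2l0.K ∧ p2l0.Pt 0 < 64 ∧ p2l0.Q (p2l0.Pt 0) = 0 := by decide +kernel
theorem p2l1_e_0 : allZ (dent p2l1 (wdsP p2P p2e) (nat_lit 64)) (nat_lit 0) (nat_lit 1) = true := by decide +kernel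
theorem p2l1_h : 0 < p2l1.n ∧ 0 < p2l1.K ∧ p2l1.Pt 0 < 64 ∧ p2l1.Q (p2l1.Pt 0) = 0 := by decide +kernel
theorem p2_f1 : (Nat.ble p2l1.K 32 && Nat.ble (topK []) p2l1.K && fixLetters (wdsP p2P p2e) (topK []) (p2l1.Pt 0)) = true := by decide +kernel
theorem p2_f0 : (Nat.ble p2l0.K 32 && Nat.ble (topK [p2l1]) p2l0.K && fixLetters (wdsP p2P p2e) (topK [p2l1]) (p2l0.Pt 0)) = true := by decide +kernel
theorem p2_c : chainCard [p2l0, p2l1] = 2 ^ 7 ∧ ¬ 2 ^ (7 + 1) ∣ 51840 := by decide +kernel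
theorem cv2r_lt : allL (ltAll 10) cv2r_W = true := by decide +kernel
theorem cv2_c0 : (Nat.ble 7 7 && Nat.beq (ltAll 7 []) 0 && Nat.beq (cv2T0.chk H29.D4m.P p2P cv2r_P p2E 10 7 2 128 6 p2B 7 [] 0) 0) = true := by decide +kernel
theorem x2_2_lt : allL (ltAll 10) x2_2_W = true := by decide +kernel
theorem t2_2h_lt : allL (ltAll 10) t2_2h_W = true := by decide +kernel
theorem t2_2l0_e_0 : allZ (dent t2_2l0 t2_2h_P (nat_lit 80)) (nat_lit 0) (nat_lit 79) = true := by decide +kernel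
theorem t2_2l0_h : 0 < t2_2l0.n ∧ 0 < t2_2l0.K ∧ t2_2l0.Pt 0 < 80 ∧ t2_2l0.Q (t2_2l0.Pt 0) = 0 := by decide +kernel
theorem t2_2l1_e_0 : allZ (dent t2_2l1 t2_2h_P (nat_lit 80)) (nat_lit 0) (nat_lit 23) = true := by decide +kernel
theorem t2_2l1_h : 0 < t2_2l1.n ∧ 0 < t2_2l1.K ∧ t2_2l1.Pt 0 < 80 ∧ t2_2l1.Q (t2_2l1.Pt 0) = 0 := by decide +kernel
theorem t2_2l2_e_0 : allZ (dent t2_2l2 t2_2h_P (nat_lit 80)) (nat_lit 0) (nat_lit 8) = true := by decide +kernel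
theorem t2_2l2_h : 0 < t2_2l2.n ∧ 0 < t2_2l2.K ∧ t2_2l2.Pt 0 < 80 ∧ t2_2l2.Q (t2_2l2.Pt 0) = 0 := by decide +kernel
theorem t2_2l3_e_0 : allZ (dent t2_2l3 t2_2h_P (nat_lit 80)) (nat_lit 0) (nat_lit 2) = true := by decide +kernel
theorem t2_2l3_h : 0 < t2_2l3.n ∧ 0 < t2_2l3.K ∧ t2_2l3.Pt 0 < 80 ∧ t2_2l3.Q (t2_2l3.Pt 0) = 0 := by decide +kernel
theorem t2_2_f3 : (Nat.ble t2_2l3.K 13 && Nat.ble (topK []) t2_2l3.K && fixLetters t2_2h_P (topK []) (t2_2l3.Pt 0)) = true := by decide +kernel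
theorem t2_2_f2 : (Nat.ble t2_2l2.K 13 && Nat.ble (topK [t2_2l3]) t2_2l2.K && fixLetters t2_2h_P (topK [t2_2l3]) (t2_2l2.Pt 0)) = true := by decide +kernel
theorem t2_2_f1 : (Nat.ble t2_2l1.K 13 && Nat.ble (topK [t2_2l2, t2_2l3]) t2_2l1.K && fixLetters t2_2h_P (topK [t2_2l2, t2_2l3]) (t2_2l1.Pt 0)) = true := by decide +kernel
theorem t2_2_f0 : (Nat.ble t2_2l0.K 13 && Nat.ble (topK [t2_2l1, t2_2l2, t2_2l3]) t2_2l0.K && fixLetters t2_2h_P (topK [t2_2l1, t2_2l2, t2_2l3]) (t2_2l0.Pt 0)) = true := by decide +kernel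
theorem t2_2_c : chainCard [t2_2l0, t2_2l1, t2_2l2, t2_2l3] = 51840 := by decide +kernel
theorem c2_2e_lt : allL (ltAll 10) c2_2e_W = true := by decide +kernel
theorem c2_2_f3 : (Nat.ble t2_2l3.K 13 && Nat.blt (nat_lit 2) 80 && fixLetters t2_2h_P t2_2l3.K (nat_lit 2) && Nat.beq (ltAll 1 [nat_lit 0]) 0 && Nat.beq (apW x2_2_P [nat_lit 0] (nat_lit 2)) (t2_2l3.Pt 0)) = true := by decide +kernel
theorem c2_2c2_e_0 : allZ (dent c2_2c2 c2_2e_P (nat_lit 80)) (nat_lit 0) (nat_lit 2) = true := by decide +kernel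
theorem c2_2c2_h : 0 < c2_2c2.n ∧ 0 < c2_2c2.K ∧ c2_2c2.Pt 0 < 80 ∧ c2_2c2.Q (c2_2c2.Pt 0) = 0 := by decide +kernel
theorem t2_2n0_0 : (Nat.ble t2_2l2.K 13 && Nat.beq (ltAll 80 [t2_2l1.Pt 0, t2_2l0.Pt 0]) 0 && kChk c2_2e_P x2_2_P t2_2n0.Kn 1 H29.D4m.B [t2_2l1.Pt 0, t2_2l0.Pt 0] && allL (ltAll 1) t2_2n0.pre && planOK t2_2h_P x2_2_P 1 (t2_2l2.Pt 0) t2_2n0.plan [t2_2l2, t2_2l3]) = true := by decide +kernel
theorem t2_2n0_1_0 : allZ (t2_2n0.ent H29.D4m.P t2_2h_P x2_2_P x2_2_P c2_2e_P (nat_lit 10) (nat_lit 1) H29.D4m.B t2_2l2 [t2_2l3] (memO c2_2c2)) (nat_lit 0) (nat_lit 9) = true := by decide +kernel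
theorem c2_2_f2 : (Nat.ble c2_2c2.K 3 && Nat.ble (topK []) c2_2c2.K && Nat.beq (c2_2c2.Pt 0) (t2_2l2.Pt 0) && Nat.beq (ltAll 80 [t2_2l1.Pt 0, t2_2l0.Pt 0]) 0 && kChk c2_2e_P x2_2_P c2_2c2.K 1 H29.D4m.B [t2_2l1.Pt 0, t2_2l0.Pt 0]) = true := by decide +kernel
theorem c2_2_f1 : (Nat.ble t2_2l1.K 13 && Nat.blt (nat_lit 0) 80 && fixLetters t2_2h_P t2_2l1.K (nat_lit 0) && Nat.beq (ltAll 1 [nat_lit 0]) 0 && Nat.beq (apW x2_2_P [nat_lit 0] (nat_lit 0)) (t2_2l1.Pt 0)) = true := by decide +kernel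
theorem c2_2c0_e_0 : allZ (dent c2_2c0 c2_2e_P (nat_lit 80)) (nat_lit 0) (nat_lit 31) = true := by decide +kernel
theorem c2_2c0_h : 0 < c2_2c0.n ∧ 0 < c2_2c0.K ∧ c2_2c0.Pt 0 < 80 ∧ c2_2c0.Q (c2_2c0.Pt 0) = 0 := by decide +kernel
theorem t2_2n1_0 : (Nat.ble t2_2l0.K 13 && Nat.beq (ltAll 80 []) 0 && kChk c2_2e_P x2_2_P t2_2n1.Kn 1 H29.D4m.B [] && allL (ltAll 1) t2_2n1.pre && planOK t2_2h_P x2_2_P 1 (t2_2l0.Pt 0) t2_2n1.plan [t2_2l0, t2_2l1, t2_2l2, t2_2l3]) = true := by decide +kernel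
theorem t2_2n1_1_0 : allZ (t2_2n1.ent H29.D4m.P t2_2h_P x2_2_P x2_2_P c2_2e_P (nat_lit 10) (nat_lit 1) H29.D4m.B t2_2l0 [t2_2l1, t2_2l2, t2_2l3] (memO c2_2c0)) (nat_lit 0) (nat_lit 80) = true := by decide +kernel
theorem c2_2_f0 : (Nat.ble c2_2c0.K 3 && Nat.ble (topK [c2_2c2]) c2_2c0.K && Nat.beq (c2_2c0.Pt 0) (t2_2l0.Pt 0) && Nat.beq (ltAll 80 []) 0 && kChk c2_2e_P x2_2_P c2_2c0.K 1 H29.D4m.B []) = true := by decide +kernel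
theorem c2_2_c : chainCard [c2_2c0, c2_2c2] = 96 ∧ topK [c2_2c0, c2_2c2] = 3 := by decide +kernel
theorem x2_3_lt : allL (ltAll 10) x2_3_W = true := by decide +kernel
theorem t2_3h_lt : allL (ltAll 10) t2_3h_W = true := by decide +kernel
theorem t2_3l0_e_0 : allZ (dent t2_3l0 t2_3h_P (nat_lit 80)) (nat_lit 0) (nat_lit 79) = true := by decide +kernel
theorem t2_3l0_h : 0 < t2_3l0.n ∧ 0 < t2_3l0.K ∧ t2_3l0.Pt 0 < 80 ∧ t2_3l0.Q (t2_3l0.Pt 0) = 0 := by decide +kernel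
theorem t2_3l1_e_0 : allZ (dent t2_3l1 t2_3h_P (nat_lit 80)) (nat_lit 0) (nat_lit 26) = true := by decide +kernel
theorem t2_3l1_h : 0 < t2_3l1.n ∧ 0 < t2_3l1.K ∧ t2_3l1.Pt 0 < 80 ∧ t2_3l1.Q (t2_3l1.Pt 0) = 0 := by decide +kernel
theorem t2_3l2_e_0 : allZ (dent t2_3l2 t2_3h_P (nat_lit 80)) (nat_lit 0) (nat_lit 7) = true := by decide +kernel
theorem t2_3l2_h : 0 < t2_3l2.n ∧ 0 < t2_3l2.K ∧ t2_3l2.Pt 0 < 80 ∧ t2_3l2.Q (t2_3l2.Pt 0) = 0 := by decide +kernel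
theorem t2_3l3_e_0 : allZ (dent t2_3l3 t2_3h_P (nat_lit 80)) (nat_lit 0) (nat_lit 2) = true := by decide +kernel
theorem t2_3l3_h : 0 < t2_3l3.n ∧ 0 < t2_3l3.K ∧ t2_3l3.Pt 0 < 80 ∧ t2_3l3.Q (t2_3l3.Pt 0) = 0 := by decide +kernel
theorem t2_3_f3 : (Nat.ble t2_3l3.K 13 && Nat.ble (topK []) t2_3l3.K && fixLetters t2_3h_P (topK []) (t2_3l3.Pt 0)) = true := by decide +kernel
theorem t2_3_f2 : (Nat.ble t2_3l2.K 13 && Nat.ble (topK [t2_3l3]) t2_3l2.K && fixLetters t2_3h_P (topK [t2_3l3]) (t2_3l2.Pt 0)) = true := by decide +kernel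
theorem t2_3_f1 : (Nat.ble t2_3l1.K 13 && Nat.ble (topK [t2_3l2, t2_3l3]) t2_3l1.K && fixLetters t2_3h_P (topK [t2_3l2, t2_3l3]) (t2_3l1.Pt 0)) = true := by decide +kernel
theorem t2_3_f0 : (Nat.ble t2_3l0.K 13 && Nat.ble (topK [t2_3l1, t2_3l2, t2_3l3]) t2_3l0.K && fixLetters t2_3h_P (topK [t2_3l1, t2_3l2, t2_3l3]) (t2_3l0.Pt 0)) = true := by decide +kernel
theorem t2_3_c : chainCard [t2_3l0, t2_3l1, t2_3l2, t2_3l3] = 51840 := by decide +kernel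
theorem c2_3e_lt : allL (ltAll 10) c2_3e_W = true := by decide +kernel
theorem c2_3_f3 : (Nat.ble t2_3l3.K 13 && Nat.blt (nat_lit 0) 80 && fixLetters t2_3h_P t2_3l3.K (nat_lit 0) && Nat.beq (ltAll 1 [nat_lit 0]) 0 && Nat.beq (apW x2_3_P [nat_lit 0] (nat_lit 0)) (t2_3l3.Pt 0)) = true := by decide +kernel
theorem c2_3c2_e_0 : allZ (dent c2_3c2 c2_3e_P (nat_lit 80)) (nat_lit 0) (nat_lit 3) = true := by decide +kernel
theorem c2_3c2_h : 0 < c2_3c2.n ∧ 0 < c2_3c2.K ∧ c2_3c2.Pt 0 < 80 ∧ c2_3c2.Q (c2_3c2.Pt 0) = 0 := by decide +kernel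
theorem t2_3n0_0 : (Nat.ble t2_3l2.K 13 && Nat.beq (ltAll 80 [t2_3l1.Pt 0, t2_3l0.Pt 0]) 0 && kChk c2_3e_P x2_3_P t2_3n0.Kn 1 H29.D4m.B [t2_3l1.Pt 0, t2_3l0.Pt 0] && allL (ltAll 1) t2_3n0.pre && planOK t2_3h_P x2_3_P 1 (t2_3l2.Pt 0) t2_3n0.plan [t2_3l2, t2_3l3]) = true := by decide +kernel
theorem t2_3n0_1_0 : allZ (t2_3n0.ent H29.D4m.P t2_3h_P x2_3_P x2_3_P c2_3e_P (nat_lit 10) (nat_lit 1) H29.D4m.B t2_3l2 [t2_3l3] (memO c2_3c2)) (nat_lit 0) (nat_lit 8) = true := by decide +kernel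
theorem c2_3_f2 : (Nat.ble c2_3c2.K 3 && Nat.ble (topK []) c2_3c2.K && Nat.beq (c2_3c2.Pt 0) (t2_3l2.Pt 0) && Nat.beq (ltAll 80 [t2_3l1.Pt 0, t2_3l0.Pt 0]) 0 && kChk c2_3e_P x2_3_P c2_3c2.K 1 H29.D4m.B [t2_3l1.Pt 0, t2_3l0.Pt 0]) = true := by decide +kernel
theorem c2_3c1_e_0 : allZ (dent c2_3c1 c2_3e_P (nat_lit 80)) (nat_lit 0) (nat_lit 2) = true := by decide +kernel
theorem c2_3c1_h : 0 < c2_3c1.n ∧ 0 < c2_3c1.K ∧ c2_3c1.Pt 0 < 80 ∧ c2_3c1.Q (c2_3c1.Pt 0) = 0 := by decide +kernel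
theorem t2_3n1_0 : (Nat.ble t2_3l1.K 13 && Nat.beq (ltAll 80 [t2_3l0.Pt 0]) 0 && kChk c2_3e_P x2_3_P t2_3n1.Kn 1 H29.D4m.B [t2_3l0.Pt 0] && allL (ltAll 1) t2_3n1.pre && planOK t2_3h_P x2_3_P 1 (t2_3l1.Pt 0) t2_3n1.plan [t2_3l1, t2_3l2, t2_3l3]) = true := by decide +kernel
theorem t2_3n1_1_0 : allZ (t2_3n1.ent H29.D4m.P t2_3h_P x2_3_P x2_3_P c2_3e_P (nat_lit 10) (nat_lit 1) H29.D4m.B t2_3l1 [t2_3l2, t2_3l3] (memO c2_3c1)) (nat_lit 0) (nat_lit 27) = true := by decide +kernel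
theorem c2_3_f1 : (Nat.ble c2_3c1.K 3 && Nat.ble (topK [c2_3c2]) c2_3c1.K && Nat.beq (c2_3c1.Pt 0) (t2_3l1.Pt 0) && Nat.beq (ltAll 80 [t2_3l0.Pt 0]) 0 && kChk c2_3e_P x2_3_P c2_3c1.K 1 H29.D4m.B [t2_3l0.Pt 0]) = true := by decide +kernel
theorem c2_3c0_e_0 : allZ (dent c2_3c0 c2_3e_P (nat_lit 80)) (nat_lit 0) (nat_lit 7) = true := by decide +kernel
theorem c2_3c0_h : 0 < c2_3c0.n ∧ 0 < c2_3c0.K ∧ c2_3c0.Pt 0 < 80 ∧ c2_3c0.Q (c2_3c0.Pt 0) = 0 := by decide +kernel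
theorem t2_3n2_0 : (Nat.ble t2_3l0.K 13 && Nat.beq (ltAll 80 []) 0 && kChk c2_3e_P x2_3_P t2_3n2.Kn 1 H29.D4m.B [] && allL (ltAll 1) t2_3n2.pre && planOK t2_3h_P x2_3_P 1 (t2_3l0.Pt 0) t2_3n2.plan [t2_3l0, t2_3l1, t2_3l2, t2_3l3]) = true := by decide +kernel
theorem t2_3n2_1_0 : allZ (t2_3n2.ent H29.D4m.P t2_3h_P x2_3_P x2_3_P c2_3e_P (nat_lit 10) (nat_lit 1) H29.D4m.B t2_3l0 [t2_3l1, t2_3l2, t2_3l3] (memO c2_3c0)) (nat_lit 0) (nat_lit 80) = true := by decide +kernel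
theorem c2_3_f0 : (Nat.ble c2_3c0.K 3 && Nat.ble (topK [c2_3c1, c2_3c2]) c2_3c0.K && Nat.beq (c2_3c0.Pt 0) (t2_3l0.Pt 0) && Nat.beq (ltAll 80 []) 0 && kChk c2_3e_P x2_3_P c2_3c0.K 1 H29.D4m.B []) = true := by decide +kernel
theorem c2_3_c : chainCard [c2_3c0, c2_3c1, c2_3c2] = 96 ∧ topK [c2_3c0, c2_3c1, c2_3c2] = 3 := by decide +kernel
theorem x2_4_lt : allL (ltAll 10) x2_4_W = true := by decide +kernel
theorem t2_4h_lt : allL (ltAll 10) t2_4h_W = true := by decide +kernel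
theorem t2_4l0_e_0 : allZ (dent t2_4l0 t2_4h_P (nat_lit 80)) (nat_lit 0) (nat_lit 79) = true := by decide +kernel
theorem t2_4l0_h : 0 < t2_4l0.n ∧ 0 < t2_4l0.K ∧ t2_4l0.Pt 0 < 80 ∧ t2_4l0.Q (t2_4l0.Pt 0) = 0 := by decide +kernel
theorem t2_4l1_e_0 : allZ (dent t2_4l1 t2_4h_P (nat_lit 80)) (nat_lit 0) (nat_lit 26) = true := by decide +kernel
theorem t2_4l1_h : 0 < t2_4l1.n ∧ 0 < t2_4l1.K ∧ t2_4l1.Pt 0 < 80 ∧ t2_4l1.Q (t2_4l1.Pt 0) = 0 := by decide +kernel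
theorem t2_4l2_e_0 : allZ (dent t2_4l2 t2_4h_P (nat_lit 80)) (nat_lit 0) (nat_lit 7) = true := by decide +kernel
theorem t2_4l2_h : 0 < t2_4l2.n ∧ 0 < t2_4l2.K ∧ t2_4l2.Pt 0 < 80 ∧ t2_4l2.Q (t2_4l2.Pt 0) = 0 := by decide +kernel
theorem t2_4l3_e_0 : allZ (dent t2_4l3 t2_4h_P (nat_lit 80)) (nat_lit 0) (nat_lit 2) = true := by decide +kernel
theorem t2_4l3_h : 0 < t2_4l3.n ∧ 0 < t2_4l3.K ∧ t2_4l3.Pt 0 < 80 ∧ t2_4l3.Q (t2_4l3.Pt 0) = 0 := by decide +kernel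
theorem t2_4_f3 : (Nat.ble t2_4l3.K 14 && Nat.ble (topK []) t2_4l3.K && fixLetters t2_4h_P (topK []) (t2_4l3.Pt 0)) = true := by decide +kernel
theorem t2_4_f2 : (Nat.ble t2_4l2.K 14 && Nat.ble (topK [t2_4l3]) t2_4l2.K && fixLetters t2_4h_P (topK [t2_4l3]) (t2_4l2.Pt 0)) = true := by decide +kernel
theorem t2_4_f1 : (Nat.ble t2_4l1.K 14 && Nat.ble (topK [t2_4l2, t2_4l3]) t2_4l1.K && fixLetters t2_4h_P (topK [t2_4l2, t2_4l3]) (t2_4l1.Pt 0)) = true := by decide +kernel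
theorem t2_4_f0 : (Nat.ble t2_4l0.K 14 && Nat.ble (topK [t2_4l1, t2_4l2, t2_4l3]) t2_4l0.K && fixLetters t2_4h_P (topK [t2_4l1, t2_4l2, t2_4l3]) (t2_4l0.Pt 0)) = true := by decide +kernel
theorem t2_4_c : chainCard [t2_4l0, t2_4l1, t2_4l2, t2_4l3] = 51840 := by decide +kernel
theorem c2_4e_lt : allL (ltAll 10) c2_4e_W = true := by decide +kernel
theorem c2_4c3_e_0 : allZ (dent c2_4c3 c2_4e_P (nat_lit 80)) (nat_lit 0) (nat_lit 2) = true := by decide +kernel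
theorem c2_4c3_h : 0 < c2_4c3.n ∧ 0 < c2_4c3.K ∧ c2_4c3.Pt 0 < 80 ∧ c2_4c3.Q (c2_4c3.Pt 0) = 0 := by decide +kernel
theorem t2_4n0_0 : (Nat.ble t2_4l3.K 14 && Nat.beq (ltAll 80 [t2_4l2.Pt 0, t2_4l1.Pt 0, t2_4l0.Pt 0]) 0 && kChk c2_4e_P x2_4_P t2_4n0.Kn 1 H29.D4m.B [t2_4l2.Pt 0, t2_4l1.Pt 0, t2_4l0.Pt 0] && allL (ltAll 1) t2_4n0.pre && planOK t2_4h_P x2_4_P 1 (t2_4l3.Pt 0) t2_4n0.plan [t2_4l3]) = true := by decide +kernel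
theorem t2_4n0_1_0 : allZ (t2_4n0.ent H29.D4m.P t2_4h_P x2_4_P x2_4_P c2_4e_P (nat_lit 10) (nat_lit 1) H29.D4m.B t2_4l3 [] (memO c2_4c3)) (nat_lit 0) (nat_lit 3) = true := by decide +kernel
theorem c2_4_f3 : (Nat.ble c2_4c3.K 3 && Nat.ble (topK []) c2_4c3.K && Nat.beq (c2_4c3.Pt 0) (t2_4l3.Pt 0) && Nat.beq (ltAll 80 [t2_4l2.Pt 0, t2_4l1.Pt 0, t2_4l0.Pt 0]) 0 && kChk c2_4e_P x2_4_P c2_4c3.K 1 H29.D4m.B [t2_4l2.Pt 0, t2_4l1.Pt 0, t2_4l0.Pt 0]) = true := by decide +kernel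
theorem c2_4_f2 : (Nat.ble t2_4l2.K 14 && Nat.blt (nat_lit 0) 80 && fixLetters t2_4h_P t2_4l2.K (nat_lit 0) && Nat.beq (ltAll 1 [nat_lit 0, nat_lit 0]) 0 && Nat.beq (apW x2_4_P [nat_lit 0, nat_lit 0] (nat_lit 0)) (t2_4l2.Pt 0)) = true := by decide +kernel
theorem c2_4_f1 : (Nat.ble t2_4l1.K 14 && Nat.blt (nat_lit 0) 80 && fixLetters t2_4h_P t2_4l1.K (nat_lit 0) && Nat.beq (ltAll 1 [nat_lit 0]) 0 && Nat.beq (apW x2_4_P [nat_lit 0] (nat_lit 0)) (t2_4l1.Pt 0)) = true := by decide +kernel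
theorem c2_4c0_e_0 : allZ (dent c2_4c0 c2_4e_P (nat_lit 80)) (nat_lit 0) (nat_lit 31) = true := by decide +kernel
theorem c2_4c0_h : 0 < c2_4c0.n ∧ 0 < c2_4c0.K ∧ c2_4c0.Pt 0 < 80 ∧ c2_4c0.Q (c2_4c0.Pt 0) = 0 := by decide +kernel
theorem t2_4n1_0 : (Nat.ble t2_4l0.K 14 && Nat.beq (ltAll 80 []) 0 && kChk c2_4e_P x2_4_P t2_4n1.Kn 1 H29.D4m.B [] && allL (ltAll 1) t2_4n1.pre && planOK t2_4h_P x2_4_P 1 (t2_4l0.Pt 0) t2_4n1.plan [t2_4l0, t2_4l1, t2_4l2, t2_4l3]) = true := by decide +kernel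
theorem t2_4n1_1_0 : allZ (t2_4n1.ent H29.D4m.P t2_4h_P x2_4_P x2_4_P c2_4e_P (nat_lit 10) (nat_lit 1) H29.D4m.B t2_4l0 [t2_4l1, t2_4l2, t2_4l3] (memO c2_4c0)) (nat_lit 0) (nat_lit 80) = true := by decide +kernel
theorem c2_4_f0 : (Nat.ble c2_4c0.K 3 && Nat.ble (topK [c2_4c3]) c2_4c0.K && Nat.beq (c2_4c0.Pt 0) (t2_4l0.Pt 0) && Nat.beq (ltAll 80 []) 0 && kChk c2_4e_P x2_4_P c2_4c0.K 1 H29.D4m.B []) = true := by decide +kernel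
theorem c2_4_c : chainCard [c2_4c0, c2_4c3] = 96 ∧ topK [c2_4c0, c2_4c3] = 3 := by decide +kernel
theorem x2_5_lt : allL (ltAll 10) x2_5_W = true := by decide +kernel
theorem t2_5h_lt : allL (ltAll 10) t2_5h_W = true := by decide +kernel
theorem t2_5l0_e_0 : allZ (dent t2_5l0 t2_5h_P (nat_lit 80)) (nat_lit 0) (nat_lit 79) = true := by decide +kernel
theorem t2_5l0_h : 0 < t2_5l0.n ∧ 0 < t2_5l0.K ∧ t2_5l0.Pt 0 < 80 ∧ t2_5l0.Q (t2_5l0.Pt 0) = 0 := by decide +kernel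
theorem t2_5l1_e_0 : allZ (dent t2_5l1 t2_5h_P (nat_lit 80)) (nat_lit 0) (nat_lit 26) = true := by decide +kernel
theorem t2_5l1_h : 0 < t2_5l1.n ∧ 0 < t2_5l1.K ∧ t2_5l1.Pt 0 < 80 ∧ t2_5l1.Q (t2_5l1.Pt 0) = 0 := by decide +kernel
theorem t2_5l2_e_0 : allZ (dent t2_5l2 t2_5h_P (nat_lit 80)) (nat_lit 0) (nat_lit 7) = true := by decide +kernel
theorem t2_5l2_h : 0 < t2_5l2.n ∧ 0 < t2_5l2.K ∧ t2_5l2.Pt 0 < 80 ∧ t2_5l2.Q (t2_5l2.Pt 0) = 0 := by decide +kernel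
theorem t2_5l3_e_0 : allZ (dent t2_5l3 t2_5h_P (nat_lit 80)) (nat_lit 0) (nat_lit 2) = true := by decide +kernel
theorem t2_5l3_h : 0 < t2_5l3.n ∧ 0 < t2_5l3.K ∧ t2_5l3.Pt 0 < 80 ∧ t2_5l3.Q (t2_5l3.Pt 0) = 0 := by decide +kernel
theorem t2_5_f3 : (Nat.ble t2_5l3.K 12 && Nat.ble (topK []) t2_5l3.K && fixLetters t2_5h_P (topK []) (t2_5l3.Pt 0)) = true := by decide +kernel
theorem t2_5_f2 : (Nat.ble t2_5l2.K 12 && Nat.ble (topK [t2_5l3]) t2_5l2.K && fixLetters t2_5h_P (topK [t2_5l3]) (t2_5l2.Pt 0)) = true := by decide +kernel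
theorem t2_5_f1 : (Nat.ble t2_5l1.K 12 && Nat.ble (topK [t2_5l2, t2_5l3]) t2_5l1.K && fixLetters t2_5h_P (topK [t2_5l2, t2_5l3]) (t2_5l1.Pt 0)) = true := by decide +kernel
theorem t2_5_f0 : (Nat.ble t2_5l0.K 12 && Nat.ble (topK [t2_5l1, t2_5l2, t2_5l3]) t2_5l0.K && fixLetters t2_5h_P (topK [t2_5l1, t2_5l2, t2_5l3]) (t2_5l0.Pt 0)) = true := by decide +kernel
theorem t2_5_c : chainCard [t2_5l0, t2_5l1, t2_5l2, t2_5l3] = 51840 := by decide +kernel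
theorem c2_5e_lt : allL (ltAll 10) c2_5e_W = true := by decide +kernel
theorem c2_5_f3 : (Nat.ble t2_5l3.K 12 && Nat.blt (nat_lit 0) 80 && fixLetters t2_5h_P t2_5l3.K (nat_lit 0) && Nat.beq (ltAll 1 [nat_lit 0, nat_lit 0, nat_lit 0]) 0 && Nat.beq (apW x2_5_P [nat_lit 0, nat_lit 0, nat_lit 0] (nat_lit 0)) (t2_5l3.Pt 0)) = true := by decide +kernel
theorem c2_5_f2 : (Nat.ble t2_5l2.K 12 && Nat.blt (nat_lit 0) 80 && fixLetters t2_5h_P t2_5l2.K (nat_lit 0) && Nat.beq (ltAll 1 [nat_lit 0, nat_lit 0]) 0 && Nat.beq (apW x2_5_P [nat_lit 0, nat_lit 0] (nat_lit 0)) (t2_5l2.Pt 0)) = true := by decide +kernel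
theorem c2_5_f1 : (Nat.ble t2_5l1.K 12 && Nat.blt (nat_lit 0) 80 && fixLetters t2_5h_P t2_5l1.K (nat_lit 0) && Nat.beq (ltAll 1 [nat_lit 0]) 0 && Nat.beq (apW x2_5_P [nat_lit 0] (nat_lit 0)) (t2_5l1.Pt 0)) = true := by decide +kernel
theorem c2_5c0_e_0 : allZ (dent c2_5c0 c2_5e_P (nat_lit 80)) (nat_lit 0) (nat_lit 7) = true := by decide +kernel
theorem c2_5c0_h : 0 < c2_5c0.n ∧ 0 < c2_5c0.K ∧ c2_5c0.Pt 0 < 80 ∧ c2_5c0.Q (c2_5c0.Pt 0) = 0 := by decide +kernel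
theorem t2_5n0_0 : (Nat.ble t2_5l0.K 12 && Nat.beq (ltAll 80 []) 0 && kChk c2_5e_P x2_5_P t2_5n0.Kn 1 H29.D4m.B [] && allL (ltAll 1) t2_5n0.pre && planOK t2_5h_P x2_5_P 1 (t2_5l0.Pt 0) t2_5n0.plan [t2_5l0, t2_5l1, t2_5l2, t2_5l3]) = true := by decide +kernel
theorem t2_5n0_1_0 : allZ (t2_5n0.ent H29.D4m.P t2_5h_P x2_5_P x2_5_P c2_5e_P (nat_lit 10) (nat_lit 1) H29.D4m.B t2_5l0 [t2_5l1, t2_5l2, t2_5l3] (memO c2_5c0)) (nat_lit 0) (nat_lit 80) = true := by decide +kernel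
theorem c2_5_f0 : (Nat.ble c2_5c0.K 2 && Nat.ble (topK []) c2_5c0.K && Nat.beq (c2_5c0.Pt 0) (t2_5l0.Pt 0) && Nat.beq (ltAll 80 []) 0 && kChk c2_5e_P x2_5_P c2_5c0.K 1 H29.D4m.B []) = true := by decide +kernel
theorem c2_5_c : chainCard [c2_5c0] = 8 ∧ topK [c2_5c0] = 2 := by decide +kernel
theorem p3t_lt : allL (ltAll 10) p3t_W = true := by decide +kernel
theorem p3_r_a : allZ2 (resEnt p3t_P p3P p3E p3I (nat_lit 80) (nat_lit 40)) (nat_lit 4) (nat_lit 40) = true := by decide +kernel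
theorem p3_b : neL H29.D4m.B (p3B.map p3E) = 0 ∧ ltAll 40 p3B = 0 := by decide +kernel
theorem p3_p : allZ2 (pcEnt p3P (nat_lit 3) p3B p3C) 4 4 = true := by decide +kernel
theorem p3_e : allL (ltAll 4) p3e = true := by decide +kernel
theorem p3l0_e_0 : allZ (dent p3l0 (wdsP p3P p3e) (nat_lit 40)) (nat_lit 0) (nat_lit 8) = true := by decide +kernel
theorem p3l0_h : 0 < p3l0.n ∧ 0 < p3l0.K ∧ p3l0.Pt 0 < 40 ∧ p3l0.Q (p3l0.Pt 0) = 0 := by decide +kernel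
theorem p3l1_e_0 : allZ (dent p3l1 (wdsP p3P p3e) (nat_lit 40)) (nat_lit 0) (nat_lit 2) = true := by decide +kernel
theorem p3l1_h : 0 < p3l1.n ∧ 0 < p3l1.K ∧ p3l1.Pt 0 < 40 ∧ p3l1.Q (p3l1.Pt 0) = 0 := by decide +kernel
theorem p3l2_e_0 : allZ (dent p3l2 (wdsP p3P p3e) (nat_lit 40)) (nat_lit 0) (nat_lit 2) = true := by decide +kernel
theorem p3l2_h : 0 < p3l2.n ∧ 0 < p3l2.K ∧ p3l2.Pt 0 < 40 ∧ p3l2.Q (p3l2.Pt 0) = 0 := by decide +kernel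
theorem p3_f2 : (Nat.ble p3l2.K 9 && Nat.ble (topK []) p3l2.K && fixLetters (wdsP p3P p3e) (topK []) (p3l2.Pt 0)) = true := by decide +kernel
theorem p3_f1 : (Nat.ble p3l1.K 9 && Nat.ble (topK [p3l2]) p3l1.K && fixLetters (wdsP p3P p3e) (topK [p3l2]) (p3l1.Pt 0)) = true := by decide +kernel
theorem p3_f0 : (Nat.ble p3l0.K 9 && Nat.ble (topK [p3l1, p3l2]) p3l0.K && fixLetters (wdsP p3P p3e) (topK [p3l1, p3l2]) (p3l0.Pt 0)) = true := by decide +kernel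
theorem p3_c : chainCard [p3l0, p3l1, p3l2] = 3 ^ 4 ∧ ¬ 3 ^ (4 + 1) ∣ 51840 := by decide +kernel
theorem cv3r_lt : allL (ltAll 10) cv3r_W = true := by decide +kernel
theorem cv3_c0 : (Nat.ble 4 4 && Nat.beq (ltAll 4 []) 0 && Nat.beq (cv3T0.chk H29.D4m.P p3P cv3r_P p3E 10 4 3 81 6 p3B 4 [] 0) 0) = true := by decide +kernel
theorem x3_4_lt : allL (ltAll 10) x3_4_W = true := by decide +kernel
theorem t3_4h_lt : allL (ltAll 10) t3_4h_W = true := by decide +kernel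
theorem t3_4l0_e_0 : allZ (dent t3_4l0 t3_4h_P (nat_lit 80)) (nat_lit 0) (nat_lit 79) = true := by decide +kernel
theorem t3_4l0_h : 0 < t3_4l0.n ∧ 0 < t3_4l0.K ∧ t3_4l0.Pt 0 < 80 ∧ t3_4l0.Q (t3_4l0.Pt 0) = 0 := by decide +kernel
theorem t3_4l1_e_0 : allZ (dent t3_4l1 t3_4h_P (nat_lit 80)) (nat_lit 0) (nat_lit 23) = true := by decide +kernel
theorem t3_4l1_h : 0 < t3_4l1.n ∧ 0 < t3_4l1.K ∧ t3_4l1.Pt 0 < 80 ∧ t3_4l1.Q (t3_4l1.Pt 0) = 0 := by decide +kernel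
theorem t3_4l2_e_0 : allZ (dent t3_4l2 t3_4h_P (nat_lit 80)) (nat_lit 0) (nat_lit 8) = true := by decide +kernel
theorem t3_4l2_h : 0 < t3_4l2.n ∧ 0 < t3_4l2.K ∧ t3_4l2.Pt 0 < 80 ∧ t3_4l2.Q (t3_4l2.Pt 0) = 0 := by decide +kernel
theorem t3_4l3_e_0 : allZ (dent t3_4l3 t3_4h_P (nat_lit 80)) (nat_lit 0) (nat_lit 2) = true := by decide +kernel
theorem t3_4l3_h : 0 < t3_4l3.n ∧ 0 < t3_4l3.K ∧ t3_4l3.Pt 0 < 80 ∧ t3_4l3.Q (t3_4l3.Pt 0) = 0 := by decide +kernel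
theorem t3_4_f3 : (Nat.ble t3_4l3.K 12 && Nat.ble (topK []) t3_4l3.K && fixLetters t3_4h_P (topK []) (t3_4l3.Pt 0)) = true := by decide +kernel
theorem t3_4_f2 : (Nat.ble t3_4l2.K 12 && Nat.ble (topK [t3_4l3]) t3_4l2.K && fixLetters t3_4h_P (topK [t3_4l3]) (t3_4l2.Pt 0)) = true := by decide +kernel
theorem t3_4_f1 : (Nat.ble t3_4l1.K 12 && Nat.ble (topK [t3_4l2, t3_4l3]) t3_4l1.K && fixLetters t3_4h_P (topK [t3_4l2, t3_4l3]) (t3_4l1.Pt 0)) = true := by decide +kernel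
theorem t3_4_f0 : (Nat.ble t3_4l0.K 12 && Nat.ble (topK [t3_4l1, t3_4l2, t3_4l3]) t3_4l0.K && fixLetters t3_4h_P (topK [t3_4l1, t3_4l2, t3_4l3]) (t3_4l0.Pt 0)) = true := by decide +kernel
theorem t3_4_c : chainCard [t3_4l0, t3_4l1, t3_4l2, t3_4l3] = 51840 := by decide +kernel
theorem c3_4e_lt : allL (ltAll 10) c3_4e_W = true := by decide +kernel
theorem c3_4_f3 : (Nat.ble t3_4l3.K 12 && Nat.blt (nat_lit 8) 80 && fixLetters t3_4h_P t3_4l3.K (nat_lit 8) && Nat.beq (ltAll 1 [nat_lit 0, nat_lit 0, nat_lit 0]) 0 && Nat.beq (apW x3_4_P [nat_lit 0, nat_lit 0, nat_lit 0] (nat_lit 8)) (t3_4l3.Pt 0)) = true := by decide +kernel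
theorem c3_4_f2 : (Nat.ble t3_4l2.K 12 && Nat.blt (nat_lit 8) 80 && fixLetters t3_4h_P t3_4l2.K (nat_lit 8) && Nat.beq (ltAll 1 [nat_lit 0, nat_lit 0]) 0 && Nat.beq (apW x3_4_P [nat_lit 0, nat_lit 0] (nat_lit 8)) (t3_4l2.Pt 0)) = true := by decide +kernel
theorem c3_4_f1 : (Nat.ble t3_4l1.K 12 && Nat.blt (nat_lit 8) 80 && fixLetters t3_4h_P t3_4l1.K (nat_lit 8) && Nat.beq (ltAll 1 [nat_lit 0]) 0 && Nat.beq (apW x3_4_P [nat_lit 0] (nat_lit 8)) (t3_4l1.Pt 0)) = true := by decide +kernel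
theorem c3_4c0_e_0 : allZ (dent c3_4c0 c3_4e_P (nat_lit 80)) (nat_lit 0) (nat_lit 17) = true := by decide +kernel
theorem c3_4c0_h : 0 < c3_4c0.n ∧ 0 < c3_4c0.K ∧ c3_4c0.Pt 0 < 80 ∧ c3_4c0.Q (c3_4c0.Pt 0) = 0 := by decide +kernel
theorem t3_4n0_0 : (Nat.ble t3_4l0.K 12 && Nat.beq (ltAll 80 []) 0 && kChk c3_4e_P x3_4_P t3_4n0.Kn 1 H29.D4m.B [] && allL (ltAll 1) t3_4n0.pre && planOK t3_4h_P x3_4_P 1 (t3_4l0.Pt 0) t3_4n0.plan [t3_4l0, t3_4l1, t3_4l2, t3_4l3]) = true := by decide +kernel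
theorem t3_4n0_1_0 : allZ (t3_4n0.ent H29.D4m.P t3_4h_P x3_4_P x3_4_P c3_4e_P (nat_lit 10) (nat_lit 1) H29.D4m.B t3_4l0 [t3_4l1, t3_4l2, t3_4l3] (memO c3_4c0)) (nat_lit 0) (nat_lit 80) = true := by decide +kernel
theorem c3_4_f0 : (Nat.ble c3_4c0.K 1 && Nat.ble (topK []) c3_4c0.K && Nat.beq (c3_4c0.Pt 0) (t3_4l0.Pt 0) && Nat.beq (ltAll 80 []) 0 && kChk c3_4e_P x3_4_P c3_4c0.K 1 H29.D4m.B []) = true := by decide +kernel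
theorem c3_4_c : chainCard [c3_4c0] = 18 ∧ topK [c3_4c0] = 1 := by decide +kernel
theorem x3_5_lt : allL (ltAll 10) x3_5_W = true := by decide +kernel
theorem t3_5h_lt : allL (ltAll 10) t3_5h_W = true := by decide +kernel
theorem t3_5l0_e_0 : allZ (dent t3_5l0 t3_5h_P (nat_lit 80)) (nat_lit 0) (nat_lit 79) = true := by decide +kernel
theorem t3_5l0_h : 0 < t3_5l0.n ∧ 0 < t3_5l0.K ∧ t3_5l0.Pt 0 < 80 ∧ t3_5l0.Q (t3_5l0.Pt 0) = 0 := by decide +kernel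
theorem t3_5l1_e_0 : allZ (dent t3_5l1 t3_5h_P (nat_lit 80)) (nat_lit 0) (nat_lit 26) = true := by decide +kernel
theorem t3_5l1_h : 0 < t3_5l1.n ∧ 0 < t3_5l1.K ∧ t3_5l1.Pt 0 < 80 ∧ t3_5l1.Q (t3_5l1.Pt 0) = 0 := by decide +kernel
theorem t3_5l2_e_0 : allZ (dent t3_5l2 t3_5h_P (nat_lit 80)) (nat_lit 0) (nat_lit 7) = true := by decide +kernel
theorem t3_5l2_h : 0 < t3_5l2.n ∧ 0 < t3_5l2.K ∧ t3_5l2.Pt 0 < 80 ∧ t3_5l2.Q (t3_5l2.Pt 0) = 0 := by decide +kernel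
theorem t3_5l3_e_0 : allZ (dent t3_5l3 t3_5h_P (nat_lit 80)) (nat_lit 0) (nat_lit 2) = true := by decide +kernel
theorem t3_5l3_h : 0 < t3_5l3.n ∧ 0 < t3_5l3.K ∧ t3_5l3.Pt 0 < 80 ∧ t3_5l3.Q (t3_5l3.Pt 0) = 0 := by decide +kernel
theorem t3_5_f3 : (Nat.ble t3_5l3.K 12 && Nat.ble (topK []) t3_5l3.K && fixLetters t3_5h_P (topK []) (t3_5l3.Pt 0)) = true := by decide +kernel
theorem t3_5_f2 : (Nat.ble t3_5l2.K 12 && Nat.ble (topK [t3_5l3]) t3_5l2.K && fixLetters t3_5h_P (topK [t3_5l3]) (t3_5l2.Pt 0)) = true := by decide +kernel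
theorem t3_5_f1 : (Nat.ble t3_5l1.K 12 && Nat.ble (topK [t3_5l2, t3_5l3]) t3_5l1.K && fixLetters t3_5h_P (topK [t3_5l2, t3_5l3]) (t3_5l1.Pt 0)) = true := by decide +kernel
theorem t3_5_f0 : (Nat.ble t3_5l0.K 12 && Nat.ble (topK [t3_5l1, t3_5l2, t3_5l3]) t3_5l0.K && fixLetters t3_5h_P (topK [t3_5l1, t3_5l2, t3_5l3]) (t3_5l0.Pt 0)) = true := by decide +kernel
theorem t3_5_c : chainCard [t3_5l0, t3_5l1, t3_5l2, t3_5l3] = 51840 := by decide +kernel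
theorem c3_5e_lt : allL (ltAll 10) c3_5e_W = true := by decide +kernel
theorem c3_5_f3 : (Nat.ble t3_5l3.K 12 && Nat.blt (nat_lit 8) 80 && fixLetters t3_5h_P t3_5l3.K (nat_lit 8) && Nat.beq (ltAll 1 [nat_lit 0, nat_lit 0, nat_lit 0]) 0 && Nat.beq (apW x3_5_P [nat_lit 0, nat_lit 0, nat_lit 0] (nat_lit 8)) (t3_5l3.Pt 0)) = true := by decide +kernel
theorem c3_5_f2 : (Nat.ble t3_5l2.K 12 && Nat.blt (nat_lit 8) 80 && fixLetters t3_5h_P t3_5l2.K (nat_lit 8) && Nat.beq (ltAll 1 [nat_lit 0, nat_lit 0]) 0 && Nat.beq (apW x3_5_P [nat_lit 0, nat_lit 0] (nat_lit 8)) (t3_5l2.Pt 0)) = true := by decide +kernel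
theorem c3_5_f1 : (Nat.ble t3_5l1.K 12 && Nat.blt (nat_lit 8) 80 && fixLetters t3_5h_P t3_5l1.K (nat_lit 8) && Nat.beq (ltAll 1 [nat_lit 0]) 0 && Nat.beq (apW x3_5_P [nat_lit 0] (nat_lit 8)) (t3_5l1.Pt 0)) = true := by decide +kernel
theorem c3_5c0_e_0 : allZ (dent c3_5c0 c3_5e_P (nat_lit 80)) (nat_lit 0) (nat_lit 17) = true := by decide +kernel
theorem c3_5c0_h : 0 < c3_5c0.n ∧ 0 < c3_5c0.K ∧ c3_5c0.Pt 0 < 80 ∧ c3_5c0.Q (c3_5c0.Pt 0) = 0 := by decide +kernel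
theorem t3_5n0_0 : (Nat.ble t3_5l0.K 12 && Nat.beq (ltAll 80 []) 0 && kChk c3_5e_P x3_5_P t3_5n0.Kn 1 H29.D4m.B [] && allL (ltAll 1) t3_5n0.pre && planOK t3_5h_P x3_5_P 1 (t3_5l0.Pt 0) t3_5n0.plan [t3_5l0, t3_5l1, t3_5l2, t3_5l3]) = true := by decide +kernel
theorem t3_5n0_1_0 : allZ (t3_5n0.ent H29.D4m.P t3_5h_P x3_5_P x3_5_P c3_5e_P (nat_lit 10) (nat_lit 1) H29.D4m.B t3_5l0 [t3_5l1, t3_5l2, t3_5l3] (memO c3_5c0)) (nat_lit 0) (nat_lit 80) = true := by decide +kernel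
theorem c3_5_f0 : (Nat.ble c3_5c0.K 3 && Nat.ble (topK []) c3_5c0.K && Nat.beq (c3_5c0.Pt 0) (t3_5l0.Pt 0) && Nat.beq (ltAll 80 []) 0 && kChk c3_5e_P x3_5_P c3_5c0.K 1 H29.D4m.B []) = true := by decide +kernel
theorem c3_5_c : chainCard [c3_5c0] = 18 ∧ topK [c3_5c0] = 3 := by decide +kernel
theorem p5t_lt : allL (ltAll 10) p5t_W = true := by decide +kernel
theorem p5_r_a : allZ2 (resEnt p5t_P p5P p5E p5I (nat_lit 80) (nat_lit 20)) (nat_lit 1) (nat_lit 20) = true := by decide +kernel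
theorem p5_b : neL H29.D4m.B (p5B.map p5E) = 0 ∧ ltAll 20 p5B = 0 := by decide +kernel
theorem p5_p : allZ2 (pcEnt p5P (nat_lit 5) p5B p5C) 1 1 = true := by decide +kernel
theorem p5_e : allL (ltAll 1) p5e = true := by decide +kernel
theorem p5l0_e_0 : allZ (dent p5l0 (wdsP p5P p5e) (nat_lit 20)) (nat_lit 0) (nat_lit 4) = true := by decide +kernel
theorem p5l0_h : 0 < p5l0.n ∧ 0 < p5l0.K ∧ p5l0.Pt 0 < 20 ∧ p5l0.Q (p5l0.Pt 0) = 0 := by decide +kernel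
theorem p5_f0 : (Nat.ble p5l0.K 1 && Nat.ble (topK []) p5l0.K && fixLetters (wdsP p5P p5e) (topK []) (p5l0.Pt 0)) = true := by decide +kernel
theorem p5_c : chainCard [p5l0] = 5 ^ 1 ∧ ¬ 5 ^ (1 + 1) ∣ 51840 := by decide +kernel
theorem cv5r_lt : allL (ltAll 10) cv5r_W = true := by decide +kernel
theorem cv5_c0 : (Nat.ble 1 1 && Nat.beq (ltAll 1 []) 0 && Nat.beq (cv5T0.chk H29.D4m.P p5P cv5r_P p5E 10 1 5 5 1 p5B 1 [] 0) 0) = true := by decide +kernel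
theorem x5_0_lt : allL (ltAll 10) x5_0_W = true := by decide +kernel
theorem t5_0h_lt : allL (ltAll 10) t5_0h_W = true := by decide +kernel
theorem t5_0l0_e_0 : allZ (dent t5_0l0 t5_0h_P (nat_lit 80)) (nat_lit 0) (nat_lit 79) = true := by decide +kernel
theorem t5_0l0_h : 0 < t5_0l0.n ∧ 0 < t5_0l0.K ∧ t5_0l0.Pt 0 < 80 ∧ t5_0l0.Q (t5_0l0.Pt 0) = 0 := by decide +kernel
theorem t5_0l1_e_0 : allZ (dent t5_0l1 t5_0h_P (nat_lit 80)) (nat_lit 0) (nat_lit 26) = true := by decide +kernel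
theorem t5_0l1_h : 0 < t5_0l1.n ∧ 0 < t5_0l1.K ∧ t5_0l1.Pt 0 < 80 ∧ t5_0l1.Q (t5_0l1.Pt 0) = 0 := by decide +kernel
theorem t5_0l2_e_0 : allZ (dent t5_0l2 t5_0h_P (nat_lit 80)) (nat_lit 0) (nat_lit 7) = true := by decide +kernel
theorem t5_0l2_h : 0 < t5_0l2.n ∧ 0 < t5_0l2.K ∧ t5_0l2.Pt 0 < 80 ∧ t5_0l2.Q (t5_0l2.Pt 0) = 0 := by decide +kernel
theorem t5_0l3_e_0 : allZ (dent t5_0l3 t5_0h_P (nat_lit 80)) (nat_lit 0) (nat_lit 2) = true := by decide +kernel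
theorem t5_0l3_h : 0 < t5_0l3.n ∧ 0 < t5_0l3.K ∧ t5_0l3.Pt 0 < 80 ∧ t5_0l3.Q (t5_0l3.Pt 0) = 0 := by decide +kernel
theorem t5_0_f3 : (Nat.ble t5_0l3.K 13 && Nat.ble (topK []) t5_0l3.K && fixLetters t5_0h_P (topK []) (t5_0l3.Pt 0)) = true := by decide +kernel
theorem t5_0_f2 : (Nat.ble t5_0l2.K 13 && Nat.ble (topK [t5_0l3]) t5_0l2.K && fixLetters t5_0h_P (topK [t5_0l3]) (t5_0l2.Pt 0)) = true := by decide +kernel
theorem t5_0_f1 : (Nat.ble t5_0l1.K 13 && Nat.ble (topK [t5_0l2, t5_0l3]) t5_0l1.K && fixLetters t5_0h_P (topK [t5_0l2, t5_0l3]) (t5_0l1.Pt 0)) = true := by decide +kernel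
theorem t5_0_f0 : (Nat.ble t5_0l0.K 13 && Nat.ble (topK [t5_0l1, t5_0l2, t5_0l3]) t5_0l0.K && fixLetters t5_0h_P (topK [t5_0l1, t5_0l2, t5_0l3]) (t5_0l0.Pt 0)) = true := by decide +kernel
theorem t5_0_c : chainCard [t5_0l0, t5_0l1, t5_0l2, t5_0l3] = 51840 := by decide +kernel
theorem c5_0e_lt : allL (ltAll 10) c5_0e_W = true := by decide +kernel
theorem c5_0_f3 : (Nat.ble t5_0l3.K 13 && Nat.blt (nat_lit 0) 80 && fixLetters t5_0h_P t5_0l3.K (nat_lit 0) && Nat.beq (ltAll 1 [nat_lit 0, nat_lit 0, nat_lit 0]) 0 && Nat.beq (apW x5_0_P [nat_lit 0, nat_lit 0, nat_lit 0] (nat_lit 0)) (t5_0l3.Pt 0)) = true := by decide +kernel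
theorem c5_0_f2 : (Nat.ble t5_0l2.K 13 && Nat.blt (nat_lit 0) 80 && fixLetters t5_0h_P t5_0l2.K (nat_lit 0) && Nat.beq (ltAll 1 [nat_lit 0, nat_lit 0]) 0 && Nat.beq (apW x5_0_P [nat_lit 0, nat_lit 0] (nat_lit 0)) (t5_0l2.Pt 0)) = true := by decide +kernel
theorem c5_0_f1 : (Nat.ble t5_0l1.K 13 && Nat.blt (nat_lit 0) 80 && fixLetters t5_0h_P t5_0l1.K (nat_lit 0) && Nat.beq (ltAll 1 [nat_lit 0]) 0 && Nat.beq (apW x5_0_P [nat_lit 0] (nat_lit 0)) (t5_0l1.Pt 0)) = true := by decide +kernel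
theorem c5_0c0_e_0 : allZ (dent c5_0c0 c5_0e_P (nat_lit 80)) (nat_lit 0) (nat_lit 9) = true := by decide +kernel
theorem c5_0c0_h : 0 < c5_0c0.n ∧ 0 < c5_0c0.K ∧ c5_0c0.Pt 0 < 80 ∧ c5_0c0.Q (c5_0c0.Pt 0) = 0 := by decide +kernel
theorem t5_0n0_0 : (Nat.ble t5_0l0.K 13 && Nat.beq (ltAll 80 []) 0 && kChk c5_0e_P x5_0_P t5_0n0.Kn 1 H29.D4m.B [] && allL (ltAll 1) t5_0n0.pre && planOK t5_0h_P x5_0_P 1 (t5_0l0.Pt 0) t5_0n0.plan [t5_0l0, t5_0l1, t5_0l2, t5_0l3]) = true := by decide +kernel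
theorem t5_0n0_1_0 : allZ (t5_0n0.ent H29.D4m.P t5_0h_P x5_0_P x5_0_P c5_0e_P (nat_lit 10) (nat_lit 1) H29.D4m.B t5_0l0 [t5_0l1, t5_0l2, t5_0l3] (memO c5_0c0)) (nat_lit 0) (nat_lit 80) = true := by decide +kernel
theorem c5_0_f0 : (Nat.ble c5_0c0.K 2 && Nat.ble (topK []) c5_0c0.K && Nat.beq (c5_0c0.Pt 0) (t5_0l0.Pt 0) && Nat.beq (ltAll 80 []) 0 && kChk c5_0e_P x5_0_P c5_0c0.K 1 H29.D4m.B []) = true := by decide +kernel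
theorem c5_0_c : chainCard [c5_0c0] = 10 ∧ topK [c5_0c0] = 2 := by decide +kernel

theorem p2t_act {G Ω : Type*} [Group G] [MulAction G Ω] {g : ℕ → G} {pt : ℕ → Ω}
    (M : Md g pt H29.D4m.P 80 10 H29.D4m.B 51840) : Act (wds g p2t_W) pt p2t_P 80 7 :=
  M.wact p2t_lt
theorem p2_r : ∀ k < 7, ∀ i < 64, (resEnt p2t_P p2P p2E p2I (nat_lit 80) (nat_lit 64)) k i = 0 := allZ2_sound p2_r_a
theorem p2_sm {G Ω : Type*} [Group G] [MulAction G Ω] {g : ℕ → G} {pt : ℕ → Ω}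
    (M : Md g pt H29.D4m.P 80 10 H29.D4m.B 51840) : Sm (wds g p2t_W) (fun i => pt (p2E i)) p2P 64 7 p2B ∧ ∀ i < 64, p2E i < 80 :=
  M.res (p2t_act M) (by decide) p2_r p2_b
theorem p2l0_e : ∀ i < 63, (dent p2l0 (wdsP p2P p2e) (nat_lit 64)) i = 0 := allZ_sound0 p2l0_e_0
theorem p2l0_ok : DOK p2l0 (wdsP p2P p2e) 64 := ⟨p2l0_h, p2l0_e⟩
theorem p2l1_e : ∀ i < 1, (dent p2l1 (wdsP p2P p2e) (nat_lit 64)) i = 0 := allZ_sound0 p2l1_e_0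
theorem p2l1_ok : DOK p2l1 (wdsP p2P p2e) 64 := ⟨p2l1_h, p2l1_e⟩
theorem p2_low {G Ω : Type*} [Group G] [MulAction G Ω] {g : ℕ → G} {pt : ℕ → Ω}
    (M : Md g pt H29.D4m.P 80 10 H29.D4m.B 51840) : SLow (gi (wds (wds g p2t_W) p2e)) (fun i => pt (p2E i)) 64 [p2l0, p2l1] :=
  ((SLow.nil).cons p2l1_ok ((p2_sm M).1.act.wds p2_e 32) p2_f1).cons p2l0_ok ((p2_sm M).1.act.wds p2_e 32) p2_f0
theorem p2_pc {G Ω : Type*} [Group G] [MulAction G Ω] {g : ℕ → G} {pt : ℕ → Ω}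
    (M : Md g pt H29.D4m.P 80 10 H29.D4m.B 51840) : PC (wds g p2t_W) 7 2 :=
  have := M.fin
  ((p2_sm M).1.pc0 (by decide) p2_p).pc (p2_low M) (p2_sm M).1.inj
    (fun k => evA_mem_gen _ (nth_lt p2_e k)) M.card ⟨by decide, p2_c⟩
theorem cv2r_act {G Ω : Type*} [Group G] [MulAction G Ω] {g : ℕ → G} {pt : ℕ → Ω}
    (M : Md g pt H29.D4m.P 80 10 H29.D4m.B 51840) : Act (wds g cv2r_W) pt cv2r_P 80 6 :=
  M.wact cv2r_lt
theorem cv2_0 {G Ω : Type*} [Group G] [MulAction G Ω] {g : ℕ → G} {pt : ℕ → Ω}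
    (M : Md g pt H29.D4m.P 80 10 H29.D4m.B 51840) : Cov (wds g p2t_W) (wds g cv2r_W) 128 6 7 (evA (wds g p2t_W) []) :=
  have := M.fin
  cv2T0.cov M (p2_sm M).1 (p2_sm M).2 (cv2r_act M) (p2_pc M) _ _ cv2_c0
theorem cv2 {G Ω : Type*} [Group G] [MulAction G Ω] {g : ℕ → G} {pt : ℕ → Ω}
    (M : Md g pt H29.D4m.P 80 10 H29.D4m.B 51840) {y : G} {e : ℕ} (hy : y ^ 2 ^ e = 1) (hq : y ^ 128 = 1) : Good (wds g cv2r_W) 6 y :=
  have := M.fin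
  Cov.all (p2_pc M) (cv2_0 M) hy hq
theorem x2_2_act {G Ω : Type*} [Group G] [MulAction G Ω] {g : ℕ → G} {pt : ℕ → Ω}
    (M : Md g pt H29.D4m.P 80 10 H29.D4m.B 51840) : Act (wds g x2_2_W) pt x2_2_P 80 1 :=
  M.wact x2_2_lt
theorem t2_2h_act {G Ω : Type*} [Group G] [MulAction G Ω] {g : ℕ → G} {pt : ℕ → Ω}
    (M : Md g pt H29.D4m.P 80 10 H29.D4m.B 51840) : Act (wds g t2_2h_W) pt t2_2h_P 80 13 :=
  M.wact t2_2h_lt
theorem t2_2l0_e : ∀ i < 79, (dent t2_2l0 t2_2h_P (nat_lit 80)) i = 0 := allZ_sound0 t2_2l0_e_0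
theorem t2_2l0_ok : DOK t2_2l0 t2_2h_P 80 := ⟨t2_2l0_h, t2_2l0_e⟩
theorem t2_2l1_e : ∀ i < 23, (dent t2_2l1 t2_2h_P (nat_lit 80)) i = 0 := allZ_sound0 t2_2l1_e_0
theorem t2_2l1_ok : DOK t2_2l1 t2_2h_P 80 := ⟨t2_2l1_h, t2_2l1_e⟩
theorem t2_2l2_e : ∀ i < 8, (dent t2_2l2 t2_2h_P (nat_lit 80)) i = 0 := allZ_sound0 t2_2l2_e_0
theorem t2_2l2_ok : DOK t2_2l2 t2_2h_P 80 := ⟨t2_2l2_h, t2_2l2_e⟩
theorem t2_2l3_e : ∀ i < 2, (dent t2_2l3 t2_2h_P (nat_lit 80)) i = 0 := allZ_sound0 t2_2l3_e_0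
theorem t2_2l3_ok : DOK t2_2l3 t2_2h_P 80 := ⟨t2_2l3_h, t2_2l3_e⟩
theorem t2_2_low {G Ω : Type*} [Group G] [MulAction G Ω] {g : ℕ → G} {pt : ℕ → Ω}
    (M : Md g pt H29.D4m.P 80 10 H29.D4m.B 51840) : SLow (gi (wds g t2_2h_W)) pt 80 [t2_2l0, t2_2l1, t2_2l2, t2_2l3] :=
  ((((SLow.nil).cons t2_2l3_ok (t2_2h_act M) t2_2_f3).cons t2_2l2_ok (t2_2h_act M) t2_2_f2).cons t2_2l1_ok (t2_2h_act M) t2_2_f1).cons t2_2l0_ok (t2_2h_act M) t2_2_f0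
theorem t2_2_S0 {G Ω : Type*} [Group G] [MulAction G Ω] {g : ℕ → G} {pt : ℕ → Ω}
    (M : Md g pt H29.D4m.P 80 10 H29.D4m.B 51840) : Stage ⊤ (wds g t2_2h_W) pt 80 [t2_2l0, t2_2l1, t2_2l2, t2_2l3] [] :=
  M.stage (t2_2_low M) t2_2_c
theorem t2_2_S1 {G Ω : Type*} [Group G] [MulAction G Ω] {g : ℕ → G} {pt : ℕ → Ω}
    (M : Md g pt H29.D4m.P 80 10 H29.D4m.B 51840) : Stage ⊤ (wds g t2_2h_W) pt 80 [t2_2l1, t2_2l2, t2_2l3] [t2_2l0.Pt 0] :=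
  (t2_2_S0 M).next
theorem t2_2_S2 {G Ω : Type*} [Group G] [MulAction G Ω] {g : ℕ → G} {pt : ℕ → Ω}
    (M : Md g pt H29.D4m.P 80 10 H29.D4m.B 51840) : Stage ⊤ (wds g t2_2h_W) pt 80 [t2_2l2, t2_2l3] [t2_2l1.Pt 0, t2_2l0.Pt 0] :=
  (t2_2_S1 M).next
theorem t2_2_S3 {G Ω : Type*} [Group G] [MulAction G Ω] {g : ℕ → G} {pt : ℕ → Ω}
    (M : Md g pt H29.D4m.P 80 10 H29.D4m.B 51840) : Stage ⊤ (wds g t2_2h_W) pt 80 [t2_2l3] [t2_2l2.Pt 0, t2_2l1.Pt 0, t2_2l0.Pt 0] :=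
  (t2_2_S2 M).next
theorem t2_2_S4 {G Ω : Type*} [Group G] [MulAction G Ω] {g : ℕ → G} {pt : ℕ → Ω}
    (M : Md g pt H29.D4m.P 80 10 H29.D4m.B 51840) : Stage ⊤ (wds g t2_2h_W) pt 80 [] [t2_2l3.Pt 0, t2_2l2.Pt 0, t2_2l1.Pt 0, t2_2l0.Pt 0] :=
  (t2_2_S3 M).next
theorem c2_2e_act {G Ω : Type*} [Group G] [MulAction G Ω] {g : ℕ → G} {pt : ℕ → Ω}
    (M : Md g pt H29.D4m.P 80 10 H29.D4m.B 51840) : Act (wds g c2_2e_W) pt c2_2e_P 80 3 :=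
  M.wact c2_2e_lt
theorem c2_2c2_e : ∀ i < 2, (dent c2_2c2 c2_2e_P (nat_lit 80)) i = 0 := allZ_sound0 c2_2c2_e_0
theorem c2_2c2_ok : DOK c2_2c2 c2_2e_P 80 := ⟨c2_2c2_h, c2_2c2_e⟩
theorem t2_2n0_1 : ∀ i < 9, (t2_2n0.ent H29.D4m.P t2_2h_P x2_2_P x2_2_P c2_2e_P (nat_lit 10) (nat_lit 1) H29.D4m.B t2_2l2 [t2_2l3] (memO c2_2c2)) i = 0 := allZ_sound0 t2_2n0_1_0
theorem t2_2n0_t {G Ω : Type*} [Group G] [MulAction G Ω] {g : ℕ → G} {pt : ℕ → Ω}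
    (M : Md g pt H29.D4m.P 80 10 H29.D4m.B 51840) : TrO (gen (wds g t2_2h_W) t2_2l2.K) (wds g x2_2_W) (wds g x2_2_W) 1 pt 80 (t2_2l2.Pt 0) (memO c2_2c2) :=
  node M (t2_2_S2 M) (t2_2h_act M) (x2_2_act M) (x2_2_act M) t2_2n0 ((c2_2e_act M).mono (by decide)) (fun _ _ => trivial) t2_2n0_0 t2_2n0_1 (List.forall_mem_nil _)
theorem c2_2c0_e : ∀ i < 31, (dent c2_2c0 c2_2e_P (nat_lit 80)) i = 0 := allZ_sound0 c2_2c0_e_0
theorem c2_2c0_ok : DOK c2_2c0 c2_2e_P 80 := ⟨c2_2c0_h, c2_2c0_e⟩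
theorem t2_2n1_1 : ∀ i < 80, (t2_2n1.ent H29.D4m.P t2_2h_P x2_2_P x2_2_P c2_2e_P (nat_lit 10) (nat_lit 1) H29.D4m.B t2_2l0 [t2_2l1, t2_2l2, t2_2l3] (memO c2_2c0)) i = 0 := allZ_sound0 t2_2n1_1_0
theorem t2_2n1_t {G Ω : Type*} [Group G] [MulAction G Ω] {g : ℕ → G} {pt : ℕ → Ω}
    (M : Md g pt H29.D4m.P 80 10 H29.D4m.B 51840) : TrO (gen (wds g t2_2h_W) t2_2l0.K) (wds g x2_2_W) (wds g x2_2_W) 1 pt 80 (t2_2l0.Pt 0) (memO c2_2c0) :=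
  node M (t2_2_S0 M) (t2_2h_act M) (x2_2_act M) (x2_2_act M) t2_2n1 ((c2_2e_act M).mono (by decide)) (fun _ _ => trivial) t2_2n1_0 t2_2n1_1 (List.forall_mem_nil _)
theorem c2_2 {G Ω : Type*} [Group G] [MulAction G Ω] {g : ℕ → G} {pt : ℕ → Ω}
    (M : Md g pt H29.D4m.P 80 10 H29.D4m.B 51840) : Cen ⊤ (wds g x2_2_W) 1 (wds g c2_2e_W) pt 80 [c2_2c0, c2_2c2] :=
  (t2_2_S0 M).top ▸ Cen.lev M (t2_2_S0 M) (Cen.triv (t2_2_S1 M) (Cen.lev M (t2_2_S2 M) (Cen.triv (t2_2_S3 M) (Cen.bot) (forced (t2_2_S3 M) (t2_2h_act M) (x2_2_act M) _ _ c2_2_f3)) (t2_2n0_t M) (x2_2_act M) (c2_2e_act M) (fun _ _ => trivial) c2_2c2_ok c2_2_f2) (forced (t2_2_S1 M) (t2_2h_act M) (x2_2_act M) _ _ c2_2_f1)) (t2_2n1_t M) (x2_2_act M) (c2_2e_act M) (fun _ _ => trivial) c2_2c0_ok c2_2_f0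
theorem c2_2_card {G Ω : Type*} [Group G] [MulAction G Ω] {g : ℕ → G} {pt : ℕ → Ω}
    (M : Md g pt H29.D4m.P 80 10 H29.D4m.B 51840) : Nat.card (Subgroup.centralizer {(wds g x2_2_W) 0}) = 96 :=
  (c2_2 M).card_cent1 M.inj c2_2_c.1
theorem c2_2_eq {G Ω : Type*} [Group G] [MulAction G Ω] {g : ℕ → G} {pt : ℕ → Ω}
    (M : Md g pt H29.D4m.P 80 10 H29.D4m.B 51840) : Subgroup.centralizer (gen (wds g x2_2_W) 1) = gen (wds g c2_2e_W) 3 ∧ Nat.card (gen (wds g c2_2e_W) 3) = 96 :=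
  c2_2_c.1 ▸ c2_2_c.2 ▸ ⟨(c2_2 M).cent, (c2_2 M).card M.inj⟩
theorem x2_3_act {G Ω : Type*} [Group G] [MulAction G Ω] {g : ℕ → G} {pt : ℕ → Ω}
    (M : Md g pt H29.D4m.P 80 10 H29.D4m.B 51840) : Act (wds g x2_3_W) pt x2_3_P 80 1 :=
  M.wact x2_3_lt
theorem t2_3h_act {G Ω : Type*} [Group G] [MulAction G Ω] {g : ℕ → G} {pt : ℕ → Ω}
    (M : Md g pt H29.D4m.P 80 10 H29.D4m.B 51840) : Act (wds g t2_3h_W) pt t2_3h_P 80 13 :=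
  M.wact t2_3h_lt
theorem t2_3l0_e : ∀ i < 79, (dent t2_3l0 t2_3h_P (nat_lit 80)) i = 0 := allZ_sound0 t2_3l0_e_0
theorem t2_3l0_ok : DOK t2_3l0 t2_3h_P 80 := ⟨t2_3l0_h, t2_3l0_e⟩
theorem t2_3l1_e : ∀ i < 26, (dent t2_3l1 t2_3h_P (nat_lit 80)) i = 0 := allZ_sound0 t2_3l1_e_0
theorem t2_3l1_ok : DOK t2_3l1 t2_3h_P 80 := ⟨t2_3l1_h, t2_3l1_e⟩
theorem t2_3l2_e : ∀ i < 7, (dent t2_3l2 t2_3h_P (nat_lit 80)) i = 0 := allZ_sound0 t2_3l2_e_0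
theorem t2_3l2_ok : DOK t2_3l2 t2_3h_P 80 := ⟨t2_3l2_h, t2_3l2_e⟩
theorem t2_3l3_e : ∀ i < 2, (dent t2_3l3 t2_3h_P (nat_lit 80)) i = 0 := allZ_sound0 t2_3l3_e_0
theorem t2_3l3_ok : DOK t2_3l3 t2_3h_P 80 := ⟨t2_3l3_h, t2_3l3_e⟩
theorem t2_3_low {G Ω : Type*} [Group G] [MulAction G Ω] {g : ℕ → G} {pt : ℕ → Ω}
    (M : Md g pt H29.D4m.P 80 10 H29.D4m.B 51840) : SLow (gi (wds g t2_3h_W)) pt 80 [t2_3l0, t2_3l1, t2_3l2, t2_3l3] :=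
  ((((SLow.nil).cons t2_3l3_ok (t2_3h_act M) t2_3_f3).cons t2_3l2_ok (t2_3h_act M) t2_3_f2).cons t2_3l1_ok (t2_3h_act M) t2_3_f1).cons t2_3l0_ok (t2_3h_act M) t2_3_f0
theorem t2_3_S0 {G Ω : Type*} [Group G] [MulAction G Ω] {g : ℕ → G} {pt : ℕ → Ω}
    (M : Md g pt H29.D4m.P 80 10 H29.D4m.B 51840) : Stage ⊤ (wds g t2_3h_W) pt 80 [t2_3l0, t2_3l1, t2_3l2, t2_3l3] [] :=
  M.stage (t2_3_low M) t2_3_c
theorem t2_3_S1 {G Ω : Type*} [Group G] [MulAction G Ω] {g : ℕ → G} {pt : ℕ → Ω}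
    (M : Md g pt H29.D4m.P 80 10 H29.D4m.B 51840) : Stage ⊤ (wds g t2_3h_W) pt 80 [t2_3l1, t2_3l2, t2_3l3] [t2_3l0.Pt 0] :=
  (t2_3_S0 M).next
theorem t2_3_S2 {G Ω : Type*} [Group G] [MulAction G Ω] {g : ℕ → G} {pt : ℕ → Ω}
    (M : Md g pt H29.D4m.P 80 10 H29.D4m.B 51840) : Stage ⊤ (wds g t2_3h_W) pt 80 [t2_3l2, t2_3l3] [t2_3l1.Pt 0, t2_3l0.Pt 0] :=
  (t2_3_S1 M).next
theorem t2_3_S3 {G Ω : Type*} [Group G] [MulAction G Ω] {g : ℕ → G} {pt : ℕ → Ω}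
    (M : Md g pt H29.D4m.P 80 10 H29.D4m.B 51840) : Stage ⊤ (wds g t2_3h_W) pt 80 [t2_3l3] [t2_3l2.Pt 0, t2_3l1.Pt 0, t2_3l0.Pt 0] :=
  (t2_3_S2 M).next
theorem t2_3_S4 {G Ω : Type*} [Group G] [MulAction G Ω] {g : ℕ → G} {pt : ℕ → Ω}
    (M : Md g pt H29.D4m.P 80 10 H29.D4m.B 51840) : Stage ⊤ (wds g t2_3h_W) pt 80 [] [t2_3l3.Pt 0, t2_3l2.Pt 0, t2_3l1.Pt 0, t2_3l0.Pt 0] :=
  (t2_3_S3 M).next
theorem c2_3e_act {G Ω : Type*} [Group G] [MulAction G Ω] {g : ℕ → G} {pt : ℕ → Ω}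
    (M : Md g pt H29.D4m.P 80 10 H29.D4m.B 51840) : Act (wds g c2_3e_W) pt c2_3e_P 80 3 :=
  M.wact c2_3e_lt
theorem c2_3c2_e : ∀ i < 3, (dent c2_3c2 c2_3e_P (nat_lit 80)) i = 0 := allZ_sound0 c2_3c2_e_0
theorem c2_3c2_ok : DOK c2_3c2 c2_3e_P 80 := ⟨c2_3c2_h, c2_3c2_e⟩
theorem t2_3n0_1 : ∀ i < 8, (t2_3n0.ent H29.D4m.P t2_3h_P x2_3_P x2_3_P c2_3e_P (nat_lit 10) (nat_lit 1) H29.D4m.B t2_3l2 [t2_3l3] (memO c2_3c2)) i = 0 := allZ_sound0 t2_3n0_1_0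
theorem t2_3n0_t {G Ω : Type*} [Group G] [MulAction G Ω] {g : ℕ → G} {pt : ℕ → Ω}
    (M : Md g pt H29.D4m.P 80 10 H29.D4m.B 51840) : TrO (gen (wds g t2_3h_W) t2_3l2.K) (wds g x2_3_W) (wds g x2_3_W) 1 pt 80 (t2_3l2.Pt 0) (memO c2_3c2) :=
  node M (t2_3_S2 M) (t2_3h_act M) (x2_3_act M) (x2_3_act M) t2_3n0 ((c2_3e_act M).mono (by decide)) (fun _ _ => trivial) t2_3n0_0 t2_3n0_1 (List.forall_mem_nil _)
theorem c2_3c1_e : ∀ i < 2, (dent c2_3c1 c2_3e_P (nat_lit 80)) i = 0 := allZ_sound0 c2_3c1_e_0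
theorem c2_3c1_ok : DOK c2_3c1 c2_3e_P 80 := ⟨c2_3c1_h, c2_3c1_e⟩
theorem t2_3n1_1 : ∀ i < 27, (t2_3n1.ent H29.D4m.P t2_3h_P x2_3_P x2_3_P c2_3e_P (nat_lit 10) (nat_lit 1) H29.D4m.B t2_3l1 [t2_3l2, t2_3l3] (memO c2_3c1)) i = 0 := allZ_sound0 t2_3n1_1_0
theorem t2_3n1_t {G Ω : Type*} [Group G] [MulAction G Ω] {g : ℕ → G} {pt : ℕ → Ω}
    (M : Md g pt H29.D4m.P 80 10 H29.D4m.B 51840) : TrO (gen (wds g t2_3h_W) t2_3l1.K) (wds g x2_3_W) (wds g x2_3_W) 1 pt 80 (t2_3l1.Pt 0) (memO c2_3c1) :=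
  node M (t2_3_S1 M) (t2_3h_act M) (x2_3_act M) (x2_3_act M) t2_3n1 ((c2_3e_act M).mono (by decide)) (fun _ _ => trivial) t2_3n1_0 t2_3n1_1 (List.forall_mem_nil _)
theorem c2_3c0_e : ∀ i < 7, (dent c2_3c0 c2_3e_P (nat_lit 80)) i = 0 := allZ_sound0 c2_3c0_e_0
theorem c2_3c0_ok : DOK c2_3c0 c2_3e_P 80 := ⟨c2_3c0_h, c2_3c0_e⟩
theorem t2_3n2_1 : ∀ i < 80, (t2_3n2.ent H29.D4m.P t2_3h_P x2_3_P x2_3_P c2_3e_P (nat_lit 10) (nat_lit 1) H29.D4m.B t2_3l0 [t2_3l1, t2_3l2, t2_3l3] (memO c2_3c0)) i = 0 := allZ_sound0 t2_3n2_1_0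
theorem t2_3n2_t {G Ω : Type*} [Group G] [MulAction G Ω] {g : ℕ → G} {pt : ℕ → Ω}
    (M : Md g pt H29.D4m.P 80 10 H29.D4m.B 51840) : TrO (gen (wds g t2_3h_W) t2_3l0.K) (wds g x2_3_W) (wds g x2_3_W) 1 pt 80 (t2_3l0.Pt 0) (memO c2_3c0) :=
  node M (t2_3_S0 M) (t2_3h_act M) (x2_3_act M) (x2_3_act M) t2_3n2 ((c2_3e_act M).mono (by decide)) (fun _ _ => trivial) t2_3n2_0 t2_3n2_1 (List.forall_mem_nil _)
theorem c2_3 {G Ω : Type*} [Group G] [MulAction G Ω] {g : ℕ → G} {pt : ℕ → Ω}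
    (M : Md g pt H29.D4m.P 80 10 H29.D4m.B 51840) : Cen ⊤ (wds g x2_3_W) 1 (wds g c2_3e_W) pt 80 [c2_3c0, c2_3c1, c2_3c2] :=
  (t2_3_S0 M).top ▸ Cen.lev M (t2_3_S0 M) (Cen.lev M (t2_3_S1 M) (Cen.lev M (t2_3_S2 M) (Cen.triv (t2_3_S3 M) (Cen.bot) (forced (t2_3_S3 M) (t2_3h_act M) (x2_3_act M) _ _ c2_3_f3)) (t2_3n0_t M) (x2_3_act M) (c2_3e_act M) (fun _ _ => trivial) c2_3c2_ok c2_3_f2) (t2_3n1_t M) (x2_3_act M) (c2_3e_act M) (fun _ _ => trivial) c2_3c1_ok c2_3_f1) (t2_3n2_t M) (x2_3_act M) (c2_3e_act M) (fun _ _ => trivial) c2_3c0_ok c2_3_f0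
theorem c2_3_card {G Ω : Type*} [Group G] [MulAction G Ω] {g : ℕ → G} {pt : ℕ → Ω}
    (M : Md g pt H29.D4m.P 80 10 H29.D4m.B 51840) : Nat.card (Subgroup.centralizer {(wds g x2_3_W) 0}) = 96 :=
  (c2_3 M).card_cent1 M.inj c2_3_c.1
theorem c2_3_eq {G Ω : Type*} [Group G] [MulAction G Ω] {g : ℕ → G} {pt : ℕ → Ω}
    (M : Md g pt H29.D4m.P 80 10 H29.D4m.B 51840) : Subgroup.centralizer (gen (wds g x2_3_W) 1) = gen (wds g c2_3e_W) 3 ∧ Nat.card (gen (wds g c2_3e_W) 3) = 96 :=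
  c2_3_c.1 ▸ c2_3_c.2 ▸ ⟨(c2_3 M).cent, (c2_3 M).card M.inj⟩
theorem x2_4_act {G Ω : Type*} [Group G] [MulAction G Ω] {g : ℕ → G} {pt : ℕ → Ω}
    (M : Md g pt H29.D4m.P 80 10 H29.D4m.B 51840) : Act (wds g x2_4_W) pt x2_4_P 80 1 :=
  M.wact x2_4_lt
theorem t2_4h_act {G Ω : Type*} [Group G] [MulAction G Ω] {g : ℕ → G} {pt : ℕ → Ω}
    (M : Md g pt H29.D4m.P 80 10 H29.D4m.B 51840) : Act (wds g t2_4h_W) pt t2_4h_P 80 14 :=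
  M.wact t2_4h_lt
theorem t2_4l0_e : ∀ i < 79, (dent t2_4l0 t2_4h_P (nat_lit 80)) i = 0 := allZ_sound0 t2_4l0_e_0
theorem t2_4l0_ok : DOK t2_4l0 t2_4h_P 80 := ⟨t2_4l0_h, t2_4l0_e⟩
theorem t2_4l1_e : ∀ i < 26, (dent t2_4l1 t2_4h_P (nat_lit 80)) i = 0 := allZ_sound0 t2_4l1_e_0
theorem t2_4l1_ok : DOK t2_4l1 t2_4h_P 80 := ⟨t2_4l1_h, t2_4l1_e⟩
theorem t2_4l2_e : ∀ i < 7, (dent t2_4l2 t2_4h_P (nat_lit 80)) i = 0 := allZ_sound0 t2_4l2_e_0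
theorem t2_4l2_ok : DOK t2_4l2 t2_4h_P 80 := ⟨t2_4l2_h, t2_4l2_e⟩
theorem t2_4l3_e : ∀ i < 2, (dent t2_4l3 t2_4h_P (nat_lit 80)) i = 0 := allZ_sound0 t2_4l3_e_0
theorem t2_4l3_ok : DOK t2_4l3 t2_4h_P 80 := ⟨t2_4l3_h, t2_4l3_e⟩
theorem t2_4_low {G Ω : Type*} [Group G] [MulAction G Ω] {g : ℕ → G} {pt : ℕ → Ω}
    (M : Md g pt H29.D4m.P 80 10 H29.D4m.B 51840) : SLow (gi (wds g t2_4h_W)) pt 80 [t2_4l0, t2_4l1, t2_4l2, t2_4l3] :=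
  ((((SLow.nil).cons t2_4l3_ok (t2_4h_act M) t2_4_f3).cons t2_4l2_ok (t2_4h_act M) t2_4_f2).cons t2_4l1_ok (t2_4h_act M) t2_4_f1).cons t2_4l0_ok (t2_4h_act M) t2_4_f0
theorem t2_4_S0 {G Ω : Type*} [Group G] [MulAction G Ω] {g : ℕ → G} {pt : ℕ → Ω}
    (M : Md g pt H29.D4m.P 80 10 H29.D4m.B 51840) : Stage ⊤ (wds g t2_4h_W) pt 80 [t2_4l0, t2_4l1, t2_4l2, t2_4l3] [] :=
  M.stage (t2_4_low M) t2_4_c
theorem t2_4_S1 {G Ω : Type*} [Group G] [MulAction G Ω] {g : ℕ → G} {pt : ℕ → Ω}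
    (M : Md g pt H29.D4m.P 80 10 H29.D4m.B 51840) : Stage ⊤ (wds g t2_4h_W) pt 80 [t2_4l1, t2_4l2, t2_4l3] [t2_4l0.Pt 0] :=
  (t2_4_S0 M).next
theorem t2_4_S2 {G Ω : Type*} [Group G] [MulAction G Ω] {g : ℕ → G} {pt : ℕ → Ω}
    (M : Md g pt H29.D4m.P 80 10 H29.D4m.B 51840) : Stage ⊤ (wds g t2_4h_W) pt 80 [t2_4l2, t2_4l3] [t2_4l1.Pt 0, t2_4l0.Pt 0] :=
  (t2_4_S1 M).next
theorem t2_4_S3 {G Ω : Type*} [Group G] [MulAction G Ω] {g : ℕ → G} {pt : ℕ → Ω}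
    (M : Md g pt H29.D4m.P 80 10 H29.D4m.B 51840) : Stage ⊤ (wds g t2_4h_W) pt 80 [t2_4l3] [t2_4l2.Pt 0, t2_4l1.Pt 0, t2_4l0.Pt 0] :=
  (t2_4_S2 M).next
theorem t2_4_S4 {G Ω : Type*} [Group G] [MulAction G Ω] {g : ℕ → G} {pt : ℕ → Ω}
    (M : Md g pt H29.D4m.P 80 10 H29.D4m.B 51840) : Stage ⊤ (wds g t2_4h_W) pt 80 [] [t2_4l3.Pt 0, t2_4l2.Pt 0, t2_4l1.Pt 0, t2_4l0.Pt 0] :=
  (t2_4_S3 M).next
theorem c2_4e_act {G Ω : Type*} [Group G] [MulAction G Ω] {g : ℕ → G} {pt : ℕ → Ω}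
    (M : Md g pt H29.D4m.P 80 10 H29.D4m.B 51840) : Act (wds g c2_4e_W) pt c2_4e_P 80 3 :=
  M.wact c2_4e_lt
theorem c2_4c3_e : ∀ i < 2, (dent c2_4c3 c2_4e_P (nat_lit 80)) i = 0 := allZ_sound0 c2_4c3_e_0
theorem c2_4c3_ok : DOK c2_4c3 c2_4e_P 80 := ⟨c2_4c3_h, c2_4c3_e⟩
theorem t2_4n0_1 : ∀ i < 3, (t2_4n0.ent H29.D4m.P t2_4h_P x2_4_P x2_4_P c2_4e_P (nat_lit 10) (nat_lit 1) H29.D4m.B t2_4l3 [] (memO c2_4c3)) i = 0 := allZ_sound0 t2_4n0_1_0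
theorem t2_4n0_t {G Ω : Type*} [Group G] [MulAction G Ω] {g : ℕ → G} {pt : ℕ → Ω}
    (M : Md g pt H29.D4m.P 80 10 H29.D4m.B 51840) : TrO (gen (wds g t2_4h_W) t2_4l3.K) (wds g x2_4_W) (wds g x2_4_W) 1 pt 80 (t2_4l3.Pt 0) (memO c2_4c3) :=
  node M (t2_4_S3 M) (t2_4h_act M) (x2_4_act M) (x2_4_act M) t2_4n0 ((c2_4e_act M).mono (by decide)) (fun _ _ => trivial) t2_4n0_0 t2_4n0_1 (List.forall_mem_nil _)
theorem c2_4c0_e : ∀ i < 31, (dent c2_4c0 c2_4e_P (nat_lit 80)) i = 0 := allZ_sound0 c2_4c0_e_0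
theorem c2_4c0_ok : DOK c2_4c0 c2_4e_P 80 := ⟨c2_4c0_h, c2_4c0_e⟩
theorem t2_4n1_1 : ∀ i < 80, (t2_4n1.ent H29.D4m.P t2_4h_P x2_4_P x2_4_P c2_4e_P (nat_lit 10) (nat_lit 1) H29.D4m.B t2_4l0 [t2_4l1, t2_4l2, t2_4l3] (memO c2_4c0)) i = 0 := allZ_sound0 t2_4n1_1_0
theorem t2_4n1_t {G Ω : Type*} [Group G] [MulAction G Ω] {g : ℕ → G} {pt : ℕ → Ω}
    (M : Md g pt H29.D4m.P 80 10 H29.D4m.B 51840) : TrO (gen (wds g t2_4h_W) t2_4l0.K) (wds g x2_4_W) (wds g x2_4_W) 1 pt 80 (t2_4l0.Pt 0) (memO c2_4c0) :=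
  node M (t2_4_S0 M) (t2_4h_act M) (x2_4_act M) (x2_4_act M) t2_4n1 ((c2_4e_act M).mono (by decide)) (fun _ _ => trivial) t2_4n1_0 t2_4n1_1 (List.forall_mem_nil _)
theorem c2_4 {G Ω : Type*} [Group G] [MulAction G Ω] {g : ℕ → G} {pt : ℕ → Ω}
    (M : Md g pt H29.D4m.P 80 10 H29.D4m.B 51840) : Cen ⊤ (wds g x2_4_W) 1 (wds g c2_4e_W) pt 80 [c2_4c0, c2_4c3] :=
  (t2_4_S0 M).top ▸ Cen.lev M (t2_4_S0 M) (Cen.triv (t2_4_S1 M) (Cen.triv (t2_4_S2 M) (Cen.lev M (t2_4_S3 M) (Cen.bot) (t2_4n0_t M) (x2_4_act M) (c2_4e_act M) (fun _ _ => trivial) c2_4c3_ok c2_4_f3) (forced (t2_4_S2 M) (t2_4h_act M) (x2_4_act M) _ _ c2_4_f2)) (forced (t2_4_S1 M) (t2_4h_act M) (x2_4_act M) _ _ c2_4_f1)) (t2_4n1_t M) (x2_4_act M) (c2_4e_act M) (fun _ _ => trivial) c2_4c0_ok c2_4_f0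
theorem c2_4_card {G Ω : Type*} [Group G] [MulAction G Ω] {g : ℕ → G} {pt : ℕ → Ω}
    (M : Md g pt H29.D4m.P 80 10 H29.D4m.B 51840) : Nat.card (Subgroup.centralizer {(wds g x2_4_W) 0}) = 96 :=
  (c2_4 M).card_cent1 M.inj c2_4_c.1
theorem c2_4_eq {G Ω : Type*} [Group G] [MulAction G Ω] {g : ℕ → G} {pt : ℕ → Ω}
    (M : Md g pt H29.D4m.P 80 10 H29.D4m.B 51840) : Subgroup.centralizer (gen (wds g x2_4_W) 1) = gen (wds g c2_4e_W) 3 ∧ Nat.card (gen (wds g c2_4e_W) 3) = 96 :=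
  c2_4_c.1 ▸ c2_4_c.2 ▸ ⟨(c2_4 M).cent, (c2_4 M).card M.inj⟩
theorem x2_5_act {G Ω : Type*} [Group G] [MulAction G Ω] {g : ℕ → G} {pt : ℕ → Ω}
    (M : Md g pt H29.D4m.P 80 10 H29.D4m.B 51840) : Act (wds g x2_5_W) pt x2_5_P 80 1 :=
  M.wact x2_5_lt
theorem t2_5h_act {G Ω : Type*} [Group G] [MulAction G Ω] {g : ℕ → G} {pt : ℕ → Ω}
    (M : Md g pt H29.D4m.P 80 10 H29.D4m.B 51840) : Act (wds g t2_5h_W) pt t2_5h_P 80 12 :=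
  M.wact t2_5h_lt
theorem t2_5l0_e : ∀ i < 79, (dent t2_5l0 t2_5h_P (nat_lit 80)) i = 0 := allZ_sound0 t2_5l0_e_0
theorem t2_5l0_ok : DOK t2_5l0 t2_5h_P 80 := ⟨t2_5l0_h, t2_5l0_e⟩
theorem t2_5l1_e : ∀ i < 26, (dent t2_5l1 t2_5h_P (nat_lit 80)) i = 0 := allZ_sound0 t2_5l1_e_0
theorem t2_5l1_ok : DOK t2_5l1 t2_5h_P 80 := ⟨t2_5l1_h, t2_5l1_e⟩
theorem t2_5l2_e : ∀ i < 7, (dent t2_5l2 t2_5h_P (nat_lit 80)) i = 0 := allZ_sound0 t2_5l2_e_0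
theorem t2_5l2_ok : DOK t2_5l2 t2_5h_P 80 := ⟨t2_5l2_h, t2_5l2_e⟩
theorem t2_5l3_e : ∀ i < 2, (dent t2_5l3 t2_5h_P (nat_lit 80)) i = 0 := allZ_sound0 t2_5l3_e_0
theorem t2_5l3_ok : DOK t2_5l3 t2_5h_P 80 := ⟨t2_5l3_h, t2_5l3_e⟩
theorem t2_5_low {G Ω : Type*} [Group G] [MulAction G Ω] {g : ℕ → G} {pt : ℕ → Ω}
    (M : Md g pt H29.D4m.P 80 10 H29.D4m.B 51840) : SLow (gi (wds g t2_5h_W)) pt 80 [t2_5l0, t2_5l1, t2_5l2, t2_5l3] :=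
  ((((SLow.nil).cons t2_5l3_ok (t2_5h_act M) t2_5_f3).cons t2_5l2_ok (t2_5h_act M) t2_5_f2).cons t2_5l1_ok (t2_5h_act M) t2_5_f1).cons t2_5l0_ok (t2_5h_act M) t2_5_f0
theorem t2_5_S0 {G Ω : Type*} [Group G] [MulAction G Ω] {g : ℕ → G} {pt : ℕ → Ω}
    (M : Md g pt H29.D4m.P 80 10 H29.D4m.B 51840) : Stage ⊤ (wds g t2_5h_W) pt 80 [t2_5l0, t2_5l1, t2_5l2, t2_5l3] [] :=
  M.stage (t2_5_low M) t2_5_c
theorem t2_5_S1 {G Ω : Type*} [Group G] [MulAction G Ω] {g : ℕ → G} {pt : ℕ → Ω}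
    (M : Md g pt H29.D4m.P 80 10 H29.D4m.B 51840) : Stage ⊤ (wds g t2_5h_W) pt 80 [t2_5l1, t2_5l2, t2_5l3] [t2_5l0.Pt 0] :=
  (t2_5_S0 M).next
theorem t2_5_S2 {G Ω : Type*} [Group G] [MulAction G Ω] {g : ℕ → G} {pt : ℕ → Ω}
    (M : Md g pt H29.D4m.P 80 10 H29.D4m.B 51840) : Stage ⊤ (wds g t2_5h_W) pt 80 [t2_5l2, t2_5l3] [t2_5l1.Pt 0, t2_5l0.Pt 0] :=
  (t2_5_S1 M).next
theorem t2_5_S3 {G Ω : Type*} [Group G] [MulAction G Ω] {g : ℕ → G} {pt : ℕ → Ω}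
    (M : Md g pt H29.D4m.P 80 10 H29.D4m.B 51840) : Stage ⊤ (wds g t2_5h_W) pt 80 [t2_5l3] [t2_5l2.Pt 0, t2_5l1.Pt 0, t2_5l0.Pt 0] :=
  (t2_5_S2 M).next
theorem t2_5_S4 {G Ω : Type*} [Group G] [MulAction G Ω] {g : ℕ → G} {pt : ℕ → Ω}
    (M : Md g pt H29.D4m.P 80 10 H29.D4m.B 51840) : Stage ⊤ (wds g t2_5h_W) pt 80 [] [t2_5l3.Pt 0, t2_5l2.Pt 0, t2_5l1.Pt 0, t2_5l0.Pt 0] :=
  (t2_5_S3 M).next
theorem c2_5e_act {G Ω : Type*} [Group G] [MulAction G Ω] {g : ℕ → G} {pt : ℕ → Ω}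
    (M : Md g pt H29.D4m.P 80 10 H29.D4m.B 51840) : Act (wds g c2_5e_W) pt c2_5e_P 80 2 :=
  M.wact c2_5e_lt
theorem c2_5c0_e : ∀ i < 7, (dent c2_5c0 c2_5e_P (nat_lit 80)) i = 0 := allZ_sound0 c2_5c0_e_0
theorem c2_5c0_ok : DOK c2_5c0 c2_5e_P 80 := ⟨c2_5c0_h, c2_5c0_e⟩
theorem t2_5n0_1 : ∀ i < 80, (t2_5n0.ent H29.D4m.P t2_5h_P x2_5_P x2_5_P c2_5e_P (nat_lit 10) (nat_lit 1) H29.D4m.B t2_5l0 [t2_5l1, t2_5l2, t2_5l3] (memO c2_5c0)) i = 0 := allZ_sound0 t2_5n0_1_0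
theorem t2_5n0_t {G Ω : Type*} [Group G] [MulAction G Ω] {g : ℕ → G} {pt : ℕ → Ω}
    (M : Md g pt H29.D4m.P 80 10 H29.D4m.B 51840) : TrO (gen (wds g t2_5h_W) t2_5l0.K) (wds g x2_5_W) (wds g x2_5_W) 1 pt 80 (t2_5l0.Pt 0) (memO c2_5c0) :=
  node M (t2_5_S0 M) (t2_5h_act M) (x2_5_act M) (x2_5_act M) t2_5n0 ((c2_5e_act M).mono (by decide)) (fun _ _ => trivial) t2_5n0_0 t2_5n0_1 (List.forall_mem_nil _)
theorem c2_5 {G Ω : Type*} [Group G] [MulAction G Ω] {g : ℕ → G} {pt : ℕ → Ω}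
    (M : Md g pt H29.D4m.P 80 10 H29.D4m.B 51840) : Cen ⊤ (wds g x2_5_W) 1 (wds g c2_5e_W) pt 80 [c2_5c0] :=
  (t2_5_S0 M).top ▸ Cen.lev M (t2_5_S0 M) (Cen.triv (t2_5_S1 M) (Cen.triv (t2_5_S2 M) (Cen.triv (t2_5_S3 M) (Cen.bot) (forced (t2_5_S3 M) (t2_5h_act M) (x2_5_act M) _ _ c2_5_f3)) (forced (t2_5_S2 M) (t2_5h_act M) (x2_5_act M) _ _ c2_5_f2)) (forced (t2_5_S1 M) (t2_5h_act M) (x2_5_act M) _ _ c2_5_f1)) (t2_5n0_t M) (x2_5_act M) (c2_5e_act M) (fun _ _ => trivial) c2_5c0_ok c2_5_f0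
theorem c2_5_card {G Ω : Type*} [Group G] [MulAction G Ω] {g : ℕ → G} {pt : ℕ → Ω}
    (M : Md g pt H29.D4m.P 80 10 H29.D4m.B 51840) : Nat.card (Subgroup.centralizer {(wds g x2_5_W) 0}) = 8 :=
  (c2_5 M).card_cent1 M.inj c2_5_c.1
theorem c2_5_eq {G Ω : Type*} [Group G] [MulAction G Ω] {g : ℕ → G} {pt : ℕ → Ω}
    (M : Md g pt H29.D4m.P 80 10 H29.D4m.B 51840) : Subgroup.centralizer (gen (wds g x2_5_W) 1) = gen (wds g c2_5e_W) 2 ∧ Nat.card (gen (wds g c2_5e_W) 2) = 8 :=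
  c2_5_c.1 ▸ c2_5_c.2 ▸ ⟨(c2_5 M).cent, (c2_5 M).card M.inj⟩
theorem p3t_act {G Ω : Type*} [Group G] [MulAction G Ω] {g : ℕ → G} {pt : ℕ → Ω}
    (M : Md g pt H29.D4m.P 80 10 H29.D4m.B 51840) : Act (wds g p3t_W) pt p3t_P 80 4 :=
  M.wact p3t_lt
theorem p3_r : ∀ k < 4, ∀ i < 40, (resEnt p3t_P p3P p3E p3I (nat_lit 80) (nat_lit 40)) k i = 0 := allZ2_sound p3_r_a
theorem p3_sm {G Ω : Type*} [Group G] [MulAction G Ω] {g : ℕ → G} {pt : ℕ → Ω}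
    (M : Md g pt H29.D4m.P 80 10 H29.D4m.B 51840) : Sm (wds g p3t_W) (fun i => pt (p3E i)) p3P 40 4 p3B ∧ ∀ i < 40, p3E i < 80 :=
  M.res (p3t_act M) (by decide) p3_r p3_b
theorem p3l0_e : ∀ i < 8, (dent p3l0 (wdsP p3P p3e) (nat_lit 40)) i = 0 := allZ_sound0 p3l0_e_0
theorem p3l0_ok : DOK p3l0 (wdsP p3P p3e) 40 := ⟨p3l0_h, p3l0_e⟩
theorem p3l1_e : ∀ i < 2, (dent p3l1 (wdsP p3P p3e) (nat_lit 40)) i = 0 := allZ_sound0 p3l1_e_0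
theorem p3l1_ok : DOK p3l1 (wdsP p3P p3e) 40 := ⟨p3l1_h, p3l1_e⟩
theorem p3l2_e : ∀ i < 2, (dent p3l2 (wdsP p3P p3e) (nat_lit 40)) i = 0 := allZ_sound0 p3l2_e_0
theorem p3l2_ok : DOK p3l2 (wdsP p3P p3e) 40 := ⟨p3l2_h, p3l2_e⟩
theorem p3_low {G Ω : Type*} [Group G] [MulAction G Ω] {g : ℕ → G} {pt : ℕ → Ω}
    (M : Md g pt H29.D4m.P 80 10 H29.D4m.B 51840) : SLow (gi (wds (wds g p3t_W) p3e)) (fun i => pt (p3E i)) 40 [p3l0, p3l1, p3l2] :=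
  (((SLow.nil).cons p3l2_ok ((p3_sm M).1.act.wds p3_e 9) p3_f2).cons p3l1_ok ((p3_sm M).1.act.wds p3_e 9) p3_f1).cons p3l0_ok ((p3_sm M).1.act.wds p3_e 9) p3_f0
theorem p3_pc {G Ω : Type*} [Group G] [MulAction G Ω] {g : ℕ → G} {pt : ℕ → Ω}
    (M : Md g pt H29.D4m.P 80 10 H29.D4m.B 51840) : PC (wds g p3t_W) 4 3 :=
  have := M.fin
  ((p3_sm M).1.pc0 (by decide) p3_p).pc (p3_low M) (p3_sm M).1.inj
    (fun k => evA_mem_gen _ (nth_lt p3_e k)) M.card ⟨by decide, p3_c⟩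
theorem cv3r_act {G Ω : Type*} [Group G] [MulAction G Ω] {g : ℕ → G} {pt : ℕ → Ω}
    (M : Md g pt H29.D4m.P 80 10 H29.D4m.B 51840) : Act (wds g cv3r_W) pt cv3r_P 80 6 :=
  M.wact cv3r_lt
theorem cv3_0 {G Ω : Type*} [Group G] [MulAction G Ω] {g : ℕ → G} {pt : ℕ → Ω}
    (M : Md g pt H29.D4m.P 80 10 H29.D4m.B 51840) : Cov (wds g p3t_W) (wds g cv3r_W) 81 6 4 (evA (wds g p3t_W) []) :=
  have := M.fin
  cv3T0.cov M (p3_sm M).1 (p3_sm M).2 (cv3r_act M) (p3_pc M) _ _ cv3_c0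
theorem cv3 {G Ω : Type*} [Group G] [MulAction G Ω] {g : ℕ → G} {pt : ℕ → Ω}
    (M : Md g pt H29.D4m.P 80 10 H29.D4m.B 51840) {y : G} {e : ℕ} (hy : y ^ 3 ^ e = 1) (hq : y ^ 81 = 1) : Good (wds g cv3r_W) 6 y :=
  have := M.fin
  Cov.all (p3_pc M) (cv3_0 M) hy hq
theorem x3_4_act {G Ω : Type*} [Group G] [MulAction G Ω] {g : ℕ → G} {pt : ℕ → Ω}
    (M : Md g pt H29.D4m.P 80 10 H29.D4m.B 51840) : Act (wds g x3_4_W) pt x3_4_P 80 1 :=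
  M.wact x3_4_lt
theorem t3_4h_act {G Ω : Type*} [Group G] [MulAction G Ω] {g : ℕ → G} {pt : ℕ → Ω}
    (M : Md g pt H29.D4m.P 80 10 H29.D4m.B 51840) : Act (wds g t3_4h_W) pt t3_4h_P 80 12 :=
  M.wact t3_4h_lt
theorem t3_4l0_e : ∀ i < 79, (dent t3_4l0 t3_4h_P (nat_lit 80)) i = 0 := allZ_sound0 t3_4l0_e_0
theorem t3_4l0_ok : DOK t3_4l0 t3_4h_P 80 := ⟨t3_4l0_h, t3_4l0_e⟩
theorem t3_4l1_e : ∀ i < 23, (dent t3_4l1 t3_4h_P (nat_lit 80)) i = 0 := allZ_sound0 t3_4l1_e_0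
theorem t3_4l1_ok : DOK t3_4l1 t3_4h_P 80 := ⟨t3_4l1_h, t3_4l1_e⟩
theorem t3_4l2_e : ∀ i < 8, (dent t3_4l2 t3_4h_P (nat_lit 80)) i = 0 := allZ_sound0 t3_4l2_e_0
theorem t3_4l2_ok : DOK t3_4l2 t3_4h_P 80 := ⟨t3_4l2_h, t3_4l2_e⟩
theorem t3_4l3_e : ∀ i < 2, (dent t3_4l3 t3_4h_P (nat_lit 80)) i = 0 := allZ_sound0 t3_4l3_e_0
theorem t3_4l3_ok : DOK t3_4l3 t3_4h_P 80 := ⟨t3_4l3_h, t3_4l3_e⟩
theorem t3_4_low {G Ω : Type*} [Group G] [MulAction G Ω] {g : ℕ → G} {pt : ℕ → Ω}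
    (M : Md g pt H29.D4m.P 80 10 H29.D4m.B 51840) : SLow (gi (wds g t3_4h_W)) pt 80 [t3_4l0, t3_4l1, t3_4l2, t3_4l3] :=
  ((((SLow.nil).cons t3_4l3_ok (t3_4h_act M) t3_4_f3).cons t3_4l2_ok (t3_4h_act M) t3_4_f2).cons t3_4l1_ok (t3_4h_act M) t3_4_f1).cons t3_4l0_ok (t3_4h_act M) t3_4_f0
theorem t3_4_S0 {G Ω : Type*} [Group G] [MulAction G Ω] {g : ℕ → G} {pt : ℕ → Ω}
    (M : Md g pt H29.D4m.P 80 10 H29.D4m.B 51840) : Stage ⊤ (wds g t3_4h_W) pt 80 [t3_4l0, t3_4l1, t3_4l2, t3_4l3] [] :=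
  M.stage (t3_4_low M) t3_4_c
theorem t3_4_S1 {G Ω : Type*} [Group G] [MulAction G Ω] {g : ℕ → G} {pt : ℕ → Ω}
    (M : Md g pt H29.D4m.P 80 10 H29.D4m.B 51840) : Stage ⊤ (wds g t3_4h_W) pt 80 [t3_4l1, t3_4l2, t3_4l3] [t3_4l0.Pt 0] :=
  (t3_4_S0 M).next
theorem t3_4_S2 {G Ω : Type*} [Group G] [MulAction G Ω] {g : ℕ → G} {pt : ℕ → Ω}
    (M : Md g pt H29.D4m.P 80 10 H29.D4m.B 51840) : Stage ⊤ (wds g t3_4h_W) pt 80 [t3_4l2, t3_4l3] [t3_4l1.Pt 0, t3_4l0.Pt 0] :=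
  (t3_4_S1 M).next
theorem t3_4_S3 {G Ω : Type*} [Group G] [MulAction G Ω] {g : ℕ → G} {pt : ℕ → Ω}
    (M : Md g pt H29.D4m.P 80 10 H29.D4m.B 51840) : Stage ⊤ (wds g t3_4h_W) pt 80 [t3_4l3] [t3_4l2.Pt 0, t3_4l1.Pt 0, t3_4l0.Pt 0] :=
  (t3_4_S2 M).next
theorem t3_4_S4 {G Ω : Type*} [Group G] [MulAction G Ω] {g : ℕ → G} {pt : ℕ → Ω}
    (M : Md g pt H29.D4m.P 80 10 H29.D4m.B 51840) : Stage ⊤ (wds g t3_4h_W) pt 80 [] [t3_4l3.Pt 0, t3_4l2.Pt 0, t3_4l1.Pt 0, t3_4l0.Pt 0] :=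
  (t3_4_S3 M).next
theorem c3_4e_act {G Ω : Type*} [Group G] [MulAction G Ω] {g : ℕ → G} {pt : ℕ → Ω}
    (M : Md g pt H29.D4m.P 80 10 H29.D4m.B 51840) : Act (wds g c3_4e_W) pt c3_4e_P 80 1 :=
  M.wact c3_4e_lt
theorem c3_4c0_e : ∀ i < 17, (dent c3_4c0 c3_4e_P (nat_lit 80)) i = 0 := allZ_sound0 c3_4c0_e_0
theorem c3_4c0_ok : DOK c3_4c0 c3_4e_P 80 := ⟨c3_4c0_h, c3_4c0_e⟩
theorem t3_4n0_1 : ∀ i < 80, (t3_4n0.ent H29.D4m.P t3_4h_P x3_4_P x3_4_P c3_4e_P (nat_lit 10) (nat_lit 1) H29.D4m.B t3_4l0 [t3_4l1, t3_4l2, t3_4l3] (memO c3_4c0)) i = 0 := allZ_sound0 t3_4n0_1_0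
theorem t3_4n0_t {G Ω : Type*} [Group G] [MulAction G Ω] {g : ℕ → G} {pt : ℕ → Ω}
    (M : Md g pt H29.D4m.P 80 10 H29.D4m.B 51840) : TrO (gen (wds g t3_4h_W) t3_4l0.K) (wds g x3_4_W) (wds g x3_4_W) 1 pt 80 (t3_4l0.Pt 0) (memO c3_4c0) :=
  node M (t3_4_S0 M) (t3_4h_act M) (x3_4_act M) (x3_4_act M) t3_4n0 ((c3_4e_act M).mono (by decide)) (fun _ _ => trivial) t3_4n0_0 t3_4n0_1 (List.forall_mem_nil _)
theorem c3_4 {G Ω : Type*} [Group G] [MulAction G Ω] {g : ℕ → G} {pt : ℕ → Ω}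
    (M : Md g pt H29.D4m.P 80 10 H29.D4m.B 51840) : Cen ⊤ (wds g x3_4_W) 1 (wds g c3_4e_W) pt 80 [c3_4c0] :=
  (t3_4_S0 M).top ▸ Cen.lev M (t3_4_S0 M) (Cen.triv (t3_4_S1 M) (Cen.triv (t3_4_S2 M) (Cen.triv (t3_4_S3 M) (Cen.bot) (forced (t3_4_S3 M) (t3_4h_act M) (x3_4_act M) _ _ c3_4_f3)) (forced (t3_4_S2 M) (t3_4h_act M) (x3_4_act M) _ _ c3_4_f2)) (forced (t3_4_S1 M) (t3_4h_act M) (x3_4_act M) _ _ c3_4_f1)) (t3_4n0_t M) (x3_4_act M) (c3_4e_act M) (fun _ _ => trivial) c3_4c0_ok c3_4_f0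
theorem c3_4_card {G Ω : Type*} [Group G] [MulAction G Ω] {g : ℕ → G} {pt : ℕ → Ω}
    (M : Md g pt H29.D4m.P 80 10 H29.D4m.B 51840) : Nat.card (Subgroup.centralizer {(wds g x3_4_W) 0}) = 18 :=
  (c3_4 M).card_cent1 M.inj c3_4_c.1
theorem c3_4_eq {G Ω : Type*} [Group G] [MulAction G Ω] {g : ℕ → G} {pt : ℕ → Ω}
    (M : Md g pt H29.D4m.P 80 10 H29.D4m.B 51840) : Subgroup.centralizer (gen (wds g x3_4_W) 1) = gen (wds g c3_4e_W) 1 ∧ Nat.card (gen (wds g c3_4e_W) 1) = 18 :=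
  c3_4_c.1 ▸ c3_4_c.2 ▸ ⟨(c3_4 M).cent, (c3_4 M).card M.inj⟩
theorem x3_5_act {G Ω : Type*} [Group G] [MulAction G Ω] {g : ℕ → G} {pt : ℕ → Ω}
    (M : Md g pt H29.D4m.P 80 10 H29.D4m.B 51840) : Act (wds g x3_5_W) pt x3_5_P 80 1 :=
  M.wact x3_5_lt
theorem t3_5h_act {G Ω : Type*} [Group G] [MulAction G Ω] {g : ℕ → G} {pt : ℕ → Ω}
    (M : Md g pt H29.D4m.P 80 10 H29.D4m.B 51840) : Act (wds g t3_5h_W) pt t3_5h_P 80 12 :=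
  M.wact t3_5h_lt
theorem t3_5l0_e : ∀ i < 79, (dent t3_5l0 t3_5h_P (nat_lit 80)) i = 0 := allZ_sound0 t3_5l0_e_0
theorem t3_5l0_ok : DOK t3_5l0 t3_5h_P 80 := ⟨t3_5l0_h, t3_5l0_e⟩
theorem t3_5l1_e : ∀ i < 26, (dent t3_5l1 t3_5h_P (nat_lit 80)) i = 0 := allZ_sound0 t3_5l1_e_0
theorem t3_5l1_ok : DOK t3_5l1 t3_5h_P 80 := ⟨t3_5l1_h, t3_5l1_e⟩
theorem t3_5l2_e : ∀ i < 7, (dent t3_5l2 t3_5h_P (nat_lit 80)) i = 0 := allZ_sound0 t3_5l2_e_0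
theorem t3_5l2_ok : DOK t3_5l2 t3_5h_P 80 := ⟨t3_5l2_h, t3_5l2_e⟩
theorem t3_5l3_e : ∀ i < 2, (dent t3_5l3 t3_5h_P (nat_lit 80)) i = 0 := allZ_sound0 t3_5l3_e_0
theorem t3_5l3_ok : DOK t3_5l3 t3_5h_P 80 := ⟨t3_5l3_h, t3_5l3_e⟩
theorem t3_5_low {G Ω : Type*} [Group G] [MulAction G Ω] {g : ℕ → G} {pt : ℕ → Ω}
    (M : Md g pt H29.D4m.P 80 10 H29.D4m.B 51840) : SLow (gi (wds g t3_5h_W)) pt 80 [t3_5l0, t3_5l1, t3_5l2, t3_5l3] :=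
  ((((SLow.nil).cons t3_5l3_ok (t3_5h_act M) t3_5_f3).cons t3_5l2_ok (t3_5h_act M) t3_5_f2).cons t3_5l1_ok (t3_5h_act M) t3_5_f1).cons t3_5l0_ok (t3_5h_act M) t3_5_f0
theorem t3_5_S0 {G Ω : Type*} [Group G] [MulAction G Ω] {g : ℕ → G} {pt : ℕ → Ω}
    (M : Md g pt H29.D4m.P 80 10 H29.D4m.B 51840) : Stage ⊤ (wds g t3_5h_W) pt 80 [t3_5l0, t3_5l1, t3_5l2, t3_5l3] [] :=
  M.stage (t3_5_low M) t3_5_c
theorem t3_5_S1 {G Ω : Type*} [Group G] [MulAction G Ω] {g : ℕ → G} {pt : ℕ → Ω}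
    (M : Md g pt H29.D4m.P 80 10 H29.D4m.B 51840) : Stage ⊤ (wds g t3_5h_W) pt 80 [t3_5l1, t3_5l2, t3_5l3] [t3_5l0.Pt 0] :=
  (t3_5_S0 M).next
theorem t3_5_S2 {G Ω : Type*} [Group G] [MulAction G Ω] {g : ℕ → G} {pt : ℕ → Ω}
    (M : Md g pt H29.D4m.P 80 10 H29.D4m.B 51840) : Stage ⊤ (wds g t3_5h_W) pt 80 [t3_5l2, t3_5l3] [t3_5l1.Pt 0, t3_5l0.Pt 0] :=
  (t3_5_S1 M).next
theorem t3_5_S3 {G Ω : Type*} [Group G] [MulAction G Ω] {g : ℕ → G} {pt : ℕ → Ω}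
    (M : Md g pt H29.D4m.P 80 10 H29.D4m.B 51840) : Stage ⊤ (wds g t3_5h_W) pt 80 [t3_5l3] [t3_5l2.Pt 0, t3_5l1.Pt 0, t3_5l0.Pt 0] :=
  (t3_5_S2 M).next
theorem t3_5_S4 {G Ω : Type*} [Group G] [MulAction G Ω] {g : ℕ → G} {pt : ℕ → Ω}
    (M : Md g pt H29.D4m.P 80 10 H29.D4m.B 51840) : Stage ⊤ (wds g t3_5h_W) pt 80 [] [t3_5l3.Pt 0, t3_5l2.Pt 0, t3_5l1.Pt 0, t3_5l0.Pt 0] :=
  (t3_5_S3 M).next
theorem c3_5e_act {G Ω : Type*} [Group G] [MulAction G Ω] {g : ℕ → G} {pt : ℕ → Ω}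
    (M : Md g pt H29.D4m.P 80 10 H29.D4m.B 51840) : Act (wds g c3_5e_W) pt c3_5e_P 80 3 :=
  M.wact c3_5e_lt
theorem c3_5c0_e : ∀ i < 17, (dent c3_5c0 c3_5e_P (nat_lit 80)) i = 0 := allZ_sound0 c3_5c0_e_0
theorem c3_5c0_ok : DOK c3_5c0 c3_5e_P 80 := ⟨c3_5c0_h, c3_5c0_e⟩
theorem t3_5n0_1 : ∀ i < 80, (t3_5n0.ent H29.D4m.P t3_5h_P x3_5_P x3_5_P c3_5e_P (nat_lit 10) (nat_lit 1) H29.D4m.B t3_5l0 [t3_5l1, t3_5l2, t3_5l3] (memO c3_5c0)) i = 0 := allZ_sound0 t3_5n0_1_0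
theorem t3_5n0_t {G Ω : Type*} [Group G] [MulAction G Ω] {g : ℕ → G} {pt : ℕ → Ω}
    (M : Md g pt H29.D4m.P 80 10 H29.D4m.B 51840) : TrO (gen (wds g t3_5h_W) t3_5l0.K) (wds g x3_5_W) (wds g x3_5_W) 1 pt 80 (t3_5l0.Pt 0) (memO c3_5c0) :=
  node M (t3_5_S0 M) (t3_5h_act M) (x3_5_act M) (x3_5_act M) t3_5n0 ((c3_5e_act M).mono (by decide)) (fun _ _ => trivial) t3_5n0_0 t3_5n0_1 (List.forall_mem_nil _)
theorem c3_5 {G Ω : Type*} [Group G] [MulAction G Ω] {g : ℕ → G} {pt : ℕ → Ω}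
    (M : Md g pt H29.D4m.P 80 10 H29.D4m.B 51840) : Cen ⊤ (wds g x3_5_W) 1 (wds g c3_5e_W) pt 80 [c3_5c0] :=
  (t3_5_S0 M).top ▸ Cen.lev M (t3_5_S0 M) (Cen.triv (t3_5_S1 M) (Cen.triv (t3_5_S2 M) (Cen.triv (t3_5_S3 M) (Cen.bot) (forced (t3_5_S3 M) (t3_5h_act M) (x3_5_act M) _ _ c3_5_f3)) (forced (t3_5_S2 M) (t3_5h_act M) (x3_5_act M) _ _ c3_5_f2)) (forced (t3_5_S1 M) (t3_5h_act M) (x3_5_act M) _ _ c3_5_f1)) (t3_5n0_t M) (x3_5_act M) (c3_5e_act M) (fun _ _ => trivial) c3_5c0_ok c3_5_f0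
theorem c3_5_card {G Ω : Type*} [Group G] [MulAction G Ω] {g : ℕ → G} {pt : ℕ → Ω}
    (M : Md g pt H29.D4m.P 80 10 H29.D4m.B 51840) : Nat.card (Subgroup.centralizer {(wds g x3_5_W) 0}) = 18 :=
  (c3_5 M).card_cent1 M.inj c3_5_c.1
theorem c3_5_eq {G Ω : Type*} [Group G] [MulAction G Ω] {g : ℕ → G} {pt : ℕ → Ω}
    (M : Md g pt H29.D4m.P 80 10 H29.D4m.B 51840) : Subgroup.centralizer (gen (wds g x3_5_W) 1) = gen (wds g c3_5e_W) 3 ∧ Nat.card (gen (wds g c3_5e_W) 3) = 18 :=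
  c3_5_c.1 ▸ c3_5_c.2 ▸ ⟨(c3_5 M).cent, (c3_5 M).card M.inj⟩
theorem p5t_act {G Ω : Type*} [Group G] [MulAction G Ω] {g : ℕ → G} {pt : ℕ → Ω}
    (M : Md g pt H29.D4m.P 80 10 H29.D4m.B 51840) : Act (wds g p5t_W) pt p5t_P 80 1 :=
  M.wact p5t_lt
theorem p5_r : ∀ k < 1, ∀ i < 20, (resEnt p5t_P p5P p5E p5I (nat_lit 80) (nat_lit 20)) k i = 0 := allZ2_sound p5_r_a
theorem p5_sm {G Ω : Type*} [Group G] [MulAction G Ω] {g : ℕ → G} {pt : ℕ → Ω}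
    (M : Md g pt H29.D4m.P 80 10 H29.D4m.B 51840) : Sm (wds g p5t_W) (fun i => pt (p5E i)) p5P 20 1 p5B ∧ ∀ i < 20, p5E i < 80 :=
  M.res (p5t_act M) (by decide) p5_r p5_b
theorem p5l0_e : ∀ i < 4, (dent p5l0 (wdsP p5P p5e) (nat_lit 20)) i = 0 := allZ_sound0 p5l0_e_0
theorem p5l0_ok : DOK p5l0 (wdsP p5P p5e) 20 := ⟨p5l0_h, p5l0_e⟩
theorem p5_low {G Ω : Type*} [Group G] [MulAction G Ω] {g : ℕ → G} {pt : ℕ → Ω}
    (M : Md g pt H29.D4m.P 80 10 H29.D4m.B 51840) : SLow (gi (wds (wds g p5t_W) p5e)) (fun i => pt (p5E i)) 20 [p5l0] :=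
  (SLow.nil).cons p5l0_ok ((p5_sm M).1.act.wds p5_e 1) p5_f0
theorem p5_pc {G Ω : Type*} [Group G] [MulAction G Ω] {g : ℕ → G} {pt : ℕ → Ω}
    (M : Md g pt H29.D4m.P 80 10 H29.D4m.B 51840) : PC (wds g p5t_W) 1 5 :=
  have := M.fin
  ((p5_sm M).1.pc0 (by decide) p5_p).pc (p5_low M) (p5_sm M).1.inj
    (fun k => evA_mem_gen _ (nth_lt p5_e k)) M.card ⟨by decide, p5_c⟩
theorem cv5r_act {G Ω : Type*} [Group G] [MulAction G Ω] {g : ℕ → G} {pt : ℕ → Ω}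
    (M : Md g pt H29.D4m.P 80 10 H29.D4m.B 51840) : Act (wds g cv5r_W) pt cv5r_P 80 1 :=
  M.wact cv5r_lt
theorem cv5_0 {G Ω : Type*} [Group G] [MulAction G Ω] {g : ℕ → G} {pt : ℕ → Ω}
    (M : Md g pt H29.D4m.P 80 10 H29.D4m.B 51840) : Cov (wds g p5t_W) (wds g cv5r_W) 5 1 1 (evA (wds g p5t_W) []) :=
  have := M.fin
  cv5T0.cov M (p5_sm M).1 (p5_sm M).2 (cv5r_act M) (p5_pc M) _ _ cv5_c0
theorem cv5 {G Ω : Type*} [Group G] [MulAction G Ω] {g : ℕ → G} {pt : ℕ → Ω}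
    (M : Md g pt H29.D4m.P 80 10 H29.D4m.B 51840) {y : G} {e : ℕ} (hy : y ^ 5 ^ e = 1) (hq : y ^ 5 = 1) : Good (wds g cv5r_W) 1 y :=
  have := M.fin
  Cov.all (p5_pc M) (cv5_0 M) hy hq
theorem x5_0_act {G Ω : Type*} [Group G] [MulAction G Ω] {g : ℕ → G} {pt : ℕ → Ω}
    (M : Md g pt H29.D4m.P 80 10 H29.D4m.B 51840) : Act (wds g x5_0_W) pt x5_0_P 80 1 :=
  M.wact x5_0_lt
theorem t5_0h_act {G Ω : Type*} [Group G] [MulAction G Ω] {g : ℕ → G} {pt : ℕ → Ω}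
    (M : Md g pt H29.D4m.P 80 10 H29.D4m.B 51840) : Act (wds g t5_0h_W) pt t5_0h_P 80 13 :=
  M.wact t5_0h_lt
theorem t5_0l0_e : ∀ i < 79, (dent t5_0l0 t5_0h_P (nat_lit 80)) i = 0 := allZ_sound0 t5_0l0_e_0
theorem t5_0l0_ok : DOK t5_0l0 t5_0h_P 80 := ⟨t5_0l0_h, t5_0l0_e⟩
theorem t5_0l1_e : ∀ i < 26, (dent t5_0l1 t5_0h_P (nat_lit 80)) i = 0 := allZ_sound0 t5_0l1_e_0
theorem t5_0l1_ok : DOK t5_0l1 t5_0h_P 80 := ⟨t5_0l1_h, t5_0l1_e⟩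
theorem t5_0l2_e : ∀ i < 7, (dent t5_0l2 t5_0h_P (nat_lit 80)) i = 0 := allZ_sound0 t5_0l2_e_0
theorem t5_0l2_ok : DOK t5_0l2 t5_0h_P 80 := ⟨t5_0l2_h, t5_0l2_e⟩
theorem t5_0l3_e : ∀ i < 2, (dent t5_0l3 t5_0h_P (nat_lit 80)) i = 0 := allZ_sound0 t5_0l3_e_0
theorem t5_0l3_ok : DOK t5_0l3 t5_0h_P 80 := ⟨t5_0l3_h, t5_0l3_e⟩
theorem t5_0_low {G Ω : Type*} [Group G] [MulAction G Ω] {g : ℕ → G} {pt : ℕ → Ω}
    (M : Md g pt H29.D4m.P 80 10 H29.D4m.B 51840) : SLow (gi (wds g t5_0h_W)) pt 80 [t5_0l0, t5_0l1, t5_0l2, t5_0l3] :=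
  ((((SLow.nil).cons t5_0l3_ok (t5_0h_act M) t5_0_f3).cons t5_0l2_ok (t5_0h_act M) t5_0_f2).cons t5_0l1_ok (t5_0h_act M) t5_0_f1).cons t5_0l0_ok (t5_0h_act M) t5_0_f0
theorem t5_0_S0 {G Ω : Type*} [Group G] [MulAction G Ω] {g : ℕ → G} {pt : ℕ → Ω}
    (M : Md g pt H29.D4m.P 80 10 H29.D4m.B 51840) : Stage ⊤ (wds g t5_0h_W) pt 80 [t5_0l0, t5_0l1, t5_0l2, t5_0l3] [] :=
  M.stage (t5_0_low M) t5_0_c
theorem t5_0_S1 {G Ω : Type*} [Group G] [MulAction G Ω] {g : ℕ → G} {pt : ℕ → Ω}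
    (M : Md g pt H29.D4m.P 80 10 H29.D4m.B 51840) : Stage ⊤ (wds g t5_0h_W) pt 80 [t5_0l1, t5_0l2, t5_0l3] [t5_0l0.Pt 0] :=
  (t5_0_S0 M).next
theorem t5_0_S2 {G Ω : Type*} [Group G] [MulAction G Ω] {g : ℕ → G} {pt : ℕ → Ω}
    (M : Md g pt H29.D4m.P 80 10 H29.D4m.B 51840) : Stage ⊤ (wds g t5_0h_W) pt 80 [t5_0l2, t5_0l3] [t5_0l1.Pt 0, t5_0l0.Pt 0] :=
  (t5_0_S1 M).next
theorem t5_0_S3 {G Ω : Type*} [Group G] [MulAction G Ω] {g : ℕ → G} {pt : ℕ → Ω}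
    (M : Md g pt H29.D4m.P 80 10 H29.D4m.B 51840) : Stage ⊤ (wds g t5_0h_W) pt 80 [t5_0l3] [t5_0l2.Pt 0, t5_0l1.Pt 0, t5_0l0.Pt 0] :=
  (t5_0_S2 M).next
theorem t5_0_S4 {G Ω : Type*} [Group G] [MulAction G Ω] {g : ℕ → G} {pt : ℕ → Ω}
    (M : Md g pt H29.D4m.P 80 10 H29.D4m.B 51840) : Stage ⊤ (wds g t5_0h_W) pt 80 [] [t5_0l3.Pt 0, t5_0l2.Pt 0, t5_0l1.Pt 0, t5_0l0.Pt 0] :=
  (t5_0_S3 M).next
theorem c5_0e_act {G Ω : Type*} [Group G] [MulAction G Ω] {g : ℕ → G} {pt : ℕ → Ω}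
    (M : Md g pt H29.D4m.P 80 10 H29.D4m.B 51840) : Act (wds g c5_0e_W) pt c5_0e_P 80 2 :=
  M.wact c5_0e_lt
theorem c5_0c0_e : ∀ i < 9, (dent c5_0c0 c5_0e_P (nat_lit 80)) i = 0 := allZ_sound0 c5_0c0_e_0
theorem c5_0c0_ok : DOK c5_0c0 c5_0e_P 80 := ⟨c5_0c0_h, c5_0c0_e⟩
theorem t5_0n0_1 : ∀ i < 80, (t5_0n0.ent H29.D4m.P t5_0h_P x5_0_P x5_0_P c5_0e_P (nat_lit 10) (nat_lit 1) H29.D4m.B t5_0l0 [t5_0l1, t5_0l2, t5_0l3] (memO c5_0c0)) i = 0 := allZ_sound0 t5_0n0_1_0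
theorem t5_0n0_t {G Ω : Type*} [Group G] [MulAction G Ω] {g : ℕ → G} {pt : ℕ → Ω}
    (M : Md g pt H29.D4m.P 80 10 H29.D4m.B 51840) : TrO (gen (wds g t5_0h_W) t5_0l0.K) (wds g x5_0_W) (wds g x5_0_W) 1 pt 80 (t5_0l0.Pt 0) (memO c5_0c0) :=
  node M (t5_0_S0 M) (t5_0h_act M) (x5_0_act M) (x5_0_act M) t5_0n0 ((c5_0e_act M).mono (by decide)) (fun _ _ => trivial) t5_0n0_0 t5_0n0_1 (List.forall_mem_nil _)
theorem c5_0 {G Ω : Type*} [Group G] [MulAction G Ω] {g : ℕ → G} {pt : ℕ → Ω}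
    (M : Md g pt H29.D4m.P 80 10 H29.D4m.B 51840) : Cen ⊤ (wds g x5_0_W) 1 (wds g c5_0e_W) pt 80 [c5_0c0] :=
  (t5_0_S0 M).top ▸ Cen.lev M (t5_0_S0 M) (Cen.triv (t5_0_S1 M) (Cen.triv (t5_0_S2 M) (Cen.triv (t5_0_S3 M) (Cen.bot) (forced (t5_0_S3 M) (t5_0h_act M) (x5_0_act M) _ _ c5_0_f3)) (forced (t5_0_S2 M) (t5_0h_act M) (x5_0_act M) _ _ c5_0_f2)) (forced (t5_0_S1 M) (t5_0h_act M) (x5_0_act M) _ _ c5_0_f1)) (t5_0n0_t M) (x5_0_act M) (c5_0e_act M) (fun _ _ => trivial) c5_0c0_ok c5_0_f0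
theorem c5_0_card {G Ω : Type*} [Group G] [MulAction G Ω] {g : ℕ → G} {pt : ℕ → Ω}
    (M : Md g pt H29.D4m.P 80 10 H29.D4m.B 51840) : Nat.card (Subgroup.centralizer {(wds g x5_0_W) 0}) = 10 :=
  (c5_0 M).card_cent1 M.inj c5_0_c.1
theorem c5_0_eq {G Ω : Type*} [Group G] [MulAction G Ω] {g : ℕ → G} {pt : ℕ → Ω}
    (M : Md g pt H29.D4m.P 80 10 H29.D4m.B 51840) : Subgroup.centralizer (gen (wds g x5_0_W) 1) = gen (wds g c5_0e_W) 2 ∧ Nat.card (gen (wds g c5_0e_W) 2) = 10 :=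
  c5_0_c.1 ▸ c5_0_c.2 ▸ ⟨(c5_0 M).cent, (c5_0 M).card M.inj⟩

end H29.D4s
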