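/-
S5211, q = 5: words in several levels, fixed vectors of `p`-groups.
-/
import Cfsg.Agent.H16.FM
import Cfsg.Agent.H16.Facts
import Mathlib.GroupTheory.PGroup
import Mathlib.LinearAlgebra.FiniteDimensional.Lemmas
import Mathlib.Algebra.CharP.Lemmas
import Mathlib.LinearAlgebra.Matrix.CharP

set_option autoImplicit false

namespace H29.G5
open H16 Matrix
open H26 (frc)

variable {n p : ℕ} {q : FP n n p}

/-- words in several levels: codes, group elements, ranges of the letters -/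
noncomputable def lvs (q : FP n n p) (Vs : List (List (List ℕ))) : List ℕ → List ℕ :=
  List.rec (motive := fun _ => List ℕ → List ℕ) (fun C => C) (fun V _ ih C => frcs (V.map (q.ev C)) ih) Vs
noncomputable def wl {G : Type*} [Group G] (Vs : List (List (List ℕ))) : (ℕ → G) → ℕ → G :=
  List.rec (motive := fun _ => (ℕ → G) → ℕ → G) (fun g => g) (fun V _ ih g => ih (wds g V)) Vs
noncomputable def okL (Vs : List (List (List ℕ))) : ℕ → ℕ → Bool :=
  List.rec (motive := fun _ => ℕ → ℕ → Bool) (fun K K' => Nat.ble K' K) (fun V _ ih K K' => allL (ltAll K) V && ih V.length K') Vs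

theorem lvs_rp (h : q.OK) {Γ : Type*} [Group Γ] (f : Γ →* GL (Fin n) (ZMod p)) (Vs : List (List (List ℕ))) :
    ∀ {K K' : ℕ} {C : List ℕ} {γ : ℕ → Γ}, q.RpL (fun k => f (γ k)) C K → okL Vs K K' = true →
      q.RpL (fun k => f (wl Vs γ k)) (lvs q Vs C) K' := by
  induction Vs with
  | nil => exact fun hg hk k l => hg k (l.trans_le (Nat.le_of_ble_eq_true hk))
  | cons V Vs ih =>
    intro K K' C γ hg hk
    have hk := Bool.and_eq_true_iff.1 hk
    rw [show lvs q (V :: Vs) C = lvs q Vs (V.map (q.ev C)) from frcs_eq _ _]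
    refine ih (γ := wds γ V) (fun j hj => ?_) hk.2
    have := hg.ev h (nth_lt hk.1 j)
    rw [← map_evA] at this
    rwa [show nth 0 (V.map (q.ev C)) j = q.ev C (nth [] V j) by
      simp [nth_eq_getD, List.getD_eq_getElem?_getD, List.getElem?_eq_getElem hj]]

theorem rp_cons {a : GL (Fin n) (ZMod p)} {A : ℕ} {g : ℕ → GL (Fin n) (ZMod p)} {C : List ℕ} {K : ℕ} (ha : q.Rp a A) (hg : q.RpL g C K) :
    q.RpL (fun k => Nat.casesOn k a g) (A :: C) (K + 1) := fun k hk => by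
  cases k with
  | zero => exact ha
  | succ k => exact hg k (by omega)

/-- `P a + Q u + α β = P + Q + 1` -/
noncomputable def fxChk (q : FP n n p) (A U P Q V F : ℕ) : Bool := q.run fun q => frc (geoD q.w (n * n) * 7) fun m =>
  frc (q.red P) fun P => frc (q.red Q) fun Q => frc A fun A => frc U fun U => Nat.beq
    (q.red (Nat.land (q.mm P A) m + Nat.land (q.mm Q U) m + Nat.land V (geoD (q.w * n) n * 7) * Nat.land F (geoD q.w n * 7)))
    (q.red (Nat.land P m + Nat.land Q m + Nat.land (oneF n q.w) m))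

theorem fx_sound (h : q.OK) (hw : 7 ≤ q.w) (hp : p ≤ 8) {a u : GL (Fin n) (ZMod p)} {A U P Q V F : ℕ} (ha : q.Rp a A) (hu : q.Rp u U)
    (c : fxChk q A U P Q V F = true) : ∃ α : Fin n → ZMod p, ∀ v, a.1 *ᵥ v = v → u.1 *ᵥ v = v → ∃ c : ZMod p, v = c • α := by
  have c := Nat.eq_of_beq_eq_true c
  have w7 : 2 ^ 7 ≤ 2 ^ q.w := Nat.pow_le_pow_right (by omega) hw
  have r := fun D X => rep_land (W := q.w) (c := 7) (by omega) (by omega) D X
  have r' := rep_land (W := q.w * n) (c := 7) (Nat.mul_pos (by omega) h.2.1)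
    (lt_of_lt_of_le (by omega) (w7.trans (Nat.pow_le_pow_right (by omega) (Nat.le_mul_of_pos_right _ h.2.1)))) n V
  have e7 : ∀ {X}, FP.Nm q.w p (n * n) X → ∀ t < n * n, fld q.w X t &&& 7 = fld q.w X t := fun hX t ht =>
    (Nat.and_two_pow_sub_one_eq_mod _ 3).trans (Nat.mod_eq_of_lt ((hX t ht).trans_le hp))
  have e : toM n n p q.w (q.red P) * a.1 + toM n n p q.w (q.red Q) * u.1 + vecMulVec (fun i : Fin n => ((fld (q.w * n) V i &&& 7 : ℕ) : ZMod p))
      (fun j : Fin n => ((fld q.w F j &&& 7 : ℕ) : ZMod p)) = toM n n p q.w (q.red P) + toM n n p q.w (q.red Q) + 1 := by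
    rw [ha.2, hu.2, ← h.toM (h.nm_red P) ha.1, ← h.toM (h.nm_red Q) hu.1, ← toM_oneF (n := n) (p := p) h.2.2.1]
    ext i j
    have t := FP.lt_mul_of i.2 j.2
    have k := (h.red _ _ t).symm.trans ((congrArg (fld q.w · _) c).trans (h.red _ _ t))
    erw [(((r _ _).add (r _ _)).add (r'.outer (r n F))).fld (by omega) _ t, (((r _ _).add (r _ _)).add (r _ _)).fld (by omega) _ t] at k
    simp only [e7 (h.nm_mm _ _) _ t, e7 (h.nm_red _) _ t, e7 h.rp_one.1 _ t, Nat.mul_add_div h.2.1, Nat.div_eq_of_lt j.2, Nat.mul_add_mod,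
      Nat.mod_eq_of_lt j.2, add_zero] at k
    simpa [toM, vecMulVec_apply] using (ZMod.natCast_eq_natCast_iff' _ _ _).2 k
  refine ⟨fun i : Fin n => ((fld (q.w * n) V i &&& 7 : ℕ) : ZMod p), fun v h1 h2 => ?_⟩
  have := congrArg (· *ᵥ v) e
  simp only [add_mulVec, ← mulVec_mulVec, h1, h2, one_mulVec, add_right_inj, vecMulVec_mulVec, op_smul_eq_smul] at this
  exact ⟨_, this.symm⟩

/-- if the fixed vectors of a `p`-group lie on a line, its centralizer is a `p`-group modulo scalars -/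
theorem scal [Fact p.Prime] [NeZero n] {S : Type*} [Group S] (hS : IsPGroup p S) (ρ : S →* GL (Fin n) (ZMod p)) {α : Fin n → ZMod p}
    (h : ∀ v, (∀ s, (ρ s).1 *ᵥ v = v) → ∃ c : ZMod p, v = c • α) {y : GL (Fin n) (ZMod p)} (hy : ∀ s, y * ρ s = ρ s * y) (x : GL (Fin n) (ZMod p)) :
    y ^ p ^ n * x = x * y ^ p ^ n := by
  have fx : ∀ W : Submodule (ZMod p) (Fin n → ZMod p), W ≠ ⊥ → (∀ s, ∀ w ∈ W, (ρ s).1 *ᵥ w ∈ W) →
      ∃ w ∈ W, w ≠ 0 ∧ ∀ s, (ρ s).1 *ᵥ w = w := fun W W0 k => by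
    let T : SubMulAction ρ.range (Fin n → ZMod p) := ⟨W, by rintro ⟨_, s, rfl⟩ w hw; exact k s w hw⟩
    obtain ⟨b, hb, e⟩ := (hS.of_surjective _ ρ.rangeRestrict_surjective).exists_fixed_point_of_prime_dvd_card_of_fixed_point T
      (a := ⟨0, W.zero_mem⟩) (by
        rw [show Nat.card T = Nat.card W from rfl, Module.natCard_eq_pow_finrank (K := ZMod p), Nat.card_zmod]
        exact dvd_pow_self p (mt Submodule.finrank_eq_zero.1 W0)) fun j => Subtype.ext (smul_zero j)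
    exact ⟨b, b.2, fun l => e (Subtype.ext l.symm), fun s => congrArg Subtype.val (hb ⟨_, s, rfl⟩)⟩
  have cy : ∀ s, Commute y.1 (ρ s).1 := fun s => congrArg Units.val (hy s)
  suffices k : ∃ c : ZMod p, (y.1 - scalar _ c) ^ p ^ n = 0 by
    obtain ⟨c, k⟩ := k
    rw [sub_pow_char_pow_of_commute _ _ (scalar_commute c (fun _ => .all _ _) _).symm, sub_eq_zero, ← map_pow] at k
    exact Units.ext (by simpa [k] using (scalar_commute _ (fun _ => .all _ _) x.1).eq)
  by_contra! k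
  have nz : ∀ {Y : Matrix (Fin n) (Fin n) (ZMod p)}, Y ≠ 0 → LinearMap.range Y.mulVecLin ≠ ⊥ := fun hY e =>
    hY (toLin'.injective ((LinearMap.range_eq_bot.1 e).trans (map_zero _).symm))
  have cm : ∀ c s, Commute ((y.1 - scalar _ c) ^ p ^ n) (ρ s).1 := fun c s =>
    ((cy s).sub_left (scalar_commute c (fun _ => .all _ _) _)).pow_left _
  have fy : ∀ c, ∃ w ∈ LinearMap.range ((y.1 - scalar _ c) ^ p ^ n).mulVecLin, w ≠ 0 ∧ ∀ s, (ρ s).1 *ᵥ w = w := fun c =>
    fx _ (nz (k c)) (by rintro s _ ⟨w, rfl⟩; exact ⟨(ρ s).1 *ᵥ w, by simp only [mulVecLin_apply, mulVec_mulVec, (cm c s).eq]⟩)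
  obtain ⟨v, -, v0, hv⟩ := fy 0
  obtain ⟨a, rfl⟩ := h v hv
  obtain ⟨b, hb⟩ := h (y.1 *ᵥ (a • α)) fun s => by rw [mulVec_mulVec, ← (cy s).eq, ← mulVec_mulVec, hv]
  obtain ⟨_, ⟨w, rfl⟩, w0, hw⟩ := fy (b / a)
  obtain ⟨c, hc⟩ := h _ hw
  have a0 : a ≠ 0 := fun e => v0 (by rw [e, zero_smul])
  have e : (y.1 - scalar _ (b / a)) *ᵥ α = 0 := by
    rw [← smul_eq_zero_iff_right a0, ← mulVec_smul, sub_mulVec, hb]; simp [smul_smul, mul_div_cancel₀ b a0, mul_comm]
  have l : Module.finrank (ZMod p) (Fin n → ZMod p) ≤ p ^ n := by simpa using (Nat.lt_pow_self (Fact.out : p.Prime).one_lt).le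
  have e2 : w ∈ LinearMap.ker (toLin' (y.1 - scalar _ (b / a)) ^ (p ^ n + 1)) := by
    rw [LinearMap.mem_ker, ← toLin'_pow, toLin'_apply, pow_succ', ← mulVec_mulVec]
    rw [mulVecLin_apply] at hc
    rw [hc, mulVec_smul, e, smul_zero]
  rw [Module.End.ker_pow_eq_ker_pow_finrank_of_le (l.trans (Nat.le_succ _)), ← Module.End.ker_pow_eq_ker_pow_finrank_of_le l,
    LinearMap.mem_ker, ← toLin'_pow] at e2
  exact w0 e2

end H29.G5
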