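/-
S5211, q = 5: the Harada-Norton group.
-/
import Cfsg.Agent.H29.G5B
import Cfsg.Agent.H16.O.HN
import Cfsg.Agent.H9.GL1
import Cfsg.Agent.H2.G50

set_option autoImplicit false
set_option maxRecDepth 100000

namespace H29.G5
open H16 H16.DC H16.DHN H16.HNd Subgroup Cfsg

open H16.HNs H16.OHN in
/-- the outer automorphism -/
theorem outer : ∃ β : MulAut Spor.HN, (∀ W, ltAll 7 W = 0 → β (evA γ W) = evA (wds γ Vb) W) ∧ ∀ c, MulAut.conj c ≠ β := by
  obtain ⟨_, M⟩ := md
  have := DHN.simple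
  obtain ⟨β, hβ⟩ := aut_rels (δ := wds γ Vb) (j := 5) top HNc.bound HNd.rels card_eq (fun r hr => (evA_flat γ Vb r).symm.trans
    (emb.prs pb (by decide +kernel) (_, []) (List.mem_map_of_mem (List.mem_map_of_mem hr)))) (by decide) (emb.ne n5 (by decide))
  refine ⟨β, hβ, fun c e => ?_⟩
  have eb : ∀ k < 2, β (wds γ h_W k) = wds γ h_W (k + 4) := fun k hk =>
    have q := (by decide +kernel : ∀ k < 2, ltAll 7 (nth [] h_W k) = 0 ∧ flat Vb (nth [] h_W k) = nth [] h_W (k + 4)) k hk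
    (hβ _ q.1).trans ((evA_flat _ _ _).symm.trans (congrArg (evA γ) q.2))
  have e2 : (wds (sg γ 5) ax_W 0).1 = wds γ h_W 0 ^ 2 := by rw [wds_sg γ ax_lt, e_ax_W0, pow_two]; simp only [evA_cons, evA_nil, one_mul]
  have b0 : β (wds γ h_W 0) = wds γ h_W 0 :=
    (eb 0 (by decide)).trans (by simpa only [evA_cons, evA_nil, one_mul] using H ([0 + 4], [0]) (by decide +kernel))
  have b1 : β (wds γ h_W 1) = wds γ h_W 1 * wds γ h_W 0 ^ 11 :=
    (eb 1 (by decide)).trans (by simpa only [evA_cons, evA_nil, one_mul, tau] using H ([1 + 4], [3, 1]) (by decide +kernel))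
  have hw : wds γ h_W 0 * wds γ h_W 1 = wds γ h_W 1 * wds γ h_W 0 ^ 13 := by
    simpa only [evA_cons, evA_nil, one_mul, evA_rp] using (H ([1, 0], .replicate 13 0 ++ [1]) (by decide +kernel)).trans (evA_append _ _ _)
  have hc : c * wds γ h_W 0 ^ 2 = wds γ h_W 0 ^ 2 * c := eq_mul_of_mul_inv_eq ((DFunLike.congr_fun e _).trans (by rw [map_pow, b0]))
  have mc : c ∈ gen γ 5 := cent_dco HNd.main.2.2 (evA_mem_gen γ (W := []) nofun) (pow_mem (evA_mem_gen γ (nth_lt h_lt 0)) 2) (p := 11)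
    (by rw [orderOf_pow' _ two_ne_zero]; exact congrArg (fun n => n / n.gcd 2) ou) cardS (by decide +kernel) (mem_centralizer_singleton_iff.2 hc)
  obtain ⟨i, -, k⟩ := cyc_list (e := wds (sg γ 5) h_W 0) (c := ⟨c, mc⟩) (ac_card M)
    (mem_centralizer_singleton_iff.2 (Subtype.ext (by rw [coe_mul, coe_mul, e2, wds_sg γ h_lt, ← pow_succ, ← pow_succ'])))
    (by rw [← orderOf_coe, wds_sg γ h_lt, ou]) (by decide) (mem_centralizer_singleton_iff.2 (Subtype.ext (by rwa [coe_mul, coe_mul, e2])))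
  obtain rfl : c = wds γ h_W 0 ^ i := wds_sg γ h_lt 0 ▸ congrArg Subtype.val k
  have wk : wds γ h_W 0 ^ i * wds γ h_W 1 = wds γ h_W 1 * wds γ h_W 0 ^ (13 * i) := by
    simpa [pow_mul] using (SemiconjBy.pow_right (show SemiconjBy _ (_ ^ 13) _ from hw.symm) i).symm
  have := eq_mul_of_mul_inv_eq ((DFunLike.congr_fun e _).trans b1)
  rw [wk, mul_assoc, mul_right_inj, ← pow_add, pow_eq_pow_iff_modEq, ou, Nat.ModEq] at this
  omega

open H25.GC H25.GC.Gc H2.G H9.GL in
theorem hn : H2.G.HN Spor.HN := by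
  obtain ⟨f, fi, hf⟩ := emb
  obtain ⟨β, hβ, nb⟩ := outer
  have r0 : q.RpL (fun k => f (γ k)) C 7 := fun k hk => by
    beta_reduce; rw [hf k hk]; exact rp k (by omega)
  have r1 : q.RpL (fun k => f (wl Vs γ k)) CV 10 := by
    rw [CV, FP.run_eq, frcs_eq]; exact lvs_rp qok f Vs r0 c0
  generalize wl Vs γ = y at r1
  have em : Emb y _ 10 := ⟨f, fi, fun _ _ => rfl⟩
  have P' := fun a b (h : (a, b) ∈ P1) => em.prs (FP.Prs.step qok r1 (FP.Prs.zero _ P1) c1) (by decide +kernel) (a, b) h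
  obtain ⟨ev, i, e⟩ := ex_ev (p := 5) (y := y) (fun d hd => P' _ _ ((by decide +kernel : ∀ d ∈ RP 5, d ∈ P1) d hd)) (by decide)
    (by simpa using em.ne (FP.RpL.ne qok r1 c2) (by decide +kernel))
  have rN := qok.rp_gl c5
  generalize qok.gl c5 = N at rN
  have fb : ∀ x, N * f x * N⁻¹ = f (β x) := fun x => (top.ge (mem_top x) |> gen_le (A := ((MulAut.conj N).toMonoidHom.comp f).eqLocus
    (f.comp β.toMonoidHom)).2 fun k hk => by
      have a := (FP.Prs.step qok (rp_cons rN r0) (FP.Prs.zero _ P4) c4) k (by omega)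
      have b := hβ [k] (by interval_cases k <;> decide +kernel)
      show N * f (γ k) * N⁻¹ = f (β (γ k))
      rw [mul_inv_eq_iff_eq_mul]
      interval_cases k <;> simp [P4, OHN.Vb, wds, mul_assoc] at a b ⊢ <;> rw [b] <;> (try simp only [map_mul, mul_assoc]) <;> exact a)
  have e' : Ev (f.comp ev) (wds (fun k => Nat.casesOn k N fun k => f (y k)) VX) := fun k hk => by
    rw [MonoidHom.comp_apply, e k hk]; interval_cases k <;> simp [wds, VX] <;> rfl
  have P'' := fun a b (h : (a, b) ∈ P3) => (evA_flat _ VX a).symm.trans (((FP.Prs.step qok (rp_cons rN r1) (FP.Prs.zero _ _) c3).all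
    (by decide +kernel) _ (List.mem_map_of_mem h)).trans (evA_flat _ VX b))
  have t : Ws (f.comp ev) (f (y 9) * N) 1 2 := (show wds (fun k => Nat.casesOn k N fun k => f (y k)) VX 6 = f (y 9) * N by simp [wds, VX]; rfl) ▸
    Ws.of (by
    simp only [List.forall_mem_cons]
    exact ⟨e'.cj (i := 0) (P'' _ [6, 0] (by decide +kernel)) (by decide +kernel), e'.cj (i := 1) (P'' _ [6, 1, 1] (by decide +kernel)) (by decide +kernel),
      e'.cj (i := 2) (P'' _ [6, 2, 2] (by decide +kernel)) (by decide +kernel), e'.cj (i := 3) (P'' _ [6, 3, 3] (by decide +kernel)) (by decide +kernel),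
      e'.cj (i := 4) (P'' _ [6, 4, 4] (by decide +kernel)) (by decide +kernel), e'.cj (i := 5) (P'' _ [6, 5, 5, 5, 5] (by decide +kernel)) (by decide +kernel),
      by simp⟩)
  have t1 : Ws ev (y 6) 3 4 := .of (by
    simp only [List.forall_mem_cons]
    exact ⟨e.cj (i := 0) (P' _ [6, 0, 0, 0] (by decide +kernel)) (by decide +kernel), e.cj (i := 1) (P' _ [6, 1, 1, 1, 1] (by decide +kernel)) (by decide +kernel),
      e.cj (i := 2) (P' _ [6, 2, 2] (by decide +kernel)) (by decide +kernel), e.cj (i := 3) (P' _ [6, 3] (by decide +kernel)) (by decide +kernel),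
      e.cj (i := 4) (P' _ [6, 4, 4, 4] (by decide +kernel)) (by decide +kernel), e.cj (i := 5) (P' _ [6, 5, 5] (by decide +kernel)) (by decide +kernel),
      by simp⟩)
  have z7 : y 7 * ev (xz 1) * (y 7)⁻¹ = ev (xv 4) := e.cj (i := 5) (P' _ [7, 4, 4, 4, 4] (by decide +kernel)) (by decide +kernel)
  have fa : ∀ g x, f ((MulAut.conj g * β) x) = f g * N * f x * (f g * N)⁻¹ := fun g x => by simp [← fb, mul_assoc]
  refine ⟨ev, ⟨i, fun _ => trivial, by rw [card_top, card_eq]; norm_num, ⟨_, trivial, t1⟩, y 7, trivial, q2_of ?_, xv 4, by decide, z7⟩,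
    ⟨y 8, .of ?_⟩, ⟨MulAut.conj (y 9) * β, fun c => fi ((fa _ _).trans (t c))⟩, fun g hg => ?_⟩
  · simp only [List.forall_mem_cons]
    exact ⟨⟨xs 1, rfl, e.cj (i := 0) (P' _ [7, 2] (by decide +kernel)) (by decide +kernel)⟩,
      ⟨xa 4, rfl, e.cj (i := 2) (P' _ [7, 0, 0, 0, 0] (by decide +kernel)) (by decide +kernel)⟩,
      ⟨xr 1, rfl, e.cj (i := 3) (P' _ [7, 3] (by decide +kernel)) (by decide +kernel)⟩,
      ⟨xz 1, rfl, e.cj (i := 4) (P' _ [7, 5] (by decide +kernel)) (by decide +kernel)⟩, ⟨xv 4, rfl, z7⟩, by simp⟩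
  · simp only [List.forall_mem_cons]
    exact ⟨⟨xr 3, rfl, e.cj (i := 1) (P' _ [8, 3, 3, 3] (by decide +kernel)) (by decide +kernel), by decide +kernel⟩,
      ⟨xv 4, rfl, e.cj (i := 2) (P' _ [8, 4, 4, 4, 4] (by decide +kernel)) (by decide +kernel), by decide +kernel⟩,
      ⟨xu 2, rfl, e.cj (i := 3) (P' _ [8, 1, 1] (by decide +kernel)) (by decide +kernel), by decide +kernel⟩,
      ⟨xs 4, rfl, e.cj (i := 4) (P' _ [8, 2, 2, 2, 2] (by decide +kernel)) (by decide +kernel), by decide +kernel⟩,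
      ⟨xz 1, rfl, e.cj (i := 5) (P' _ [8, 5] (by decide +kernel)) (by decide +kernel), by decide +kernel⟩, by simp⟩
  obtain ⟨α, hα⟩ := fx_sound qok (by decide) (by decide) (r1 0 (by decide)) (r1 1 (by decide)) ((frcs_eq _ _).symm.trans c6)
  have s := scal (p := 5) (IsPGroup.of_card (n := 6) (by rw [Gc.card, Nat.card_zmod])) (f.comp ev) (y := f (g⁻¹ * y 9) * N)
    (fun v hv => hα v (by beta_reduce; rw [← e 0 (by decide)]; exact hv _) (by beta_reduce; rw [← e 1 (by decide)]; exact hv _)) fun c => by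
      rw [← mul_inv_eq_iff_eq_mul, map_mul, mul_assoc _ _ N, mul_inv_rev, ← mul_assoc, mul_assoc _ (_ * N), mul_assoc _ (_ * _), t c,
        MonoidHom.comp_apply, ← hg c]
      simp [mul_assoc]
  have o : (MulAut.conj (g⁻¹ * y 9) * β) ^ 5 ^ 133 = 1 := MulEquiv.ext fun x => fi (by
    have k : ∀ m x, f (((MulAut.conj (g⁻¹ * y 9) * β) ^ m) x) = (f (g⁻¹ * y 9) * N) ^ m * f x * ((f (g⁻¹ * y 9) * N) ^ m)⁻¹ := fun m => by
      induction m with
      | zero => simp
      | succ m ih => intro x; rw [pow_succ', MulAut.mul_apply, fa, ih, pow_succ']; generalize f _ * N = Y; group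
    rw [k, s, mul_inv_cancel_right]; rfl)
  have o1 := congrArg (QuotientGroup.mk' _ : _ →* Out Spor.HN) o
  rw [map_pow, map_mul, map_one, QuotientGroup.mk'_apply, (QuotientGroup.eq_one_iff _).2 (MonoidHom.mem_range.2 ⟨_, rfl⟩), one_mul] at o1
  obtain ⟨c, hc⟩ := (QuotientGroup.eq_one_iff β).1 ((pow_eq_one_iff_of_coprime (by norm_num)).1 ⟨o1, OHN.out ▸ pow_card_eq_one'⟩)
  exact nb c hc

end H29.G5
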