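import Cfsg.Agent.H16.Slp

/-! Generated by tools/h16 (computation kit). -/

set_option maxRecDepth 100000
set_option maxHeartbeats 0
set_option linter.unusedVariables false

namespace H29.HB

open H16

noncomputable def Rl : List (List ℕ) := [[nat_lit 0, nat_lit 0],
  [nat_lit 1, nat_lit 1],
  [nat_lit 2, nat_lit 2],
  [nat_lit 3, nat_lit 3],
  [nat_lit 4, nat_lit 4],
  [nat_lit 5, nat_lit 6],
  [nat_lit 6, nat_lit 5],
  [nat_lit 7, nat_lit 7],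
  [nat_lit 8, nat_lit 8],
  [nat_lit 0, nat_lit 1, nat_lit 0, nat_lit 1],
  [nat_lit 0, nat_lit 2, nat_lit 0, nat_lit 2],
  [nat_lit 1, nat_lit 2, nat_lit 1, nat_lit 2],
  [nat_lit 0, nat_lit 3, nat_lit 0, nat_lit 3],
  [nat_lit 1, nat_lit 3, nat_lit 1, nat_lit 3],
  [nat_lit 2, nat_lit 3, nat_lit 2, nat_lit 3],
  [nat_lit 0, nat_lit 4, nat_lit 0, nat_lit 4],
  [nat_lit 1, nat_lit 4, nat_lit 1, nat_lit 4],
  [nat_lit 2, nat_lit 4, nat_lit 2, nat_lit 4],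
  [nat_lit 3, nat_lit 4, nat_lit 3, nat_lit 4],
  [nat_lit 1, nat_lit 2, nat_lit 6, nat_lit 3, nat_lit 5],
  [nat_lit 3, nat_lit 4, nat_lit 5, nat_lit 3, nat_lit 6],
  [nat_lit 0, nat_lit 4, nat_lit 6, nat_lit 1, nat_lit 3, nat_lit 5],
  [nat_lit 0, nat_lit 5, nat_lit 4, nat_lit 5, nat_lit 5, nat_lit 5, nat_lit 5],
  [nat_lit 1, nat_lit 7, nat_lit 1, nat_lit 7],
  [nat_lit 0, nat_lit 1, nat_lit 2, nat_lit 7, nat_lit 5, nat_lit 0, nat_lit 6, nat_lit 7],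
  [nat_lit 1, nat_lit 5, nat_lit 7, nat_lit 2, nat_lit 4, nat_lit 7, nat_lit 6],
  [nat_lit 0, nat_lit 1, nat_lit 6, nat_lit 7, nat_lit 5, nat_lit 7, nat_lit 6, nat_lit 7, nat_lit 5, nat_lit 7],
  [nat_lit 5, nat_lit 7, nat_lit 5, nat_lit 7, nat_lit 5, nat_lit 7, nat_lit 5, nat_lit 7, nat_lit 5, nat_lit 7, nat_lit 5, nat_lit 7],
  [nat_lit 7, nat_lit 8, nat_lit 7, nat_lit 8],
  [nat_lit 0, nat_lit 2, nat_lit 8, nat_lit 2, nat_lit 4, nat_lit 8],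
  [nat_lit 4, nat_lit 7, nat_lit 8, nat_lit 4, nat_lit 8, nat_lit 7],
  [nat_lit 1, nat_lit 5, nat_lit 8, nat_lit 6, nat_lit 1, nat_lit 8, nat_lit 5, nat_lit 8, nat_lit 6, nat_lit 8],
  [nat_lit 0, nat_lit 2, nat_lit 6, nat_lit 7, nat_lit 8, nat_lit 6, nat_lit 7, nat_lit 3, nat_lit 8, nat_lit 6, nat_lit 8, nat_lit 7],
  [nat_lit 5, nat_lit 5, nat_lit 7, nat_lit 5, nat_lit 5, nat_lit 8, nat_lit 5, nat_lit 5, nat_lit 7, nat_lit 5, nat_lit 5, nat_lit 8, nat_lit 5, nat_lit 5, nat_lit 7, nat_lit 5, nat_lit 5, nat_lit 8]]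
noncomputable def Pd : List ℕ := [nat_lit 0xef93af45bc9b70dfbb693d7a824dc79b2f6cf8aa60bf7aeaeb76acd8ae6a5e13748b50073b44cab2a4c88f1a2c487090337ef953c76e83386fc5ab480c98875f739ac30f54a84c9c6a42e88e413e78ea1a758cab4744a94d8488901e3928c162848860e42e99e08080,
  nat_lit 0xefdbacce63f8acdee3693d6e824dcf9b2e4c692a1dbf7aedca026758af5a5e1a748b5b9f67474ab2a4c28f1a29103220b37e41e9477a9cee6ed9ab180c9a305eb96f056a94a84e992e22e890a03e7b01c3668c984744abcd84a23ee43868c162ad080e182e9060a180,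
  nat_lit 0xefdbacc5bc9b7018e24938ceb4e8c79b2e4cf8b0e0bf7852eb626758ae6a5d4374a8d007666f4ab2b6c88fae29103090337e41ebc25a836e6fc513480c98875f739ac56a82954c9c6a42ed50c13e78e9ca758c984659414d8ee23e1e392ef1776d0860e54849e0a180,
  nat_lit 0xef9074ce7cb8ac19ba493d6e8268ce7af76c78aa1dbf9455cb626cd88b5aae136668d0073a6f4971f6c8951ab9103090337e4153c25a9cb86ed9ab480c98875eb96f056f42954c9c6a446890c13f9b01ca66a9182e59414d8ee23e1fd52ef1776d0860194e99e0a180,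
  nat_lit 0xbf93af4e7c9b2c18e24938da8268c67b2f6ce930e0ef7852eb626758ae6aad4a74a8d007666cc972b6c28fae29187210407e41e9424e9cee6fc513166c9a305f716f030a82a84e986e246d4e413f98ea13758cab2e58abcd8ee23e1e392ef1176d0b0e194e99e08080,
  nat_lit 0xa523695652c70f4999e50268318bc9ac2c2ed127e032a4b5e71c55584f2a703361fbee44f4428b230a33dfb131a1b0398456bb85ad10579e43d7a3ed26085d3995ff274b1a6176483112f321ad3f18e81a71d86a477ea09b736b5cab25ce2af45b4514dd8e76a09280,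
  nat_lit 0xa38db3582b2d3d8f43ac6cc619bb09b9767d2314602d7181026f25d8164479537dc56cc354922e55877634784624391d425ad276d4eac6db0c241a991cc29972f902a7f66f4caf140ef2f3dbea3ee0eafa712fb24777a49d699231e1c61cad01ca4da4972c0a808e00,
  nat_lit 0xee37ab89f08390af30cd4d742596439ac253968981be0ae867589a65de9826c7b266eae6c68eed32a90f8f1863c3bc8c176ab29c4776d77452c1fd9468a7360ae41be406dba8355b20966cb3ab3e7a1e3549f6c181a0a91c248a70903bb451629208e3717d55b7b000,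
  nat_lit 0x15dbae9924d9114d5568f1607a17ceef2e4c766150bb7afb73ad3158ad5f7487b3d9e0a491184707f9d40020d2c75860966cf29becd0c2cbb8fd85aa3c44b55cbf6c4566c32819bd2ce9a1d0a0944ad9c5514198d100a90e47b814d8386a7d7dd8c644a5ccc320b547]
noncomputable def P (k u : ℕ) : ℕ := Nat.land (Nat.shiftRight (nth (nat_lit 0) Pd k) (Nat.mul u (nat_lit 7))) (nat_lit 127)
noncomputable def T0d : List ℕ := [nat_lit 0x77ee07da27abced4ce605c80f8857048df35b1e3a4cee76d645a9caf935e50bb2949fe8c664a3c73b3a930a95873d24ba13f3a35c5ca6716abaca8e04faf5d5936aa3d45bb72b99fb2c0d0a09f3d8a966d94c78973cfc8df16c86a6b4b1a8a2e231ac873ae4fda3bc09d944924b9ea6bca37158de7a1513bab749cd9ae3a041a26746cb16255b0a35f74bac56a89fb2579272a94d3a8433d449ae52d924a8476082ad0d7a25258889eccee52ab437826abccdd98be2f9c5ad4ae014bc276c4ab88dd10d41f9a3b006e18ad7178433284e708a90fac136c2eb86dc07c40b8c0f400,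
  nat_lit 0x4ec0bde6babcf448e691c51f905ea47df31ba576cbec9bd619c1d34a5e8a2cf2d9a3f2d2e49bc6418a7f0a85878be957a8eed3d460a75d6ab6ca7e04bab5b5932bd35c61b72f4a568d2509c9e433a8269dcc7981332a864e5c8b36b4d1a7a2e344ae86a4e6ee0bd4b9a7f48fb31ed4b65e7162dd4612fbbb07550f2ca3a2b4a56742cb1d8d6b07b4d4897316da9fa93b8eaa7d4d2a8bc4ef8be8d766a4a4476682810d922b4588c7aa95e41ca22b9a52ac8e610bf2f9a5a84de71abc27904ab0ce598cf179c23706f10cd01f862b2c4e68ea90fbe1b2c2f184cc07bc0b740f400,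
  nat_lit 0x2ec07de1babaed49de0fc81b885ea4ae70db9dba42ec73d615c1c3486de4cbaeb4a068c5e49ac63f8aa26a86071be1da12f3a4d462a6693146ca9d849aea1592aaa45c63b6ed9a032c150999e3d3a9f099da6a9730fc9df18c8698f38ce8e2d531ab86a8e4e5a35c097945124c9ea936a57152e94e1523baa6ea6f1a1a9d419b8d48caa625630595f7896b522a1fb7576672b50d528444eb49af57572da9475e8ab14d82055588a7ad8ed92ab7377e6ac08dc90b62f724ed8adf14b82d6a4ac4cdc18cd17983b046e28ace1f8833244e588aa0f9e13281e806c90bc60b900f400,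
  nat_lit 0x2ec07de1fabd6d48de09c417905ea49e70db9efa42ec74d615c1b6f92de4cbadf9a2b2c3e49e9e57890f0a6d86cd24da12f3add460a6753146ca76063aea15946aae5c5fb6dd49fe8c2509dc659390a69cda6b97452a764d43d736b4eccaa296b1af60cae4f1a34c0a37f44fa9e453bc5c76a4e99212db8516f4cd9d239dc1a88c5ac8ba25843555f4696f12572ca65762a99d4b423473cac9a9175ead69516e89990da20ad3e909e94ed99c582b6c692ccda90c02f724d5cddb94b82d9049288da18d117b03ae84dd8ad21f7432e46ec88a80fbe1b8c1f104e20bce07a017400,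
  nat_lit 0x76ee15da23abc6d4be611c8278857048df07b1e7a416e75d64da9b6f91deb2bae54a232c4e49cc6513ac26a8606cd249a2cf3a5dcb5b671313eb2a584eaea16542aa5546ba6e39a0a8c1d09b9e538ac709bda6b8140fca6498486d6b48ce922d2c4ad86d2e4fa0b54b9f945cf8bdeb5b6a37750e9a215338a76ed4f1b239eb4a38d4aca998d730565f9a96d12262cd23b6472bd0d5a3454eaa9b3975aadac516c8ab94d9a04d3e8c7b455d9aab82b7452c88da10b8257c4ee4ddd9abd2d6e5ecccda98cf17a823086e18cd01f8c2b1c4e98eab0fc013681f086d90bc80b940f400,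
  nat_lit 0x7be803b62babe651cc095c917884de1eb001db9e8f47777d64fa39e5f3c919c2eba637254eee78c11c112a2bdde781cef86e6f4735e8fcee8da42c67557868f79db746fe76af77dea8746ce767d1a902e1db75db74d8e7e2e6c4e8cdceafa3115dab05a9f5685a3653a19f4ccb098f3a35b71d167a2baebbe8ad64a3a292141e73bd13ba2659a44b3fd12b9cd7399a74bd10fa212c21e72ab0b3a1ff39456537e5fa1cf392e722946ed177430e85f7e41193f42ae71b6483a135e98e845ce27a0f741ce70db02f8857416e709d04f0066a8fbf0fce0ba077381e811d017a01f400,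
  nat_lit 0xe7d803ba2fabd77e7b893c91b884e2e7a9519003b73d078d7cf39d33136a59b1cf1df7a4765a595cf146338ef37aa411c163020cd5e9659139dd0fefe773cedd3a122e16b81ced7a36bcd1a07fcec86aef3b1e8d3cebba341ad95db7d18e824e748e755cea505a745fe74bd178ceb2a575c71d16b9d0ad3b3c99d157a29d041e89f4afb0def39ce7376a76be1aca6e88dce615d1d9b64533ce56a15d930e879ce4d65458964c5fce47a19f390493dd0b7a165e14be45ce33a13f424e715d083a0fdf1ad411ce17a0be089d71dc237a097383be0fd03f9c1740be703d01ba027400,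
  nat_lit 0x6e219cb9f1f3dfa3e617d81fbf3d5a4dfcf49d74d466e79e1d5ddb68962e6934fb246573c6e8ea23a39a2f3c2e8e8213b99f73bce6775b6ac2cf3b90dd56b5ba3873366771d1ba5dff3b3e8d61f7b9991ecce75f2197973f3ade759d193970f3aa2c87d1839d3f3a696a3cb779d2745ce5b7ce8ba2c3353e741cb539cff39ee8a1cb379ce1e30e897cc6fa247447e633d112c14eda8e883d10398af43dad47d0eb290f437e86bd0d3988f431e55dce3f955f38eb12fb85b952f38bae27964b94ef388e835d063242f384e829881b9c1f410ac0f8a2b206f40ce8135a0b980f400,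
  nat_lit 0x8e1cfa8afa94f421e7cf5f9ea84f720de43b89b6926c24d7d1d89f489e8e790479b9e349ca2ac62b8b9e25e4b28be2d7b9ded847e7746d64d6d5f40e8e47f33a38f3b5656e454b9d9cabf259e2d3b9d89f56bbc125939d6f467b1b9d1979d5746114877cbce93dfd894a1ce93a2ed92ce745d16f01373a064a7ce7fa2a1c1ee8a3ce73a268bb0bd85ce6ba24d9bce731d1179cbf396398382e79ca743ee727d0ef9c97438e86c6ed39c87432e71fd0bb9c7742be853d0a39c5f425e847d0879c4741de837d0679c26385e82bce0f0837411e7058627186740de815d01f9c07401]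
noncomputable def T0 (k u : ℕ) : ℕ := Nat.land (Nat.shiftRight (nth (nat_lit 0) T0d k) (Nat.mul u (nat_lit 15))) (nat_lit 32767)
noncomputable def I0d : List ℕ := [nat_lit 0x1a023098ab6040008c0308041180820800629820084a201c02184413940600c4028008014a411c2000c61208e6088802008400483114401144121c41184484a48819042180e3100c30984a,
  nat_lit 0xa80e22c21698480000228000394a000800088c1098612000018c060940000c001900018802080200842039007090420a0a41182228de109c0600420198204888108d601a801124a2190ec,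
  nat_lit 0x420008814846808100080470844b1a40201c222042010c0231400204061844331c010082011000184a100801200001044230c4129001084a010c03084a4030400044208065100210184a,
  nat_lit 0xc600004308447180200884109c40008001882308446011020048008442001200046408c0331808294401042128003190600042208482288811102110402008800052308001130230016a,
  nat_lit 0x184801990638c402106000c231000c008210880118c452002228c201904a1082928480004a13b8083000d0046218009080202982208802508030000011023000230102712060080620142b,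
  nat_lit 0x10c000140300001008004bc0700000001611808010c01040c1004000080008020618e221400504310802e00424004000042000020010200080109c610182d08021008a1004042802008428,
  nat_lit 0x860000820000018000280c400002000a210805000070002000000080200048300001004000040038420080c0014030812d0018008080500200042000021004200002b000200040100428,
  nat_lit 0x1000180401800301ce610040080400a0401146000c22684c0080420000000400284000000100020000000800c08821104840844120481084410000058c0051400084c0080012200108c49,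
  nat_lit 0x1a41800938843104a40080511c021100002c0008c203140220c0000001104011a12200020004000002a0802c000240040002001004010800100401084010840108402080010180108401]
noncomputable def I0 (k u : ℕ) : ℕ := Nat.land (Nat.shiftRight (nth (nat_lit 0) I0d k) (Nat.mul u (nat_lit 5))) (nat_lit 31)
noncomputable def D0d : ℕ := nat_lit 0xf47c2e0b5ed0717c1704be6e9b7ed5b3ac3aa697a42849fa7d9f2729b25991a348b62384a1083e08819f47b1e578de274dd2745c7705be6b9a36759c64d89609815fd765995d5494c52d414e9394b92849d1f4791542d0440d013e0f23c0e7380dd35cce30cc22f0ba2ccb02a8a827c9e2609523c8e218851ec711ac6a17c571404f0f0320b02b0a823088200681805c0f0380c02000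
noncomputable def D0 (u : ℕ) : ℕ := Nat.land (Nat.shiftRight D0d (Nat.mul u (nat_lit 10))) (nat_lit 1023)
noncomputable def RL0 : List (List Rule) := [[.rel (nat_lit 0) (nat_lit 0) [nat_lit 0], .rel (nat_lit 48) (nat_lit 5) [nat_lit 6, nat_lit 7, nat_lit 0, nat_lit 1, nat_lit 2, nat_lit 7, nat_lit 5], .rel (nat_lit 58) (nat_lit 0) [nat_lit 2, nat_lit 8, nat_lit 2, nat_lit 4, nat_lit 8], .rel (nat_lit 44) (nat_lit 0) [nat_lit 5, nat_lit 4, nat_lit 5, nat_lit 5, nat_lit 5, nat_lit 5], .rel (nat_lit 30) (nat_lit 2) [nat_lit 4, nat_lit 0, nat_lit 4], .rel (nat_lit 42) (nat_lit 0) [nat_lit 4, nat_lit 6, nat_lit 1, nat_lit 3, nat_lit 5], .rel (nat_lit 24) (nat_lit 2) [nat_lit 3, nat_lit 0, nat_lit 3], .rel (nat_lit 52) (nat_lit 0) [nat_lit 1, nat_lit 6, nat_lit 7, nat_lit 5, nat_lit 7, nat_lit 6, nat_lit 7, nat_lit 5, nat_lit 7], .rel (nat_lit 18) (nat_lit 2) [nat_lit 1, nat_lit 0, nat_lit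 1], .rel (nat_lit 30) (nat_lit 0) [nat_lit 4, nat_lit 0, nat_lit 4], .sub (nat_lit 0) [] [], .rel (nat_lit 18) (nat_lit 0) [nat_lit 1, nat_lit 0, nat_lit 1], .rel (nat_lit 20) (nat_lit 2) [nat_lit 2, nat_lit 0, nat_lit 2]],
  [.rel (nat_lit 46) (nat_lit 2) [nat_lit 7, nat_lit 1, nat_lit 7], .rel (nat_lit 2) (nat_lit 0) [nat_lit 1], .rel (nat_lit 50) (nat_lit 0) [nat_lit 5, nat_lit 7, nat_lit 2, nat_lit 4, nat_lit 7, nat_lit 6], .rel (nat_lit 42) (nat_lit 3) [nat_lit 3, nat_lit 5, nat_lit 0, nat_lit 4, nat_lit 6], .rel (nat_lit 38) (nat_lit 0) [nat_lit 2, nat_lit 6, nat_lit 3, nat_lit 5], .rel (nat_lit 32) (nat_lit 2) [nat_lit 4, nat_lit 1, nat_lit 4], .rel (nat_lit 52) (nat_lit 1) [nat_lit 6, nat_lit 7, nat_lit 5, nat_lit 7, nat_lit 6, nat_lit 7, nat_lit 5, nat_lit 7, nat_lit 0], .rel (nat_lit 26) (nat_lit 2) [nat_lit 3, nat_lit 1, nat_lit 3], .rel (nat_lit 18) (nat_lit 3) [nat_lit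 0, nat_lit 1, nat_lit 0], .rel (nat_lit 32) (nat_lit 0) [nat_lit 4, nat_lit 1, nat_lit 4], .rel (nat_lit 46) (nat_lit 0) [nat_lit 7, nat_lit 1, nat_lit 7], .rel (nat_lit 62) (nat_lit 4) [nat_lit 8, nat_lit 5, nat_lit 8, nat_lit 6, nat_lit 8, nat_lit 1, nat_lit 5, nat_lit 8, nat_lit 6], .sub (nat_lit 2) [] [], .rel (nat_lit 22) (nat_lit 2) [nat_lit 2, nat_lit 1, nat_lit 2], .rel (nat_lit 26) (nat_lit 0) [nat_lit 3, nat_lit 1, nat_lit 3], .rel (nat_lit 62) (nat_lit 0) [nat_lit 5, nat_lit 8, nat_lit 6, nat_lit 1, nat_lit 8, nat_lit 5, nat_lit 8, nat_lit 6, nat_lit 8]],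
  [.rel (nat_lit 4) (nat_lit 0) [nat_lit 2], .rel (nat_lit 38) (nat_lit 1) [nat_lit 6, nat_lit 3, nat_lit 5, nat_lit 1], .rel (nat_lit 58) (nat_lit 3) [nat_lit 4, nat_lit 8, nat_lit 0, nat_lit 2, nat_lit 8], .rel (nat_lit 48) (nat_lit 2) [nat_lit 7, nat_lit 5, nat_lit 0, nat_lit 6, nat_lit 7, nat_lit 0, nat_lit 1], .rel (nat_lit 22) (nat_lit 3) [nat_lit 1, nat_lit 2, nat_lit 1], .rel (nat_lit 34) (nat_lit 2) [nat_lit 4, nat_lit 2, nat_lit 4], .rel (nat_lit 28) (nat_lit 2) [nat_lit 3, nat_lit 2, nat_lit 3], .rel (nat_lit 58) (nat_lit 1) [nat_lit 8, nat_lit 2, nat_lit 4, nat_lit 8, nat_lit 0], .rel (nat_lit 20) (nat_lit 3) [nat_lit 0, nat_lit 2, nat_lit 0], .rel (nat_lit 50) (nat_lit 3) [nat_lit 4, nat_lit 7, nat_lit 6, nat_lit 1, nat_lit 5, nat_lit 7], .sub (nat_lit 4) [] [], .rel (nat_lit 20) (nat_lit 1) [nat_lit 0, nat_lit 2, nat_lit 0], .rel (nat_lit 34) (nat_lit 0) [nat_lit 4,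 nat_lit 2, nat_lit 4]],
  [.rel (nat_lit 6) (nat_lit 0) [nat_lit 3], .rel (nat_lit 40) (nat_lit 3) [nat_lit 6, nat_lit 3, nat_lit 4, nat_lit 5], .rel (nat_lit 38) (nat_lit 3) [nat_lit 5, nat_lit 1, nat_lit 2, nat_lit 6], .rel (nat_lit 42) (nat_lit 4) [nat_lit 5, nat_lit 0, nat_lit 4, nat_lit 6, nat_lit 1], .rel (nat_lit 36) (nat_lit 2) [nat_lit 4, nat_lit 3, nat_lit 4], .rel (nat_lit 26) (nat_lit 3) [nat_lit 1, nat_lit 3, nat_lit 1], .rel (nat_lit 64) (nat_lit 7) [nat_lit 8, nat_lit 6, nat_lit 8, nat_lit 7, nat_lit 0, nat_lit 2, nat_lit 6, nat_lit 7, nat_lit 8, nat_lit 6, nat_lit 7], .rel (nat_lit 24) (nat_lit 3) [nat_lit 0, nat_lit 3, nat_lit 0], .rel (nat_lit 28) (nat_lit 3) [nat_lit 2, nat_lit 3, nat_lit 2], .rel (nat_lit 40) (nat_lit 0) [nat_lit 4, nat_lit 5, nat_lit 3, nat_lit 6], .sub (nat_lit 6) [] [], .defn, .rel (nat_lit 36) (nat_lit 0) [nat_lit 4, nat_lit 3, nat_lit 4]],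
  [.rel (nat_lit 8) (nat_lit 0) [nat_lit 4], .rel (nat_lit 60) (nat_lit 0) [nat_lit 7, nat_lit 8, nat_lit 4, nat_lit 8, nat_lit 7], .rel (nat_lit 40) (nat_lit 1) [nat_lit 5, nat_lit 3, nat_lit 6, nat_lit 3], .rel (nat_lit 42) (nat_lit 1) [nat_lit 6, nat_lit 1, nat_lit 3, nat_lit 5, nat_lit 0], .rel (nat_lit 44) (nat_lit 2) [nat_lit 5, nat_lit 5, nat_lit 5, nat_lit 5, nat_lit 0, nat_lit 5], .rel (nat_lit 36) (nat_lit 3) [nat_lit 3, nat_lit 4, nat_lit 3], .rel (nat_lit 32) (nat_lit 3) [nat_lit 1, nat_lit 4, nat_lit 1], .rel (nat_lit 34) (nat_lit 1) [nat_lit 2, nat_lit 4, nat_lit 2], .rel (nat_lit 60) (nat_lit 3) [nat_lit 8, nat_lit 7, nat_lit 4, nat_lit 7, nat_lit 8], .rel (nat_lit 34) (nat_lit 3) [nat_lit 2, nat_lit 4, nat_lit 2], .rel (nat_lit 58) (nat_lit 4) [nat_lit 8, nat_lit 0, nat_lit 2, nat_lit 8, nat_lit 2], .sub (nat_lit 8) [] [], .rel (nat_lit 30) (nat_lit 1) [nat_lit 0,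 nat_lit 4, nat_lit 0], .rel (nat_lit 30) (nat_lit 3) [nat_lit 0, nat_lit 4, nat_lit 0], .rel (nat_lit 50) (nat_lit 4) [nat_lit 7, nat_lit 6, nat_lit 1, nat_lit 5, nat_lit 7, nat_lit 2]],
  [.rel (nat_lit 10) (nat_lit 0) [nat_lit 6], .defn, .rel (nat_lit 44) (nat_lit 4) [nat_lit 5, nat_lit 5, nat_lit 0, nat_lit 5, nat_lit 4, nat_lit 5], .rel (nat_lit 40) (nat_lit 2) [nat_lit 3, nat_lit 6, nat_lit 3, nat_lit 4], .rel (nat_lit 44) (nat_lit 5) [nat_lit 5, nat_lit 0, nat_lit 5, nat_lit 4, nat_lit 5, nat_lit 5], .rel (nat_lit 62) (nat_lit 6) [nat_lit 8, nat_lit 6, nat_lit 8, nat_lit 1, nat_lit 5, nat_lit 8, nat_lit 6, nat_lit 1, nat_lit 8], .rel (nat_lit 44) (nat_lit 1) [nat_lit 4, nat_lit 5, nat_lit 5, nat_lit 5, nat_lit 5, nat_lit 0], .rel (nat_lit 52) (nat_lit 4) [nat_lit 7, nat_lit 6, nat_lit 7, nat_lit 5, nat_lit 7, nat_lit 0, nat_lit 1, nat_lit 6, nat_lit 7], .sub (nat_lit 10) []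 [], .rel (nat_lit 38) (nat_lit 4) [nat_lit 1, nat_lit 2, nat_lit 6, nat_lit 3], .rel (nat_lit 42) (nat_lit 5) [nat_lit 0, nat_lit 4, nat_lit 6, nat_lit 1, nat_lit 3], .rel (nat_lit 44) (nat_lit 3) [nat_lit 5, nat_lit 5, nat_lit 5, nat_lit 0, nat_lit 5, nat_lit 4], .rel (nat_lit 44) (nat_lit 6) [nat_lit 0, nat_lit 5, nat_lit 4, nat_lit 5, nat_lit 5, nat_lit 5], .rel (nat_lit 50) (nat_lit 1) [nat_lit 7, nat_lit 2, nat_lit 4, nat_lit 7, nat_lit 6, nat_lit 1], .rel (nat_lit 52) (nat_lit 8) [nat_lit 7, nat_lit 0, nat_lit 1, nat_lit 6, nat_lit 7, nat_lit 5, nat_lit 7, nat_lit 6, nat_lit 7], .rel (nat_lit 54) (nat_lit 0) [nat_lit 7, nat_lit 5, nat_lit 7, nat_lit 5, nat_lit 7, nat_lit 5, nat_lit 7, nat_lit 5, nat_lit 7, nat_lit 5, nat_lit 7], .rel (nat_lit 54) (nat_lit 6) [nat_lit 7, nat_lit 5, nat_lit 7, nat_lit 5, nat_lit 7, nat_lit 5, nat_lit 7, nat_lit 5, nat_lit 7, nat_lit 5, nat_lit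 7], .rel (nat_lit 54) (nat_lit 10) [nat_lit 7, nat_lit 5, nat_lit 7, nat_lit 5, nat_lit 7, nat_lit 5, nat_lit 7, nat_lit 5, nat_lit 7, nat_lit 5, nat_lit 7]],
  [.rel (nat_lit 12) (nat_lit 0) [nat_lit 5], .defn, .rel (nat_lit 40) (nat_lit 4) [nat_lit 3, nat_lit 4, nat_lit 5, nat_lit 3], .rel (nat_lit 52) (nat_lit 6) [nat_lit 7, nat_lit 5, nat_lit 7, nat_lit 0, nat_lit 1, nat_lit 6, nat_lit 7, nat_lit 5, nat_lit 7], .rel (nat_lit 62) (nat_lit 3) [nat_lit 1, nat_lit 8, nat_lit 5, nat_lit 8, nat_lit 6, nat_lit 8, nat_lit 1, nat_lit 5, nat_lit 8], .rel (nat_lit 64) (nat_lit 9) [nat_lit 8, nat_lit 7, nat_lit 0, nat_lit 2, nat_lit 6, nat_lit 7, nat_lit 8, nat_lit 6, nat_lit 7, nat_lit 3, nat_lit 8], .rel (nat_lit 52) (nat_lit 2) [nat_lit 7, nat_lit 5, nat_lit 7, nat_lit 6, nat_lit 7, nat_lit 5, nat_lit 7, nat_lit 0, nat_lit 1], .rel (nat_lit 64) (nat_lit 2) [nat_lit 7, nat_lit 8, nat_lit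 6, nat_lit 7, nat_lit 3, nat_lit 8, nat_lit 6, nat_lit 8, nat_lit 7, nat_lit 0, nat_lit 2], .sub (nat_lit 12) [] [], .rel (nat_lit 38) (nat_lit 2) [nat_lit 3, nat_lit 5, nat_lit 1, nat_lit 2], .rel (nat_lit 42) (nat_lit 2) [nat_lit 1, nat_lit 3, nat_lit 5, nat_lit 0, nat_lit 4], .rel (nat_lit 48) (nat_lit 6) [nat_lit 7, nat_lit 0, nat_lit 1, nat_lit 2, nat_lit 7, nat_lit 5, nat_lit 0], .rel (nat_lit 50) (nat_lit 6) [nat_lit 1, nat_lit 5, nat_lit 7, nat_lit 2, nat_lit 4, nat_lit 7], .rel (nat_lit 62) (nat_lit 8) [nat_lit 8, nat_lit 1, nat_lit 5, nat_lit 8, nat_lit 6, nat_lit 1, nat_lit 8, nat_lit 5, nat_lit 8]],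
  [.rel (nat_lit 14) (nat_lit 0) [nat_lit 7], .defn, .rel (nat_lit 56) (nat_lit 0) [nat_lit 8, nat_lit 7, nat_lit 8], .rel (nat_lit 52) (nat_lit 5) [nat_lit 6, nat_lit 7, nat_lit 5, nat_lit 7, nat_lit 0, nat_lit 1, nat_lit 6, nat_lit 7, nat_lit 5], .rel (nat_lit 56) (nat_lit 2) [nat_lit 8, nat_lit 7, nat_lit 8], .rel (nat_lit 52) (nat_lit 7) [nat_lit 5, nat_lit 7, nat_lit 0, nat_lit 1, nat_lit 6, nat_lit 7, nat_lit 5, nat_lit 7, nat_lit 6], .rel (nat_lit 64) (nat_lit 11) [nat_lit 0, nat_lit 2, nat_lit 6, nat_lit 7, nat_lit 8, nat_lit 6, nat_lit 7, nat_lit 3, nat_lit 8, nat_lit 6, nat_lit 8], .rel (nat_lit 52) (nat_lit 3) [nat_lit 5, nat_lit 7, nat_lit 6, nat_lit 7, nat_lit 5, nat_lit 7, nat_lit 0, nat_lit 1, nat_lit 6], .rel (nat_lit 60) (nat_lit 1) [nat_lit 8, nat_lit 4, nat_lit 8, nat_lit 7, nat_lit 4], .sub (nat_lit 14) [] [], .rel (nat_lit 48) (nat_lit 7) [nat_lit 0, nat_lit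 1, nat_lit 2, nat_lit 7, nat_lit 5, nat_lit 0, nat_lit 6], .rel (nat_lit 50) (nat_lit 2) [nat_lit 2, nat_lit 4, nat_lit 7, nat_lit 6, nat_lit 1, nat_lit 5], .rel (nat_lit 52) (nat_lit 9) [nat_lit 0, nat_lit 1, nat_lit 6, nat_lit 7, nat_lit 5, nat_lit 7, nat_lit 6, nat_lit 7, nat_lit 5], .rel (nat_lit 64) (nat_lit 3) [nat_lit 8, nat_lit 6, nat_lit 7, nat_lit 3, nat_lit 8, nat_lit 6, nat_lit 8, nat_lit 7, nat_lit 0, nat_lit 2, nat_lit 6]],
  [.rel (nat_lit 16) (nat_lit 0) [nat_lit 8], .defn, .rel (nat_lit 56) (nat_lit 3) [nat_lit 7, nat_lit 8, nat_lit 7], .rel (nat_lit 62) (nat_lit 2) [nat_lit 6, nat_lit 1, nat_lit 8, nat_lit 5, nat_lit 8, nat_lit 6, nat_lit 8, nat_lit 1, nat_lit 5], .rel (nat_lit 62) (nat_lit 5) [nat_lit 5, nat_lit 8, nat_lit 6, nat_lit 8, nat_lit 1, nat_lit 5, nat_lit 8, nat_lit 6, nat_lit 1], .rel (nat_lit 60) (nat_lit 2) [nat_lit 4, nat_lit 8, nat_lit 7, nat_lit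 4, nat_lit 7], .rel (nat_lit 56) (nat_lit 1) [nat_lit 7, nat_lit 8, nat_lit 7], .rel (nat_lit 58) (nat_lit 2) [nat_lit 2, nat_lit 4, nat_lit 8, nat_lit 0, nat_lit 2], .rel (nat_lit 62) (nat_lit 7) [nat_lit 6, nat_lit 8, nat_lit 1, nat_lit 5, nat_lit 8, nat_lit 6, nat_lit 1, nat_lit 8, nat_lit 5], .rel (nat_lit 64) (nat_lit 8) [nat_lit 6, nat_lit 8, nat_lit 7, nat_lit 0, nat_lit 2, nat_lit 6, nat_lit 7, nat_lit 8, nat_lit 6, nat_lit 7, nat_lit 3], .rel (nat_lit 58) (nat_lit 5) [nat_lit 0, nat_lit 2, nat_lit 8, nat_lit 2, nat_lit 4], .rel (nat_lit 60) (nat_lit 4) [nat_lit 7, nat_lit 4, nat_lit 7, nat_lit 8, nat_lit 4], .rel (nat_lit 64) (nat_lit 4) [nat_lit 6, nat_lit 7, nat_lit 3, nat_lit 8, nat_lit 6, nat_lit 8, nat_lit 7, nat_lit 0, nat_lit 2, nat_lit 6, nat_lit 7], .rel (nat_lit 66) (nat_lit 11) [nat_lit 5, nat_lit 5, nat_lit 7, nat_lit 5, nat_lit 5, nat_lit 8, nat_lit 5, nat_lit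 5, nat_lit 7, nat_lit 5, nat_lit 5, nat_lit 8, nat_lit 5, nat_lit 5, nat_lit 7, nat_lit 5, nat_lit 5]]]
noncomputable def c0 : TCert := ⟨120, 9, 127, T0, I0, D0, [[nat_lit 0],
  [nat_lit 1],
  [nat_lit 2],
  [nat_lit 3],
  [nat_lit 4],
  [nat_lit 5],
  [nat_lit 6],
  [nat_lit 7]], RL0⟩
noncomputable def Pt0d : ℕ := nat_lit 0x30c1252a7706a508469cb0ebb419f8c337bc61154c8801f4662bbe1b77e84c819dcafcaadadd91739d2d2a59071db0dc25cb4cb847449972db82530afd8751e424cb69c636655c9f6d3d375e8aaf58b6e052cda10ed63c242e709238a2a7889aba43f5861adf2a380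
noncomputable def Pt0 (u : ℕ) : ℕ := Nat.land (Nat.shiftRight Pt0d (Nat.mul u (nat_lit 7))) (nat_lit 127)
noncomputable def Q0d : ℕ := nat_lit 0xb3a585c929951b06d924243c23a0a4a27dfcc3ac71ad8e64aae60ceb1218fe06921d55ce4515458096cb02a468bed034536494f142daa8bcc8726abb714eb1a0fdf159c9e36f182ba08778775e0e8f96c8211ee270df99a724c7ae5f0f685256881789959b5bbd7b80
noncomputable def Q0 (u : ℕ) : ℕ := Nat.land (Nat.shiftRight Q0d (Nat.mul u (nat_lit 7))) (nat_lit 127)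
noncomputable def l0 : H16.Lev := ⟨120, 9, D0, Pt0, Q0⟩
noncomputable def T1d : List ℕ := [nat_lit 0x31719bd25896da55b0a83494e8452b1990ce1e95afd88a8361995d1bc785315dca30bb683c02dd729d75b22331474bd64b1ab3509c5d939c9b78c9e7e42b1937c86c3e11340b806d81e90b503b80,
  nat_lit 0x3971dbcf587edab4359abd352b9b2b6aa64e324b11d772943519b2fb76ac3b5a2a6db87a9c0358b2bd84a9ab590b49d95aa23554c67da2b29b608d65db3b2135ccd43e41b30bb04ca1eb0b603b80,
  nat_lit 0x27712bce5876d4d5aaa80489683f3ab98f4a069571a089d3655958fb5685ba85c730b678a403187c9d55a2ab2907abd44a3232d4985d829c9b58c9a7d93af13548663da133876c6d02e80b483b80,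
  nat_lit 0x29795b905886d495ad981c89a86f2aca9c4e0a950f9c895432204f1bf6873075c52dc07a4b23dd9499f4a2aa41496b9e5a3224509a7dc2a21b7ccba5dd3a393788683e71b007904c22ed07705b80,
  nat_lit 0x2f796b8f5a7ec4b42fa82d29ab4f2ae9944e12450f9d89ab64e04f1bd7863a71c6d0be68932358909d24a1231d092bd35a1ab194927da2a19b9c8905db3ae1398c6a3e613487946d42e30b103b80,
  nat_lit 0x4571bbf6cfb65476b5aacc89acdadb39aac2269a141665b47b54dd5ed4f6a42605efcd5f6a0456da7ee8a13c35dda5ee73735b98766ed1b72b94ad64ed13723a0e6e3ed0b719b41dc46e17707b80,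
  nat_lit 0x35721bd156968dafb4a8449463dd6b29b7596a96b0ed5ab4a21c60dc154629b52dd3ed44bc5b5098d106369bba0dcf6e77693b99dcbe721d1fb45dc9e433617b43703ee3b685b8ada0ee1b709b80,
  nat_lit 0xdb6edb375fbaebd16d7b6bbb5c9f06d6b6b3b58dabdfaf6ab3a7da9eeab753ba8da8ee9b74bba4dd1ed3b743b4cdcfed2b737b48da36e5b68bb94da26e4b687b90da16e3f71bb8bdc4ee1f681b81]
noncomputable def T1 (k u : ℕ) : ℕ := Nat.land (Nat.shiftRight (nth (nat_lit 0) T1d k) (Nat.mul u (nat_lit 13))) (nat_lit 8191)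
noncomputable def I1d : List ℕ := [nat_lit 0x10455024101010013012633021545020737242314901628,
  nat_lit 0x1013010100100602012103142180206101030301059254a7,
  nat_lit 0x11004130060532021421010025113021100202601108427,
  nat_lit 0x540134410020152500013122026320116021211342091087,
  nat_lit 0x354203310529110704451262000127101023621032001148,
  nat_lit 0xb5008902050a00c010020404013701112013001200101116,
  nat_lit 0x41012002020001020000111011000102021010113,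
  nat_lit 0x1100002000030001110111101010100101010101111101]
noncomputable def I1 (k u : ℕ) : ℕ := Nat.land (Nat.shiftRight (nth (nat_lit 0) I1d k) (Nat.mul u (nat_lit 4))) (nat_lit 15)
noncomputable def D1d : ℕ := nat_lit 0xb7d9e7d2e7ebdddee76f35d9ec75fad55ea64fa792c9547a350c853f1dcda672f15c9a471b8d85e2d138983e1d0b8582a0e0682c0e00
noncomputable def D1 (u : ℕ) : ℕ := Nat.land (Nat.shiftRight D1d (Nat.mul u (nat_lit 9))) (nat_lit 511)
noncomputable def RL1 : List (List Rule) := [[.rel (nat_lit 0) (nat_lit 0) [nat_lit 0], .rel (nat_lit 48) (nat_lit 5) [nat_lit 6, nat_lit 7, nat_lit 0, nat_lit 1, nat_lit 2, nat_lit 7, nat_lit 5], .rel (nat_lit 52) (nat_lit 0) [nat_lit 1, nat_lit 6, nat_lit 7, nat_lit 5, nat_lit 7, nat_lit 6, nat_lit 7, nat_lit 5, nat_lit 7], .rel (nat_lit 42) (nat_lit 0) [nat_lit 4, nat_lit 6, nat_lit 1, nat_lit 3, nat_lit 5], .rel (nat_lit 44) (nat_lit 0) [nat_lit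 5, nat_lit 4, nat_lit 5, nat_lit 5, nat_lit 5, nat_lit 5], .rel (nat_lit 18) (nat_lit 2) [nat_lit 1, nat_lit 0, nat_lit 1], .rel (nat_lit 24) (nat_lit 2) [nat_lit 3, nat_lit 0, nat_lit 3], .rel (nat_lit 30) (nat_lit 2) [nat_lit 4, nat_lit 0, nat_lit 4], .sub (nat_lit 0) [] [], .rel (nat_lit 30) (nat_lit 0) [nat_lit 4, nat_lit 0, nat_lit 4]],
  [.rel (nat_lit 46) (nat_lit 2) [nat_lit 7, nat_lit 1, nat_lit 7], .rel (nat_lit 2) (nat_lit 0) [nat_lit 1], .rel (nat_lit 50) (nat_lit 0) [nat_lit 5, nat_lit 7, nat_lit 2, nat_lit 4, nat_lit 7, nat_lit 6], .rel (nat_lit 42) (nat_lit 3) [nat_lit 3, nat_lit 5, nat_lit 0, nat_lit 4, nat_lit 6], .rel (nat_lit 26) (nat_lit 2) [nat_lit 3, nat_lit 1, nat_lit 3], .rel (nat_lit 32) (nat_lit 2) [nat_lit 4, nat_lit 1, nat_lit 4], .rel (nat_lit 52) (nat_lit 1) [nat_lit 6, nat_lit 7, nat_lit 5, nat_lit 7, nat_lit 6, nat_lit 7, nat_lit 5, nat_lit 7, nat_lit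 0], .sub (nat_lit 2) [] [], .rel (nat_lit 18) (nat_lit 3) [nat_lit 0, nat_lit 1, nat_lit 0], .rel (nat_lit 38) (nat_lit 0) [nat_lit 2, nat_lit 6, nat_lit 3, nat_lit 5], .rel (nat_lit 46) (nat_lit 0) [nat_lit 7, nat_lit 1, nat_lit 7]],
  [.rel (nat_lit 38) (nat_lit 1) [nat_lit 6, nat_lit 3, nat_lit 5, nat_lit 1], .rel (nat_lit 4) (nat_lit 0) [nat_lit 2], .rel (nat_lit 48) (nat_lit 2) [nat_lit 7, nat_lit 5, nat_lit 0, nat_lit 6, nat_lit 7, nat_lit 0, nat_lit 1], .rel (nat_lit 22) (nat_lit 3) [nat_lit 1, nat_lit 2, nat_lit 1], .rel (nat_lit 28) (nat_lit 2) [nat_lit 3, nat_lit 2, nat_lit 3], .rel (nat_lit 20) (nat_lit 3) [nat_lit 0, nat_lit 2, nat_lit 0], .rel (nat_lit 34) (nat_lit 2) [nat_lit 4, nat_lit 2, nat_lit 4], .sub (nat_lit 4) [] [], .rel (nat_lit 50) (nat_lit 3) [nat_lit 4, nat_lit 7, nat_lit 6, nat_lit 1, nat_lit 5, nat_lit 7]],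
  [.rel (nat_lit 6) (nat_lit 0) [nat_lit 3], .rel (nat_lit 40) (nat_lit 3) [nat_lit 6, nat_lit 3, nat_lit 4, nat_lit 5], .rel (nat_lit 38) (nat_lit 3) [nat_lit 5, nat_lit 1, nat_lit 2, nat_lit 6], .rel (nat_lit 36) (nat_lit 2) [nat_lit 4, nat_lit 3, nat_lit 4], .rel (nat_lit 42) (nat_lit 4) [nat_lit 5, nat_lit 0, nat_lit 4, nat_lit 6, nat_lit 1], .rel (nat_lit 26) (nat_lit 3) [nat_lit 1, nat_lit 3, nat_lit 1], .rel (nat_lit 24) (nat_lit 3) [nat_lit 0, nat_lit 3, nat_lit 0], .sub (nat_lit 6) [] [], .defn, .rel (nat_lit 36) (nat_lit 0) [nat_lit 4, nat_lit 3, nat_lit 4]],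
  [.rel (nat_lit 8) (nat_lit 0) [nat_lit 4], .rel (nat_lit 42) (nat_lit 1) [nat_lit 6, nat_lit 1, nat_lit 3, nat_lit 5, nat_lit 0], .rel (nat_lit 40) (nat_lit 1) [nat_lit 5, nat_lit 3, nat_lit 6, nat_lit 3], .rel (nat_lit 44) (nat_lit 2) [nat_lit 5, nat_lit 5, nat_lit 5, nat_lit 5, nat_lit 0, nat_lit 5], .rel (nat_lit 36) (nat_lit 3) [nat_lit 3, nat_lit 4, nat_lit 3], .rel (nat_lit 32) (nat_lit 3) [nat_lit 1, nat_lit 4, nat_lit 1], .rel (nat_lit 34) (nat_lit 3) [nat_lit 2, nat_lit 4, nat_lit 2], .rel (nat_lit 50) (nat_lit 4) [nat_lit 7, nat_lit 6, nat_lit 1, nat_lit 5, nat_lit 7, nat_lit 2], .sub (nat_lit 8) [] [], .rel (nat_lit 30) (nat_lit 3) [nat_lit 0, nat_lit 4, nat_lit 0]],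
  [.rel (nat_lit 10) (nat_lit 0) [nat_lit 6], .defn, .rel (nat_lit 44) (nat_lit 4) [nat_lit 5, nat_lit 5, nat_lit 0, nat_lit 5, nat_lit 4, nat_lit 5], .rel (nat_lit 44) (nat_lit 3) [nat_lit 5, nat_lit 5, nat_lit 5, nat_lit 0, nat_lit 5, nat_lit 4], .rel (nat_lit 44) (nat_lit 5) [nat_lit 5, nat_lit 0, nat_lit 5, nat_lit 4, nat_lit 5, nat_lit 5], .rel (nat_lit 50) (nat_lit 1) [nat_lit 7, nat_lit 2, nat_lit 4, nat_lit 7, nat_lit 6, nat_lit 1], .sub (nat_lit 10) [] [], .rel (nat_lit 40) (nat_lit 2) [nat_lit 3, nat_lit 6, nat_lit 3, nat_lit 4], .rel (nat_lit 44) (nat_lit 6) [nat_lit 0, nat_lit 5, nat_lit 4, nat_lit 5, nat_lit 5, nat_lit 5], .rel (nat_lit 52) (nat_lit 4) [nat_lit 7, nat_lit 6, nat_lit 7, nat_lit 5, nat_lit 7, nat_lit 0, nat_lit 1, nat_lit 6, nat_lit 7], .rel (nat_lit 52) (nat_lit 8) [nat_lit 7, nat_lit 0, nat_lit 1, nat_lit 6, nat_lit 7, nat_lit 5, nat_lit 7, nat_lit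 6, nat_lit 7], .rel (nat_lit 54) (nat_lit 2) [nat_lit 7, nat_lit 5, nat_lit 7, nat_lit 5, nat_lit 7, nat_lit 5, nat_lit 7, nat_lit 5, nat_lit 7, nat_lit 5, nat_lit 7], .rel (nat_lit 54) (nat_lit 6) [nat_lit 7, nat_lit 5, nat_lit 7, nat_lit 5, nat_lit 7, nat_lit 5, nat_lit 7, nat_lit 5, nat_lit 7, nat_lit 5, nat_lit 7]],
  [.rel (nat_lit 12) (nat_lit 0) [nat_lit 5], .defn, .rel (nat_lit 52) (nat_lit 6) [nat_lit 7, nat_lit 5, nat_lit 7, nat_lit 0, nat_lit 1, nat_lit 6, nat_lit 7, nat_lit 5, nat_lit 7], .sub (nat_lit 12) [] [], .rel (nat_lit 52) (nat_lit 2) [nat_lit 7, nat_lit 5, nat_lit 7, nat_lit 6, nat_lit 7, nat_lit 5, nat_lit 7, nat_lit 0, nat_lit 1]],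
  [.rel (nat_lit 14) (nat_lit 0) [nat_lit 7], .defn, .rel (nat_lit 52) (nat_lit 3) [nat_lit 5, nat_lit 7, nat_lit 6, nat_lit 7, nat_lit 5, nat_lit 7, nat_lit 0, nat_lit 1, nat_lit 6], .rel (nat_lit 52) (nat_lit 5) [nat_lit 6, nat_lit 7, nat_lit 5, nat_lit 7, nat_lit 0, nat_lit 1, nat_lit 6, nat_lit 7, nat_lit 5]]]
noncomputable def c1 : TCert := ⟨48, 8, 63, T1, I1, D1, [[nat_lit 0],
  [nat_lit 1],
  [nat_lit 2],
  [nat_lit 3],
  [nat_lit 4],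
  [nat_lit 5],
  [nat_lit 6]], RL1⟩
noncomputable def Pt1d : ℕ := nat_lit 0x2e8e03385829c8087749bedcb1d5c805e8fcf0e5aa1ab0e4e4bc10d972f97b10c41bb4b0b82dc5396f02
noncomputable def Pt1 (u : ℕ) : ℕ := Nat.land (Nat.shiftRight Pt1d (Nat.mul u (nat_lit 7))) (nat_lit 127)
noncomputable def Q1d : ℕ := nat_lit 0x230000220120000000009406c009f84002a001004000407000800a400000140006400280000006ab02d00e7400003c0240008b003003460160180c00004c0b80440000995900000bc000000000a7005c000000000b167000780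
noncomputable def Q1 (u : ℕ) : ℕ := Nat.land (Nat.shiftRight Q1d (Nat.mul u (nat_lit 6))) (nat_lit 63)
noncomputable def l1 : H16.Lev := ⟨48, 8, D1, Pt1, Q1⟩
noncomputable def T2d : List ℕ := [nat_lit 0x8c78839674514d0ed767b0,
  nat_lit 0x92a8120daea3779e09c3b0,
  nat_lit 0x2c78020a4641761915a3b0,
  nat_lit 0x28cb8ba4e70b67c1e4b23b0,
  nat_lit 0x24ca8b3c66eb54c8e0b07b0,
  nat_lit 0xcba3bb68931b9dbe8369b1,
  nat_lit 0x34885d1d9cb3a1dc6db41b2]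
noncomputable def T2 (k u : ℕ) : ℕ := Nat.land (Nat.shiftRight (nth (nat_lit 0) T2d k) (Nat.mul u (nat_lit 9))) (nat_lit 511)
noncomputable def I2d : List ℕ := [nat_lit 0x588204b,
  nat_lit 0x46000b,
  nat_lit 0x8208602,
  nat_lit 0x30514c4,
  nat_lit 0xc5ca0a,
  nat_lit 0x21650040,
  nat_lit 0x241]
noncomputable def I2 (k u : ℕ) : ℕ := Nat.land (Nat.shiftRight (nth (nat_lit 0) I2d k) (Nat.mul u (nat_lit 3))) (nat_lit 7)
noncomputable def D2d : ℕ := nat_lit 0x85b69438c1c6140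
noncomputable def D2 (u : ℕ) : ℕ := Nat.land (Nat.shiftRight D2d (Nat.mul u (nat_lit 6))) (nat_lit 63)
noncomputable def RL2 : List (List Rule) := [[.rel (nat_lit 0) (nat_lit 0) [nat_lit 0], .defn, .rel (nat_lit 44) (nat_lit 0) [nat_lit 5, nat_lit 4, nat_lit 5, nat_lit 5, nat_lit 5, nat_lit 5], .sub (nat_lit 0) [] [], .rel (nat_lit 24) (nat_lit 2) [nat_lit 3, nat_lit 0, nat_lit 3], .rel (nat_lit 42) (nat_lit 0) [nat_lit 4, nat_lit 6, nat_lit 1, nat_lit 3, nat_lit 5]],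
  [.rel (nat_lit 42) (nat_lit 3) [nat_lit 3, nat_lit 5, nat_lit 0, nat_lit 4, nat_lit 6], .rel (nat_lit 32) (nat_lit 2) [nat_lit 4, nat_lit 1, nat_lit 4], .rel (nat_lit 2) (nat_lit 0) [nat_lit 1], .sub (nat_lit 2) [] [], .rel (nat_lit 18) (nat_lit 3) [nat_lit 0, nat_lit 1, nat_lit 0]],
  [.rel (nat_lit 38) (nat_lit 1) [nat_lit 6, nat_lit 3, nat_lit 5, nat_lit 1], .rel (nat_lit 4) (nat_lit 0) [nat_lit 2], .sub (nat_lit 4) [] [], .rel (nat_lit 34) (nat_lit 2) [nat_lit 4, nat_lit 2, nat_lit 4]],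
  [.rel (nat_lit 40) (nat_lit 3) [nat_lit 6, nat_lit 3, nat_lit 4, nat_lit 5], .rel (nat_lit 6) (nat_lit 0) [nat_lit 3], .rel (nat_lit 24) (nat_lit 3) [nat_lit 0, nat_lit 3, nat_lit 0], .rel (nat_lit 38) (nat_lit 3) [nat_lit 5, nat_lit 1, nat_lit 2, nat_lit 6], .sub (nat_lit 6) [] []],
  [.rel (nat_lit 40) (nat_lit 1) [nat_lit 5, nat_lit 3, nat_lit 6, nat_lit 3], .rel (nat_lit 8) (nat_lit 0) [nat_lit 4], .sub (nat_lit 8) [] [], .rel (nat_lit 30) (nat_lit 3) [nat_lit 0, nat_lit 4, nat_lit 0], .rel (nat_lit 36) (nat_lit 3) [nat_lit 3, nat_lit 4, nat_lit 3], .rel (nat_lit 42) (nat_lit 1) [nat_lit 6, nat_lit 1, nat_lit 3, nat_lit 5, nat_lit 0], .rel (nat_lit 44) (nat_lit 2) [nat_lit 5, nat_lit 5, nat_lit 5, nat_lit 5, nat_lit 0, nat_lit 5]],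
  [.defn, .rel (nat_lit 10) (nat_lit 0) [nat_lit 6], .rel (nat_lit 44) (nat_lit 1) [nat_lit 4, nat_lit 5, nat_lit 5, nat_lit 5, nat_lit 5, nat_lit 0], .rel (nat_lit 44) (nat_lit 4) [nat_lit 5, nat_lit 5, nat_lit 0, nat_lit 5, nat_lit 4, nat_lit 5], .rel (nat_lit 44) (nat_lit 5) [nat_lit 5, nat_lit 0, nat_lit 5, nat_lit 4, nat_lit 5, nat_lit 5]],
  [.rel (nat_lit 12) (nat_lit 0) [nat_lit 5], .defn]]
noncomputable def c2 : TCert := ⟨10, 7, 15, T2, I2, D2, [[nat_lit 0],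
  [nat_lit 1],
  [nat_lit 2],
  [nat_lit 3],
  [nat_lit 4]], RL2⟩
noncomputable def Pt2d : ℕ := nat_lit 0x12b7863430142e4e2f
noncomputable def Pt2 (u : ℕ) : ℕ := Nat.land (Nat.shiftRight Pt2d (Nat.mul u (nat_lit 7))) (nat_lit 127)
noncomputable def Q2d : ℕ := nat_lit 0x70000000002080000000000000000090003000010000000000000060000005000040
noncomputable def Q2 (u : ℕ) : ℕ := Nat.land (Nat.shiftRight Q2d (Nat.mul u (nat_lit 4))) (nat_lit 15)
noncomputable def l2 : H16.Lev := ⟨10, 7, D2, Pt2, Q2⟩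
noncomputable def T3d : List ℕ := [nat_lit 0xc,
  nat_lit 0xc,
  nat_lit 0xc,
  nat_lit 0xc,
  nat_lit 0x15]
noncomputable def T3 (k u : ℕ) : ℕ := Nat.land (Nat.shiftRight (nth (nat_lit 0) T3d k) (Nat.mul u (nat_lit 3))) (nat_lit 7)
noncomputable def I3d : List ℕ := [nat_lit 2,
  nat_lit 2,
  nat_lit 2,
  nat_lit 2,
  nat_lit 1]
noncomputable def I3 (k u : ℕ) : ℕ := Nat.land (Nat.shiftRight (nth (nat_lit 0) I3d k) (Nat.mul u (nat_lit 1))) (nat_lit 1)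
noncomputable def D3d : ℕ := nat_lit 0x20
noncomputable def D3 (u : ℕ) : ℕ := Nat.land (Nat.shiftRight D3d (Nat.mul u (nat_lit 3))) (nat_lit 7)
noncomputable def RL3 : List (List Rule) := [[.sub (nat_lit 0) [] [], .rel (nat_lit 30) (nat_lit 0) [nat_lit 4, nat_lit 0, nat_lit 4]],
  [.sub (nat_lit 2) [] [], .rel (nat_lit 32) (nat_lit 0) [nat_lit 4, nat_lit 1, nat_lit 4]],
  [.sub (nat_lit 4) [] [], .rel (nat_lit 34) (nat_lit 0) [nat_lit 4, nat_lit 2, nat_lit 4]],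
  [.sub (nat_lit 6) [] [], .rel (nat_lit 36) (nat_lit 0) [nat_lit 4, nat_lit 3, nat_lit 4]],
  [.rel (nat_lit 8) (nat_lit 0) [nat_lit 4], .defn]]
noncomputable def c3 : TCert := ⟨2, 5, 1, T3, I3, D3, [[nat_lit 0],
  [nat_lit 1],
  [nat_lit 2],
  [nat_lit 3]], RL3⟩
noncomputable def Pt3d : ℕ := nat_lit 0x3bdf
noncomputable def Pt3 (u : ℕ) : ℕ := Nat.land (Nat.shiftRight Pt3d (Nat.mul u (nat_lit 7))) (nat_lit 127)
noncomputable def Q3d : ℕ := nat_lit 0x800000000000000000000000000000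
noncomputable def Q3 (u : ℕ) : ℕ := Nat.land (Nat.shiftRight Q3d (Nat.mul u (nat_lit 1))) (nat_lit 1)
noncomputable def l3 : H16.Lev := ⟨2, 5, D3, Pt3, Q3⟩
noncomputable def T4d : List ℕ := [nat_lit 0xc,
  nat_lit 0xc,
  nat_lit 0xc,
  nat_lit 0x15]
noncomputable def T4 (k u : ℕ) : ℕ := Nat.land (Nat.shiftRight (nth (nat_lit 0) T4d k) (Nat.mul u (nat_lit 3))) (nat_lit 7)
noncomputable def I4d : List ℕ := [nat_lit 2,
  nat_lit 2,
  nat_lit 2,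
  nat_lit 1]
noncomputable def I4 (k u : ℕ) : ℕ := Nat.land (Nat.shiftRight (nth (nat_lit 0) I4d k) (Nat.mul u (nat_lit 1))) (nat_lit 1)
noncomputable def D4d : ℕ := nat_lit 0xc
noncomputable def D4 (u : ℕ) : ℕ := Nat.land (Nat.shiftRight D4d (Nat.mul u (nat_lit 2))) (nat_lit 3)
noncomputable def RL4 : List (List Rule) := [[.sub (nat_lit 0) [] [], .rel (nat_lit 24) (nat_lit 0) [nat_lit 3, nat_lit 0, nat_lit 3]],
  [.sub (nat_lit 2) [] [], .rel (nat_lit 26) (nat_lit 0) [nat_lit 3, nat_lit 1, nat_lit 3]],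
  [.sub (nat_lit 4) [] [], .rel (nat_lit 28) (nat_lit 0) [nat_lit 3, nat_lit 2, nat_lit 3]],
  [.rel (nat_lit 6) (nat_lit 0) [nat_lit 3], .defn]]
noncomputable def c4 : TCert := ⟨2, 4, 1, T4, I4, D4, [[nat_lit 0],
  [nat_lit 1],
  [nat_lit 2]], RL4⟩
noncomputable def Pt4d : ℕ := nat_lit 0xcd2
noncomputable def Pt4 (u : ℕ) : ℕ := Nat.land (Nat.shiftRight Pt4d (Nat.mul u (nat_lit 7))) (nat_lit 127)
noncomputable def Q4d : ℕ := nat_lit 0x2000000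
noncomputable def Q4 (u : ℕ) : ℕ := Nat.land (Nat.shiftRight Q4d (Nat.mul u (nat_lit 1))) (nat_lit 1)
noncomputable def l4 : H16.Lev := ⟨2, 4, D4, Pt4, Q4⟩
noncomputable def T5d : List ℕ := [nat_lit 0xc,
  nat_lit 0xc,
  nat_lit 0x15]
noncomputable def T5 (k u : ℕ) : ℕ := Nat.land (Nat.shiftRight (nth (nat_lit 0) T5d k) (Nat.mul u (nat_lit 3))) (nat_lit 7)
noncomputable def I5d : List ℕ := [nat_lit 2,
  nat_lit 2,
  nat_lit 1]
noncomputable def I5 (k u : ℕ) : ℕ := Nat.land (Nat.shiftRight (nth (nat_lit 0) I5d k) (Nat.mul u (nat_lit 1))) (nat_lit 1)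
noncomputable def D5d : ℕ := nat_lit 8
noncomputable def D5 (u : ℕ) : ℕ := Nat.land (Nat.shiftRight D5d (Nat.mul u (nat_lit 2))) (nat_lit 3)
noncomputable def RL5 : List (List Rule) := [[.sub (nat_lit 0) [] [], .rel (nat_lit 20) (nat_lit 0) [nat_lit 2, nat_lit 0, nat_lit 2]],
  [.sub (nat_lit 2) [] [], .rel (nat_lit 22) (nat_lit 0) [nat_lit 2, nat_lit 1, nat_lit 2]],
  [.rel (nat_lit 4) (nat_lit 0) [nat_lit 2], .defn]]
noncomputable def c5 : TCert := ⟨2, 3, 1, T5, I5, D5, [[nat_lit 0],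
  [nat_lit 1]], RL5⟩
noncomputable def Pt5d : ℕ := nat_lit 0x169
noncomputable def Pt5 (u : ℕ) : ℕ := Nat.land (Nat.shiftRight Pt5d (Nat.mul u (nat_lit 6))) (nat_lit 63)
noncomputable def Q5d : ℕ := nat_lit 0x20
noncomputable def Q5 (u : ℕ) : ℕ := Nat.land (Nat.shiftRight Q5d (Nat.mul u (nat_lit 1))) (nat_lit 1)
noncomputable def l5 : H16.Lev := ⟨2, 3, D5, Pt5, Q5⟩
noncomputable def T6d : List ℕ := [nat_lit 0xc,
  nat_lit 0x15]
noncomputable def T6 (k u : ℕ) : ℕ := Nat.land (Nat.shiftRight (nth (nat_lit 0) T6d k) (Nat.mul u (nat_lit 3))) (nat_lit 7)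
noncomputable def I6d : List ℕ := [nat_lit 2,
  nat_lit 1]
noncomputable def I6 (k u : ℕ) : ℕ := Nat.land (Nat.shiftRight (nth (nat_lit 0) I6d k) (Nat.mul u (nat_lit 1))) (nat_lit 1)
noncomputable def D6d : ℕ := nat_lit 2
noncomputable def D6 (u : ℕ) : ℕ := Nat.land (Nat.shiftRight D6d (Nat.mul u (nat_lit 1))) (nat_lit 1)
noncomputable def RL6 : List (List Rule) := [[.sub (nat_lit 0) [] [], .rel (nat_lit 18) (nat_lit 0) [nat_lit 1, nat_lit 0, nat_lit 1]],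
  [.rel (nat_lit 2) (nat_lit 0) [nat_lit 1], .defn]]
noncomputable def c6 : TCert := ⟨2, 2, 1, T6, I6, D6, [[nat_lit 0]], RL6⟩
noncomputable def Pt6d : ℕ := nat_lit 0x2759
noncomputable def Pt6 (u : ℕ) : ℕ := Nat.land (Nat.shiftRight Pt6d (Nat.mul u (nat_lit 7))) (nat_lit 127)
noncomputable def Q6d : ℕ := nat_lit 0x40000000000000000000
noncomputable def Q6 (u : ℕ) : ℕ := Nat.land (Nat.shiftRight Q6d (Nat.mul u (nat_lit 1))) (nat_lit 1)
noncomputable def l6 : H16.Lev := ⟨2, 2, D6, Pt6, Q6⟩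
noncomputable def T7d : List ℕ := [nat_lit 3]
noncomputable def T7 (k u : ℕ) : ℕ := Nat.land (Nat.shiftRight (nth (nat_lit 0) T7d k) (Nat.mul u (nat_lit 2))) (nat_lit 3)
noncomputable def I7d : List ℕ := [nat_lit 1]
noncomputable def I7 (k u : ℕ) : ℕ := Nat.land (Nat.shiftRight (nth (nat_lit 0) I7d k) (Nat.mul u (nat_lit 1))) (nat_lit 1)
noncomputable def D7d : ℕ := nat_lit 0
noncomputable def D7 (u : ℕ) : ℕ := Nat.land (Nat.shiftRight D7d (Nat.mul u (nat_lit 1))) (nat_lit 1)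
noncomputable def RL7 : List (List Rule) := [[.rel (nat_lit 0) (nat_lit 0) [nat_lit 0], .defn]]
noncomputable def c7 : TCert := ⟨2, 1, 1, T7, I7, D7, [], RL7⟩
noncomputable def Pt7d : ℕ := nat_lit 0x344d
noncomputable def Pt7 (u : ℕ) : ℕ := Nat.land (Nat.shiftRight Pt7d (Nat.mul u (nat_lit 7))) (nat_lit 127)
noncomputable def Q7d : ℕ := nat_lit 0x100000000000000000000000000
noncomputable def Q7 (u : ℕ) : ℕ := Nat.land (Nat.shiftRight Q7d (Nat.mul u (nat_lit 1))) (nat_lit 1)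
noncomputable def l7 : H16.Lev := ⟨2, 1, D7, Pt7, Q7⟩
noncomputable def B : List ℕ := [nat_lit 0, nat_lit 2, nat_lit 47, nat_lit 95, nat_lit 82, nat_lit 41, nat_lit 89, nat_lit 77]
noncomputable def L : List H16.Lev := [l0, l1, l2, l3, l4, l5, l6, l7]

theorem tc0e_a : allZ2 (entryChk T0 (selR RL0 I0) D0 (nat_lit 127) (nat_lit 120) (nat_lit 9)) (nat_lit 9) (nat_lit 120) = true := by decide +kernel
theorem tc0r : rulesChk Rl c0.Sl RL0 (nat_lit 9) = true := by decide +kernel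
theorem ivc : ivChk Rl (nat_lit 9) = true := by decide +kernel
theorem lv0e_0 : allZ (l0.ent P) (nat_lit 0) (nat_lit 119) = true := by decide +kernel
theorem lv0b : Nat.blt (Pt0 (nat_lit 0)) (nat_lit 120) = true ∧ Q0 (Pt0 (nat_lit 0)) = 0 ∧ Pt0 (nat_lit 0) = 0 := by decide +kernel
theorem sb0 : H16.allL (ltAll (nat_lit 8)) c0.Sl = true ∧ fixLetters P (nat_lit 8) (Pt0 (nat_lit 0)) = true := by decide +kernel
theorem tc1e_a : allZ2 (entryChk T1 (selR RL1 I1) D1 (nat_lit 63) (nat_lit 48) (nat_lit 8)) (nat_lit 8) (nat_lit 48) = true := by decide +kernel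
theorem tc1r : rulesChk Rl c1.Sl RL1 (nat_lit 8) = true := by decide +kernel
theorem lv1e_0 : allZ (l1.ent P) (nat_lit 0) (nat_lit 47) = true := by decide +kernel
theorem lv1b : Nat.blt (Pt1 (nat_lit 0)) (nat_lit 120) = true ∧ Q1 (Pt1 (nat_lit 0)) = 0 ∧ Pt1 (nat_lit 0) = 2 := by decide +kernel
theorem sb1 : H16.allL (ltAll (nat_lit 7)) c1.Sl = true ∧ fixLetters P (nat_lit 7) (Pt1 (nat_lit 0)) = true := by decide +kernel
theorem tc2e_a : allZ2 (entryChk T2 (selR RL2 I2) D2 (nat_lit 15) (nat_lit 10) (nat_lit 7)) (nat_lit 7) (nat_lit 10) = true := by decide +kernel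
theorem tc2r : rulesChk Rl c2.Sl RL2 (nat_lit 7) = true := by decide +kernel
theorem lv2e_0 : allZ (l2.ent P) (nat_lit 0) (nat_lit 9) = true := by decide +kernel
theorem lv2b : Nat.blt (Pt2 (nat_lit 0)) (nat_lit 120) = true ∧ Q2 (Pt2 (nat_lit 0)) = 0 ∧ Pt2 (nat_lit 0) = 47 := by decide +kernel
theorem sb2 : H16.allL (ltAll (nat_lit 5)) c2.Sl = true ∧ fixLetters P (nat_lit 5) (Pt2 (nat_lit 0)) = true := by decide +kernel
theorem tc3e_a : allZ2 (entryChk T3 (selR RL3 I3) D3 (nat_lit 1) (nat_lit 2) (nat_lit 5)) (nat_lit 5) (nat_lit 2) = true := by decide +kernel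
theorem tc3r : rulesChk Rl c3.Sl RL3 (nat_lit 5) = true := by decide +kernel
theorem lv3e_0 : allZ (l3.ent P) (nat_lit 0) (nat_lit 1) = true := by decide +kernel
theorem lv3b : Nat.blt (Pt3 (nat_lit 0)) (nat_lit 120) = true ∧ Q3 (Pt3 (nat_lit 0)) = 0 ∧ Pt3 (nat_lit 0) = 95 := by decide +kernel
theorem sb3 : H16.allL (ltAll (nat_lit 4)) c3.Sl = true ∧ fixLetters P (nat_lit 4) (Pt3 (nat_lit 0)) = true := by decide +kernel
theorem tc4e_a : allZ2 (entryChk T4 (selR RL4 I4) D4 (nat_lit 1) (nat_lit 2) (nat_lit 4)) (nat_lit 4) (nat_lit 2) = true := by decide +kernel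
theorem tc4r : rulesChk Rl c4.Sl RL4 (nat_lit 4) = true := by decide +kernel
theorem lv4e_0 : allZ (l4.ent P) (nat_lit 0) (nat_lit 1) = true := by decide +kernel
theorem lv4b : Nat.blt (Pt4 (nat_lit 0)) (nat_lit 120) = true ∧ Q4 (Pt4 (nat_lit 0)) = 0 ∧ Pt4 (nat_lit 0) = 82 := by decide +kernel
theorem sb4 : H16.allL (ltAll (nat_lit 3)) c4.Sl = true ∧ fixLetters P (nat_lit 3) (Pt4 (nat_lit 0)) = true := by decide +kernel
theorem tc5e_a : allZ2 (entryChk T5 (selR RL5 I5) D5 (nat_lit 1) (nat_lit 2) (nat_lit 3)) (nat_lit 3) (nat_lit 2) = true := by decide +kernel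
theorem tc5r : rulesChk Rl c5.Sl RL5 (nat_lit 3) = true := by decide +kernel
theorem lv5e_0 : allZ (l5.ent P) (nat_lit 0) (nat_lit 1) = true := by decide +kernel
theorem lv5b : Nat.blt (Pt5 (nat_lit 0)) (nat_lit 120) = true ∧ Q5 (Pt5 (nat_lit 0)) = 0 ∧ Pt5 (nat_lit 0) = 41 := by decide +kernel
theorem sb5 : H16.allL (ltAll (nat_lit 2)) c5.Sl = true ∧ fixLetters P (nat_lit 2) (Pt5 (nat_lit 0)) = true := by decide +kernel
theorem tc6e_a : allZ2 (entryChk T6 (selR RL6 I6) D6 (nat_lit 1) (nat_lit 2) (nat_lit 2)) (nat_lit 2) (nat_lit 2) = true := by decide +kernel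
theorem tc6r : rulesChk Rl c6.Sl RL6 (nat_lit 2) = true := by decide +kernel
theorem lv6e_0 : allZ (l6.ent P) (nat_lit 0) (nat_lit 1) = true := by decide +kernel
theorem lv6b : Nat.blt (Pt6 (nat_lit 0)) (nat_lit 120) = true ∧ Q6 (Pt6 (nat_lit 0)) = 0 ∧ Pt6 (nat_lit 0) = 89 := by decide +kernel
theorem sb6 : H16.allL (ltAll (nat_lit 1)) c6.Sl = true ∧ fixLetters P (nat_lit 1) (Pt6 (nat_lit 0)) = true := by decide +kernel
theorem tc7e_a : allZ2 (entryChk T7 (selR RL7 I7) D7 (nat_lit 1) (nat_lit 2) (nat_lit 1)) (nat_lit 1) (nat_lit 2) = true := by decide +kernel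
theorem tc7r : rulesChk Rl c7.Sl RL7 (nat_lit 1) = true := by decide +kernel
theorem lv7e_0 : allZ (l7.ent P) (nat_lit 0) (nat_lit 1) = true := by decide +kernel
theorem lv7b : Nat.blt (Pt7 (nat_lit 0)) (nat_lit 120) = true ∧ Q7 (Pt7 (nat_lit 0)) = 0 ∧ Pt7 (nat_lit 0) = 77 := by decide +kernel
theorem sb7 : H16.allL (ltAll (nat_lit 0)) c7.Sl = true ∧ fixLetters P (nat_lit 0) (Pt7 (nat_lit 0)) = true := by decide +kernel
theorem Blt : ltAll (nat_lit 120) B = 0 := by decide +kernel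
theorem ivk : ivLt Rl (nat_lit 9) = true := by decide +kernel
theorem pe_a : allZ2 (permEnt P (ivOf Rl) (nat_lit 120)) (nat_lit 9) (nat_lit 120) = true := by decide +kernel
theorem rf0 : H16.allL (fixRange P (nat_lit 9) (nat_lit 0) (nat_lit 120)) (Rl.drop (nat_lit 9)) = true := by decide +kernel

theorem tc0e : ∀ k < 9, ∀ i < 120, (entryChk T0 (selR RL0 I0) D0 (nat_lit 127) (nat_lit 120) (nat_lit 9)) k i = 0 := allZ2_sound tc0e_a
theorem tc0 : c0.OK Rl 9 := ⟨by decide, by decide, by decide, ivc, tc0r, tc0e⟩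
theorem lv0e : ∀ i < 119, (l0.ent P) i = 0 := allZ_sound0 lv0e_0
theorem lv0 : l0.OK P 120 := ⟨by decide, by decide, lt_of_blt lv0b.1, lv0b.2.1, lv0e⟩
theorem tc1e : ∀ k < 8, ∀ i < 48, (entryChk T1 (selR RL1 I1) D1 (nat_lit 63) (nat_lit 48) (nat_lit 8)) k i = 0 := allZ2_sound tc1e_a
theorem tc1 : c1.OK Rl 9 := ⟨by decide, by decide, by decide, ivc, tc1r, tc1e⟩
theorem lv1e : ∀ i < 47, (l1.ent P) i = 0 := allZ_sound0 lv1e_0
theorem lv1 : l1.OK P 120 := ⟨by decide, by decide, lt_of_blt lv1b.1, lv1b.2.1, lv1e⟩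
theorem tc2e : ∀ k < 7, ∀ i < 10, (entryChk T2 (selR RL2 I2) D2 (nat_lit 15) (nat_lit 10) (nat_lit 7)) k i = 0 := allZ2_sound tc2e_a
theorem tc2 : c2.OK Rl 9 := ⟨by decide, by decide, by decide, ivc, tc2r, tc2e⟩
theorem lv2e : ∀ i < 9, (l2.ent P) i = 0 := allZ_sound0 lv2e_0
theorem lv2 : l2.OK P 120 := ⟨by decide, by decide, lt_of_blt lv2b.1, lv2b.2.1, lv2e⟩
theorem tc3e : ∀ k < 5, ∀ i < 2, (entryChk T3 (selR RL3 I3) D3 (nat_lit 1) (nat_lit 2) (nat_lit 5)) k i = 0 := allZ2_sound tc3e_a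
theorem tc3 : c3.OK Rl 9 := ⟨by decide, by decide, by decide, ivc, tc3r, tc3e⟩
theorem lv3e : ∀ i < 1, (l3.ent P) i = 0 := allZ_sound0 lv3e_0
theorem lv3 : l3.OK P 120 := ⟨by decide, by decide, lt_of_blt lv3b.1, lv3b.2.1, lv3e⟩
theorem tc4e : ∀ k < 4, ∀ i < 2, (entryChk T4 (selR RL4 I4) D4 (nat_lit 1) (nat_lit 2) (nat_lit 4)) k i = 0 := allZ2_sound tc4e_a
theorem tc4 : c4.OK Rl 9 := ⟨by decide, by decide, by decide, ivc, tc4r, tc4e⟩
theorem lv4e : ∀ i < 1, (l4.ent P) i = 0 := allZ_sound0 lv4e_0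
theorem lv4 : l4.OK P 120 := ⟨by decide, by decide, lt_of_blt lv4b.1, lv4b.2.1, lv4e⟩
theorem tc5e : ∀ k < 3, ∀ i < 2, (entryChk T5 (selR RL5 I5) D5 (nat_lit 1) (nat_lit 2) (nat_lit 3)) k i = 0 := allZ2_sound tc5e_a
theorem tc5 : c5.OK Rl 9 := ⟨by decide, by decide, by decide, ivc, tc5r, tc5e⟩
theorem lv5e : ∀ i < 1, (l5.ent P) i = 0 := allZ_sound0 lv5e_0
theorem lv5 : l5.OK P 120 := ⟨by decide, by decide, lt_of_blt lv5b.1, lv5b.2.1, lv5e⟩
theorem tc6e : ∀ k < 2, ∀ i < 2, (entryChk T6 (selR RL6 I6) D6 (nat_lit 1) (nat_lit 2) (nat_lit 2)) k i = 0 := allZ2_sound tc6e_a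
theorem tc6 : c6.OK Rl 9 := ⟨by decide, by decide, by decide, ivc, tc6r, tc6e⟩
theorem lv6e : ∀ i < 1, (l6.ent P) i = 0 := allZ_sound0 lv6e_0
theorem lv6 : l6.OK P 120 := ⟨by decide, by decide, lt_of_blt lv6b.1, lv6b.2.1, lv6e⟩
theorem tc7e : ∀ k < 1, ∀ i < 2, (entryChk T7 (selR RL7 I7) D7 (nat_lit 1) (nat_lit 2) (nat_lit 1)) k i = 0 := allZ2_sound tc7e_a
theorem tc7 : c7.OK Rl 9 := ⟨by decide, by decide, by decide, ivc, tc7r, tc7e⟩
theorem lv7e : ∀ i < 1, (l7.ent P) i = 0 := allZ_sound0 lv7e_0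
theorem lv7 : l7.OK P 120 := ⟨by decide, by decide, lt_of_blt lv7b.1, lv7b.2.1, lv7e⟩
theorem bound7 : Bound Rl 1 2 := Bound.step' (Bound.zero Rl) tc7 sb7.1 (by decide +kernel)
theorem bound6 : Bound Rl 2 4 := Bound.step' (bound7) tc6 sb6.1 (by decide +kernel)
theorem bound5 : Bound Rl 3 8 := Bound.step' (bound6) tc5 sb5.1 (by decide +kernel)
theorem bound4 : Bound Rl 4 16 := Bound.step' (bound5) tc4 sb4.1 (by decide +kernel)
theorem bound3 : Bound Rl 5 32 := Bound.step' (bound4) tc3 sb3.1 (by decide +kernel)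
theorem bound2 : Bound Rl 7 320 := Bound.step' (bound3) tc2 sb2.1 (by decide +kernel)
theorem bound1 : Bound Rl 8 15360 := Bound.step' (bound2) tc1 sb1.1 (by decide +kernel)
theorem bound0 : Bound Rl 9 1843200 := Bound.step' (bound1) tc0 sb0.1 (by decide +kernel)
/-- every tuple satisfying `Rl` generates a group of order at most `1843200` -/
theorem bound : Bound Rl 9 1843200 := bound0
theorem chain_of {G Ω : Type*} [Group G] [MulAction G Ω] {g : ℕ → G} {pt : ℕ → Ω}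
    (h : Act g pt P 120 9) (hR : Rels g Rl) : IsChain g pt 120 L :=
  IsChain.cons (L := [l1, l2, l3, l4, l5, l6, l7]) (IsChain.cons (L := [l2, l3, l4, l5, l6, l7]) (IsChain.cons (L := [l3, l4, l5, l6, l7]) (IsChain.cons (L := [l4, l5, l6, l7]) (IsChain.cons (L := [l5, l6, l7]) (IsChain.cons (L := [l6, l7]) (IsChain.cons (L := [l7]) (IsChain.cons (L := []) (trivial) h hR tc7 lv7 rfl rfl rfl (by decide) sb7.1 sb7.2) h hR tc6 lv6 rfl rfl rfl (by decide) sb6.1 sb6.2) h hR tc5 lv5 rfl rfl rfl (by decide) sb5.1 sb5.2) h hR tc4 lv4 rfl rfl rfl (by decide) sb4.1 sb4.2) h hR tc3 lv3 rfl rfl rfl (by decide) sb3.1 sb3.2) h hR tc2 lv2 rfl rfl rfl (by decide) sb2.1 sb2.2) h hR tc1 lv1 rfl rfl rfl (by decide) sb1.1 sb1.2) h hR tc0 lv0 rfl rfl rfl (by decide) sb0.1 sb0.2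
theorem base_eq : chainBase L = B := by decide +kernel
theorem pe : ∀ k < 9, ∀ i < 120, (permEnt P (ivOf Rl) (nat_lit 120)) k i = 0 := allZ2_sound pe_a
/-- the letters -/
noncomputable def g : ℕ → Equiv.Perm (Fin 120) := permGen 120 P
theorem act : Act g (ptF 120) P 120 9 := act_permGen pe
theorem rels : Rels g Rl :=
  rels_perm pe ivc ivk (FixUpTo.first rf0)
theorem chain : IsChain g (ptF 120) 120 L := chain_of act rels
theorem card : Nat.card (gen g 9) = 1843200 := chain.card' (ptF_inj 120) (by decide +kernel)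
theorem isBase : IsBase (gen g 9) (ptF 120) B := base_eq ▸ chain.isBase (ptF_inj 120)

end H29.HB
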