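import Cfsg.Agent.H29.HB
import Cfsg.Agent.H0.TRX
import Cfsg.Agent.H29.HN4

/-! Generated by tools/h0/tr.py. -/

set_option maxRecDepth 100000
set_option maxHeartbeats 0

namespace H29.HZ
open H16 H0.TR
open scoped commutatorElement

noncomputable def pct_W : List (List ℕ) := [[nat_lit 1, nat_lit 3, nat_lit 5, nat_lit 7, nat_lit 8, nat_lit 3, nat_lit 8, nat_lit 7, nat_lit 6],
  [nat_lit 1, nat_lit 2, nat_lit 6, nat_lit 0, nat_lit 5],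
  [nat_lit 1, nat_lit 3, nat_lit 7, nat_lit 3, nat_lit 7],
  [nat_lit 0, nat_lit 1, nat_lit 4, nat_lit 8, nat_lit 3, nat_lit 8],
  [nat_lit 2, nat_lit 3, nat_lit 4, nat_lit 8, nat_lit 3, nat_lit 8],
  [nat_lit 1, nat_lit 2, nat_lit 3, nat_lit 7, nat_lit 3, nat_lit 7],
  [nat_lit 3, nat_lit 5, nat_lit 7, nat_lit 5, nat_lit 5, nat_lit 7, nat_lit 5, nat_lit 8, nat_lit 6, nat_lit 6, nat_lit 8, nat_lit 3],
  [nat_lit 6, nat_lit 6, nat_lit 7, nat_lit 6, nat_lit 6, nat_lit 7, nat_lit 6, nat_lit 8, nat_lit 5, nat_lit 5, nat_lit 8, nat_lit 5],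
  [nat_lit 6, nat_lit 7, nat_lit 3, nat_lit 5, nat_lit 5, nat_lit 7, nat_lit 8, nat_lit 6, nat_lit 6, nat_lit 7, nat_lit 8, nat_lit 5, nat_lit 5, nat_lit 7],
  [nat_lit 0, nat_lit 3, nat_lit 5, nat_lit 7, nat_lit 6, nat_lit 6, nat_lit 8, nat_lit 6, nat_lit 8, nat_lit 6, nat_lit 8, nat_lit 5, nat_lit 7, nat_lit 6],
  [nat_lit 2, nat_lit 4, nat_lit 5, nat_lit 5, nat_lit 7, nat_lit 8, nat_lit 3, nat_lit 6, nat_lit 6],
  [nat_lit 6, nat_lit 2, nat_lit 7, nat_lit 8, nat_lit 6, nat_lit 8, nat_lit 6, nat_lit 6, nat_lit 2],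
  [nat_lit 0, nat_lit 4, nat_lit 5, nat_lit 5, nat_lit 8, nat_lit 6, nat_lit 8, nat_lit 3, nat_lit 7]]
noncomputable def pct_Pd : List ℕ := [nat_lit 0xefdbacc5bc9b2c19bb693d7ab4cdc67af64cf8aa1dbf9455cb76ac82af5aae1a6668d0073b474971e4c2951a29103220c0644151476e9cb86fc5ab466fd8875ebb9f030f42954e986a42e890a0019b01c366a92b465943cd84a23e1e392ef117448b60194849f6219f,
  nat_lit 0xbf90774e63db7019ba4ec8ceb4cdcf9af76c692a1def96eaeb76a758ae6aae1a748b509f6744c971f6c895ae2c4030904064f9e9477a9cb85fc5ab166fda076f716ac56a82954c9c6e22e890c13e7b01c3758c98474543c2648890e5d52ef102848b6019484060a180,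
  nat_lit 0xefdbaf45a3db2cdfbb693d7ab4cdcf9af64c78aa1dbf96edcb76a702ae6aae1a748b50076744c972a4c28f1a2c403210407e41ebc76e9cb85fc5ab166c9a076ebb9f030a82a84c9d2a446890c13e7b01c3758cab2f44a94d8488bee43868c162848860194849f62180,
  nat_lit 0xef90774e7cb8acdfba4938dab4e8cf9af76c78b09dbf9455cb76acd8ae6aad4a664b50073a6cc972b6c28fae29187210407ef9e9476e9cb86ed9ab166c9a075eb96f056a82954e986a446890c1007b01c375a9182f4543cd84a2101fd528c117448b60194849e0809f,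
  nat_lit 0xef93acce63f8acdfba493d6e8268ce7b2f6c692a1dbf7855ca026cd88a6a5e13748b5b9f3a6f4ab1f6c8951abc4030a0c07e41ebc77a9cb86ed913466c98b05eb96f030a82954c9d2e22ed4e20019b021a758cab4745414d8488bee43868c1176d0b0e194e9060a19f,
  nat_lit 0xefdbacce63f8ac18e24ec8ceb4cdc79af64cf8aa1dbf9452eb626c82af5a5e13748b509f3b474ab2b6c28fae29187220b37ef9ebc25a836e5ed913180c9a306f716f030a94954e986a42ed50a03e7b01ca668cab474541426ee210e4392ef1776d080ee42840760080,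
  nat_lit 0x483b210cebcb8003035dddb7024a5a605f5e7ddfbcc42363aa15532aae82d324521a5b229e3be13a23529b262831864d6ec3d2c1d72b9db3e48cdd17150b151fab19fcc086b0b3394df6d4d0d658aca1c6b0611ee2c43e0141a7cc6fd82c3bc4e5e550492e988f77f0,
  nat_lit 0xb926311269b05816e32731d8ad85154a1edbba98365c071f7d32dbac43444876b98d0420bd4c4b497b181bd4e4cbcad8b32b3c0177691cee9c769c180a1054b37f602907f432e43e53a286ebb454678c54458f427959fa35a4ba034fae388df9ea8cc21a6d07dc32bd,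
  nat_lit 0x75ae4cfbb64a2abccfae3c97e80d2720646d970aa3d5bd6e2096879f38c6aa836ad069e9c928396a47660bd90901678b3861116710ddc9404cf111adc1eb3f4e9053d33c25616ebf42ec0d62d10508bd7a6d0c523b06a36cee5f119db66e503cc4c364ee3db9800458,
  nat_lit 0xefb632386bdf07cf0325eeaeb4abdf1f649198814fbe4c5aeb6253d438c65d86a960d03a98c17aa7bb29cc39094e614b6e55c594425a83331e429d670f4d70e5700b0d0fe100b338ca4e86e2d151281d744d06cd9880f91caede366fae9631422d5d58e6404c185695,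
  nat_lit 0x409e72a5724acf52ef9485e5908b3d8e3a6cd59e3f832a931ae27a90b78aa94a629d45e03843d97787eccade8004a4efb9c162654dd46012d6a112e0c76e238cd0c035bd37f1c9d809a60d74f7899d9043692ef30fa9b6184e0f82db661859a66d682ecc61c58f8691,
  nat_lit 0x4cc68de28e89c7221a0a334de82cc0c1f343b6642d4e41b72d34fba5af25142ab87204df7f8656a7d03f015a2c306cb592a42c2e370bd9b9b9b04f576647185c3de4a50a4166c49154ebb68e46d01f9a197b6a1515d8f672fb8088d459ec4e9c4dcc5702c5b18367cd,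
  nat_lit 0x93dd22561595817acd761d438e102af165f51af9c8dbc19768ad58e50898dadb45c7d7d0d1f0da7d2e3698eb4c705c6ceecea45d277d434040625af718db9383903c3c0227dd2d448c63d5684e185215b129d19dcdc8519a84a505358a22a00fd11fd8e41a19b7ac6f]
noncomputable def pct_P (k u : ℕ) : ℕ := Nat.land (Nat.shiftRight (nth (nat_lit 0) pct_Pd k) (Nat.mul u (nat_lit 7))) (nat_lit 127)
noncomputable def pcPd : List ℕ := [nat_lit 0xbf7aedcb76acd8af5aad4a74a8d09f3a6cc972a4c88f1a2c4870a0c0567501c123563528c9c2f26d838268481b97ea12aa180549f166873d4815f3c228820f144003766b8d963085d27465dd866220f195ac1315,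
  nat_lit 0xad62041a13e6de8b7e451870aa5bb512cc9952e6558d1ebcea74ae5d7ef903c12e96386ec9aaf26d98b068b96b956a14aa4e0529f468873d4814e9c366820f1440a946648896308468c165dd860e20f190609300,
  nat_lit 0xbf7aec1b76acd8af5aad1870aa509f126c9952e6488d1e2cea74ae407e7501c76356386ec9aaf26d988268b81b956a92a84e054a416890bd3e15f3c22682182e58a946648d901e39d0c46284880e18f195ac1300,
  nat_lit 0xbf6205ca13ecdeaf5aad4870a8dbb5126cc952e4c88f1a2cea74a0dd7ef9e9c7635cb86ec9ab426d83b05e481ac56a92a818994a446887203e14ebc366820f145801466b88903085d27165c4866220f195a08095,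
  nat_lit 0xbf62ec1a16a6de8b5aad4870a8db9f3accc972a4c88d1ebc4a74ae4056f9e9c7635cb828d9aaf26c83b068b96ac7ea14aa4e052a416890a03e78ebc226820f2e400376648d963039d0c462848662202990609315,
  nat_lit 0xbf7aec1a13e6d8af5a454a70a8dbb53acc9952e6558f1a2c4874ae4056f9e9c12e96356ec9c2f26d838268b96b97ea92a818994a446890a03e78ebc2268c8f1440a946648d9630386a7165dd88621828406c0080,
  nat_lit 0x8b02c49b56eaddbf5e6c6892e3cfa10e45ca50a0d9a946b539d2a65e16e080002c551d2221f244219d1a3ea462846e572c06249347ec09965e3da956e0851e3280e1b1c94a3d0acc3ad56113321ad8c174e89dbc,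
  nat_lit 0xab427c6b102bdbb322fcca50e4debb2a2d19d12a56b9066cb854e3da18359b010f82075c9989e4005a9c0adc5994e5c88a56c8d8f5a0081330bdd025255c9f5438d127a512a14858ebf06a033b7025a2c46f1b22,
  nat_lit 0x9b6a854bb62b4fab66bc19512e40bd0afc6874e3c59926452973a8db5ac471a64d450d5225d0f2cece95306df970665b841620a1e4e71ea10a903a224f153472cc12520457135e81c2318b1b017c98fa85600330,
  nat_lit 0xbf6e7c9b1766d0af5a447953a35e810acc1a70ee55a9462d2971265a2c9918570c8dbb50e84825a3442f605c9912050cb71cf821a7a7d38b44f009e729128024fcc2a062962b2a31b2140b9a870cc4e2966d0e8f,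
  nat_lit 0x891e8d0b926146a73a55daf36041995a95a91567cbb17a1df8b66dd4346c7ad32a44146aa1ba148a970b1c1de0644c9d36005c6b360ad79826588833afddbd02793b83ec5f0540d1295049822c24e4809388c50c,
  nat_lit 0x8d2a94d9d0e64ba91ee5fa162b44a76a4d5bb02441af168cfb77acc264386a81858e333c8c9a93a2d0174ad1dbc6c552004c0cfae1011aba24450aa306413734c5c857cbc78728e08010c893bf7aacdb012296ac,
  nat_lit 0xa17e2d39166056b56ef4a8d065d59b52ec49332758854a7d18f721d72e78d8144d058f4270c3e52f0fb63a41ca314fd02b5009eb832217116a342a666196b1185048e4a589b70e497aa089cd004855d0358c983b]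
noncomputable def pcP (k u : ℕ) : ℕ := Nat.land (Nat.shiftRight (nth (nat_lit 0) pcPd k) (Nat.mul u (nat_lit 7))) (nat_lit 127)
noncomputable def pcEd : ℕ := nat_lit 0xefdbaf2dbaf564c57ee59ad467498d05d3768c57ae4e99220345878ee9cf8f0dfb3467cd971e1c17aed8a94a7cd992a447890e13f7cf5e3664c16ac56a94a84a8cf9e3a64c172a50991203460b14203850608080
noncomputable def pcE (u : ℕ) : ℕ := Nat.land (Nat.shiftRight pcEd (Nat.mul u (nat_lit 7))) (nat_lit 127)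
noncomputable def pcId : ℕ := nat_lit 0xbf7aebf7d71ebc7602dbab56403970ddb586b5da33acc98d50002a30014c02f00ba9005b4562b00aa829513c0274c96700488d1210134000988004b007e51e9320e9c3668c988f18bc52c000442a50980010c911210878e1a0060b8300509101c0060a002000608080
noncomputable def pcI (u : ℕ) : ℕ := Nat.land (Nat.shiftRight pcId (Nat.mul u (nat_lit 7))) (nat_lit 127)
noncomputable def pcB : List ℕ := [nat_lit 0, nat_lit 2, nat_lit 73, nat_lit 86, nat_lit 46, nat_lit 25, nat_lit 84, nat_lit 44]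
noncomputable def pcC : List (List (List ℕ)) := [[[],
  [],
  [],
  [],
  [],
  [],
  [],
  [],
  [],
  [],
  [],
  [],
  []], [[],
  [],
  [],
  [],
  [],
  [],
  [],
  [],
  [],
  [nat_lit 0],
  [],
  [nat_lit 0],
  [nat_lit 0]], [[],
  [],
  [],
  [],
  [],
  [],
  [nat_lit 0],
  [],
  [nat_lit 0],
  [],
  [nat_lit 1],
  [nat_lit 1],
  []], [[],
  [],
  [],
  [],
  [],
  [],
  [],
  [nat_lit 0],
  [nat_lit 0],
  [],
  [nat_lit 1],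
  [nat_lit 0],
  [nat_lit 1]], [[],
  [],
  [],
  [],
  [],
  [],
  [nat_lit 1],
  [nat_lit 0],
  [nat_lit 0, nat_lit 1],
  [nat_lit 2],
  [nat_lit 0],
  [nat_lit 2],
  [nat_lit 1, nat_lit 2]], [[],
  [],
  [],
  [],
  [],
  [],
  [nat_lit 0],
  [nat_lit 1],
  [nat_lit 0, nat_lit 1],
  [nat_lit 3],
  [nat_lit 0],
  [nat_lit 0, nat_lit 3],
  [nat_lit 0, nat_lit 3]], [[],
  [],
  [],
  [],
  [],
  [],
  [nat_lit 0, nat_lit 1, nat_lit 3],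
  [nat_lit 0, nat_lit 2, nat_lit 3],
  [nat_lit 2],
  [nat_lit 0, nat_lit 2],
  [nat_lit 4],
  [],
  [nat_lit 0, nat_lit 3, nat_lit 4, nat_lit 5]], [[],
  [],
  [],
  [],
  [],
  [],
  [],
  [nat_lit 2],
  [nat_lit 0, nat_lit 1, nat_lit 3],
  [nat_lit 1],
  [nat_lit 5],
  [nat_lit 1, nat_lit 3, nat_lit 4, nat_lit 5],
  []], [[],
  [],
  [],
  [],
  [],
  [],
  [],
  [],
  [nat_lit 2, nat_lit 3],
  [nat_lit 1, nat_lit 2, nat_lit 3],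
  [nat_lit 2, nat_lit 3],
  [nat_lit 4],
  [nat_lit 0, nat_lit 3, nat_lit 5]], [[],
  [],
  [],
  [],
  [],
  [],
  [],
  [],
  [],
  [nat_lit 3],
  [nat_lit 2, nat_lit 3, nat_lit 8],
  [nat_lit 1, nat_lit 4, nat_lit 5, nat_lit 6],
  [nat_lit 1, nat_lit 4, nat_lit 7]], [[],
  [],
  [],
  [],
  [],
  [],
  [],
  [],
  [],
  [],
  [nat_lit 2, nat_lit 3],
  [nat_lit 1, nat_lit 3, nat_lit 4, nat_lit 5, nat_lit 8],
  [nat_lit 1, nat_lit 4, nat_lit 8]], [[],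
  [],
  [],
  [],
  [],
  [],
  [],
  [],
  [],
  [],
  [],
  [nat_lit 6],
  [nat_lit 1, nat_lit 3, nat_lit 6, nat_lit 7]], [[],
  [],
  [],
  [],
  [],
  [],
  [],
  [],
  [],
  [],
  [],
  [],
  [nat_lit 7]]]
noncomputable def pce : List (List ℕ) := [[],
  [],
  [],
  [],
  [],
  [],
  [],
  [],
  [],
  [],
  [],
  [],
  [],
  [],
  [],
  [],
  [],
  [],
  [nat_lit 0, nat_lit 1, nat_lit 2, nat_lit 5, nat_lit 8, nat_lit 10, nat_lit 11, nat_lit 12],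
  [],
  [],
  [],
  [],
  [],
  [],
  [],
  [],
  [],
  [],
  [],
  [],
  [],
  [nat_lit 0, nat_lit 3, nat_lit 4, nat_lit 6, nat_lit 7, nat_lit 8],
  [nat_lit 5],
  [],
  [nat_lit 5],
  [nat_lit 5],
  [],
  [nat_lit 1, nat_lit 2],
  [nat_lit 3, nat_lit 6, nat_lit 7, nat_lit 8],
  [nat_lit 1, nat_lit 2],
  [nat_lit 2, nat_lit 3, nat_lit 4, nat_lit 5],
  [nat_lit 2, nat_lit 3, nat_lit 4],
  [nat_lit 1, nat_lit 4, nat_lit 6, nat_lit 7, nat_lit 8],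
  [nat_lit 0, nat_lit 1, nat_lit 2, nat_lit 3],
  [nat_lit 7, nat_lit 8, nat_lit 9, nat_lit 11],
  [nat_lit 1, nat_lit 3, nat_lit 4, nat_lit 6, nat_lit 10, nat_lit 11],
  [nat_lit 0, nat_lit 9]]
noncomputable def pcl0Dd : ℕ := nat_lit 0xa7d92e8cd74e86d83d77d59e53e50e4de4ae47e74f62d3be47d35e2fe53f50f4df3ed4af44f2fd23e20e1de3bf2cd35f32f2ff29d26d1dd1ae17e35114e11e20f1df1ad26111d0be08e17f14f11f1160bd05e08f05d08102e05f05102d02f000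
noncomputable def pcl0D (u : ℕ) : ℕ := Nat.land (Nat.shiftRight pcl0Dd (Nat.mul u (nat_lit 12))) (nat_lit 4095)
noncomputable def pcl0Pd : ℕ := nat_lit 0xbf40b09815fe11929294de9ddaea734ce86b7f288c93c73fee314b0ed9d6f5adc97b1435814e471aae2ca1121561b3c0
noncomputable def pcl0P (u : ℕ) : ℕ := Nat.land (Nat.shiftRight pcl0Pd (Nat.mul u (nat_lit 6))) (nat_lit 63)
noncomputable def pcl0Qd : ℕ := nat_lit 0x8385e27f134956f43eb264bcfee688a0ab4767bce37a5a4f9d3c21096d83e5810eaf419106aca473550530b7776fde80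
noncomputable def pcl0Q (u : ℕ) : ℕ := Nat.land (Nat.shiftRight pcl0Qd (Nat.mul u (nat_lit 6))) (nat_lit 63)
noncomputable def pcl0 : Lev := ⟨64, 48, pcl0D, pcl0P, pcl0Q⟩
noncomputable def pcl1Dd : ℕ := nat_lit 0xb00
noncomputable def pcl1D (u : ℕ) : ℕ := Nat.land (Nat.shiftRight pcl1Dd (Nat.mul u (nat_lit 6))) (nat_lit 63)
noncomputable def pcl1Pd : ℕ := nat_lit 0x981
noncomputable def pcl1P (u : ℕ) : ℕ := Nat.land (Nat.shiftRight pcl1Pd (Nat.mul u (nat_lit 6))) (nat_lit 63)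
noncomputable def pcl1Qd : ℕ := nat_lit 0x4000000000
noncomputable def pcl1Q (u : ℕ) : ℕ := Nat.land (Nat.shiftRight pcl1Qd (Nat.mul u (nat_lit 1))) (nat_lit 1)
noncomputable def pcl1 : Lev := ⟨2, 45, pcl1D, pcl1P, pcl1Q⟩
noncomputable def pcl2Dd : ℕ := nat_lit 0xa40
noncomputable def pcl2D (u : ℕ) : ℕ := Nat.land (Nat.shiftRight pcl2Dd (Nat.mul u (nat_lit 6))) (nat_lit 63)
noncomputable def pcl2Pd : ℕ := nat_lit 0x324
noncomputable def pcl2P (u : ℕ) : ℕ := Nat.land (Nat.shiftRight pcl2Pd (Nat.mul u (nat_lit 5))) (nat_lit 31)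
noncomputable def pcl2Qd : ℕ := nat_lit 0x2000000
noncomputable def pcl2Q (u : ℕ) : ℕ := Nat.land (Nat.shiftRight pcl2Qd (Nat.mul u (nat_lit 1))) (nat_lit 1)
noncomputable def pcl2 : Lev := ⟨2, 42, pcl2D, pcl2P, pcl2Q⟩
noncomputable def pcl3Dd : ℕ := nat_lit 0x9c0
noncomputable def pcl3D (u : ℕ) : ℕ := Nat.land (Nat.shiftRight pcl3Dd (Nat.mul u (nat_lit 6))) (nat_lit 63)
noncomputable def pcl3Pd : ℕ := nat_lit 0x3c5
noncomputable def pcl3P (u : ℕ) : ℕ := Nat.land (Nat.shiftRight pcl3Pd (Nat.mul u (nat_lit 5))) (nat_lit 31)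
noncomputable def pcl3Qd : ℕ := nat_lit 0x40000000
noncomputable def pcl3Q (u : ℕ) : ℕ := Nat.land (Nat.shiftRight pcl3Qd (Nat.mul u (nat_lit 1))) (nat_lit 1)
noncomputable def pcl3 : Lev := ⟨2, 40, pcl3D, pcl3P, pcl3Q⟩
noncomputable def pcl4Dd : ℕ := nat_lit 0x980
noncomputable def pcl4D (u : ℕ) : ℕ := Nat.land (Nat.shiftRight pcl4Dd (Nat.mul u (nat_lit 6))) (nat_lit 63)
noncomputable def pcl4Pd : ℕ := nat_lit 0xb43
noncomputable def pcl4P (u : ℕ) : ℕ := Nat.land (Nat.shiftRight pcl4Pd (Nat.mul u (nat_lit 6))) (nat_lit 63)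
noncomputable def pcl4Qd : ℕ := nat_lit 0x200000000000
noncomputable def pcl4Q (u : ℕ) : ℕ := Nat.land (Nat.shiftRight pcl4Qd (Nat.mul u (nat_lit 1))) (nat_lit 1)
noncomputable def pcl4 : Lev := ⟨2, 39, pcl4D, pcl4P, pcl4Q⟩
noncomputable def pcl5Dd : ℕ := nat_lit 0x840
noncomputable def pcl5D (u : ℕ) : ℕ := Nat.land (Nat.shiftRight pcl5Dd (Nat.mul u (nat_lit 6))) (nat_lit 63)
noncomputable def pcl5Pd : ℕ := nat_lit 0xc02
noncomputable def pcl5P (u : ℕ) : ℕ := Nat.land (Nat.shiftRight pcl5Pd (Nat.mul u (nat_lit 6))) (nat_lit 63)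
noncomputable def pcl5Qd : ℕ := nat_lit 0x1000000000000
noncomputable def pcl5Q (u : ℕ) : ℕ := Nat.land (Nat.shiftRight pcl5Qd (Nat.mul u (nat_lit 1))) (nat_lit 1)
noncomputable def pcl5 : Lev := ⟨2, 34, pcl5D, pcl5P, pcl5Q⟩
noncomputable def pcl6Dd : ℕ := nat_lit 0x800
noncomputable def pcl6D (u : ℕ) : ℕ := Nat.land (Nat.shiftRight pcl6Dd (Nat.mul u (nat_lit 6))) (nat_lit 63)
noncomputable def pcl6Pd : ℕ := nat_lit 0x2d0
noncomputable def pcl6P (u : ℕ) : ℕ := Nat.land (Nat.shiftRight pcl6Pd (Nat.mul u (nat_lit 5))) (nat_lit 31)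
noncomputable def pcl6Qd : ℕ := nat_lit 0x400000
noncomputable def pcl6Q (u : ℕ) : ℕ := Nat.land (Nat.shiftRight pcl6Qd (Nat.mul u (nat_lit 1))) (nat_lit 1)
noncomputable def pcl6 : Lev := ⟨2, 33, pcl6D, pcl6P, pcl6Q⟩
noncomputable def pcl7Dd : ℕ := nat_lit 0x240
noncomputable def pcl7D (u : ℕ) : ℕ := Nat.land (Nat.shiftRight pcl7Dd (Nat.mul u (nat_lit 5))) (nat_lit 31)
noncomputable def pcl7Pd : ℕ := nat_lit 0xc47
noncomputable def pcl7P (u : ℕ) : ℕ := Nat.land (Nat.shiftRight pcl7Pd (Nat.mul u (nat_lit 6))) (nat_lit 63)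
noncomputable def pcl7Qd : ℕ := nat_lit 0x2000000000000
noncomputable def pcl7Q (u : ℕ) : ℕ := Nat.land (Nat.shiftRight pcl7Qd (Nat.mul u (nat_lit 1))) (nat_lit 1)
noncomputable def pcl7 : Lev := ⟨2, 19, pcl7D, pcl7P, pcl7Q⟩
noncomputable def cvr_W : List (List ℕ) := [[nat_lit 0, nat_lit 3, nat_lit 1, nat_lit 7, nat_lit 3, nat_lit 7],
  [nat_lit 0, nat_lit 1],
  [nat_lit 3],
  [nat_lit 0, nat_lit 5, nat_lit 5, nat_lit 7, nat_lit 6, nat_lit 6, nat_lit 8, nat_lit 5, nat_lit 5, nat_lit 7, nat_lit 5, nat_lit 8],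
  [nat_lit 5, nat_lit 1, nat_lit 7, nat_lit 6, nat_lit 7],
  [nat_lit 2, nat_lit 2, nat_lit 7]]
noncomputable def cvr_P : ℕ → ℕ → ℕ := wdsP HB.P cvr_W
noncomputable def cvT0 : CT := (.split (.more (.split (.more (.split (.more (.split (.more (.split (.more (.split (.more (.split (.more (.split (.more (.split (.more (.split (.more (.split (.more (.split (.more .one (.more (.leaf (nat_lit 1) [nat_lit 0, nat_lit 2, nat_lit 3, nat_lit 4, nat_lit 7, nat_lit 6, nat_lit 6, nat_lit 7, nat_lit 8, nat_lit 6]) .one))) (.more (.fuse [nat_lit 9] [] (.leaf (nat_lit 1) [nat_lit 4, nat_lit 5, nat_lit 7, nat_lit 8, nat_lit 6, nat_lit 8, nat_lit 6, nat_lit 8, nat_lit 5, nat_lit 7, nat_lit 1, nat_lit 6])) .one))) (.more (.fuse [nat_lit 10] [] (.fuse [nat_lit 6] [] (.leaf (nat_lit 0) [nat_lit 5, nat_lit 2, nat_lit 3, nat_lit 5, nat_lit 5, nat_lit 8, nat_lit 5, nat_lit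 8]))) .one))) (.more (.split (.more (.fuse [nat_lit 10] [] (.fuse [nat_lit 7] [] (.leaf (nat_lit 0) [nat_lit 1, nat_lit 6, nat_lit 0, nat_lit 6, nat_lit 7, nat_lit 3, nat_lit 6, nat_lit 8, nat_lit 5, nat_lit 5, nat_lit 7, nat_lit 8, nat_lit 6]))) (.more (.fuse [nat_lit 11] [nat_lit 0] (.fuse [nat_lit 6] [] (.leaf (nat_lit 0) [nat_lit 2, nat_lit 5, nat_lit 8, nat_lit 6, nat_lit 6, nat_lit 7, nat_lit 8, nat_lit 5]))) .one))) .one))) (.more (.split (.more (.fuse [nat_lit 9] [] (.fuse [nat_lit 6] [] (.fuse [nat_lit 7] [] (.leaf (nat_lit 1) [nat_lit 5, nat_lit 5, nat_lit 5, nat_lit 7, nat_lit 6, nat_lit 6, nat_lit 8, nat_lit 0, nat_lit 6])))) (.more (.fuse [nat_lit 9] [] (.fuse [nat_lit 6] [] (.fuse [nat_lit 6, nat_lit 10] [] (.leaf (nat_lit 2) [nat_lit 0, nat_lit 2, nat_lit 5, nat_lit 5, nat_lit 8, nat_lit 6, nat_lit 6, nat_lit 7, nat_lit 8, nat_lit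 5, nat_lit 8])))) .one))) .one))) (.more (.split (.more (.fuse [nat_lit 9] [] (.split (.more (.fuse [nat_lit 7] [] (.fuse [nat_lit 6] [] (.leaf (nat_lit 1) [nat_lit 6, nat_lit 7, nat_lit 6]))) (.more (.fuse [nat_lit 7] [] (.fuse [nat_lit 7, nat_lit 10] [] (.leaf (nat_lit 2) [nat_lit 3, nat_lit 6, nat_lit 0, nat_lit 7, nat_lit 8, nat_lit 6, nat_lit 7, nat_lit 5, nat_lit 5, nat_lit 8]))) .one)))) (.more (.fuse [nat_lit 9] [nat_lit 2] (.split (.more (.fuse [nat_lit 6] [nat_lit 0] (.fuse [nat_lit 6, nat_lit 9, nat_lit 11] [] (.leaf (nat_lit 2) [nat_lit 3, nat_lit 7, nat_lit 5, nat_lit 5, nat_lit 8, nat_lit 6, nat_lit 7, nat_lit 4]))) (.more (.fuse [nat_lit 6] [] (.fuse [nat_lit 6, nat_lit 7] [] (.leaf (nat_lit 1) [nat_lit 2, nat_lit 3, nat_lit 4, nat_lit 7, nat_lit 5, nat_lit 5, nat_lit 8, nat_lit 5, nat_lit 5, nat_lit 8]))) .one)))) .one))) .one)))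 (.more (.fuse [nat_lit 12] [nat_lit 1, nat_lit 3, nat_lit 4] (.fuse [nat_lit 10] [nat_lit 1] (.fuse [nat_lit 7] [nat_lit 2] (.prune (nat_lit 3) (nat_lit 1) [nat_lit 0, nat_lit 1])))) .one))) (.more (.split (.more (.fuse [nat_lit 10] [nat_lit 1] (.fuse [nat_lit 10, nat_lit 11] [nat_lit 1] (.fuse [nat_lit 6] [nat_lit 2] (.fuse [nat_lit 6, nat_lit 8] [nat_lit 1] (.prune (nat_lit 2) (nat_lit 1) []))))) (.more (.fuse [nat_lit 10] [nat_lit 0, nat_lit 4] (.split (.more (.fuse [nat_lit 6] [nat_lit 0, nat_lit 2] (.fuse [nat_lit 9] [nat_lit 1] (.fuse [nat_lit 4] [nat_lit 0] (.prune (nat_lit 1) (nat_lit 1) [nat_lit 0])))) (.more (.fuse [nat_lit 6] [nat_lit 0, nat_lit 1, nat_lit 2] (.split (.more (.fuse [nat_lit 4] [nat_lit 0] (.fuse [nat_lit 2] [] (.leaf (nat_lit 4) [nat_lit 0, nat_lit 4, nat_lit 6, nat_lit 6, nat_lit 7, nat_lit 6, nat_lit 8, nat_lit 3,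 nat_lit 6, nat_lit 6, nat_lit 8]))) (.more (.fuse [nat_lit 4] [nat_lit 0] (.fuse [nat_lit 2] [] (.prune (nat_lit 0) (nat_lit 1) []))) .one)))) .one)))) .one))) .one))) (.more (.split (.more (.split (.more (.fuse [nat_lit 12] [nat_lit 0, nat_lit 1, nat_lit 3] (.fuse [nat_lit 11] [nat_lit 0, nat_lit 1] (.fuse [nat_lit 7] [nat_lit 1] (.prune (nat_lit 3) (nat_lit 1) [nat_lit 2])))) (.more (.split (.more (.fuse [nat_lit 10] [nat_lit 0, nat_lit 1, nat_lit 2, nat_lit 3] (.fuse [nat_lit 9] [nat_lit 0, nat_lit 1] (.fuse [nat_lit 6] [] (.fuse [nat_lit 5] [] (.prune (nat_lit 1) (nat_lit 1) []))))) (.more (.fuse [nat_lit 10] [nat_lit 1, nat_lit 2, nat_lit 3] (.split (.more (.fuse [nat_lit 6] [nat_lit 0] (.fuse [nat_lit 5] [] (.fuse [nat_lit 3] [] (.leaf (nat_lit 4) [nat_lit 0, nat_lit 2, nat_lit 6, nat_lit 6, nat_lit 7, nat_lit 6, nat_lit 8, nat_lit 5, nat_lit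 5, nat_lit 7])))) (.more (.fuse [nat_lit 6] [nat_lit 0] (.fuse [nat_lit 5] [] (.fuse [nat_lit 3] [] (.prune (nat_lit 0) (nat_lit 1) [])))) .one)))) .one))) .one))) (.more (.split (.more (.fuse [nat_lit 10] [nat_lit 0, nat_lit 1, nat_lit 2, nat_lit 3] (.split (.more (.fuse [nat_lit 6] [nat_lit 0] (.fuse [nat_lit 6, nat_lit 9] [] (.fuse [nat_lit 4] [] (.prune (nat_lit 1) (nat_lit 1) [])))) (.more (.fuse [nat_lit 6] [nat_lit 0, nat_lit 1] (.split (.more (.fuse [nat_lit 4] [] (.fuse [nat_lit 2] [] (.leaf (nat_lit 4) [nat_lit 3, nat_lit 4, nat_lit 5, nat_lit 7, nat_lit 5, nat_lit 8, nat_lit 3, nat_lit 6, nat_lit 6, nat_lit 7, nat_lit 6]))) (.more (.fuse [nat_lit 4] [] (.fuse [nat_lit 2] [] (.prune (nat_lit 0) (nat_lit 1) []))) .one)))) .one)))) (.more (.fuse [nat_lit 10] [nat_lit 0, nat_lit 2, nat_lit 3, nat_lit 4] (.fuse [nat_lit 10, nat_lit 11]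 [nat_lit 3] (.fuse [nat_lit 6] [nat_lit 0] (.fuse [nat_lit 7] [nat_lit 0, nat_lit 1] (.split (.more (.fuse [nat_lit 6, nat_lit 9] [] (.leaf (nat_lit 2) [nat_lit 5, nat_lit 5, nat_lit 7, nat_lit 5, nat_lit 7, nat_lit 8, nat_lit 5, nat_lit 8])) (.more (.split (.more (.leaf (nat_lit 0) [nat_lit 6, nat_lit 8, nat_lit 5, nat_lit 5, nat_lit 8]) (.more (.leaf (nat_lit 1) [nat_lit 1, nat_lit 7, nat_lit 3, nat_lit 7, nat_lit 8, nat_lit 6, nat_lit 6, nat_lit 8, nat_lit 5, nat_lit 8]) .one))) .one))))))) .one))) .one))) .one))) (.more (.fuse [nat_lit 10] [nat_lit 0, nat_lit 1] (.fuse [nat_lit 12] [nat_lit 2, nat_lit 4] (.fuse [nat_lit 11] [nat_lit 0, nat_lit 1, nat_lit 3, nat_lit 4, nat_lit 5] (.split (.more (.split (.more (.fuse [nat_lit 5] [] (.prune (nat_lit 3) (nat_lit 1) [])) (.more (.fuse [nat_lit 5] [] (.prune (nat_lit 3) (nat_lit 1) [nat_lit 2]))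 .one))) (.more (.split (.more (.fuse [nat_lit 5] [] (.fuse [nat_lit 4] [] (.split (.more (.fuse [nat_lit 1] [] (.leaf (nat_lit 5) [nat_lit 0, nat_lit 3, nat_lit 6, nat_lit 0, nat_lit 7, nat_lit 5, nat_lit 7, nat_lit 5, nat_lit 8, nat_lit 5, nat_lit 8, nat_lit 2])) (.more (.fuse [nat_lit 1] [] (.prune (nat_lit 0) (nat_lit 1) [])) .one))))) (.more (.fuse [nat_lit 5] [] (.fuse [nat_lit 4] [] (.prune (nat_lit 2) (nat_lit 1) []))) .one))) .one)))))) .one))) (.more (.split (.more (.fuse [nat_lit 9] [nat_lit 2, nat_lit 3] (.split (.more (.split (.more (.fuse [nat_lit 7] [nat_lit 0] (.fuse [nat_lit 6] [nat_lit 0] (.fuse [nat_lit 8] [nat_lit 2] (.prune (nat_lit 3) (nat_lit 1) [nat_lit 2])))) (.more (.fuse [nat_lit 7] [nat_lit 2, nat_lit 3] (.fuse [nat_lit 6] [nat_lit 0, nat_lit 1] (.prune (nat_lit 4) (nat_lit 1) [nat_lit 1, nat_lit 2]))) .one))) (.more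 (.split (.more (.fuse [nat_lit 7] [nat_lit 0, nat_lit 1] (.prune (nat_lit 5) (nat_lit 1) [nat_lit 0, nat_lit 3])) (.more (.fuse [nat_lit 7] [nat_lit 1, nat_lit 2, nat_lit 3] (.prune (nat_lit 5) (nat_lit 1) [nat_lit 1, nat_lit 2, nat_lit 3, nat_lit 4])) .one))) .one)))) (.more (.fuse [nat_lit 9] [nat_lit 0, nat_lit 1] (.prune (nat_lit 8) (nat_lit 1) [nat_lit 3])) .one))) .one))) (.more (.split (.more (.split (.more (.fuse [nat_lit 10] [nat_lit 0, nat_lit 1, nat_lit 2, nat_lit 3, nat_lit 5] (.fuse [nat_lit 12] [nat_lit 1, nat_lit 2, nat_lit 3, nat_lit 4, nat_lit 5, nat_lit 6] (.fuse [nat_lit 9] [nat_lit 0, nat_lit 2, nat_lit 4, nat_lit 5] (.prune (nat_lit 6) (nat_lit 1) [])))) (.more (.split (.more (.split (.more (.fuse [nat_lit 9] [nat_lit 0, nat_lit 2, nat_lit 3, nat_lit 4, nat_lit 5] (.fuse [nat_lit 7] [nat_lit 1, nat_lit 3, nat_lit 4] (.prune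 (nat_lit 5) (nat_lit 1) [nat_lit 1, nat_lit 2, nat_lit 4]))) (.more (.fuse [nat_lit 9] [nat_lit 4, nat_lit 5] (.fuse [nat_lit 7] [nat_lit 3, nat_lit 4] (.fuse [nat_lit 8] [nat_lit 0, nat_lit 1, nat_lit 2] (.fuse [nat_lit 6] [nat_lit 0] (.prune (nat_lit 3) (nat_lit 1) []))))) .one))) (.more (.split (.more (.fuse [nat_lit 9] [nat_lit 0, nat_lit 1, nat_lit 2, nat_lit 4, nat_lit 5] (.fuse [nat_lit 7] [nat_lit 0, nat_lit 4] (.prune (nat_lit 5) (nat_lit 1) [nat_lit 0, nat_lit 1, nat_lit 2]))) (.more (.fuse [nat_lit 9] [nat_lit 0, nat_lit 1, nat_lit 3, nat_lit 4, nat_lit 5] (.fuse [nat_lit 7] [nat_lit 1, nat_lit 4] (.fuse [nat_lit 8] [nat_lit 2] (.prune (nat_lit 4) (nat_lit 1) [nat_lit 1])))) .one))) .one))) .one))) (.more (.split (.more (.fuse [nat_lit 9] [nat_lit 1, nat_lit 2, nat_lit 3, nat_lit 5, nat_lit 6] (.prune (nat_lit 8) (nat_lit 1) [nat_lit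 0, nat_lit 1, nat_lit 2, nat_lit 5, nat_lit 6])) (.more (.fuse [nat_lit 9] [nat_lit 0, nat_lit 2, nat_lit 3, nat_lit 5, nat_lit 6] (.split (.more (.split (.more (.fuse [nat_lit 10] [nat_lit 0, nat_lit 3] (.fuse [nat_lit 6] [] (.split (.more (.split (.more (.fuse [nat_lit 3] [] (.fuse [nat_lit 2] [] (.prune (nat_lit 0) (nat_lit 1) []))) (.more (.fuse [nat_lit 3] [] (.fuse [nat_lit 2] [] (.leaf (nat_lit 3) [nat_lit 1, nat_lit 2, nat_lit 7, nat_lit 5, nat_lit 7, nat_lit 5, nat_lit 2, nat_lit 4]))) .one))) (.more (.split (.more (.fuse [nat_lit 3] [] (.prune (nat_lit 1) (nat_lit 1) [nat_lit 0])) (.more (.fuse [nat_lit 3] [] (.prune (nat_lit 1) (nat_lit 1) [])) .one))) .one))))) (.more (.fuse [nat_lit 10] [nat_lit 1, nat_lit 3, nat_lit 4] (.fuse [nat_lit 6] [nat_lit 1] (.prune (nat_lit 4) (nat_lit 1) [nat_lit 1, nat_lit 3]))) .one))) (.more (.split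 (.more (.fuse [nat_lit 9, nat_lit 12] [nat_lit 0, nat_lit 1, nat_lit 3, nat_lit 4] (.fuse [nat_lit 6] [nat_lit 0, nat_lit 2, nat_lit 3] (.prune (nat_lit 4) (nat_lit 1) [nat_lit 0, nat_lit 2]))) (.more (.split (.more (.fuse [nat_lit 6] [nat_lit 1, nat_lit 2, nat_lit 3] (.split (.more (.fuse [nat_lit 6, nat_lit 10] [nat_lit 0] (.fuse [nat_lit 3] [nat_lit 0] (.prune (nat_lit 1) (nat_lit 1) [nat_lit 0]))) (.more (.fuse [nat_lit 6, nat_lit 10] [nat_lit 0, nat_lit 1] (.fuse [nat_lit 3] [nat_lit 0] (.fuse [nat_lit 5] [] (.leaf (nat_lit 4) [nat_lit 8, nat_lit 7, nat_lit 5, nat_lit 5, nat_lit 8, nat_lit 5, nat_lit 8, nat_lit 5, nat_lit 4])))) .one)))) (.more (.fuse [nat_lit 6] [nat_lit 0, nat_lit 1, nat_lit 2, nat_lit 3] (.split (.more (.fuse [nat_lit 6, nat_lit 10] [nat_lit 0] (.fuse [nat_lit 3] [nat_lit 0] (.prune (nat_lit 1) (nat_lit 1) []))) (.more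 (.fuse [nat_lit 6, nat_lit 10] [nat_lit 0, nat_lit 1] (.fuse [nat_lit 3] [nat_lit 0] (.fuse [nat_lit 5] [] (.prune (nat_lit 0) (nat_lit 1) [])))) .one)))) .one))) .one))) .one)))) .one))) .one))) .one)))
noncomputable def cvT1 : CT := (.split (.more (.split (.more (.split (.more (.fuse [nat_lit 10] [nat_lit 1, nat_lit 3, nat_lit 4, nat_lit 5] (.fuse [nat_lit 9] [nat_lit 0, nat_lit 4] (.prune (nat_lit 7) (nat_lit 1) []))) (.more (.split (.more (.fuse [nat_lit 9] [nat_lit 1, nat_lit 2, nat_lit 4] (.split (.more (.fuse [nat_lit 6] [nat_lit 0, nat_lit 1, nat_lit 2, nat_lit 3, nat_lit 4] (.fuse [nat_lit 6, nat_lit 8] [nat_lit 3] (.prune (nat_lit 4) (nat_lit 1) [nat_lit 0, nat_lit 2, nat_lit 3]))) (.more (.fuse [nat_lit 6] [nat_lit 0, nat_lit 2, nat_lit 3, nat_lit 4] (.prune (nat_lit 5) (nat_lit 1) [nat_lit 0, nat_lit 3])) .one)))) (.more (.fuse [nat_lit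 9] [nat_lit 0, nat_lit 4] (.split (.more (.fuse [nat_lit 6] [nat_lit 1, nat_lit 3, nat_lit 4] (.prune (nat_lit 5) (nat_lit 1) [nat_lit 1, nat_lit 2, nat_lit 4])) (.more (.fuse [nat_lit 6] [nat_lit 0, nat_lit 3, nat_lit 4] (.fuse [nat_lit 6, nat_lit 8] [nat_lit 3] (.fuse [nat_lit 1, nat_lit 2, nat_lit 3, nat_lit 8, nat_lit 10] [] (.fuse [nat_lit 7] [nat_lit 0] (.prune (nat_lit 2) (nat_lit 1) [nat_lit 0, nat_lit 1]))))) .one)))) .one))) .one))) (.more (.split (.more (.fuse [nat_lit 9] [nat_lit 2, nat_lit 4, nat_lit 5, nat_lit 7] (.prune (nat_lit 8) (nat_lit 1) [nat_lit 0, nat_lit 2, nat_lit 3, nat_lit 4, nat_lit 5, nat_lit 7])) (.more (.fuse [nat_lit 9] [nat_lit 0, nat_lit 2, nat_lit 4, nat_lit 5, nat_lit 7] (.split (.more (.split (.more (.fuse [nat_lit 6] [nat_lit 0, nat_lit 3] (.fuse [nat_lit 6, nat_lit 10] [nat_lit 0, nat_lit 1] (.split (.more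 (.split (.more (.fuse [nat_lit 2] [nat_lit 0] (.fuse [nat_lit 3] [] (.prune (nat_lit 0) (nat_lit 1) []))) (.more (.fuse [nat_lit 2] [nat_lit 0] (.prune (nat_lit 1) (nat_lit 1) [])) .one))) (.more (.split (.more (.fuse [nat_lit 2] [nat_lit 0] (.fuse [nat_lit 3] [] (.leaf (nat_lit 3) [nat_lit 2, nat_lit 3, nat_lit 6]))) (.more (.fuse [nat_lit 2] [nat_lit 0] (.prune (nat_lit 1) (nat_lit 1) [nat_lit 0])) .one))) .one))))) (.more (.fuse [nat_lit 6] [nat_lit 3] (.prune (nat_lit 5) (nat_lit 1) [nat_lit 0, nat_lit 1])) .one))) (.more (.split (.more (.fuse [nat_lit 6] [nat_lit 1, nat_lit 2] (.prune (nat_lit 5) (nat_lit 1) [nat_lit 0, nat_lit 1, nat_lit 2, nat_lit 3])) (.more (.fuse [nat_lit 6] [nat_lit 1, nat_lit 2] (.split (.more (.fuse [nat_lit 10] [nat_lit 0] (.split (.more (.fuse [nat_lit 2] [] (.prune (nat_lit 1) (nat_lit 1) [])) (.more (.fuse [nat_lit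 2] [] (.fuse [nat_lit 2, nat_lit 4] [] (.leaf (nat_lit 4) [nat_lit 5, nat_lit 0, nat_lit 7, nat_lit 5, nat_lit 8, nat_lit 6, nat_lit 7, nat_lit 5, nat_lit 5, nat_lit 7, nat_lit 6]))) .one)))) (.more (.fuse [nat_lit 10] [] (.split (.more (.fuse [nat_lit 2] [] (.fuse [nat_lit 2, nat_lit 4] [] (.prune (nat_lit 0) (nat_lit 1) []))) (.more (.fuse [nat_lit 2] [] (.prune (nat_lit 1) (nat_lit 1) [nat_lit 0])) .one)))) .one)))) .one))) .one)))) .one))) .one))) (.more (.split (.more (.split (.more (.split (.more (.fuse [nat_lit 9] [nat_lit 2, nat_lit 4, nat_lit 6] (.split (.more (.fuse [nat_lit 6] [nat_lit 1, nat_lit 3, nat_lit 4] (.prune (nat_lit 5) (nat_lit 1) [nat_lit 0, nat_lit 1, nat_lit 4])) (.more (.fuse [nat_lit 6] [nat_lit 0, nat_lit 3, nat_lit 4] (.fuse [nat_lit 10] [nat_lit 1] (.split (.more (.split (.more (.fuse [nat_lit 2] [] (.prune (nat_lit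 1) (nat_lit 1) [])) (.more (.fuse [nat_lit 2] [] (.fuse [nat_lit 2, nat_lit 3] [] (.leaf (nat_lit 3) [nat_lit 0, nat_lit 2, nat_lit 4, nat_lit 6, nat_lit 0, nat_lit 6, nat_lit 7, nat_lit 6, nat_lit 7, nat_lit 6]))) .one))) (.more (.split (.more (.fuse [nat_lit 2] [] (.fuse [nat_lit 2, nat_lit 3] [] (.prune (nat_lit 0) (nat_lit 1) []))) (.more (.fuse [nat_lit 2] [] (.prune (nat_lit 1) (nat_lit 1) [nat_lit 0])) .one))) .one))))) .one)))) (.more (.fuse [nat_lit 9] [nat_lit 0, nat_lit 1, nat_lit 2, nat_lit 4, nat_lit 6] (.split (.more (.fuse [nat_lit 6] [nat_lit 1, nat_lit 2, nat_lit 3, nat_lit 4] (.split (.more (.fuse [nat_lit 10] [nat_lit 2] (.split (.more (.fuse [nat_lit 2] [] (.fuse [nat_lit 4] [] (.leaf (nat_lit 4) [nat_lit 2, nat_lit 3, nat_lit 4, nat_lit 7, nat_lit 6, nat_lit 6, nat_lit 8, nat_lit 6, nat_lit 7, nat_lit 5, nat_lit 5]))) (.more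 (.fuse [nat_lit 2] [] (.prune (nat_lit 1) (nat_lit 1) [])) .one)))) (.more (.fuse [nat_lit 10] [nat_lit 0, nat_lit 2] (.split (.more (.fuse [nat_lit 2] [] (.fuse [nat_lit 4] [] (.prune (nat_lit 0) (nat_lit 1) []))) (.more (.fuse [nat_lit 2] [] (.prune (nat_lit 1) (nat_lit 1) [nat_lit 0])) .one)))) .one)))) (.more (.fuse [nat_lit 6] [nat_lit 2, nat_lit 3, nat_lit 4] (.prune (nat_lit 5) (nat_lit 1) [nat_lit 0, nat_lit 2, nat_lit 4])) .one)))) .one))) (.more (.fuse [nat_lit 10] [nat_lit 0, nat_lit 1] (.fuse [nat_lit 9] [nat_lit 0, nat_lit 1, nat_lit 2, nat_lit 4, nat_lit 6] (.prune (nat_lit 7) (nat_lit 1) [nat_lit 0, nat_lit 1, nat_lit 2, nat_lit 3, nat_lit 5, nat_lit 6]))) .one))) (.more (.split (.more (.fuse [nat_lit 9] [nat_lit 0, nat_lit 1, nat_lit 2, nat_lit 5, nat_lit 6, nat_lit 7] (.split (.more (.split (.more (.fuse [nat_lit 6] [nat_lit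 0, nat_lit 3] (.prune (nat_lit 5) (nat_lit 1) [nat_lit 0, nat_lit 1, nat_lit 2, nat_lit 3, nat_lit 4])) (.more (.fuse [nat_lit 6] [nat_lit 3] (.fuse [nat_lit 7] [nat_lit 0, nat_lit 3] (.prune (nat_lit 4) (nat_lit 1) [nat_lit 0, nat_lit 2, nat_lit 3]))) .one))) (.more (.split (.more (.fuse [nat_lit 6] [nat_lit 1, nat_lit 2] (.prune (nat_lit 5) (nat_lit 1) [nat_lit 0, nat_lit 2, nat_lit 3])) (.more (.fuse [nat_lit 6] [nat_lit 1, nat_lit 2] (.fuse [nat_lit 7] [nat_lit 3] (.fuse [nat_lit 0, nat_lit 2, nat_lit 3, nat_lit 6, nat_lit 7, nat_lit 10] [nat_lit 0, nat_lit 2] (.fuse [nat_lit 0, nat_lit 4, nat_lit 5, nat_lit 8, nat_lit 9, nat_lit 10, nat_lit 11] [nat_lit 0] (.split (.more (.split (.more (.leaf (nat_lit 1) [nat_lit 6, nat_lit 7, nat_lit 6, nat_lit 8, nat_lit 6]) (.more (.leaf (nat_lit 2) [nat_lit 1, nat_lit 4, nat_lit 7, nat_lit 3, nat_lit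 8, nat_lit 5, nat_lit 5, nat_lit 8, nat_lit 6]) .one))) (.more (.split (.more (.leaf (nat_lit 2) [nat_lit 1, nat_lit 2, nat_lit 3, nat_lit 4, nat_lit 7, nat_lit 3, nat_lit 7, nat_lit 8, nat_lit 6, nat_lit 7]) (.more (.leaf (nat_lit 0) [nat_lit 0, nat_lit 1, nat_lit 3, nat_lit 4, nat_lit 7, nat_lit 3, nat_lit 6, nat_lit 6, nat_lit 8, nat_lit 6, nat_lit 6, nat_lit 7, nat_lit 6, nat_lit 8]) .one))) .one))))))) .one))) .one)))) (.more (.fuse [nat_lit 9] [nat_lit 1, nat_lit 2, nat_lit 5, nat_lit 6, nat_lit 7] (.prune (nat_lit 8) (nat_lit 1) [nat_lit 4, nat_lit 6, nat_lit 7])) .one))) .one))) .one)))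
noncomputable def cqx_W : List (List ℕ) := [[nat_lit 0],
  [nat_lit 4],
  [nat_lit 1],
  [nat_lit 3],
  [nat_lit 2],
  [nat_lit 7, nat_lit 4, nat_lit 7],
  [nat_lit 7, nat_lit 3, nat_lit 7],
  [nat_lit 8, nat_lit 3, nat_lit 8]]
noncomputable def cqx_P : ℕ → ℕ → ℕ := wdsP HB.P cqx_W
noncomputable def cqth_W : List (List ℕ) := [[nat_lit 6, nat_lit 1, nat_lit 4, nat_lit 0, nat_lit 5],
  [nat_lit 0, nat_lit 1, nat_lit 2],
  [nat_lit 1, nat_lit 3, nat_lit 4],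
  [nat_lit 7, nat_lit 2, nat_lit 3, nat_lit 7, nat_lit 3],
  [nat_lit 1],
  [nat_lit 5, nat_lit 7, nat_lit 3, nat_lit 6, nat_lit 7],
  [nat_lit 4, nat_lit 5, nat_lit 5, nat_lit 7, nat_lit 3, nat_lit 6, nat_lit 6, nat_lit 7, nat_lit 5],
  [nat_lit 4, nat_lit 6, nat_lit 0, nat_lit 5],
  [nat_lit 7, nat_lit 6, nat_lit 7, nat_lit 6, nat_lit 6, nat_lit 7],
  [nat_lit 0],
  [nat_lit 2],
  [nat_lit 3],
  [nat_lit 4],
  [nat_lit 5],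
  [nat_lit 6],
  [nat_lit 7],
  [nat_lit 8],
  [nat_lit 1, nat_lit 3, nat_lit 4, nat_lit 6, nat_lit 6, nat_lit 7, nat_lit 6, nat_lit 6, nat_lit 8, nat_lit 6, nat_lit 8, nat_lit 6, nat_lit 6]]
noncomputable def cqth_Pd : List ℕ := [nat_lit 0xefdbacce7cb8acdee36938dab4cdc79b2e4ce9309dbf7855ca16acd88b5a5d43664b5b9f3b474ab2a4c88faebc4870904064f9e9424e9cee5ed9ab166fda306eb96f056a94954e986e246890c13e7b01ca66a9182f4543cd8ec8901e3928c17744880e182840608080,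
  nat_lit 0xef93af4e63f8ac19ba4938dab4e8cf9b2f6c69309dbf7855ca16acd8af5a5d4a74a8db9f3a6ccab2b6c28fae2c487220b37ef951424e9cb86ed913180c9a305eb96f030f42954e992e22ed4e203e7b0213668cab465943cd8ec890e4386ef17744880e194840608080,
  nat_lit 0xbfd8774e63db2cdfbb6938da824dc79af64cf8b0e0ef96eaea026cd88a6a5d43664b5b9f3b44cab1e4c895aeb91870a0c07e4153c76e9cb86fc513466c98875f716f030f54954c9d2a42ed4e203e78ea1a75a92b4745414d84a23ee5d468c102ad0b60182e90608080,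
  nat_lit 0xef93af4e7cb8acdfbb6ec8ceb4e8cf9af76c78aa1dbf9452eb626c828b5a5e1a6668d09f3a6ccab2a4c88faeb91870904064f953c25a83386ed9ab166fda305f716f056f42954e992a44688e413e7b021366a9182e5941426ee2101e3868c1776d080ee54840760080,
  nat_lit 0xefdbacce63f8acdee3693d6e824dcf9b2e4c692a1dbf7aedca026758af5a5e1a748b5b9f67474ab2a4c28f1a29103220b37e41e9477a9cee6ed9ab180c9a305eb96f056a94a84e992e22e890a03e7b01c3668c984744abcd84a23ee43868c162ad080e182e9060a180,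
  nat_lit 0xea43beee65d80d89d04a02ad42963b9973ec064c671d71dde65b5506789d7ab638a6bf9ef68b86e2ed4010a0a0c42cf648b7dacc5ba8814caa1dd538540df197956a5c33b4c6ac6b8521fa80933e7b1c36899254e5a35d7822b7e4477d611944a4c76d6022906e4e00,
  nat_lit 0xac113ebe60844bda577b2e98721237999e9a75f53435028c8411108fc5dd63ac6f2ec19e71dc6e01c65c613125a54ba85e26a40d29b50ba84a2d5e0cbb0ec71b096d56b0df38ea39bc50c62cdb3e798cecf7ca22722b7197fa0485b0997c96c588f1948c87607c9e80,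
  nat_lit 0xefd87745bc9b7018e24938ceb4e8ce7af64c6930e0bf96eaea026cd8ae6aad4374a8db9f3a6cc971f6c895ae29103090406441e9477a836e5fc5ab166fda306f739ac30a82a84e986e22e88e413f98ea1a758cab4658abcd84a23e1fd52ef162ad080ee5484060a180,
  nat_lit 0xad0efb5cd8c3c87662ebfd4e10ed0dcd601731662335c08d5834721d789a074b1886209fda4a2662052f16e8a6852dc98da0ab499b5b9a2bbcc0a8f4b6f947cb2cf428c12754ea3ae57a6a086c3eb4bbe049d26b37bf0d264266bdcfdd7126d10b7194c6c9c0780280,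
  nat_lit 0xef93af45bc9b70dfbb693d7a824dc79b2f6cf8aa60bf7aeaeb76acd8ae6a5e13748b50073b44cab2a4c88f1a2c487090337ef953c76e83386fc5ab480c98875f739ac30f54a84c9c6a42e88e413e78ea1a758cab4744a94d8488901e3928c162848860e42e99e08080,
  nat_lit 0xefdbacc5bc9b7018e24938ceb4e8c79b2e4cf8b0e0bf7852eb626758ae6a5d4374a8d007666f4ab2b6c88fae29103090337e41ebc25a836e6fc513480c98875f739ac56a82954c9c6a42ed50c13e78e9ca758c984659414d8ee23e1e392ef1776d0860e54849e0a180,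
  nat_lit 0xef9074ce7cb8ac19ba493d6e8268ce7af76c78aa1dbf9455cb626cd88b5aae136668d0073a6f4971f6c8951ab9103090337e4153c25a9cb86ed9ab480c98875eb96f056f42954c9c6a446890c13f9b01ca66a9182e59414d8ee23e1fd52ef1776d0860194e99e0a180,
  nat_lit 0xbf93af4e7c9b2c18e24938da8268c67b2f6ce930e0ef7852eb626758ae6aad4a74a8d007666cc972b6c28fae29187210407e41e9424e9cee6fc513166c9a305f716f030a82a84e986e246d4e413f98ea13758cab2e58abcd8ee23e1e392ef1176d0b0e194e99e08080,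
  nat_lit 0xa523695652c70f4999e50268318bc9ac2c2ed127e032a4b5e71c55584f2a703361fbee44f4428b230a33dfb131a1b0398456bb85ad10579e43d7a3ed26085d3995ff274b1a6176483112f321ad3f18e81a71d86a477ea09b736b5cab25ce2af45b4514dd8e76a09280,
  nat_lit 0xa38db3582b2d3d8f43ac6cc619bb09b9767d2314602d7181026f25d8164479537dc56cc354922e55877634784624391d425ad276d4eac6db0c241a991cc29972f902a7f66f4caf140ef2f3dbea3ee0eafa712fb24777a49d699231e1c61cad01ca4da4972c0a808e00,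
  nat_lit 0xee37ab89f08390af30cd4d742596439ac253968981be0ae867589a65de9826c7b266eae6c68eed32a90f8f1863c3bc8c176ab29c4776d77452c1fd9468a7360ae41be406dba8355b20966cb3ab3e7a1e3549f6c181a0a91c248a70903bb451629208e3717d55b7b000,
  nat_lit 0x15dbae9924d9114d5568f1607a17ceef2e4c766150bb7afb73ad3158ad5f7487b3d9e0a491184707f9d40020d2c75860966cf29becd0c2cbb8fd85aa3c44b55cbf6c4566c32819bd2ce9a1d0a0944ad9c5514198d100a90e47b814d8386a7d7dd8c644a5ccc320b547,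
  nat_lit 0xc7c88b92f1f125ae1ea463212aecb77840fa14f7f5ce2db3bcdd27eaa260e0c3a7e49e500c98642830be8348b26b841e3412fdac371a5530ee92b02636ac76be4918d848b9af59c051b8069494d194705c0ac04867b5b81d7b93b29512ec5b3c664ec8f56cb2ae974d]
noncomputable def cqth_P (k u : ℕ) : ℕ := Nat.land (Nat.shiftRight (nth (nat_lit 0) cqth_Pd k) (Nat.mul u (nat_lit 7))) (nat_lit 127)
noncomputable def cqtl0Dd : ℕ := nat_lit 0xb09b1747dedb29696b7d4c4c279345474c60e790b967ab3216164083e86fcc55a08c2f91b443d80ef00f99be2aa50df1b8aa20efce79bd712d99a131e682cbd8e8fa424a3a2e1ee4b08d1080d718a6e1b932b4ae83c621ec142d38591eb36c2803e9b52742383e06b5346444f08d2b62303d22e2924dcd89010ce1602384606a1141a023266154198740860c41009510807c3004e09a0f01d82a0520600b81404804408000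
noncomputable def cqtl0D (u : ℕ) : ℕ := Nat.land (Nat.shiftRight cqtl0Dd (Nat.mul u (nat_lit 11))) (nat_lit 2047)
noncomputable def cqtl0Pd : ℕ := nat_lit 0xc6973e9083618191cf050aa6cf37817032927096f0a76cebac87334b5f876057eaaa2cece50b37ba97325649a18b0ee65e82c772246a1f7441467150441c172d65ae5149c4daeb12ee81c447a69a7e34fd7241f2195b6b6ef7f7c5ae6b88716f1214c4c044aa466380
noncomputable def cqtl0P (u : ℕ) : ℕ := Nat.land (Nat.shiftRight cqtl0Pd (Nat.mul u (nat_lit 7))) (nat_lit 127)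
noncomputable def cqtl0Qd : ℕ := nat_lit 0x273d3b8dc606e022f4ad5372ba24eb6565bee1eb6d25012e6bca17431e5b5d1be0db6c38d4fc1b010d6f0274826e389fe7a6e658a8572731d0516c59921f06af270d08f4b23a5483b0976f26b73da6edad43814460bda08c719132428f91716ad4851996a7332cf800
noncomputable def cqtl0Q (u : ℕ) : ℕ := Nat.land (Nat.shiftRight cqtl0Qd (Nat.mul u (nat_lit 7))) (nat_lit 127)
noncomputable def cqtl0 : Lev := ⟨120, 18, cqtl0D, cqtl0P, cqtl0Q⟩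
noncomputable def cqtl1Dd : ℕ := nat_lit 0x13e8f6c5c281301fad9304d17ad4f0c0242c08e38140d86a261288c620f070341200
noncomputable def cqtl1D (u : ℕ) : ℕ := Nat.land (Nat.shiftRight cqtl1Dd (Nat.mul u (nat_lit 9))) (nat_lit 511)
noncomputable def cqtl1Pd : ℕ := nat_lit 0x285bccca0937ee35a0d91b74c3c579f450af53a318512d6b52783
noncomputable def cqtl1P (u : ℕ) : ℕ := Nat.land (Nat.shiftRight cqtl1Pd (Nat.mul u (nat_lit 7))) (nat_lit 127)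
noncomputable def cqtl1Qd : ℕ := nat_lit 0xc6800004413aa40006c00000c000000e0000000020001d08010000000480000320b8000020160006006800000805000b000000141403c0000007001c0c000000000000000000000000
noncomputable def cqtl1Q (u : ℕ) : ℕ := Nat.land (Nat.shiftRight cqtl1Qd (Nat.mul u (nat_lit 5))) (nat_lit 31)
noncomputable def cqtl1 : Lev := ⟨30, 16, cqtl1D, cqtl1P, cqtl1Q⟩
noncomputable def cqtl2Dd : ℕ := nat_lit 0x8a0e0
noncomputable def cqtl2D (u : ℕ) : ℕ := Nat.land (Nat.shiftRight cqtl2Dd (Nat.mul u (nat_lit 5))) (nat_lit 31)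
noncomputable def cqtl2Pd : ℕ := nat_lit 0xe6b731e
noncomputable def cqtl2P (u : ℕ) : ℕ := Nat.land (Nat.shiftRight cqtl2Pd (Nat.mul u (nat_lit 7))) (nat_lit 127)
noncomputable def cqtl2Qd : ℕ := nat_lit 0xc000001000000000000000000000000000080000000000000000000000
noncomputable def cqtl2Q (u : ℕ) : ℕ := Nat.land (Nat.shiftRight cqtl2Qd (Nat.mul u (nat_lit 2))) (nat_lit 3)
noncomputable def cqtl2 : Lev := ⟨4, 9, cqtl2D, cqtl2P, cqtl2Q⟩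
noncomputable def cqtl3Dd : ℕ := nat_lit 0xd52cf31480
noncomputable def cqtl3D (u : ℕ) : ℕ := Nat.land (Nat.shiftRight cqtl3Dd (Nat.mul u (nat_lit 5))) (nat_lit 31)
noncomputable def cqtl3Pd : ℕ := nat_lit 0x9d6551c7a86181
noncomputable def cqtl3P (u : ℕ) : ℕ := Nat.land (Nat.shiftRight cqtl3Pd (Nat.mul u (nat_lit 7))) (nat_lit 127)
noncomputable def cqtl3Qd : ℕ := nat_lit 0x300000001c0000000200018000000000000140000010004000000000000000000000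
noncomputable def cqtl3Q (u : ℕ) : ℕ := Nat.land (Nat.shiftRight cqtl3Qd (Nat.mul u (nat_lit 3))) (nat_lit 7)
noncomputable def cqtl3 : Lev := ⟨8, 7, cqtl3D, cqtl3P, cqtl3Q⟩
noncomputable def cqtl4Dd : ℕ := nat_lit 0xc
noncomputable def cqtl4D (u : ℕ) : ℕ := Nat.land (Nat.shiftRight cqtl4Dd (Nat.mul u (nat_lit 2))) (nat_lit 3)
noncomputable def cqtl4Pd : ℕ := nat_lit 0x2c02
noncomputable def cqtl4P (u : ℕ) : ℕ := Nat.land (Nat.shiftRight cqtl4Pd (Nat.mul u (nat_lit 7))) (nat_lit 127)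
noncomputable def cqtl4Qd : ℕ := nat_lit 0x10000000000000000000000
noncomputable def cqtl4Q (u : ℕ) : ℕ := Nat.land (Nat.shiftRight cqtl4Qd (Nat.mul u (nat_lit 1))) (nat_lit 1)
noncomputable def cqtl4 : Lev := ⟨2, 4, cqtl4D, cqtl4P, cqtl4Q⟩
noncomputable def cqtl5Dd : ℕ := nat_lit 8
noncomputable def cqtl5D (u : ℕ) : ℕ := Nat.land (Nat.shiftRight cqtl5Dd (Nat.mul u (nat_lit 2))) (nat_lit 3)
noncomputable def cqtl5Pd : ℕ := nat_lit 0x3484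
noncomputable def cqtl5P (u : ℕ) : ℕ := Nat.land (Nat.shiftRight cqtl5Pd (Nat.mul u (nat_lit 7))) (nat_lit 127)
noncomputable def cqtl5Qd : ℕ := nat_lit 0x200000000000000000000000000
noncomputable def cqtl5Q (u : ℕ) : ℕ := Nat.land (Nat.shiftRight cqtl5Qd (Nat.mul u (nat_lit 1))) (nat_lit 1)
noncomputable def cqtl5 : Lev := ⟨2, 3, cqtl5D, cqtl5P, cqtl5Q⟩
noncomputable def cqtl6Dd : ℕ := nat_lit 2
noncomputable def cqtl6D (u : ℕ) : ℕ := Nat.land (Nat.shiftRight cqtl6Dd (Nat.mul u (nat_lit 1))) (nat_lit 1)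
noncomputable def cqtl6Pd : ℕ := nat_lit 0xa45
noncomputable def cqtl6P (u : ℕ) : ℕ := Nat.land (Nat.shiftRight cqtl6Pd (Nat.mul u (nat_lit 6))) (nat_lit 63)
noncomputable def cqtl6Qd : ℕ := nat_lit 0x20000000000
noncomputable def cqtl6Q (u : ℕ) : ℕ := Nat.land (Nat.shiftRight cqtl6Qd (Nat.mul u (nat_lit 1))) (nat_lit 1)
noncomputable def cqtl6 : Lev := ⟨2, 2, cqtl6D, cqtl6P, cqtl6Q⟩
noncomputable def cqtl7Dd : ℕ := nat_lit 0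
noncomputable def cqtl7D (u : ℕ) : ℕ := Nat.land (Nat.shiftRight cqtl7Dd (Nat.mul u (nat_lit 1))) (nat_lit 1)
noncomputable def cqtl7Pd : ℕ := nat_lit 0x2e8a
noncomputable def cqtl7P (u : ℕ) : ℕ := Nat.land (Nat.shiftRight cqtl7Pd (Nat.mul u (nat_lit 7))) (nat_lit 127)
noncomputable def cqtl7Qd : ℕ := nat_lit 0x200000000000000000000000
noncomputable def cqtl7Q (u : ℕ) : ℕ := Nat.land (Nat.shiftRight cqtl7Qd (Nat.mul u (nat_lit 1))) (nat_lit 1)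
noncomputable def cqtl7 : Lev := ⟨2, 1, cqtl7D, cqtl7P, cqtl7Q⟩
noncomputable def cqe_W : List (List ℕ) := [[nat_lit 0, nat_lit 7, nat_lit 2, nat_lit 7],
  [nat_lit 0, nat_lit 1, nat_lit 2],
  [nat_lit 1, nat_lit 3, nat_lit 4],
  [nat_lit 2, nat_lit 4, nat_lit 7, nat_lit 3, nat_lit 7],
  [nat_lit 3, nat_lit 4],
  [nat_lit 0, nat_lit 3],
  [nat_lit 1, nat_lit 2],
  [nat_lit 2, nat_lit 5, nat_lit 0, nat_lit 8, nat_lit 3, nat_lit 8, nat_lit 6]]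
noncomputable def cqe_P : ℕ → ℕ → ℕ := wdsP HB.P cqe_W
noncomputable def cqc7Dd : ℕ := nat_lit 0
noncomputable def cqc7D (u : ℕ) : ℕ := Nat.land (Nat.shiftRight cqc7Dd (Nat.mul u (nat_lit 1))) (nat_lit 1)
noncomputable def cqc7Pd : ℕ := nat_lit 0x2e8a
noncomputable def cqc7P (u : ℕ) : ℕ := Nat.land (Nat.shiftRight cqc7Pd (Nat.mul u (nat_lit 7))) (nat_lit 127)
noncomputable def cqc7Qd : ℕ := nat_lit 0x200000000000000000000000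
noncomputable def cqc7Q (u : ℕ) : ℕ := Nat.land (Nat.shiftRight cqc7Qd (Nat.mul u (nat_lit 1))) (nat_lit 1)
noncomputable def cqc7 : Lev := ⟨2, 1, cqc7D, cqc7P, cqc7Q⟩
noncomputable def cqtn0Fd : ℕ := nat_lit 0
noncomputable def cqtn0F (u : ℕ) : ℕ := Nat.land (Nat.shiftRight cqtn0Fd (Nat.mul u (nat_lit 1))) (nat_lit 1)
noncomputable def cqtn0 : Nd := ⟨cqtn0F, (nat_lit 2), (nat_lit 1), [], [((nat_lit 0), [])], []⟩
noncomputable def cqc6Dd : ℕ := nat_lit 2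
noncomputable def cqc6D (u : ℕ) : ℕ := Nat.land (Nat.shiftRight cqc6Dd (Nat.mul u (nat_lit 1))) (nat_lit 1)
noncomputable def cqc6Pd : ℕ := nat_lit 0xa45
noncomputable def cqc6P (u : ℕ) : ℕ := Nat.land (Nat.shiftRight cqc6Pd (Nat.mul u (nat_lit 6))) (nat_lit 63)
noncomputable def cqc6Qd : ℕ := nat_lit 0x20000000000
noncomputable def cqc6Q (u : ℕ) : ℕ := Nat.land (Nat.shiftRight cqc6Qd (Nat.mul u (nat_lit 1))) (nat_lit 1)
noncomputable def cqc6 : Lev := ⟨2, 2, cqc6D, cqc6P, cqc6Q⟩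
noncomputable def cqtn1Fd : ℕ := nat_lit 0
noncomputable def cqtn1F (u : ℕ) : ℕ := Nat.land (Nat.shiftRight cqtn1Fd (Nat.mul u (nat_lit 1))) (nat_lit 1)
noncomputable def cqtn1 : Nd := ⟨cqtn1F, (nat_lit 2), (nat_lit 2), [], [((nat_lit 0), [])], []⟩
noncomputable def cqc5Dd : ℕ := nat_lit 8
noncomputable def cqc5D (u : ℕ) : ℕ := Nat.land (Nat.shiftRight cqc5Dd (Nat.mul u (nat_lit 2))) (nat_lit 3)
noncomputable def cqc5Pd : ℕ := nat_lit 0x3484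
noncomputable def cqc5P (u : ℕ) : ℕ := Nat.land (Nat.shiftRight cqc5Pd (Nat.mul u (nat_lit 7))) (nat_lit 127)
noncomputable def cqc5Qd : ℕ := nat_lit 0x200000000000000000000000000
noncomputable def cqc5Q (u : ℕ) : ℕ := Nat.land (Nat.shiftRight cqc5Qd (Nat.mul u (nat_lit 1))) (nat_lit 1)
noncomputable def cqc5 : Lev := ⟨2, 3, cqc5D, cqc5P, cqc5Q⟩
noncomputable def cqtn2Fd : ℕ := nat_lit 0
noncomputable def cqtn2F (u : ℕ) : ℕ := Nat.land (Nat.shiftRight cqtn2Fd (Nat.mul u (nat_lit 1))) (nat_lit 1)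
noncomputable def cqtn2 : Nd := ⟨cqtn2F, (nat_lit 3), (nat_lit 3), [], [((nat_lit 0), [])], []⟩
noncomputable def cqc4Dd : ℕ := nat_lit 0xc
noncomputable def cqc4D (u : ℕ) : ℕ := Nat.land (Nat.shiftRight cqc4Dd (Nat.mul u (nat_lit 2))) (nat_lit 3)
noncomputable def cqc4Pd : ℕ := nat_lit 0x2c02
noncomputable def cqc4P (u : ℕ) : ℕ := Nat.land (Nat.shiftRight cqc4Pd (Nat.mul u (nat_lit 7))) (nat_lit 127)
noncomputable def cqc4Qd : ℕ := nat_lit 0x10000000000000000000000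
noncomputable def cqc4Q (u : ℕ) : ℕ := Nat.land (Nat.shiftRight cqc4Qd (Nat.mul u (nat_lit 1))) (nat_lit 1)
noncomputable def cqc4 : Lev := ⟨2, 4, cqc4D, cqc4P, cqc4Q⟩
noncomputable def cqtn3Fd : ℕ := nat_lit 0
noncomputable def cqtn3F (u : ℕ) : ℕ := Nat.land (Nat.shiftRight cqtn3Fd (Nat.mul u (nat_lit 1))) (nat_lit 1)
noncomputable def cqtn3 : Nd := ⟨cqtn3F, (nat_lit 4), (nat_lit 4), [], [((nat_lit 0), [])], []⟩
noncomputable def cqc3Dd : ℕ := nat_lit 0x20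
noncomputable def cqc3D (u : ℕ) : ℕ := Nat.land (Nat.shiftRight cqc3Dd (Nat.mul u (nat_lit 3))) (nat_lit 7)
noncomputable def cqc3Pd : ℕ := nat_lit 0x2181
noncomputable def cqc3P (u : ℕ) : ℕ := Nat.land (Nat.shiftRight cqc3Pd (Nat.mul u (nat_lit 7))) (nat_lit 127)
noncomputable def cqc3Qd : ℕ := nat_lit 0x80000000000000000
noncomputable def cqc3Q (u : ℕ) : ℕ := Nat.land (Nat.shiftRight cqc3Qd (Nat.mul u (nat_lit 1))) (nat_lit 1)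
noncomputable def cqc3 : Lev := ⟨2, 5, cqc3D, cqc3P, cqc3Q⟩
noncomputable def cqtn4Fd : ℕ := nat_lit 0x91661100
noncomputable def cqtn4F (u : ℕ) : ℕ := Nat.land (Nat.shiftRight cqtn4Fd (Nat.mul u (nat_lit 4))) (nat_lit 15)
noncomputable def cqtn4 : Nd := ⟨cqtn4F, (nat_lit 5), (nat_lit 5), [[nat_lit 0],
  [nat_lit 1]], [((nat_lit 0), [])], []⟩
noncomputable def cqc2Dd : ℕ := nat_lit 0x28
noncomputable def cqc2D (u : ℕ) : ℕ := Nat.land (Nat.shiftRight cqc2Dd (Nat.mul u (nat_lit 3))) (nat_lit 7)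
noncomputable def cqc2Pd : ℕ := nat_lit 0x331e
noncomputable def cqc2P (u : ℕ) : ℕ := Nat.land (Nat.shiftRight cqc2Pd (Nat.mul u (nat_lit 7))) (nat_lit 127)
noncomputable def cqc2Qd : ℕ := nat_lit 0x40000000000000000000000000
noncomputable def cqc2Q (u : ℕ) : ℕ := Nat.land (Nat.shiftRight cqc2Qd (Nat.mul u (nat_lit 1))) (nat_lit 1)
noncomputable def cqc2 : Lev := ⟨2, 6, cqc2D, cqc2P, cqc2Q⟩
noncomputable def cqtn5Fd : ℕ := nat_lit 0xb100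
noncomputable def cqtn5F (u : ℕ) : ℕ := Nat.land (Nat.shiftRight cqtn5Fd (Nat.mul u (nat_lit 4))) (nat_lit 15)
noncomputable def cqtn5 : Nd := ⟨cqtn5F, (nat_lit 6), (nat_lit 6), [[nat_lit 0]], [((nat_lit 0), [])], []⟩
noncomputable def cqc1Dd : ℕ := nat_lit 0x30
noncomputable def cqc1D (u : ℕ) : ℕ := Nat.land (Nat.shiftRight cqc1Dd (Nat.mul u (nat_lit 3))) (nat_lit 7)
noncomputable def cqc1Pd : ℕ := nat_lit 0x2783
noncomputable def cqc1P (u : ℕ) : ℕ := Nat.land (Nat.shiftRight cqc1Pd (Nat.mul u (nat_lit 7))) (nat_lit 127)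
noncomputable def cqc1Qd : ℕ := nat_lit 0x80000000000000000000
noncomputable def cqc1Q (u : ℕ) : ℕ := Nat.land (Nat.shiftRight cqc1Qd (Nat.mul u (nat_lit 1))) (nat_lit 1)
noncomputable def cqc1 : Lev := ⟨2, 7, cqc1D, cqc1P, cqc1Q⟩
noncomputable def cqtn6Fd : ℕ := nat_lit 0x81c7781781111718c118b11b811100
noncomputable def cqtn6F (u : ℕ) : ℕ := Nat.land (Nat.shiftRight cqtn6Fd (Nat.mul u (nat_lit 4))) (nat_lit 15)
noncomputable def cqtn6 : Nd := ⟨cqtn6F, (nat_lit 7), (nat_lit 7), [[nat_lit 0],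
  [nat_lit 5],
  [nat_lit 2]], [((nat_lit 0), [])], []⟩
noncomputable def cqc0Dd : ℕ := nat_lit 0x38
noncomputable def cqc0D (u : ℕ) : ℕ := Nat.land (Nat.shiftRight cqc0Dd (Nat.mul u (nat_lit 3))) (nat_lit 7)
noncomputable def cqc0Pd : ℕ := nat_lit 0x3e0
noncomputable def cqc0P (u : ℕ) : ℕ := Nat.land (Nat.shiftRight cqc0Pd (Nat.mul u (nat_lit 5))) (nat_lit 31)
noncomputable def cqc0Qd : ℕ := nat_lit 0x80000000
noncomputable def cqc0Q (u : ℕ) : ℕ := Nat.land (Nat.shiftRight cqc0Qd (Nat.mul u (nat_lit 1))) (nat_lit 1)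
noncomputable def cqc0 : Lev := ⟨2, 8, cqc0D, cqc0P, cqc0Q⟩
noncomputable def cqtn7Fd : ℕ := nat_lit 0x881a11c19d9998d89ad99119111c99111c118911111111119991b18a818999a118c1111111119aa1aa181191109e19119a1aa118111aa991111a8110
noncomputable def cqtn7F (u : ℕ) : ℕ := Nat.land (Nat.shiftRight cqtn7Fd (Nat.mul u (nat_lit 4))) (nat_lit 15)
noncomputable def cqtn7 : Nd := ⟨cqtn7F, (nat_lit 8), (nat_lit 8), [[nat_lit 1],
  [nat_lit 3],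
  [nat_lit 0],
  [nat_lit 7, nat_lit 2]], [((nat_lit 0), [])], []⟩
noncomputable def κb : List ℕ → ℕ := H15.CS.key (H1.Am.tot HB.P 9) 120 HB.B
noncomputable def Bw : List ℕ := [nat_lit 2, nat_lit 2]
noncomputable def Tw : List ℕ := [nat_lit 0, nat_lit 3, nat_lit 1, nat_lit 7, nat_lit 3, nat_lit 7]
noncomputable def Ww : List ℕ := [nat_lit 0, nat_lit 1, nat_lit 3, nat_lit 7, nat_lit 3, nat_lit 7]
noncomputable def Rw : List ℕ := [nat_lit 0, nat_lit 1]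
noncomputable def Jw : List ℕ := [nat_lit 3]
noncomputable def X1 : List ℕ := [nat_lit 0, nat_lit 5, nat_lit 5, nat_lit 7, nat_lit 6, nat_lit 6, nat_lit 8, nat_lit 5, nat_lit 5, nat_lit 7, nat_lit 5, nat_lit 8]
noncomputable def X2 : List ℕ := [nat_lit 5, nat_lit 1, nat_lit 7, nat_lit 6, nat_lit 7]
noncomputable def X3 : List ℕ := [nat_lit 2, nat_lit 2, nat_lit 7]
noncomputable def Rx : List ℕ := [nat_lit 11, nat_lit 6, nat_lit 17, nat_lit 4, nat_lit 11, nat_lit 16, nat_lit 10, nat_lit 0, nat_lit 6, nat_lit 11]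
noncomputable def Rc : List ℕ := [nat_lit 15, nat_lit 17, nat_lit 15, nat_lit 22, nat_lit 15, nat_lit 2, nat_lit 17, nat_lit 10, nat_lit 12]
noncomputable def X2x : List ℕ := [nat_lit 21, nat_lit 21, nat_lit 17, nat_lit 14, nat_lit 3, nat_lit 13, nat_lit 4, nat_lit 11, nat_lit 16]
noncomputable def X2c : List ℕ := [nat_lit 1, nat_lit 20, nat_lit 3, nat_lit 9, nat_lit 10, nat_lit 22, nat_lit 12]
noncomputable def X3x : List ℕ := [nat_lit 7, nat_lit 8, nat_lit 11, nat_lit 8, nat_lit 11, nat_lit 9, nat_lit 11, nat_lit 9]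
noncomputable def X3c : List ℕ := [nat_lit 16, nat_lit 14, nat_lit 6, nat_lit 20, nat_lit 1, nat_lit 11, nat_lit 16]
noncomputable def X1p : List ℕ := [nat_lit 1, nat_lit 6, nat_lit 6, nat_lit 7, nat_lit 5, nat_lit 5, nat_lit 8, nat_lit 6, nat_lit 6, nat_lit 7, nat_lit 6, nat_lit 8]
noncomputable def X1c : List ℕ := [nat_lit 1, nat_lit 6, nat_lit 1, nat_lit 7, nat_lit 6]
noncomputable def P0 : List ℕ := [nat_lit 0, nat_lit 8, nat_lit 0, nat_lit 8]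
noncomputable def P0c : List ℕ := [nat_lit 6, nat_lit 7, nat_lit 8, nat_lit 5, nat_lit 8, nat_lit 6, nat_lit 6, nat_lit 8, nat_lit 4]
noncomputable def Th : List ℕ := [nat_lit 8, nat_lit 3, nat_lit 8]
noncomputable def Zc : List ℕ := [nat_lit 8, nat_lit 6, nat_lit 4]
noncomputable def Zw : List ℕ := [nat_lit 3, nat_lit 7, nat_lit 3, nat_lit 7, nat_lit 2]
noncomputable def Zx : List ℕ := [nat_lit 6, nat_lit 10, nat_lit 0, nat_lit 15, nat_lit 17, nat_lit 12, nat_lit 9, nat_lit 1, nat_lit 11, nat_lit 8]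
noncomputable def Zz : List ℕ := [nat_lit 22, nat_lit 3, nat_lit 9, nat_lit 14, nat_lit 11, nat_lit 17, nat_lit 0, nat_lit 7]
noncomputable def Uc : List ℕ := [nat_lit 8, nat_lit 6, nat_lit 1, nat_lit 8, nat_lit 6, nat_lit 6]
noncomputable def Uw : List ℕ := [nat_lit 0, nat_lit 3]
noncomputable def Ux : List ℕ := [nat_lit 9, nat_lit 10, nat_lit 11, nat_lit 9, nat_lit 9, nat_lit 11, nat_lit 8, nat_lit 8, nat_lit 11, nat_lit 9, nat_lit 11]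
noncomputable def Uu : List ℕ := [nat_lit 1, nat_lit 15, nat_lit 16, nat_lit 6, nat_lit 12, nat_lit 10, nat_lit 17, nat_lit 13]
noncomputable def Vw : List ℕ := [nat_lit 0, nat_lit 1]
noncomputable def Vx : List ℕ := [nat_lit 14, nat_lit 20, nat_lit 17, nat_lit 15, nat_lit 15, nat_lit 13, nat_lit 3, nat_lit 5, nat_lit 11, nat_lit 8, nat_lit 16]
noncomputable def Vb : List ℕ := [nat_lit 4, nat_lit 20, nat_lit 22, nat_lit 17, nat_lit 15, nat_lit 12, nat_lit 11, nat_lit 2]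
noncomputable def L256 : List (List ℕ) := [[nat_lit 0, nat_lit 1, nat_lit 3],
  [nat_lit 4, nat_lit 8, nat_lit 3, nat_lit 8],
  [nat_lit 3, nat_lit 7, nat_lit 5, nat_lit 2, nat_lit 6, nat_lit 7],
  [nat_lit 0, nat_lit 7, nat_lit 3, nat_lit 8, nat_lit 2, nat_lit 7, nat_lit 3, nat_lit 8],
  [nat_lit 1, nat_lit 8, nat_lit 0, nat_lit 8],
  [nat_lit 3, nat_lit 8, nat_lit 3, nat_lit 4, nat_lit 8],
  [nat_lit 2, nat_lit 7, nat_lit 3, nat_lit 7],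
  [nat_lit 7, nat_lit 8, nat_lit 3, nat_lit 7, nat_lit 2, nat_lit 8],
  [nat_lit 3, nat_lit 6, nat_lit 1, nat_lit 5],
  [nat_lit 2, nat_lit 8, nat_lit 3, nat_lit 8],
  [nat_lit 3, nat_lit 7, nat_lit 3, nat_lit 4, nat_lit 7],
  [nat_lit 0, nat_lit 3, nat_lit 7, nat_lit 8, nat_lit 3, nat_lit 7, nat_lit 8],
  [nat_lit 1, nat_lit 8, nat_lit 2, nat_lit 8],
  [nat_lit 1, nat_lit 6, nat_lit 8, nat_lit 3, nat_lit 8, nat_lit 5],
  [nat_lit 4, nat_lit 7, nat_lit 3, nat_lit 7],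
  [nat_lit 7, nat_lit 8, nat_lit 0, nat_lit 3, nat_lit 7, nat_lit 8],
  [nat_lit 2],
  [nat_lit 3, nat_lit 8, nat_lit 5, nat_lit 4, nat_lit 6, nat_lit 8],
  [nat_lit 2, nat_lit 7, nat_lit 2, nat_lit 3, nat_lit 7],
  [nat_lit 1, nat_lit 4, nat_lit 7, nat_lit 8, nat_lit 3, nat_lit 7, nat_lit 8],
  [nat_lit 1, nat_lit 5, nat_lit 4, nat_lit 6],
  [nat_lit 1, nat_lit 8, nat_lit 2, nat_lit 3, nat_lit 8],
  [nat_lit 0, nat_lit 1, nat_lit 3, nat_lit 7, nat_lit 3, nat_lit 7],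
  [nat_lit 4, nat_lit 7, nat_lit 3, nat_lit 7, nat_lit 8, nat_lit 3, nat_lit 8],
  [nat_lit 4],
  [nat_lit 5, nat_lit 8, nat_lit 3, nat_lit 8, nat_lit 6],
  [nat_lit 4, nat_lit 7, nat_lit 2, nat_lit 3, nat_lit 7],
  [nat_lit 1, nat_lit 2, nat_lit 7, nat_lit 8, nat_lit 3, nat_lit 7, nat_lit 8],
  [nat_lit 3, nat_lit 7, nat_lit 4, nat_lit 7],
  [nat_lit 1, nat_lit 8, nat_lit 0, nat_lit 3, nat_lit 8],
  [nat_lit 3, nat_lit 7, nat_lit 2, nat_lit 3, nat_lit 4, nat_lit 7],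
  [nat_lit 2, nat_lit 7, nat_lit 3, nat_lit 7, nat_lit 8, nat_lit 3, nat_lit 8],
  [nat_lit 2, nat_lit 3],
  [nat_lit 8, nat_lit 5, nat_lit 4, nat_lit 6, nat_lit 8],
  [nat_lit 2, nat_lit 3, nat_lit 7, nat_lit 2, nat_lit 3, nat_lit 7],
  [nat_lit 7, nat_lit 3, nat_lit 4, nat_lit 7, nat_lit 8, nat_lit 3, nat_lit 8],
  [nat_lit 5, nat_lit 0, nat_lit 6],
  [nat_lit 1, nat_lit 3, nat_lit 8, nat_lit 2, nat_lit 3, nat_lit 8],
  [nat_lit 0, nat_lit 1, nat_lit 7, nat_lit 3, nat_lit 7],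
  [nat_lit 1, nat_lit 7, nat_lit 4, nat_lit 8, nat_lit 3, nat_lit 7, nat_lit 8],
  [nat_lit 3, nat_lit 4],
  [nat_lit 0, nat_lit 1, nat_lit 8, nat_lit 3, nat_lit 8],
  [nat_lit 3, nat_lit 4, nat_lit 7, nat_lit 2, nat_lit 3, nat_lit 7],
  [nat_lit 1, nat_lit 2, nat_lit 3, nat_lit 7, nat_lit 8, nat_lit 3, nat_lit 7, nat_lit 8],
  [nat_lit 7, nat_lit 4, nat_lit 7],
  [nat_lit 1, nat_lit 3, nat_lit 8, nat_lit 0, nat_lit 3, nat_lit 8],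
  [nat_lit 7, nat_lit 2, nat_lit 3, nat_lit 4, nat_lit 7],
  [nat_lit 0, nat_lit 7, nat_lit 2, nat_lit 8, nat_lit 3, nat_lit 7, nat_lit 8],
  [nat_lit 0, nat_lit 1],
  [nat_lit 3, nat_lit 4, nat_lit 8, nat_lit 3, nat_lit 8],
  [nat_lit 7, nat_lit 5, nat_lit 2, nat_lit 6, nat_lit 7],
  [nat_lit 5, nat_lit 7, nat_lit 8, nat_lit 3, nat_lit 7, nat_lit 8, nat_lit 6],
  [nat_lit 0, nat_lit 6, nat_lit 2, nat_lit 5],
  [nat_lit 8, nat_lit 3, nat_lit 4, nat_lit 8],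
  [nat_lit 2, nat_lit 3, nat_lit 7, nat_lit 3, nat_lit 7],
  [nat_lit 3, nat_lit 7, nat_lit 8, nat_lit 3, nat_lit 7, nat_lit 2, nat_lit 8],
  [nat_lit 6, nat_lit 1, nat_lit 5],
  [nat_lit 2, nat_lit 3, nat_lit 8, nat_lit 3, nat_lit 8],
  [nat_lit 7, nat_lit 3, nat_lit 4, nat_lit 7],
  [nat_lit 0, nat_lit 7, nat_lit 8, nat_lit 3, nat_lit 7, nat_lit 8],
  [nat_lit 6, nat_lit 0, nat_lit 5],
  [nat_lit 0, nat_lit 2, nat_lit 8, nat_lit 0, nat_lit 3, nat_lit 8],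
  [nat_lit 3, nat_lit 4, nat_lit 7, nat_lit 3, nat_lit 7],
  [nat_lit 3, nat_lit 7, nat_lit 8, nat_lit 0, nat_lit 3, nat_lit 7, nat_lit 8],
  [nat_lit 3],
  [nat_lit 0, nat_lit 1, nat_lit 4, nat_lit 8, nat_lit 3, nat_lit 8],
  [nat_lit 3, nat_lit 7, nat_lit 2, nat_lit 3, nat_lit 7],
  [nat_lit 0, nat_lit 7, nat_lit 3, nat_lit 7, nat_lit 8, nat_lit 2, nat_lit 3, nat_lit 8],
  [nat_lit 0, nat_lit 8, nat_lit 0, nat_lit 8],
  [nat_lit 0, nat_lit 1, nat_lit 3, nat_lit 8, nat_lit 3, nat_lit 4, nat_lit 8],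
  [nat_lit 0, nat_lit 1, nat_lit 2, nat_lit 7, nat_lit 3, nat_lit 7],
  [nat_lit 7, nat_lit 8, nat_lit 2, nat_lit 3, nat_lit 7, nat_lit 8],
  [nat_lit 2, nat_lit 3, nat_lit 4],
  [nat_lit 0, nat_lit 1, nat_lit 2, nat_lit 8, nat_lit 3, nat_lit 8],
  [nat_lit 0, nat_lit 1, nat_lit 3, nat_lit 7, nat_lit 3, nat_lit 4, nat_lit 7],
  [nat_lit 1, nat_lit 3, nat_lit 7, nat_lit 8, nat_lit 3, nat_lit 7, nat_lit 8],
  [nat_lit 0, nat_lit 8, nat_lit 2, nat_lit 8],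
  [nat_lit 0, nat_lit 6, nat_lit 8, nat_lit 3, nat_lit 8, nat_lit 5],
  [nat_lit 0, nat_lit 1, nat_lit 4, nat_lit 7, nat_lit 3, nat_lit 7],
  [nat_lit 3, nat_lit 7, nat_lit 3, nat_lit 7, nat_lit 8, nat_lit 3, nat_lit 8],
  [nat_lit 0, nat_lit 1, nat_lit 2],
  [nat_lit 2, nat_lit 3, nat_lit 4, nat_lit 8, nat_lit 3, nat_lit 8],
  [nat_lit 4, nat_lit 7, nat_lit 3, nat_lit 4, nat_lit 7],
  [nat_lit 0, nat_lit 4, nat_lit 7, nat_lit 8, nat_lit 3, nat_lit 7, nat_lit 8],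
  [nat_lit 0, nat_lit 5, nat_lit 4, nat_lit 6],
  [nat_lit 0, nat_lit 8, nat_lit 2, nat_lit 3, nat_lit 8],
  [nat_lit 3, nat_lit 7, nat_lit 3, nat_lit 7],
  [nat_lit 0, nat_lit 3, nat_lit 7, nat_lit 4, nat_lit 8, nat_lit 3, nat_lit 7, nat_lit 8],
  [nat_lit 0, nat_lit 1, nat_lit 4],
  [nat_lit 3, nat_lit 8, nat_lit 3, nat_lit 8],
  [nat_lit 2, nat_lit 7, nat_lit 3, nat_lit 4, nat_lit 7],
  [nat_lit 0, nat_lit 2, nat_lit 7, nat_lit 8, nat_lit 3, nat_lit 7, nat_lit 8],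
  [nat_lit 2, nat_lit 6, nat_lit 0, nat_lit 5],
  [nat_lit 0, nat_lit 8, nat_lit 0, nat_lit 3, nat_lit 8],
  [nat_lit 2, nat_lit 3, nat_lit 4, nat_lit 7, nat_lit 3, nat_lit 7],
  [nat_lit 1, nat_lit 3, nat_lit 7, nat_lit 2, nat_lit 8, nat_lit 3, nat_lit 7, nat_lit 8],
  [nat_lit 5, nat_lit 2, nat_lit 6],
  [nat_lit 2, nat_lit 4, nat_lit 8, nat_lit 3, nat_lit 8],
  [nat_lit 3, nat_lit 4, nat_lit 7, nat_lit 3, nat_lit 4, nat_lit 7],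
  [nat_lit 0, nat_lit 3, nat_lit 4, nat_lit 7, nat_lit 8, nat_lit 3, nat_lit 7, nat_lit 8],
  [nat_lit 7, nat_lit 2, nat_lit 7],
  [nat_lit 0, nat_lit 3, nat_lit 8, nat_lit 2, nat_lit 3, nat_lit 8],
  [nat_lit 7, nat_lit 3, nat_lit 7],
  [nat_lit 0, nat_lit 7, nat_lit 4, nat_lit 8, nat_lit 3, nat_lit 7, nat_lit 8],
  [nat_lit 0, nat_lit 1, nat_lit 3, nat_lit 4],
  [nat_lit 8, nat_lit 3, nat_lit 8],
  [nat_lit 2, nat_lit 3, nat_lit 7, nat_lit 3, nat_lit 4, nat_lit 7],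
  [nat_lit 7, nat_lit 2, nat_lit 3, nat_lit 7, nat_lit 8, nat_lit 3, nat_lit 8],
  [nat_lit 0, nat_lit 1, nat_lit 7, nat_lit 4, nat_lit 7],
  [nat_lit 0, nat_lit 3, nat_lit 8, nat_lit 0, nat_lit 3, nat_lit 8],
  [nat_lit 2, nat_lit 4, nat_lit 7, nat_lit 3, nat_lit 7],
  [nat_lit 1, nat_lit 7, nat_lit 2, nat_lit 8, nat_lit 3, nat_lit 7, nat_lit 8],
  [],
  [nat_lit 4, nat_lit 5, nat_lit 8, nat_lit 3, nat_lit 8, nat_lit 6],
  [nat_lit 7, nat_lit 2, nat_lit 3, nat_lit 7],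
  [nat_lit 0, nat_lit 7, nat_lit 2, nat_lit 4, nat_lit 8, nat_lit 3, nat_lit 7, nat_lit 8],
  [nat_lit 1, nat_lit 6, nat_lit 2, nat_lit 5],
  [nat_lit 0, nat_lit 1, nat_lit 8, nat_lit 3, nat_lit 4, nat_lit 8],
  [nat_lit 5, nat_lit 2, nat_lit 6, nat_lit 7, nat_lit 3, nat_lit 7],
  [nat_lit 3, nat_lit 7, nat_lit 8, nat_lit 2, nat_lit 3, nat_lit 7, nat_lit 8],
  [nat_lit 2, nat_lit 4],
  [nat_lit 2, nat_lit 5, nat_lit 8, nat_lit 3, nat_lit 8, nat_lit 6],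
  [nat_lit 0, nat_lit 1, nat_lit 7, nat_lit 3, nat_lit 4, nat_lit 7],
  [nat_lit 1, nat_lit 7, nat_lit 8, nat_lit 3, nat_lit 7, nat_lit 8],
  [nat_lit 5, nat_lit 0, nat_lit 3, nat_lit 6],
  [nat_lit 1, nat_lit 2, nat_lit 8, nat_lit 0, nat_lit 3, nat_lit 8],
  [nat_lit 0, nat_lit 1, nat_lit 3, nat_lit 4, nat_lit 7, nat_lit 3, nat_lit 7],
  [nat_lit 7, nat_lit 3, nat_lit 7, nat_lit 8, nat_lit 3, nat_lit 8],
  [nat_lit 1, nat_lit 3],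
  [nat_lit 0, nat_lit 4, nat_lit 8, nat_lit 3, nat_lit 8],
  [nat_lit 1, nat_lit 3, nat_lit 7, nat_lit 2, nat_lit 3, nat_lit 7],
  [nat_lit 7, nat_lit 3, nat_lit 8, nat_lit 2, nat_lit 7, nat_lit 3, nat_lit 8],
  [nat_lit 3, nat_lit 6, nat_lit 2, nat_lit 5],
  [nat_lit 0, nat_lit 3, nat_lit 8, nat_lit 3, nat_lit 4, nat_lit 8],
  [nat_lit 0, nat_lit 2, nat_lit 7, nat_lit 3, nat_lit 7],
  [nat_lit 0, nat_lit 7, nat_lit 8, nat_lit 3, nat_lit 7, nat_lit 2, nat_lit 8],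
  [nat_lit 1, nat_lit 2, nat_lit 3, nat_lit 4],
  [nat_lit 0, nat_lit 2, nat_lit 8, nat_lit 3, nat_lit 8],
  [nat_lit 0, nat_lit 3, nat_lit 7, nat_lit 3, nat_lit 4, nat_lit 7],
  [nat_lit 3, nat_lit 7, nat_lit 8, nat_lit 3, nat_lit 7, nat_lit 8],
  [nat_lit 5, nat_lit 3, nat_lit 4, nat_lit 6],
  [nat_lit 2, nat_lit 3, nat_lit 8, nat_lit 0, nat_lit 3, nat_lit 8],
  [nat_lit 0, nat_lit 4, nat_lit 7, nat_lit 3, nat_lit 7],
  [nat_lit 0, nat_lit 7, nat_lit 8, nat_lit 0, nat_lit 3, nat_lit 7, nat_lit 8],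
  [nat_lit 0, nat_lit 2],
  [nat_lit 3, nat_lit 8, nat_lit 5, nat_lit 2, nat_lit 6, nat_lit 8],
  [nat_lit 7, nat_lit 6, nat_lit 2, nat_lit 5, nat_lit 7],
  [nat_lit 0, nat_lit 1, nat_lit 4, nat_lit 7, nat_lit 8, nat_lit 3, nat_lit 7, nat_lit 8],
  [nat_lit 0, nat_lit 1, nat_lit 5, nat_lit 4, nat_lit 6],
  [nat_lit 0, nat_lit 1, nat_lit 8, nat_lit 2, nat_lit 3, nat_lit 8],
  [nat_lit 1, nat_lit 3, nat_lit 7, nat_lit 3, nat_lit 7],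
  [nat_lit 0, nat_lit 4, nat_lit 7, nat_lit 3, nat_lit 7, nat_lit 8, nat_lit 3, nat_lit 8],
  [nat_lit 0, nat_lit 4],
  [nat_lit 1, nat_lit 3, nat_lit 8, nat_lit 3, nat_lit 8],
  [nat_lit 0, nat_lit 4, nat_lit 7, nat_lit 2, nat_lit 3, nat_lit 7],
  [nat_lit 0, nat_lit 1, nat_lit 2, nat_lit 7, nat_lit 8, nat_lit 3, nat_lit 7, nat_lit 8],
  [nat_lit 6, nat_lit 0, nat_lit 3, nat_lit 5],
  [nat_lit 8, nat_lit 6, nat_lit 2, nat_lit 5, nat_lit 8],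
  [nat_lit 5, nat_lit 4, nat_lit 7, nat_lit 3, nat_lit 7, nat_lit 6],
  [nat_lit 3, nat_lit 7, nat_lit 2, nat_lit 8, nat_lit 3, nat_lit 7, nat_lit 8],
  [nat_lit 0, nat_lit 2, nat_lit 3],
  [nat_lit 8, nat_lit 5, nat_lit 2, nat_lit 6, nat_lit 8],
  [nat_lit 3, nat_lit 7, nat_lit 6, nat_lit 2, nat_lit 5, nat_lit 7],
  [nat_lit 6, nat_lit 7, nat_lit 8, nat_lit 3, nat_lit 7, nat_lit 8, nat_lit 5],
  [nat_lit 0, nat_lit 5, nat_lit 0, nat_lit 6],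
  [nat_lit 4, nat_lit 6, nat_lit 8, nat_lit 3, nat_lit 8, nat_lit 5],
  [nat_lit 1, nat_lit 7, nat_lit 3, nat_lit 7],
  [nat_lit 0, nat_lit 1, nat_lit 7, nat_lit 4, nat_lit 8, nat_lit 3, nat_lit 7, nat_lit 8],
  [nat_lit 0, nat_lit 3, nat_lit 4],
  [nat_lit 1, nat_lit 8, nat_lit 3, nat_lit 8],
  [nat_lit 0, nat_lit 3, nat_lit 4, nat_lit 7, nat_lit 2, nat_lit 3, nat_lit 7],
  [nat_lit 1, nat_lit 7, nat_lit 2, nat_lit 3, nat_lit 7, nat_lit 8, nat_lit 3, nat_lit 8],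
  [nat_lit 0, nat_lit 7, nat_lit 4, nat_lit 7],
  [nat_lit 2, nat_lit 6, nat_lit 8, nat_lit 3, nat_lit 8, nat_lit 5],
  [nat_lit 0, nat_lit 7, nat_lit 2, nat_lit 3, nat_lit 4, nat_lit 7],
  [nat_lit 7, nat_lit 2, nat_lit 8, nat_lit 3, nat_lit 7, nat_lit 8],
  [nat_lit 1],
  [nat_lit 0, nat_lit 3, nat_lit 4, nat_lit 8, nat_lit 3, nat_lit 8],
  [nat_lit 1, nat_lit 7, nat_lit 2, nat_lit 3, nat_lit 7],
  [nat_lit 2, nat_lit 4, nat_lit 7, nat_lit 8, nat_lit 3, nat_lit 7, nat_lit 8],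
  [nat_lit 6, nat_lit 2, nat_lit 5],
  [nat_lit 0, nat_lit 8, nat_lit 3, nat_lit 4, nat_lit 8],
  [nat_lit 0, nat_lit 2, nat_lit 3, nat_lit 7, nat_lit 3, nat_lit 7],
  [nat_lit 0, nat_lit 3, nat_lit 7, nat_lit 8, nat_lit 3, nat_lit 7, nat_lit 2, nat_lit 8],
  [nat_lit 1, nat_lit 2, nat_lit 4],
  [nat_lit 0, nat_lit 2, nat_lit 3, nat_lit 8, nat_lit 3, nat_lit 8],
  [nat_lit 0, nat_lit 7, nat_lit 3, nat_lit 4, nat_lit 7],
  [nat_lit 7, nat_lit 8, nat_lit 3, nat_lit 7, nat_lit 8],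
  [nat_lit 0, nat_lit 6, nat_lit 0, nat_lit 5],
  [nat_lit 2, nat_lit 8, nat_lit 0, nat_lit 3, nat_lit 8],
  [nat_lit 0, nat_lit 3, nat_lit 4, nat_lit 7, nat_lit 3, nat_lit 7],
  [nat_lit 1, nat_lit 7, nat_lit 3, nat_lit 7, nat_lit 8, nat_lit 3, nat_lit 8],
  [nat_lit 0, nat_lit 3],
  [nat_lit 1, nat_lit 4, nat_lit 8, nat_lit 3, nat_lit 8],
  [nat_lit 0, nat_lit 3, nat_lit 7, nat_lit 2, nat_lit 3, nat_lit 7],
  [nat_lit 7, nat_lit 3, nat_lit 7, nat_lit 8, nat_lit 2, nat_lit 3, nat_lit 8],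
  [nat_lit 8, nat_lit 0, nat_lit 8],
  [nat_lit 1, nat_lit 3, nat_lit 8, nat_lit 3, nat_lit 4, nat_lit 8],
  [nat_lit 1, nat_lit 2, nat_lit 7, nat_lit 3, nat_lit 7],
  [nat_lit 0, nat_lit 7, nat_lit 8, nat_lit 2, nat_lit 3, nat_lit 7, nat_lit 8],
  [nat_lit 0, nat_lit 2, nat_lit 3, nat_lit 4],
  [nat_lit 1, nat_lit 2, nat_lit 8, nat_lit 3, nat_lit 8],
  [nat_lit 1, nat_lit 3, nat_lit 7, nat_lit 3, nat_lit 4, nat_lit 7],
  [nat_lit 7, nat_lit 3, nat_lit 7, nat_lit 8, nat_lit 0, nat_lit 3, nat_lit 8],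
  [nat_lit 8, nat_lit 2, nat_lit 8],
  [nat_lit 6, nat_lit 8, nat_lit 3, nat_lit 8, nat_lit 5],
  [nat_lit 1, nat_lit 4, nat_lit 7, nat_lit 3, nat_lit 7],
  [nat_lit 1, nat_lit 7, nat_lit 8, nat_lit 0, nat_lit 3, nat_lit 7, nat_lit 8],
  [nat_lit 1, nat_lit 2],
  [nat_lit 0, nat_lit 2, nat_lit 3, nat_lit 4, nat_lit 8, nat_lit 3, nat_lit 8],
  [nat_lit 0, nat_lit 4, nat_lit 7, nat_lit 3, nat_lit 4, nat_lit 7],
  [nat_lit 4, nat_lit 7, nat_lit 8, nat_lit 3, nat_lit 7, nat_lit 8],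
  [nat_lit 5, nat_lit 4, nat_lit 6],
  [nat_lit 8, nat_lit 2, nat_lit 3, nat_lit 8],
  [nat_lit 0, nat_lit 3, nat_lit 7, nat_lit 3, nat_lit 7],
  [nat_lit 3, nat_lit 7, nat_lit 4, nat_lit 8, nat_lit 3, nat_lit 7, nat_lit 8],
  [nat_lit 1, nat_lit 4],
  [nat_lit 0, nat_lit 3, nat_lit 8, nat_lit 3, nat_lit 8],
  [nat_lit 0, nat_lit 2, nat_lit 7, nat_lit 3, nat_lit 4, nat_lit 7],
  [nat_lit 2, nat_lit 7, nat_lit 8, nat_lit 3, nat_lit 7, nat_lit 8],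
  [nat_lit 4, nat_lit 6, nat_lit 2, nat_lit 5],
  [nat_lit 8, nat_lit 0, nat_lit 3, nat_lit 8],
  [nat_lit 0, nat_lit 2, nat_lit 3, nat_lit 4, nat_lit 7, nat_lit 3, nat_lit 7],
  [nat_lit 1, nat_lit 2, nat_lit 7, nat_lit 3, nat_lit 7, nat_lit 8, nat_lit 3, nat_lit 8],
  [nat_lit 1, nat_lit 2, nat_lit 3],
  [nat_lit 0, nat_lit 2, nat_lit 4, nat_lit 8, nat_lit 3, nat_lit 8],
  [nat_lit 0, nat_lit 3, nat_lit 4, nat_lit 7, nat_lit 3, nat_lit 4, nat_lit 7],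
  [nat_lit 3, nat_lit 4, nat_lit 7, nat_lit 8, nat_lit 3, nat_lit 7, nat_lit 8],
  [nat_lit 0, nat_lit 7, nat_lit 2, nat_lit 7],
  [nat_lit 3, nat_lit 8, nat_lit 2, nat_lit 3, nat_lit 8],
  [nat_lit 0, nat_lit 7, nat_lit 3, nat_lit 7],
  [nat_lit 7, nat_lit 4, nat_lit 8, nat_lit 3, nat_lit 7, nat_lit 8],
  [nat_lit 1, nat_lit 3, nat_lit 4],
  [nat_lit 0, nat_lit 8, nat_lit 3, nat_lit 8],
  [nat_lit 0, nat_lit 2, nat_lit 3, nat_lit 7, nat_lit 3, nat_lit 4, nat_lit 7],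
  [nat_lit 2, nat_lit 3, nat_lit 7, nat_lit 8, nat_lit 3, nat_lit 7, nat_lit 8],
  [nat_lit 1, nat_lit 7, nat_lit 4, nat_lit 7],
  [nat_lit 3, nat_lit 8, nat_lit 0, nat_lit 3, nat_lit 8],
  [nat_lit 0, nat_lit 2, nat_lit 4, nat_lit 7, nat_lit 3, nat_lit 7],
  [nat_lit 0, nat_lit 1, nat_lit 7, nat_lit 2, nat_lit 8, nat_lit 3, nat_lit 7, nat_lit 8],
  [nat_lit 0],
  [nat_lit 1, nat_lit 3, nat_lit 4, nat_lit 8, nat_lit 3, nat_lit 8],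
  [nat_lit 0, nat_lit 7, nat_lit 2, nat_lit 3, nat_lit 7],
  [nat_lit 7, nat_lit 2, nat_lit 4, nat_lit 8, nat_lit 3, nat_lit 7, nat_lit 8],
  [nat_lit 3, nat_lit 8, nat_lit 0, nat_lit 8],
  [nat_lit 1, nat_lit 8, nat_lit 3, nat_lit 4, nat_lit 8],
  [nat_lit 1, nat_lit 2, nat_lit 3, nat_lit 7, nat_lit 3, nat_lit 7],
  [nat_lit 0, nat_lit 3, nat_lit 7, nat_lit 8, nat_lit 2, nat_lit 3, nat_lit 7, nat_lit 8],
  [nat_lit 0, nat_lit 2, nat_lit 4],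
  [nat_lit 1, nat_lit 2, nat_lit 3, nat_lit 8, nat_lit 3, nat_lit 8],
  [nat_lit 1, nat_lit 7, nat_lit 3, nat_lit 4, nat_lit 7],
  [nat_lit 0, nat_lit 1, nat_lit 7, nat_lit 8, nat_lit 3, nat_lit 7, nat_lit 8],
  [nat_lit 1, nat_lit 6, nat_lit 0, nat_lit 5],
  [nat_lit 2, nat_lit 8, nat_lit 6, nat_lit 2, nat_lit 5, nat_lit 8],
  [nat_lit 1, nat_lit 3, nat_lit 4, nat_lit 7, nat_lit 3, nat_lit 7],
  [nat_lit 0, nat_lit 7, nat_lit 3, nat_lit 7, nat_lit 8, nat_lit 3, nat_lit 8]]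
noncomputable def LC1 : List (List ℕ) := [[],
  [],
  [],
  [],
  [],
  [nat_lit 7, nat_lit 6, nat_lit 6, nat_lit 8, nat_lit 6, nat_lit 6, nat_lit 2],
  [],
  [],
  [],
  [],
  [],
  [],
  [],
  [],
  [],
  [],
  [],
  [],
  [],
  [],
  [],
  [],
  [],
  [],
  [],
  [],
  [],
  [nat_lit 4, nat_lit 7, nat_lit 5, nat_lit 8, nat_lit 5, nat_lit 8],
  [],
  [],
  [],
  [],
  [],
  [],
  [],
  [],
  [],
  [],
  [],
  [],
  [],
  [],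
  [],
  [],
  [],
  [],
  [nat_lit 2, nat_lit 7, nat_lit 8, nat_lit 6, nat_lit 8, nat_lit 6, nat_lit 0],
  [],
  [nat_lit 2, nat_lit 6, nat_lit 0, nat_lit 5],
  [],
  [],
  [],
  [],
  [],
  [],
  [],
  [],
  [],
  [],
  [],
  [],
  [],
  [],
  [],
  [],
  [],
  [],
  [],
  [],
  [nat_lit 5, nat_lit 5, nat_lit 8, nat_lit 5, nat_lit 5, nat_lit 4],
  [],
  [],
  [],
  [],
  [],
  [],
  [],
  [],
  [],
  [],
  [],
  [],
  [],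
  [],
  [],
  [],
  [],
  [],
  [],
  [],
  [],
  [nat_lit 5, nat_lit 5, nat_lit 3, nat_lit 7, nat_lit 8, nat_lit 6, nat_lit 7],
  [],
  [],
  [],
  [],
  [],
  [],
  [],
  [],
  [],
  [],
  [],
  [],
  [],
  [],
  [],
  [],
  [],
  [],
  [nat_lit 8, nat_lit 5, nat_lit 5, nat_lit 7, nat_lit 8, nat_lit 6, nat_lit 4],
  [],
  [],
  [],
  [],
  [],
  [],
  [],
  [],
  [],
  [],
  [],
  [],
  [],
  [],
  [],
  [],
  [],
  [nat_lit 7, nat_lit 6, nat_lit 6, nat_lit 8, nat_lit 5, nat_lit 4, nat_lit 7, nat_lit 6],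
  [],
  [],
  [],
  [],
  [],
  [],
  [],
  [],
  [],
  [],
  [],
  [],
  [],
  [],
  [],
  [],
  [],
  [],
  [],
  [],
  [],
  [],
  [],
  [],
  [],
  [],
  [],
  [],
  [],
  [nat_lit 1, nat_lit 5, nat_lit 7, nat_lit 5, nat_lit 8],
  [],
  [],
  [],
  [],
  [],
  [],
  [],
  [],
  [],
  [],
  [],
  [],
  [nat_lit 7, nat_lit 5, nat_lit 7, nat_lit 8, nat_lit 0, nat_lit 6],
  [],
  [],
  [],
  [],
  [],
  [],
  [],
  [],
  [],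
  [nat_lit 3, nat_lit 5, nat_lit 8, nat_lit 2, nat_lit 6, nat_lit 6],
  [],
  [],
  [],
  [],
  [],
  [],
  [],
  [],
  [],
  [],
  [nat_lit 5, nat_lit 8, nat_lit 5, nat_lit 8, nat_lit 3, nat_lit 6, nat_lit 6],
  [],
  [],
  [],
  [],
  [],
  [],
  [],
  [],
  [],
  [],
  [],
  [],
  [],
  [],
  [],
  [],
  [],
  [],
  [],
  [],
  [],
  [],
  [],
  [],
  [],
  [],
  [],
  [],
  [],
  [nat_lit 7, nat_lit 6, nat_lit 6, nat_lit 7, nat_lit 6],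
  [],
  [],
  [],
  [],
  [],
  [],
  [],
  [],
  [],
  [],
  [],
  [],
  [nat_lit 0, nat_lit 5, nat_lit 1, nat_lit 7, nat_lit 8, nat_lit 6, nat_lit 6],
  [],
  [],
  [],
  [],
  [],
  [],
  [],
  [],
  [],
  [nat_lit 6, nat_lit 7, nat_lit 5, nat_lit 5, nat_lit 8, nat_lit 2, nat_lit 5, nat_lit 8],
  [],
  [],
  [],
  [],
  [],
  [],
  [],
  [],
  [],
  []]
noncomputable def trr : List (List ℕ) := [[nat_lit 5, nat_lit 0, nat_lit 3, nat_lit 6],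
  [nat_lit 1, nat_lit 6, nat_lit 2, nat_lit 5],
  [nat_lit 5, nat_lit 7, nat_lit 6, nat_lit 8, nat_lit 5, nat_lit 4, nat_lit 7],
  [nat_lit 8, nat_lit 5, nat_lit 5],
  [nat_lit 7, nat_lit 6, nat_lit 7, nat_lit 6, nat_lit 8, nat_lit 6, nat_lit 8, nat_lit 0],
  [nat_lit 5, nat_lit 7, nat_lit 8, nat_lit 5, nat_lit 7, nat_lit 5, nat_lit 5, nat_lit 8],
  [nat_lit 2, nat_lit 7, nat_lit 5, nat_lit 7, nat_lit 5, nat_lit 5, nat_lit 3, nat_lit 8]]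
noncomputable def trj : List (List ℕ) := [[nat_lit 2, nat_lit 6, nat_lit 0, nat_lit 5],
  [nat_lit 2],
  [nat_lit 7, nat_lit 5, nat_lit 2, nat_lit 7, nat_lit 5],
  [nat_lit 5, nat_lit 1, nat_lit 8, nat_lit 5, nat_lit 7],
  [nat_lit 0, nat_lit 6, nat_lit 8, nat_lit 6, nat_lit 7, nat_lit 6, nat_lit 6, nat_lit 7, nat_lit 8],
  [nat_lit 7, nat_lit 5, nat_lit 5, nat_lit 8, nat_lit 3, nat_lit 6],
  [nat_lit 2, nat_lit 7, nat_lit 5, nat_lit 5, nat_lit 7, nat_lit 6, nat_lit 8]]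
noncomputable def a2 : List (List ℕ) := [[nat_lit 1],
  [nat_lit 6, nat_lit 6, nat_lit 6, nat_lit 7, nat_lit 5, nat_lit 5, nat_lit 8, nat_lit 5],
  [nat_lit 4, nat_lit 8, nat_lit 5]]
noncomputable def Vk : List (List ℕ) := [[nat_lit 7, nat_lit 6, nat_lit 6, nat_lit 6, nat_lit 7, nat_lit 5, nat_lit 3],
  [nat_lit 6, nat_lit 7, nat_lit 6, nat_lit 1, nat_lit 7, nat_lit 6, nat_lit 7],
  [nat_lit 6, nat_lit 7, nat_lit 4, nat_lit 5, nat_lit 7, nat_lit 5, nat_lit 7, nat_lit 2],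
  [nat_lit 0, nat_lit 7, nat_lit 5, nat_lit 2, nat_lit 7, nat_lit 4, nat_lit 5],
  [nat_lit 0, nat_lit 5, nat_lit 7, nat_lit 5, nat_lit 7, nat_lit 5, nat_lit 2, nat_lit 7, nat_lit 6],
  [nat_lit 1, nat_lit 6, nat_lit 6, nat_lit 6, nat_lit 7, nat_lit 6],
  [nat_lit 1, nat_lit 6, nat_lit 6, nat_lit 4, nat_lit 7, nat_lit 6]]
noncomputable def Nw : List (List (List ℕ)) := [[[nat_lit 0],
  [nat_lit 1],
  [nat_lit 2],
  [nat_lit 3],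
  [nat_lit 4],
  [nat_lit 5],
  [nat_lit 6],
  [nat_lit 7]],
  [[nat_lit 0],
  [nat_lit 1],
  [nat_lit 2],
  [nat_lit 3],
  [nat_lit 4],
  [nat_lit 5],
  [nat_lit 6],
  [nat_lit 7]],
  [[nat_lit 0],
  [nat_lit 1],
  [nat_lit 2],
  [nat_lit 3],
  [nat_lit 4],
  [nat_lit 5],
  [nat_lit 6],
  [nat_lit 7]],
  [[nat_lit 0],
  [nat_lit 1],
  [nat_lit 2],
  [nat_lit 3],
  [nat_lit 4],
  [nat_lit 5],
  [nat_lit 6],
  [nat_lit 7]],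
  [[nat_lit 0],
  [nat_lit 1],
  [nat_lit 2],
  [nat_lit 3],
  [nat_lit 4],
  [nat_lit 5],
  [nat_lit 6],
  [nat_lit 7]],
  [[nat_lit 0, nat_lit 2, nat_lit 3, nat_lit 4, nat_lit 5],
  [nat_lit 2, nat_lit 3, nat_lit 4],
  [nat_lit 0, nat_lit 1, nat_lit 2, nat_lit 4],
  [nat_lit 2, nat_lit 4],
  [nat_lit 1, nat_lit 2, nat_lit 3, nat_lit 5],
  [nat_lit 0, nat_lit 1, nat_lit 4, nat_lit 5],
  [nat_lit 0, nat_lit 1, nat_lit 4, nat_lit 5, nat_lit 6],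
  [nat_lit 1, nat_lit 2, nat_lit 3, nat_lit 4, nat_lit 5, nat_lit 7]],
  [[nat_lit 1, nat_lit 4, nat_lit 5],
  [nat_lit 1, nat_lit 2, nat_lit 3, nat_lit 4, nat_lit 5],
  [nat_lit 0, nat_lit 2, nat_lit 4],
  [nat_lit 1, nat_lit 3],
  [nat_lit 0, nat_lit 2, nat_lit 3, nat_lit 4],
  [nat_lit 0, nat_lit 4, nat_lit 5],
  [nat_lit 5, nat_lit 6],
  [nat_lit 0, nat_lit 2, nat_lit 3, nat_lit 7]],
  [[nat_lit 0],
  [nat_lit 5],
  [nat_lit 2],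
  [nat_lit 6],
  [nat_lit 0, nat_lit 1, nat_lit 2, nat_lit 4, nat_lit 5],
  [nat_lit 1],
  [nat_lit 3],
  [nat_lit 1, nat_lit 2, nat_lit 3, nat_lit 5, nat_lit 6, nat_lit 7]],
  [[nat_lit 0, nat_lit 1, nat_lit 5],
  [nat_lit 5],
  [nat_lit 2],
  [nat_lit 7],
  [nat_lit 0, nat_lit 4, nat_lit 5],
  [nat_lit 1],
  [nat_lit 1, nat_lit 2, nat_lit 3, nat_lit 5, nat_lit 6, nat_lit 7],
  [nat_lit 3]]]

theorem md_b : ltAll 120 HB.B = 0 ∧ 1843200 ≠ 0 := by decide +kernel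
theorem pct_lt : allL (ltAll 9) pct_W = true := by decide +kernel
theorem pct_m_a : allZ2 (matEnt (wdsP HB.P pct_W) pct_P) (nat_lit 13) (nat_lit 120) = true := by decide +kernel
theorem pc_r_a : allZ2 (resEnt pct_P pcP pcE pcI (nat_lit 120) (nat_lit 96)) (nat_lit 13) (nat_lit 96) = true := by decide +kernel
theorem pc_b : neL HB.B (pcB.map pcE) = 0 ∧ ltAll 96 pcB = 0 := by decide +kernel
theorem pc_p : allZ2 (pcEnt pcP (nat_lit 2) pcB pcC) 13 13 = true := by decide +kernel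
theorem pc_e : allL (ltAll 13) pce = true := by decide +kernel
theorem pcl0_e_0 : allZ (dent pcl0 (wdsP pcP pce) (nat_lit 96)) (nat_lit 0) (nat_lit 63) = true := by decide +kernel
theorem pcl0_h : 0 < pcl0.n ∧ 0 < pcl0.K ∧ pcl0.Pt 0 < 96 ∧ pcl0.Q (pcl0.Pt 0) = 0 := by decide +kernel
theorem pcl1_e_0 : allZ (dent pcl1 (wdsP pcP pce) (nat_lit 96)) (nat_lit 0) (nat_lit 1) = true := by decide +kernel
theorem pcl1_h : 0 < pcl1.n ∧ 0 < pcl1.K ∧ pcl1.Pt 0 < 96 ∧ pcl1.Q (pcl1.Pt 0) = 0 := by decide +kernel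
theorem pcl2_e_0 : allZ (dent pcl2 (wdsP pcP pce) (nat_lit 96)) (nat_lit 0) (nat_lit 1) = true := by decide +kernel
theorem pcl2_h : 0 < pcl2.n ∧ 0 < pcl2.K ∧ pcl2.Pt 0 < 96 ∧ pcl2.Q (pcl2.Pt 0) = 0 := by decide +kernel
theorem pcl3_e_0 : allZ (dent pcl3 (wdsP pcP pce) (nat_lit 96)) (nat_lit 0) (nat_lit 1) = true := by decide +kernel
theorem pcl3_h : 0 < pcl3.n ∧ 0 < pcl3.K ∧ pcl3.Pt 0 < 96 ∧ pcl3.Q (pcl3.Pt 0) = 0 := by decide +kernel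
theorem pcl4_e_0 : allZ (dent pcl4 (wdsP pcP pce) (nat_lit 96)) (nat_lit 0) (nat_lit 1) = true := by decide +kernel
theorem pcl4_h : 0 < pcl4.n ∧ 0 < pcl4.K ∧ pcl4.Pt 0 < 96 ∧ pcl4.Q (pcl4.Pt 0) = 0 := by decide +kernel
theorem pcl5_e_0 : allZ (dent pcl5 (wdsP pcP pce) (nat_lit 96)) (nat_lit 0) (nat_lit 1) = true := by decide +kernel
theorem pcl5_h : 0 < pcl5.n ∧ 0 < pcl5.K ∧ pcl5.Pt 0 < 96 ∧ pcl5.Q (pcl5.Pt 0) = 0 := by decide +kernel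
theorem pcl6_e_0 : allZ (dent pcl6 (wdsP pcP pce) (nat_lit 96)) (nat_lit 0) (nat_lit 1) = true := by decide +kernel
theorem pcl6_h : 0 < pcl6.n ∧ 0 < pcl6.K ∧ pcl6.Pt 0 < 96 ∧ pcl6.Q (pcl6.Pt 0) = 0 := by decide +kernel
theorem pcl7_e_0 : allZ (dent pcl7 (wdsP pcP pce) (nat_lit 96)) (nat_lit 0) (nat_lit 1) = true := by decide +kernel
theorem pcl7_h : 0 < pcl7.n ∧ 0 < pcl7.K ∧ pcl7.Pt 0 < 96 ∧ pcl7.Q (pcl7.Pt 0) = 0 := by decide +kernel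
theorem pc_f7 : (Nat.ble pcl7.K 48 && Nat.ble (topK []) pcl7.K && fixLetters (wdsP pcP pce) (topK []) (pcl7.Pt 0)) = true := by decide +kernel
theorem pc_f6 : (Nat.ble pcl6.K 48 && Nat.ble (topK [pcl7]) pcl6.K && fixLetters (wdsP pcP pce) (topK [pcl7]) (pcl6.Pt 0)) = true := by decide +kernel
theorem pc_f5 : (Nat.ble pcl5.K 48 && Nat.ble (topK [pcl6, pcl7]) pcl5.K && fixLetters (wdsP pcP pce) (topK [pcl6, pcl7]) (pcl5.Pt 0)) = true := by decide +kernel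
theorem pc_f4 : (Nat.ble pcl4.K 48 && Nat.ble (topK [pcl5, pcl6, pcl7]) pcl4.K && fixLetters (wdsP pcP pce) (topK [pcl5, pcl6, pcl7]) (pcl4.Pt 0)) = true := by decide +kernel
theorem pc_f3 : (Nat.ble pcl3.K 48 && Nat.ble (topK [pcl4, pcl5, pcl6, pcl7]) pcl3.K && fixLetters (wdsP pcP pce) (topK [pcl4, pcl5, pcl6, pcl7]) (pcl3.Pt 0)) = true := by decide +kernel
theorem pc_f2 : (Nat.ble pcl2.K 48 && Nat.ble (topK [pcl3, pcl4, pcl5, pcl6, pcl7]) pcl2.K && fixLetters (wdsP pcP pce) (topK [pcl3, pcl4, pcl5, pcl6, pcl7]) (pcl2.Pt 0)) = true := by decide +kernel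
theorem pc_f1 : (Nat.ble pcl1.K 48 && Nat.ble (topK [pcl2, pcl3, pcl4, pcl5, pcl6, pcl7]) pcl1.K && fixLetters (wdsP pcP pce) (topK [pcl2, pcl3, pcl4, pcl5, pcl6, pcl7]) (pcl1.Pt 0)) = true := by decide +kernel
theorem pc_f0 : (Nat.ble pcl0.K 48 && Nat.ble (topK [pcl1, pcl2, pcl3, pcl4, pcl5, pcl6, pcl7]) pcl0.K && fixLetters (wdsP pcP pce) (topK [pcl1, pcl2, pcl3, pcl4, pcl5, pcl6, pcl7]) (pcl0.Pt 0)) = true := by decide +kernel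
theorem pc_c : chainCard [pcl0, pcl1, pcl2, pcl3, pcl4, pcl5, pcl6, pcl7] = 2 ^ 13 ∧ ¬ 2 ^ (13 + 1) ∣ 1843200 := by decide +kernel
theorem cvr_lt : allL (ltAll 9) cvr_W = true := by decide +kernel
theorem cv_c0 : (Nat.ble 12 13 && Nat.beq (ltAll 13 []) 0 && Nat.beq (cvT0.chk HB.P pcP cvr_P pcE 9 13 2 2 6 pcB 12 [] 0) 0) = true := by decide +kernel
theorem cv_c1 : (Nat.ble 12 13 && Nat.beq (ltAll 13 [nat_lit 12]) 0 && Nat.beq (cvT1.chk HB.P pcP cvr_P pcE 9 13 2 2 6 pcB 12 [nat_lit 12] 0) 0) = true := by decide +kernel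
theorem cqx_lt : allL (ltAll 9) cqx_W = true := by decide +kernel
theorem cqth_lt : allL (ltAll 9) cqth_W = true := by decide +kernel
theorem cqth_m_a : allZ2 (matEnt (wdsP HB.P cqth_W) cqth_P) (nat_lit 18) (nat_lit 120) = true := by decide +kernel
theorem cqtl0_e_0 : allZ (dent cqtl0 cqth_P (nat_lit 120)) (nat_lit 0) (nat_lit 119) = true := by decide +kernel
theorem cqtl0_h : 0 < cqtl0.n ∧ 0 < cqtl0.K ∧ cqtl0.Pt 0 < 120 ∧ cqtl0.Q (cqtl0.Pt 0) = 0 := by decide +kernel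
theorem cqtl1_e_0 : allZ (dent cqtl1 cqth_P (nat_lit 120)) (nat_lit 0) (nat_lit 29) = true := by decide +kernel
theorem cqtl1_h : 0 < cqtl1.n ∧ 0 < cqtl1.K ∧ cqtl1.Pt 0 < 120 ∧ cqtl1.Q (cqtl1.Pt 0) = 0 := by decide +kernel
theorem cqtl2_e_0 : allZ (dent cqtl2 cqth_P (nat_lit 120)) (nat_lit 0) (nat_lit 3) = true := by decide +kernel
theorem cqtl2_h : 0 < cqtl2.n ∧ 0 < cqtl2.K ∧ cqtl2.Pt 0 < 120 ∧ cqtl2.Q (cqtl2.Pt 0) = 0 := by decide +kernel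
theorem cqtl3_e_0 : allZ (dent cqtl3 cqth_P (nat_lit 120)) (nat_lit 0) (nat_lit 7) = true := by decide +kernel
theorem cqtl3_h : 0 < cqtl3.n ∧ 0 < cqtl3.K ∧ cqtl3.Pt 0 < 120 ∧ cqtl3.Q (cqtl3.Pt 0) = 0 := by decide +kernel
theorem cqtl4_e_0 : allZ (dent cqtl4 cqth_P (nat_lit 120)) (nat_lit 0) (nat_lit 1) = true := by decide +kernel
theorem cqtl4_h : 0 < cqtl4.n ∧ 0 < cqtl4.K ∧ cqtl4.Pt 0 < 120 ∧ cqtl4.Q (cqtl4.Pt 0) = 0 := by decide +kernel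
theorem cqtl5_e_0 : allZ (dent cqtl5 cqth_P (nat_lit 120)) (nat_lit 0) (nat_lit 1) = true := by decide +kernel
theorem cqtl5_h : 0 < cqtl5.n ∧ 0 < cqtl5.K ∧ cqtl5.Pt 0 < 120 ∧ cqtl5.Q (cqtl5.Pt 0) = 0 := by decide +kernel
theorem cqtl6_e_0 : allZ (dent cqtl6 cqth_P (nat_lit 120)) (nat_lit 0) (nat_lit 1) = true := by decide +kernel
theorem cqtl6_h : 0 < cqtl6.n ∧ 0 < cqtl6.K ∧ cqtl6.Pt 0 < 120 ∧ cqtl6.Q (cqtl6.Pt 0) = 0 := by decide +kernel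
theorem cqtl7_e_0 : allZ (dent cqtl7 cqth_P (nat_lit 120)) (nat_lit 0) (nat_lit 1) = true := by decide +kernel
theorem cqtl7_h : 0 < cqtl7.n ∧ 0 < cqtl7.K ∧ cqtl7.Pt 0 < 120 ∧ cqtl7.Q (cqtl7.Pt 0) = 0 := by decide +kernel
theorem cqt_f7 : (Nat.ble cqtl7.K 18 && Nat.ble (topK []) cqtl7.K && fixLetters cqth_P (topK []) (cqtl7.Pt 0)) = true := by decide +kernel
theorem cqt_f6 : (Nat.ble cqtl6.K 18 && Nat.ble (topK [cqtl7]) cqtl6.K && fixLetters cqth_P (topK [cqtl7]) (cqtl6.Pt 0)) = true := by decide +kernel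
theorem cqt_f5 : (Nat.ble cqtl5.K 18 && Nat.ble (topK [cqtl6, cqtl7]) cqtl5.K && fixLetters cqth_P (topK [cqtl6, cqtl7]) (cqtl5.Pt 0)) = true := by decide +kernel
theorem cqt_f4 : (Nat.ble cqtl4.K 18 && Nat.ble (topK [cqtl5, cqtl6, cqtl7]) cqtl4.K && fixLetters cqth_P (topK [cqtl5, cqtl6, cqtl7]) (cqtl4.Pt 0)) = true := by decide +kernel
theorem cqt_f3 : (Nat.ble cqtl3.K 18 && Nat.ble (topK [cqtl4, cqtl5, cqtl6, cqtl7]) cqtl3.K && fixLetters cqth_P (topK [cqtl4, cqtl5, cqtl6, cqtl7]) (cqtl3.Pt 0)) = true := by decide +kernel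
theorem cqt_f2 : (Nat.ble cqtl2.K 18 && Nat.ble (topK [cqtl3, cqtl4, cqtl5, cqtl6, cqtl7]) cqtl2.K && fixLetters cqth_P (topK [cqtl3, cqtl4, cqtl5, cqtl6, cqtl7]) (cqtl2.Pt 0)) = true := by decide +kernel
theorem cqt_f1 : (Nat.ble cqtl1.K 18 && Nat.ble (topK [cqtl2, cqtl3, cqtl4, cqtl5, cqtl6, cqtl7]) cqtl1.K && fixLetters cqth_P (topK [cqtl2, cqtl3, cqtl4, cqtl5, cqtl6, cqtl7]) (cqtl1.Pt 0)) = true := by decide +kernel
theorem cqt_f0 : (Nat.ble cqtl0.K 18 && Nat.ble (topK [cqtl1, cqtl2, cqtl3, cqtl4, cqtl5, cqtl6, cqtl7]) cqtl0.K && fixLetters cqth_P (topK [cqtl1, cqtl2, cqtl3, cqtl4, cqtl5, cqtl6, cqtl7]) (cqtl0.Pt 0)) = true := by decide +kernel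
theorem cqt_c : chainCard [cqtl0, cqtl1, cqtl2, cqtl3, cqtl4, cqtl5, cqtl6, cqtl7] = 1843200 := by decide +kernel
theorem cqe_lt : allL (ltAll 9) cqe_W = true := by decide +kernel
theorem cqc7_e_0 : allZ (dent cqc7 cqe_P (nat_lit 120)) (nat_lit 0) (nat_lit 1) = true := by decide +kernel
theorem cqc7_h : 0 < cqc7.n ∧ 0 < cqc7.K ∧ cqc7.Pt 0 < 120 ∧ cqc7.Q (cqc7.Pt 0) = 0 := by decide +kernel
theorem cqtn0_0 : (Nat.ble cqtl7.K 18 && Nat.beq (ltAll 120 [cqtl6.Pt 0, cqtl5.Pt 0, cqtl4.Pt 0, cqtl3.Pt 0, cqtl2.Pt 0, cqtl1.Pt 0, cqtl0.Pt 0]) 0 && kChk cqe_P cqx_P cqtn0.Kn 8 HB.B [cqtl6.Pt 0, cqtl5.Pt 0, cqtl4.Pt 0, cqtl3.Pt 0, cqtl2.Pt 0, cqtl1.Pt 0, cqtl0.Pt 0] && allL (ltAll 8) cqtn0.pre && planOK cqth_P cqx_P 8 (cqtl7.Pt 0) cqtn0.plan [cqtl7]) = true := by decide +kernel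
theorem cqtn0_1_0 : allZ (cqtn0.ent HB.P cqth_P cqx_P cqx_P cqe_P (nat_lit 9) (nat_lit 8) HB.B cqtl7 [] (memO cqc7)) (nat_lit 0) (nat_lit 2) = true := by decide +kernel
theorem cq_f7 : (Nat.ble cqc7.K 8 && Nat.ble (topK []) cqc7.K && Nat.beq (cqc7.Pt 0) (cqtl7.Pt 0) && Nat.beq (ltAll 120 [cqtl6.Pt 0, cqtl5.Pt 0, cqtl4.Pt 0, cqtl3.Pt 0, cqtl2.Pt 0, cqtl1.Pt 0, cqtl0.Pt 0]) 0 && kChk cqe_P cqx_P cqc7.K 8 HB.B [cqtl6.Pt 0, cqtl5.Pt 0, cqtl4.Pt 0, cqtl3.Pt 0, cqtl2.Pt 0, cqtl1.Pt 0, cqtl0.Pt 0]) = true := by decide +kernel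
theorem cqc6_e_0 : allZ (dent cqc6 cqe_P (nat_lit 120)) (nat_lit 0) (nat_lit 1) = true := by decide +kernel
theorem cqc6_h : 0 < cqc6.n ∧ 0 < cqc6.K ∧ cqc6.Pt 0 < 120 ∧ cqc6.Q (cqc6.Pt 0) = 0 := by decide +kernel
theorem cqtn1_0 : (Nat.ble cqtl6.K 18 && Nat.beq (ltAll 120 [cqtl5.Pt 0, cqtl4.Pt 0, cqtl3.Pt 0, cqtl2.Pt 0, cqtl1.Pt 0, cqtl0.Pt 0]) 0 && kChk cqe_P cqx_P cqtn1.Kn 8 HB.B [cqtl5.Pt 0, cqtl4.Pt 0, cqtl3.Pt 0, cqtl2.Pt 0, cqtl1.Pt 0, cqtl0.Pt 0] && allL (ltAll 8) cqtn1.pre && planOK cqth_P cqx_P 8 (cqtl6.Pt 0) cqtn1.plan [cqtl6, cqtl7]) = true := by decide +kernel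
theorem cqtn1_1_0 : allZ (cqtn1.ent HB.P cqth_P cqx_P cqx_P cqe_P (nat_lit 9) (nat_lit 8) HB.B cqtl6 [cqtl7] (memO cqc6)) (nat_lit 0) (nat_lit 2) = true := by decide +kernel
theorem cq_f6 : (Nat.ble cqc6.K 8 && Nat.ble (topK [cqc7]) cqc6.K && Nat.beq (cqc6.Pt 0) (cqtl6.Pt 0) && Nat.beq (ltAll 120 [cqtl5.Pt 0, cqtl4.Pt 0, cqtl3.Pt 0, cqtl2.Pt 0, cqtl1.Pt 0, cqtl0.Pt 0]) 0 && kChk cqe_P cqx_P cqc6.K 8 HB.B [cqtl5.Pt 0, cqtl4.Pt 0, cqtl3.Pt 0, cqtl2.Pt 0, cqtl1.Pt 0, cqtl0.Pt 0]) = true := by decide +kernel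
theorem cqc5_e_0 : allZ (dent cqc5 cqe_P (nat_lit 120)) (nat_lit 0) (nat_lit 1) = true := by decide +kernel
theorem cqc5_h : 0 < cqc5.n ∧ 0 < cqc5.K ∧ cqc5.Pt 0 < 120 ∧ cqc5.Q (cqc5.Pt 0) = 0 := by decide +kernel
theorem cqtn2_0 : (Nat.ble cqtl5.K 18 && Nat.beq (ltAll 120 [cqtl4.Pt 0, cqtl3.Pt 0, cqtl2.Pt 0, cqtl1.Pt 0, cqtl0.Pt 0]) 0 && kChk cqe_P cqx_P cqtn2.Kn 8 HB.B [cqtl4.Pt 0, cqtl3.Pt 0, cqtl2.Pt 0, cqtl1.Pt 0, cqtl0.Pt 0] && allL (ltAll 8) cqtn2.pre && planOK cqth_P cqx_P 8 (cqtl5.Pt 0) cqtn2.plan [cqtl5, cqtl6, cqtl7]) = true := by decide +kernel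
theorem cqtn2_1_0 : allZ (cqtn2.ent HB.P cqth_P cqx_P cqx_P cqe_P (nat_lit 9) (nat_lit 8) HB.B cqtl5 [cqtl6, cqtl7] (memO cqc5)) (nat_lit 0) (nat_lit 2) = true := by decide +kernel
theorem cq_f5 : (Nat.ble cqc5.K 8 && Nat.ble (topK [cqc6, cqc7]) cqc5.K && Nat.beq (cqc5.Pt 0) (cqtl5.Pt 0) && Nat.beq (ltAll 120 [cqtl4.Pt 0, cqtl3.Pt 0, cqtl2.Pt 0, cqtl1.Pt 0, cqtl0.Pt 0]) 0 && kChk cqe_P cqx_P cqc5.K 8 HB.B [cqtl4.Pt 0, cqtl3.Pt 0, cqtl2.Pt 0, cqtl1.Pt 0, cqtl0.Pt 0]) = true := by decide +kernel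
theorem cqc4_e_0 : allZ (dent cqc4 cqe_P (nat_lit 120)) (nat_lit 0) (nat_lit 1) = true := by decide +kernel
theorem cqc4_h : 0 < cqc4.n ∧ 0 < cqc4.K ∧ cqc4.Pt 0 < 120 ∧ cqc4.Q (cqc4.Pt 0) = 0 := by decide +kernel
theorem cqtn3_0 : (Nat.ble cqtl4.K 18 && Nat.beq (ltAll 120 [cqtl3.Pt 0, cqtl2.Pt 0, cqtl1.Pt 0, cqtl0.Pt 0]) 0 && kChk cqe_P cqx_P cqtn3.Kn 8 HB.B [cqtl3.Pt 0, cqtl2.Pt 0, cqtl1.Pt 0, cqtl0.Pt 0] && allL (ltAll 8) cqtn3.pre && planOK cqth_P cqx_P 8 (cqtl4.Pt 0) cqtn3.plan [cqtl4, cqtl5, cqtl6, cqtl7]) = true := by decide +kernel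
theorem cqtn3_1_0 : allZ (cqtn3.ent HB.P cqth_P cqx_P cqx_P cqe_P (nat_lit 9) (nat_lit 8) HB.B cqtl4 [cqtl5, cqtl6, cqtl7] (memO cqc4)) (nat_lit 0) (nat_lit 2) = true := by decide +kernel
theorem cq_f4 : (Nat.ble cqc4.K 8 && Nat.ble (topK [cqc5, cqc6, cqc7]) cqc4.K && Nat.beq (cqc4.Pt 0) (cqtl4.Pt 0) && Nat.beq (ltAll 120 [cqtl3.Pt 0, cqtl2.Pt 0, cqtl1.Pt 0, cqtl0.Pt 0]) 0 && kChk cqe_P cqx_P cqc4.K 8 HB.B [cqtl3.Pt 0, cqtl2.Pt 0, cqtl1.Pt 0, cqtl0.Pt 0]) = true := by decide +kernel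
theorem cqc3_e_0 : allZ (dent cqc3 cqe_P (nat_lit 120)) (nat_lit 0) (nat_lit 1) = true := by decide +kernel
theorem cqc3_h : 0 < cqc3.n ∧ 0 < cqc3.K ∧ cqc3.Pt 0 < 120 ∧ cqc3.Q (cqc3.Pt 0) = 0 := by decide +kernel
theorem cqtn4_0 : (Nat.ble cqtl3.K 18 && Nat.beq (ltAll 120 [cqtl2.Pt 0, cqtl1.Pt 0, cqtl0.Pt 0]) 0 && kChk cqe_P cqx_P cqtn4.Kn 8 HB.B [cqtl2.Pt 0, cqtl1.Pt 0, cqtl0.Pt 0] && allL (ltAll 8) cqtn4.pre && planOK cqth_P cqx_P 8 (cqtl3.Pt 0) cqtn4.plan [cqtl3, cqtl4, cqtl5, cqtl6, cqtl7]) = true := by decide +kernel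
theorem cqtn4_1_0 : allZ (cqtn4.ent HB.P cqth_P cqx_P cqx_P cqe_P (nat_lit 9) (nat_lit 8) HB.B cqtl3 [cqtl4, cqtl5, cqtl6, cqtl7] (memO cqc3)) (nat_lit 0) (nat_lit 8) = true := by decide +kernel
theorem cq_f3 : (Nat.ble cqc3.K 8 && Nat.ble (topK [cqc4, cqc5, cqc6, cqc7]) cqc3.K && Nat.beq (cqc3.Pt 0) (cqtl3.Pt 0) && Nat.beq (ltAll 120 [cqtl2.Pt 0, cqtl1.Pt 0, cqtl0.Pt 0]) 0 && kChk cqe_P cqx_P cqc3.K 8 HB.B [cqtl2.Pt 0, cqtl1.Pt 0, cqtl0.Pt 0]) = true := by decide +kernel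
theorem cqc2_e_0 : allZ (dent cqc2 cqe_P (nat_lit 120)) (nat_lit 0) (nat_lit 1) = true := by decide +kernel
theorem cqc2_h : 0 < cqc2.n ∧ 0 < cqc2.K ∧ cqc2.Pt 0 < 120 ∧ cqc2.Q (cqc2.Pt 0) = 0 := by decide +kernel
theorem cqtn5_0 : (Nat.ble cqtl2.K 18 && Nat.beq (ltAll 120 [cqtl1.Pt 0, cqtl0.Pt 0]) 0 && kChk cqe_P cqx_P cqtn5.Kn 8 HB.B [cqtl1.Pt 0, cqtl0.Pt 0] && allL (ltAll 8) cqtn5.pre && planOK cqth_P cqx_P 8 (cqtl2.Pt 0) cqtn5.plan [cqtl2, cqtl3, cqtl4, cqtl5, cqtl6, cqtl7]) = true := by decide +kernel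
theorem cqtn5_1_0 : allZ (cqtn5.ent HB.P cqth_P cqx_P cqx_P cqe_P (nat_lit 9) (nat_lit 8) HB.B cqtl2 [cqtl3, cqtl4, cqtl5, cqtl6, cqtl7] (memO cqc2)) (nat_lit 0) (nat_lit 4) = true := by decide +kernel
theorem cq_f2 : (Nat.ble cqc2.K 8 && Nat.ble (topK [cqc3, cqc4, cqc5, cqc6, cqc7]) cqc2.K && Nat.beq (cqc2.Pt 0) (cqtl2.Pt 0) && Nat.beq (ltAll 120 [cqtl1.Pt 0, cqtl0.Pt 0]) 0 && kChk cqe_P cqx_P cqc2.K 8 HB.B [cqtl1.Pt 0, cqtl0.Pt 0]) = true := by decide +kernel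
theorem cqc1_e_0 : allZ (dent cqc1 cqe_P (nat_lit 120)) (nat_lit 0) (nat_lit 1) = true := by decide +kernel
theorem cqc1_h : 0 < cqc1.n ∧ 0 < cqc1.K ∧ cqc1.Pt 0 < 120 ∧ cqc1.Q (cqc1.Pt 0) = 0 := by decide +kernel
theorem cqtn6_0 : (Nat.ble cqtl1.K 18 && Nat.beq (ltAll 120 [cqtl0.Pt 0]) 0 && kChk cqe_P cqx_P cqtn6.Kn 8 HB.B [cqtl0.Pt 0] && allL (ltAll 8) cqtn6.pre && planOK cqth_P cqx_P 8 (cqtl1.Pt 0) cqtn6.plan [cqtl1, cqtl2, cqtl3, cqtl4, cqtl5, cqtl6, cqtl7]) = true := by decide +kernel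
theorem cqtn6_1_0 : allZ (cqtn6.ent HB.P cqth_P cqx_P cqx_P cqe_P (nat_lit 9) (nat_lit 8) HB.B cqtl1 [cqtl2, cqtl3, cqtl4, cqtl5, cqtl6, cqtl7] (memO cqc1)) (nat_lit 0) (nat_lit 30) = true := by decide +kernel
theorem cq_f1 : (Nat.ble cqc1.K 8 && Nat.ble (topK [cqc2, cqc3, cqc4, cqc5, cqc6, cqc7]) cqc1.K && Nat.beq (cqc1.Pt 0) (cqtl1.Pt 0) && Nat.beq (ltAll 120 [cqtl0.Pt 0]) 0 && kChk cqe_P cqx_P cqc1.K 8 HB.B [cqtl0.Pt 0]) = true := by decide +kernel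
theorem cqc0_e_0 : allZ (dent cqc0 cqe_P (nat_lit 120)) (nat_lit 0) (nat_lit 1) = true := by decide +kernel
theorem cqc0_h : 0 < cqc0.n ∧ 0 < cqc0.K ∧ cqc0.Pt 0 < 120 ∧ cqc0.Q (cqc0.Pt 0) = 0 := by decide +kernel
theorem cqtn7_0 : (Nat.ble cqtl0.K 18 && Nat.beq (ltAll 120 []) 0 && kChk cqe_P cqx_P cqtn7.Kn 8 HB.B [] && allL (ltAll 8) cqtn7.pre && planOK cqth_P cqx_P 8 (cqtl0.Pt 0) cqtn7.plan [cqtl0, cqtl1, cqtl2, cqtl3, cqtl4, cqtl5, cqtl6, cqtl7]) = true := by decide +kernel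
theorem cqtn7_1_0 : allZ (cqtn7.ent HB.P cqth_P cqx_P cqx_P cqe_P (nat_lit 9) (nat_lit 8) HB.B cqtl0 [cqtl1, cqtl2, cqtl3, cqtl4, cqtl5, cqtl6, cqtl7] (memO cqc0)) (nat_lit 0) (nat_lit 120) = true := by decide +kernel
theorem cq_f0 : (Nat.ble cqc0.K 8 && Nat.ble (topK [cqc1, cqc2, cqc3, cqc4, cqc5, cqc6, cqc7]) cqc0.K && Nat.beq (cqc0.Pt 0) (cqtl0.Pt 0) && Nat.beq (ltAll 120 []) 0 && kChk cqe_P cqx_P cqc0.K 8 HB.B []) = true := by decide +kernel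
theorem cq_c : chainCard [cqc0, cqc1, cqc2, cqc3, cqc4, cqc5, cqc6, cqc7] = 256 ∧ topK [cqc0, cqc1, cqc2, cqc3, cqc4, cqc5, cqc6, cqc7] = 8 := by decide +kernel

theorem md {G : Type*} [Group G] (e : gen HB.g 9 ≃* G) :
    ∃ (_ : MulAction G (Fin 120)) (g : ℕ → G), Md g (ptF 120) HB.P 120 9 HB.B 1843200 ∧
      ∀ k < 9, (e.symm (g k)).1 = HB.g k :=
  exists_md HB.act (ptF_inj 120) HB.card HB.isBase md_b e
theorem pct_m : ∀ k < 13, ∀ i < 120, (matEnt (wdsP HB.P pct_W) pct_P) k i = 0 := allZ2_sound pct_m_a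
theorem pct_act {G Ω : Type*} [Group G] [MulAction G Ω] {g : ℕ → G} {pt : ℕ → Ω}
    (M : Md g pt HB.P 120 9 HB.B 1843200) : Act (wds g pct_W) pt pct_P 120 13 :=
  act_mat (M.wact pct_lt) pct_m
theorem pc_r : ∀ k < 13, ∀ i < 96, (resEnt pct_P pcP pcE pcI (nat_lit 120) (nat_lit 96)) k i = 0 := allZ2_sound pc_r_a
theorem pc_sm {G Ω : Type*} [Group G] [MulAction G Ω] {g : ℕ → G} {pt : ℕ → Ω}
    (M : Md g pt HB.P 120 9 HB.B 1843200) : Sm (wds g pct_W) (fun i => pt (pcE i)) pcP 96 13 pcB ∧ ∀ i < 96, pcE i < 120 :=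
  M.res (pct_act M) (by decide) pc_r pc_b
theorem pcl0_e : ∀ i < 63, (dent pcl0 (wdsP pcP pce) (nat_lit 96)) i = 0 := allZ_sound0 pcl0_e_0
theorem pcl0_ok : DOK pcl0 (wdsP pcP pce) 96 := ⟨pcl0_h, pcl0_e⟩
theorem pcl1_e : ∀ i < 1, (dent pcl1 (wdsP pcP pce) (nat_lit 96)) i = 0 := allZ_sound0 pcl1_e_0
theorem pcl1_ok : DOK pcl1 (wdsP pcP pce) 96 := ⟨pcl1_h, pcl1_e⟩
theorem pcl2_e : ∀ i < 1, (dent pcl2 (wdsP pcP pce) (nat_lit 96)) i = 0 := allZ_sound0 pcl2_e_0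
theorem pcl2_ok : DOK pcl2 (wdsP pcP pce) 96 := ⟨pcl2_h, pcl2_e⟩
theorem pcl3_e : ∀ i < 1, (dent pcl3 (wdsP pcP pce) (nat_lit 96)) i = 0 := allZ_sound0 pcl3_e_0
theorem pcl3_ok : DOK pcl3 (wdsP pcP pce) 96 := ⟨pcl3_h, pcl3_e⟩
theorem pcl4_e : ∀ i < 1, (dent pcl4 (wdsP pcP pce) (nat_lit 96)) i = 0 := allZ_sound0 pcl4_e_0
theorem pcl4_ok : DOK pcl4 (wdsP pcP pce) 96 := ⟨pcl4_h, pcl4_e⟩
theorem pcl5_e : ∀ i < 1, (dent pcl5 (wdsP pcP pce) (nat_lit 96)) i = 0 := allZ_sound0 pcl5_e_0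
theorem pcl5_ok : DOK pcl5 (wdsP pcP pce) 96 := ⟨pcl5_h, pcl5_e⟩
theorem pcl6_e : ∀ i < 1, (dent pcl6 (wdsP pcP pce) (nat_lit 96)) i = 0 := allZ_sound0 pcl6_e_0
theorem pcl6_ok : DOK pcl6 (wdsP pcP pce) 96 := ⟨pcl6_h, pcl6_e⟩
theorem pcl7_e : ∀ i < 1, (dent pcl7 (wdsP pcP pce) (nat_lit 96)) i = 0 := allZ_sound0 pcl7_e_0
theorem pcl7_ok : DOK pcl7 (wdsP pcP pce) 96 := ⟨pcl7_h, pcl7_e⟩
theorem pc_low {G Ω : Type*} [Group G] [MulAction G Ω] {g : ℕ → G} {pt : ℕ → Ω}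
    (M : Md g pt HB.P 120 9 HB.B 1843200) : SLow (gi (wds (wds g pct_W) pce)) (fun i => pt (pcE i)) 96 [pcl0, pcl1, pcl2, pcl3, pcl4, pcl5, pcl6, pcl7] :=
  ((((((((SLow.nil).cons pcl7_ok ((pc_sm M).1.act.wds pc_e 48) pc_f7).cons pcl6_ok ((pc_sm M).1.act.wds pc_e 48) pc_f6).cons pcl5_ok ((pc_sm M).1.act.wds pc_e 48) pc_f5).cons pcl4_ok ((pc_sm M).1.act.wds pc_e 48) pc_f4).cons pcl3_ok ((pc_sm M).1.act.wds pc_e 48) pc_f3).cons pcl2_ok ((pc_sm M).1.act.wds pc_e 48) pc_f2).cons pcl1_ok ((pc_sm M).1.act.wds pc_e 48) pc_f1).cons pcl0_ok ((pc_sm M).1.act.wds pc_e 48) pc_f0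
theorem pc_pc {G Ω : Type*} [Group G] [MulAction G Ω] {g : ℕ → G} {pt : ℕ → Ω}
    (M : Md g pt HB.P 120 9 HB.B 1843200) : PC (wds g pct_W) 13 2 :=
  have := M.fin
  ((pc_sm M).1.pc0 (by decide) pc_p).pc (pc_low M) (pc_sm M).1.inj
    (fun k => evA_mem_gen _ (nth_lt pc_e k)) M.card ⟨by decide, pc_c⟩
theorem cvr_act {G Ω : Type*} [Group G] [MulAction G Ω] {g : ℕ → G} {pt : ℕ → Ω}
    (M : Md g pt HB.P 120 9 HB.B 1843200) : Act (wds g cvr_W) pt cvr_P 120 6 :=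
  M.wact cvr_lt
theorem cv_0 {G Ω : Type*} [Group G] [MulAction G Ω] {g : ℕ → G} {pt : ℕ → Ω}
    (M : Md g pt HB.P 120 9 HB.B 1843200) : Cov (wds g pct_W) (wds g cvr_W) 2 6 12 (evA (wds g pct_W) []) :=
  have := M.fin
  cvT0.cov M (pc_sm M).1 (pc_sm M).2 (cvr_act M) (pc_pc M) _ _ cv_c0
theorem cv_1 {G Ω : Type*} [Group G] [MulAction G Ω] {g : ℕ → G} {pt : ℕ → Ω}
    (M : Md g pt HB.P 120 9 HB.B 1843200) : Cov (wds g pct_W) (wds g cvr_W) 2 6 12 (evA (wds g pct_W) [nat_lit 12]) :=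
  have := M.fin
  cvT1.cov M (pc_sm M).1 (pc_sm M).2 (cvr_act M) (pc_pc M) _ _ cv_c1
theorem cv {G Ω : Type*} [Group G] [MulAction G Ω] {g : ℕ → G} {pt : ℕ → Ω}
    (M : Md g pt HB.P 120 9 HB.B 1843200) {y : G} {e : ℕ} (hy : y ^ 2 ^ e = 1) (hq : y ^ 2 = 1) : Good (wds g cvr_W) 6 y :=
  have := M.fin
  Cov.all (pc_pc M) (Cov.split (pc_pc M) (by decide) (fun j hj => match j, hj with | 0, _ => cv_0 M | 1, _ => cv_1 M)) hy hq
theorem cqx_act {G Ω : Type*} [Group G] [MulAction G Ω] {g : ℕ → G} {pt : ℕ → Ω}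
    (M : Md g pt HB.P 120 9 HB.B 1843200) : Act (wds g cqx_W) pt cqx_P 120 8 :=
  M.wact cqx_lt
theorem cqth_m : ∀ k < 18, ∀ i < 120, (matEnt (wdsP HB.P cqth_W) cqth_P) k i = 0 := allZ2_sound cqth_m_a
theorem cqth_act {G Ω : Type*} [Group G] [MulAction G Ω] {g : ℕ → G} {pt : ℕ → Ω}
    (M : Md g pt HB.P 120 9 HB.B 1843200) : Act (wds g cqth_W) pt cqth_P 120 18 :=
  act_mat (M.wact cqth_lt) cqth_m
theorem cqtl0_e : ∀ i < 119, (dent cqtl0 cqth_P (nat_lit 120)) i = 0 := allZ_sound0 cqtl0_e_0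
theorem cqtl0_ok : DOK cqtl0 cqth_P 120 := ⟨cqtl0_h, cqtl0_e⟩
theorem cqtl1_e : ∀ i < 29, (dent cqtl1 cqth_P (nat_lit 120)) i = 0 := allZ_sound0 cqtl1_e_0
theorem cqtl1_ok : DOK cqtl1 cqth_P 120 := ⟨cqtl1_h, cqtl1_e⟩
theorem cqtl2_e : ∀ i < 3, (dent cqtl2 cqth_P (nat_lit 120)) i = 0 := allZ_sound0 cqtl2_e_0
theorem cqtl2_ok : DOK cqtl2 cqth_P 120 := ⟨cqtl2_h, cqtl2_e⟩
theorem cqtl3_e : ∀ i < 7, (dent cqtl3 cqth_P (nat_lit 120)) i = 0 := allZ_sound0 cqtl3_e_0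
theorem cqtl3_ok : DOK cqtl3 cqth_P 120 := ⟨cqtl3_h, cqtl3_e⟩
theorem cqtl4_e : ∀ i < 1, (dent cqtl4 cqth_P (nat_lit 120)) i = 0 := allZ_sound0 cqtl4_e_0
theorem cqtl4_ok : DOK cqtl4 cqth_P 120 := ⟨cqtl4_h, cqtl4_e⟩
theorem cqtl5_e : ∀ i < 1, (dent cqtl5 cqth_P (nat_lit 120)) i = 0 := allZ_sound0 cqtl5_e_0
theorem cqtl5_ok : DOK cqtl5 cqth_P 120 := ⟨cqtl5_h, cqtl5_e⟩
theorem cqtl6_e : ∀ i < 1, (dent cqtl6 cqth_P (nat_lit 120)) i = 0 := allZ_sound0 cqtl6_e_0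
theorem cqtl6_ok : DOK cqtl6 cqth_P 120 := ⟨cqtl6_h, cqtl6_e⟩
theorem cqtl7_e : ∀ i < 1, (dent cqtl7 cqth_P (nat_lit 120)) i = 0 := allZ_sound0 cqtl7_e_0
theorem cqtl7_ok : DOK cqtl7 cqth_P 120 := ⟨cqtl7_h, cqtl7_e⟩
theorem cqt_low {G Ω : Type*} [Group G] [MulAction G Ω] {g : ℕ → G} {pt : ℕ → Ω}
    (M : Md g pt HB.P 120 9 HB.B 1843200) : SLow (gi (wds g cqth_W)) pt 120 [cqtl0, cqtl1, cqtl2, cqtl3, cqtl4, cqtl5, cqtl6, cqtl7] :=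
  ((((((((SLow.nil).cons cqtl7_ok (cqth_act M) cqt_f7).cons cqtl6_ok (cqth_act M) cqt_f6).cons cqtl5_ok (cqth_act M) cqt_f5).cons cqtl4_ok (cqth_act M) cqt_f4).cons cqtl3_ok (cqth_act M) cqt_f3).cons cqtl2_ok (cqth_act M) cqt_f2).cons cqtl1_ok (cqth_act M) cqt_f1).cons cqtl0_ok (cqth_act M) cqt_f0
theorem cqt_S0 {G Ω : Type*} [Group G] [MulAction G Ω] {g : ℕ → G} {pt : ℕ → Ω}
    (M : Md g pt HB.P 120 9 HB.B 1843200) : Stage ⊤ (wds g cqth_W) pt 120 [cqtl0, cqtl1, cqtl2, cqtl3, cqtl4, cqtl5, cqtl6, cqtl7] [] :=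
  M.stage (cqt_low M) cqt_c
theorem cqt_S1 {G Ω : Type*} [Group G] [MulAction G Ω] {g : ℕ → G} {pt : ℕ → Ω}
    (M : Md g pt HB.P 120 9 HB.B 1843200) : Stage ⊤ (wds g cqth_W) pt 120 [cqtl1, cqtl2, cqtl3, cqtl4, cqtl5, cqtl6, cqtl7] [cqtl0.Pt 0] :=
  (cqt_S0 M).next
theorem cqt_S2 {G Ω : Type*} [Group G] [MulAction G Ω] {g : ℕ → G} {pt : ℕ → Ω}
    (M : Md g pt HB.P 120 9 HB.B 1843200) : Stage ⊤ (wds g cqth_W) pt 120 [cqtl2, cqtl3, cqtl4, cqtl5, cqtl6, cqtl7] [cqtl1.Pt 0, cqtl0.Pt 0] :=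
  (cqt_S1 M).next
theorem cqt_S3 {G Ω : Type*} [Group G] [MulAction G Ω] {g : ℕ → G} {pt : ℕ → Ω}
    (M : Md g pt HB.P 120 9 HB.B 1843200) : Stage ⊤ (wds g cqth_W) pt 120 [cqtl3, cqtl4, cqtl5, cqtl6, cqtl7] [cqtl2.Pt 0, cqtl1.Pt 0, cqtl0.Pt 0] :=
  (cqt_S2 M).next
theorem cqt_S4 {G Ω : Type*} [Group G] [MulAction G Ω] {g : ℕ → G} {pt : ℕ → Ω}
    (M : Md g pt HB.P 120 9 HB.B 1843200) : Stage ⊤ (wds g cqth_W) pt 120 [cqtl4, cqtl5, cqtl6, cqtl7] [cqtl3.Pt 0, cqtl2.Pt 0, cqtl1.Pt 0, cqtl0.Pt 0] :=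
  (cqt_S3 M).next
theorem cqt_S5 {G Ω : Type*} [Group G] [MulAction G Ω] {g : ℕ → G} {pt : ℕ → Ω}
    (M : Md g pt HB.P 120 9 HB.B 1843200) : Stage ⊤ (wds g cqth_W) pt 120 [cqtl5, cqtl6, cqtl7] [cqtl4.Pt 0, cqtl3.Pt 0, cqtl2.Pt 0, cqtl1.Pt 0, cqtl0.Pt 0] :=
  (cqt_S4 M).next
theorem cqt_S6 {G Ω : Type*} [Group G] [MulAction G Ω] {g : ℕ → G} {pt : ℕ → Ω}
    (M : Md g pt HB.P 120 9 HB.B 1843200) : Stage ⊤ (wds g cqth_W) pt 120 [cqtl6, cqtl7] [cqtl5.Pt 0, cqtl4.Pt 0, cqtl3.Pt 0, cqtl2.Pt 0, cqtl1.Pt 0, cqtl0.Pt 0] :=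
  (cqt_S5 M).next
theorem cqt_S7 {G Ω : Type*} [Group G] [MulAction G Ω] {g : ℕ → G} {pt : ℕ → Ω}
    (M : Md g pt HB.P 120 9 HB.B 1843200) : Stage ⊤ (wds g cqth_W) pt 120 [cqtl7] [cqtl6.Pt 0, cqtl5.Pt 0, cqtl4.Pt 0, cqtl3.Pt 0, cqtl2.Pt 0, cqtl1.Pt 0, cqtl0.Pt 0] :=
  (cqt_S6 M).next
theorem cqt_S8 {G Ω : Type*} [Group G] [MulAction G Ω] {g : ℕ → G} {pt : ℕ → Ω}
    (M : Md g pt HB.P 120 9 HB.B 1843200) : Stage ⊤ (wds g cqth_W) pt 120 [] [cqtl7.Pt 0, cqtl6.Pt 0, cqtl5.Pt 0, cqtl4.Pt 0, cqtl3.Pt 0, cqtl2.Pt 0, cqtl1.Pt 0, cqtl0.Pt 0] :=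
  (cqt_S7 M).next
theorem cqe_act {G Ω : Type*} [Group G] [MulAction G Ω] {g : ℕ → G} {pt : ℕ → Ω}
    (M : Md g pt HB.P 120 9 HB.B 1843200) : Act (wds g cqe_W) pt cqe_P 120 8 :=
  M.wact cqe_lt
theorem cqc7_e : ∀ i < 1, (dent cqc7 cqe_P (nat_lit 120)) i = 0 := allZ_sound0 cqc7_e_0
theorem cqc7_ok : DOK cqc7 cqe_P 120 := ⟨cqc7_h, cqc7_e⟩
theorem cqtn0_1 : ∀ i < 2, (cqtn0.ent HB.P cqth_P cqx_P cqx_P cqe_P (nat_lit 9) (nat_lit 8) HB.B cqtl7 [] (memO cqc7)) i = 0 := allZ_sound0 cqtn0_1_0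
theorem cqtn0_t {G Ω : Type*} [Group G] [MulAction G Ω] {g : ℕ → G} {pt : ℕ → Ω}
    (M : Md g pt HB.P 120 9 HB.B 1843200) : TrO (gen (wds g cqth_W) cqtl7.K) (wds g cqx_W) (wds g cqx_W) 8 pt 120 (cqtl7.Pt 0) (memO cqc7) :=
  node M (cqt_S7 M) (cqth_act M) (cqx_act M) (cqx_act M) cqtn0 ((cqe_act M).mono (by decide)) (fun _ _ => trivial) cqtn0_0 cqtn0_1 (List.forall_mem_nil _)
theorem cqc6_e : ∀ i < 1, (dent cqc6 cqe_P (nat_lit 120)) i = 0 := allZ_sound0 cqc6_e_0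
theorem cqc6_ok : DOK cqc6 cqe_P 120 := ⟨cqc6_h, cqc6_e⟩
theorem cqtn1_1 : ∀ i < 2, (cqtn1.ent HB.P cqth_P cqx_P cqx_P cqe_P (nat_lit 9) (nat_lit 8) HB.B cqtl6 [cqtl7] (memO cqc6)) i = 0 := allZ_sound0 cqtn1_1_0
theorem cqtn1_t {G Ω : Type*} [Group G] [MulAction G Ω] {g : ℕ → G} {pt : ℕ → Ω}
    (M : Md g pt HB.P 120 9 HB.B 1843200) : TrO (gen (wds g cqth_W) cqtl6.K) (wds g cqx_W) (wds g cqx_W) 8 pt 120 (cqtl6.Pt 0) (memO cqc6) :=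
  node M (cqt_S6 M) (cqth_act M) (cqx_act M) (cqx_act M) cqtn1 ((cqe_act M).mono (by decide)) (fun _ _ => trivial) cqtn1_0 cqtn1_1 (List.forall_mem_nil _)
theorem cqc5_e : ∀ i < 1, (dent cqc5 cqe_P (nat_lit 120)) i = 0 := allZ_sound0 cqc5_e_0
theorem cqc5_ok : DOK cqc5 cqe_P 120 := ⟨cqc5_h, cqc5_e⟩
theorem cqtn2_1 : ∀ i < 2, (cqtn2.ent HB.P cqth_P cqx_P cqx_P cqe_P (nat_lit 9) (nat_lit 8) HB.B cqtl5 [cqtl6, cqtl7] (memO cqc5)) i = 0 := allZ_sound0 cqtn2_1_0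
theorem cqtn2_t {G Ω : Type*} [Group G] [MulAction G Ω] {g : ℕ → G} {pt : ℕ → Ω}
    (M : Md g pt HB.P 120 9 HB.B 1843200) : TrO (gen (wds g cqth_W) cqtl5.K) (wds g cqx_W) (wds g cqx_W) 8 pt 120 (cqtl5.Pt 0) (memO cqc5) :=
  node M (cqt_S5 M) (cqth_act M) (cqx_act M) (cqx_act M) cqtn2 ((cqe_act M).mono (by decide)) (fun _ _ => trivial) cqtn2_0 cqtn2_1 (List.forall_mem_nil _)
theorem cqc4_e : ∀ i < 1, (dent cqc4 cqe_P (nat_lit 120)) i = 0 := allZ_sound0 cqc4_e_0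
theorem cqc4_ok : DOK cqc4 cqe_P 120 := ⟨cqc4_h, cqc4_e⟩
theorem cqtn3_1 : ∀ i < 2, (cqtn3.ent HB.P cqth_P cqx_P cqx_P cqe_P (nat_lit 9) (nat_lit 8) HB.B cqtl4 [cqtl5, cqtl6, cqtl7] (memO cqc4)) i = 0 := allZ_sound0 cqtn3_1_0
theorem cqtn3_t {G Ω : Type*} [Group G] [MulAction G Ω] {g : ℕ → G} {pt : ℕ → Ω}
    (M : Md g pt HB.P 120 9 HB.B 1843200) : TrO (gen (wds g cqth_W) cqtl4.K) (wds g cqx_W) (wds g cqx_W) 8 pt 120 (cqtl4.Pt 0) (memO cqc4) :=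
  node M (cqt_S4 M) (cqth_act M) (cqx_act M) (cqx_act M) cqtn3 ((cqe_act M).mono (by decide)) (fun _ _ => trivial) cqtn3_0 cqtn3_1 (List.forall_mem_nil _)
theorem cqc3_e : ∀ i < 1, (dent cqc3 cqe_P (nat_lit 120)) i = 0 := allZ_sound0 cqc3_e_0
theorem cqc3_ok : DOK cqc3 cqe_P 120 := ⟨cqc3_h, cqc3_e⟩
theorem cqtn4_1 : ∀ i < 8, (cqtn4.ent HB.P cqth_P cqx_P cqx_P cqe_P (nat_lit 9) (nat_lit 8) HB.B cqtl3 [cqtl4, cqtl5, cqtl6, cqtl7] (memO cqc3)) i = 0 := allZ_sound0 cqtn4_1_0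
theorem cqtn4_t {G Ω : Type*} [Group G] [MulAction G Ω] {g : ℕ → G} {pt : ℕ → Ω}
    (M : Md g pt HB.P 120 9 HB.B 1843200) : TrO (gen (wds g cqth_W) cqtl3.K) (wds g cqx_W) (wds g cqx_W) 8 pt 120 (cqtl3.Pt 0) (memO cqc3) :=
  node M (cqt_S3 M) (cqth_act M) (cqx_act M) (cqx_act M) cqtn4 ((cqe_act M).mono (by decide)) (fun _ _ => trivial) cqtn4_0 cqtn4_1 (List.forall_mem_nil _)
theorem cqc2_e : ∀ i < 1, (dent cqc2 cqe_P (nat_lit 120)) i = 0 := allZ_sound0 cqc2_e_0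
theorem cqc2_ok : DOK cqc2 cqe_P 120 := ⟨cqc2_h, cqc2_e⟩
theorem cqtn5_1 : ∀ i < 4, (cqtn5.ent HB.P cqth_P cqx_P cqx_P cqe_P (nat_lit 9) (nat_lit 8) HB.B cqtl2 [cqtl3, cqtl4, cqtl5, cqtl6, cqtl7] (memO cqc2)) i = 0 := allZ_sound0 cqtn5_1_0
theorem cqtn5_t {G Ω : Type*} [Group G] [MulAction G Ω] {g : ℕ → G} {pt : ℕ → Ω}
    (M : Md g pt HB.P 120 9 HB.B 1843200) : TrO (gen (wds g cqth_W) cqtl2.K) (wds g cqx_W) (wds g cqx_W) 8 pt 120 (cqtl2.Pt 0) (memO cqc2) :=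
  node M (cqt_S2 M) (cqth_act M) (cqx_act M) (cqx_act M) cqtn5 ((cqe_act M).mono (by decide)) (fun _ _ => trivial) cqtn5_0 cqtn5_1 (List.forall_mem_nil _)
theorem cqc1_e : ∀ i < 1, (dent cqc1 cqe_P (nat_lit 120)) i = 0 := allZ_sound0 cqc1_e_0
theorem cqc1_ok : DOK cqc1 cqe_P 120 := ⟨cqc1_h, cqc1_e⟩
theorem cqtn6_1 : ∀ i < 30, (cqtn6.ent HB.P cqth_P cqx_P cqx_P cqe_P (nat_lit 9) (nat_lit 8) HB.B cqtl1 [cqtl2, cqtl3, cqtl4, cqtl5, cqtl6, cqtl7] (memO cqc1)) i = 0 := allZ_sound0 cqtn6_1_0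
theorem cqtn6_t {G Ω : Type*} [Group G] [MulAction G Ω] {g : ℕ → G} {pt : ℕ → Ω}
    (M : Md g pt HB.P 120 9 HB.B 1843200) : TrO (gen (wds g cqth_W) cqtl1.K) (wds g cqx_W) (wds g cqx_W) 8 pt 120 (cqtl1.Pt 0) (memO cqc1) :=
  node M (cqt_S1 M) (cqth_act M) (cqx_act M) (cqx_act M) cqtn6 ((cqe_act M).mono (by decide)) (fun _ _ => trivial) cqtn6_0 cqtn6_1 (List.forall_mem_nil _)
theorem cqc0_e : ∀ i < 1, (dent cqc0 cqe_P (nat_lit 120)) i = 0 := allZ_sound0 cqc0_e_0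
theorem cqc0_ok : DOK cqc0 cqe_P 120 := ⟨cqc0_h, cqc0_e⟩
theorem cqtn7_1 : ∀ i < 120, (cqtn7.ent HB.P cqth_P cqx_P cqx_P cqe_P (nat_lit 9) (nat_lit 8) HB.B cqtl0 [cqtl1, cqtl2, cqtl3, cqtl4, cqtl5, cqtl6, cqtl7] (memO cqc0)) i = 0 := allZ_sound0 cqtn7_1_0
theorem cqtn7_t {G Ω : Type*} [Group G] [MulAction G Ω] {g : ℕ → G} {pt : ℕ → Ω}
    (M : Md g pt HB.P 120 9 HB.B 1843200) : TrO (gen (wds g cqth_W) cqtl0.K) (wds g cqx_W) (wds g cqx_W) 8 pt 120 (cqtl0.Pt 0) (memO cqc0) :=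
  node M (cqt_S0 M) (cqth_act M) (cqx_act M) (cqx_act M) cqtn7 ((cqe_act M).mono (by decide)) (fun _ _ => trivial) cqtn7_0 cqtn7_1 (List.forall_mem_nil _)
theorem cq {G Ω : Type*} [Group G] [MulAction G Ω] {g : ℕ → G} {pt : ℕ → Ω}
    (M : Md g pt HB.P 120 9 HB.B 1843200) : Cen ⊤ (wds g cqx_W) 8 (wds g cqe_W) pt 120 [cqc0, cqc1, cqc2, cqc3, cqc4, cqc5, cqc6, cqc7] :=
  (cqt_S0 M).top ▸ Cen.lev M (cqt_S0 M) (Cen.lev M (cqt_S1 M) (Cen.lev M (cqt_S2 M) (Cen.lev M (cqt_S3 M) (Cen.lev M (cqt_S4 M) (Cen.lev M (cqt_S5 M) (Cen.lev M (cqt_S6 M) (Cen.lev M (cqt_S7 M) (Cen.bot) (cqtn0_t M) (cqx_act M) (cqe_act M) (fun _ _ => trivial) cqc7_ok cq_f7) (cqtn1_t M) (cqx_act M) (cqe_act M) (fun _ _ => trivial) cqc6_ok cq_f6) (cqtn2_t M) (cqx_act M) (cqe_act M) (fun _ _ => trivial) cqc5_ok cq_f5) (cqtn3_t M) (cqx_act M) (cqe_act M) (fun _ _ => trivial) cqc4_ok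 cq_f4) (cqtn4_t M) (cqx_act M) (cqe_act M) (fun _ _ => trivial) cqc3_ok cq_f3) (cqtn5_t M) (cqx_act M) (cqe_act M) (fun _ _ => trivial) cqc2_ok cq_f2) (cqtn6_t M) (cqx_act M) (cqe_act M) (fun _ _ => trivial) cqc1_ok cq_f1) (cqtn7_t M) (cqx_act M) (cqe_act M) (fun _ _ => trivial) cqc0_ok cq_f0
theorem cq_eq {G Ω : Type*} [Group G] [MulAction G Ω] {g : ℕ → G} {pt : ℕ → Ω}
    (M : Md g pt HB.P 120 9 HB.B 1843200) : Subgroup.centralizer (gen (wds g cqx_W) 8) = gen (wds g cqe_W) 8 ∧ Nat.card (gen (wds g cqe_W) 8) = 256 :=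
  cq_c.1 ▸ cq_c.2 ▸ ⟨(cq M).cent, (cq M).card M.inj⟩

end H29.HZ
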