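import Cfsg.Agent.H29.HX2
import Cfsg.Agent.H29.HX3
import Cfsg.Agent.H29.HN4

/-! Words in the letters of the model of `2.HS:2` (generated). -/

set_option maxRecDepth 100000
set_option maxHeartbeats 0

namespace H29.HY
open H0.TR H1.Am H29.HN
open H16 hiding app

noncomputable def κ : List ℕ → ℕ := H15.CS.key (tot P 27) 1408 B
noncomputable def SQ : List (List ℕ × List ℕ) := [([nat_lit 22, nat_lit 15, nat_lit 21, nat_lit 6, nat_lit 15, nat_lit 5, nat_lit 11, nat_lit 21], [nat_lit 16, nat_lit 4, nat_lit 21, nat_lit 22]),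
  ([nat_lit 4, nat_lit 8, nat_lit 0, nat_lit 4, nat_lit 9, nat_lit 5], [nat_lit 4, nat_lit 11, nat_lit 11, nat_lit 8]),
  ([nat_lit 14, nat_lit 14], [nat_lit 3, nat_lit 15]),
  ([nat_lit 20, nat_lit 20], [nat_lit 2, nat_lit 21]),
  ([], []),
  ([], [nat_lit 1]),
  ([nat_lit 20, nat_lit 3, nat_lit 21, nat_lit 17], [nat_lit 14]),
  ([], [nat_lit 10, nat_lit 1, nat_lit 13, nat_lit 12]),
  ([nat_lit 9, nat_lit 9], []),
  ([nat_lit 8, nat_lit 8], []),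
  ([nat_lit 10, nat_lit 3, nat_lit 11, nat_lit 21, nat_lit 14, nat_lit 4], [nat_lit 3]),
  ([nat_lit 16, nat_lit 15, nat_lit 20, nat_lit 2, nat_lit 8, nat_lit 11, nat_lit 12, nat_lit 8], [nat_lit 2]),
  ([nat_lit 15, nat_lit 21, nat_lit 22, nat_lit 17, nat_lit 8], [nat_lit 8, nat_lit 21]),
  ([nat_lit 14, nat_lit 12], [nat_lit 19, nat_lit 19]),
  ([nat_lit 15, nat_lit 15], []),
  ([nat_lit 14, nat_lit 14], []),
  ([nat_lit 15, nat_lit 15, nat_lit 17], [nat_lit 15]),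
  ([nat_lit 14, nat_lit 14, nat_lit 16], [nat_lit 18]),
  ([nat_lit 15], [nat_lit 19]),
  ([nat_lit 14, nat_lit 14], []),
  ([nat_lit 21, nat_lit 21], []),
  ([nat_lit 20, nat_lit 20], []),
  ([nat_lit 21, nat_lit 14], [nat_lit 14]),
  ([nat_lit 3, nat_lit 17, nat_lit 12], [nat_lit 2]),
  ([nat_lit 12, nat_lit 14, nat_lit 21, nat_lit 2, nat_lit 2], [nat_lit 16]),
  ([nat_lit 22, nat_lit 6, nat_lit 21], [nat_lit 19, nat_lit 12]),
  ([nat_lit 17, nat_lit 22, nat_lit 12, nat_lit 9, nat_lit 21], [nat_lit 11])]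
noncomputable def L80 : List (List ℕ) := [[],
  [nat_lit 6],
  [nat_lit 15, nat_lit 22, nat_lit 14, nat_lit 17, nat_lit 2, nat_lit 1],
  [nat_lit 15, nat_lit 22, nat_lit 14, nat_lit 17, nat_lit 2, nat_lit 6, nat_lit 1],
  [nat_lit 15, nat_lit 22, nat_lit 14, nat_lit 17, nat_lit 2, nat_lit 0],
  [nat_lit 15, nat_lit 22, nat_lit 14, nat_lit 17, nat_lit 2, nat_lit 6, nat_lit 0],
  [nat_lit 5],
  [nat_lit 7],
  [nat_lit 16, nat_lit 14, nat_lit 21, nat_lit 3, nat_lit 15, nat_lit 0],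
  [nat_lit 16, nat_lit 14, nat_lit 21, nat_lit 3, nat_lit 15, nat_lit 1, nat_lit 7],
  [nat_lit 16, nat_lit 14, nat_lit 21, nat_lit 3, nat_lit 15, nat_lit 1],
  [nat_lit 7, nat_lit 16, nat_lit 14, nat_lit 21, nat_lit 3, nat_lit 15, nat_lit 0],
  [nat_lit 6, nat_lit 9, nat_lit 9],
  [nat_lit 9, nat_lit 9],
  [nat_lit 7, nat_lit 9, nat_lit 9],
  [nat_lit 5, nat_lit 9, nat_lit 9],
  [nat_lit 7, nat_lit 8, nat_lit 8],
  [nat_lit 5, nat_lit 8, nat_lit 8],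
  [nat_lit 6, nat_lit 8, nat_lit 8],
  [nat_lit 8, nat_lit 8],
  [nat_lit 9, nat_lit 16, nat_lit 14, nat_lit 21, nat_lit 3, nat_lit 15, nat_lit 0],
  [nat_lit 21, nat_lit 16, nat_lit 16, nat_lit 6, nat_lit 3, nat_lit 0, nat_lit 16],
  [nat_lit 16, nat_lit 14, nat_lit 21, nat_lit 3, nat_lit 15, nat_lit 1, nat_lit 9],
  [nat_lit 0, nat_lit 22, nat_lit 15, nat_lit 22, nat_lit 3, nat_lit 13, nat_lit 5, nat_lit 21],
  [nat_lit 9, nat_lit 9, nat_lit 0, nat_lit 10],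
  [nat_lit 9, nat_lit 10, nat_lit 0, nat_lit 9],
  [nat_lit 9, nat_lit 9, nat_lit 1, nat_lit 10],
  [nat_lit 6, nat_lit 9, nat_lit 9, nat_lit 1, nat_lit 10],
  [nat_lit 7, nat_lit 9],
  [nat_lit 5, nat_lit 9],
  [nat_lit 6, nat_lit 9],
  [nat_lit 9],
  [nat_lit 5, nat_lit 8],
  [nat_lit 7, nat_lit 8],
  [nat_lit 8],
  [nat_lit 6, nat_lit 8],
  [nat_lit 16, nat_lit 14, nat_lit 21, nat_lit 3, nat_lit 15, nat_lit 10],
  [nat_lit 21, nat_lit 6, nat_lit 15, nat_lit 16, nat_lit 16, nat_lit 6, nat_lit 20, nat_lit 10],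
  [nat_lit 16, nat_lit 14, nat_lit 21, nat_lit 3, nat_lit 15, nat_lit 5, nat_lit 10],
  [nat_lit 16, nat_lit 14, nat_lit 21, nat_lit 3, nat_lit 15, nat_lit 1, nat_lit 10, nat_lit 1],
  [nat_lit 15, nat_lit 22, nat_lit 14, nat_lit 17, nat_lit 2, nat_lit 8, nat_lit 0],
  [nat_lit 7, nat_lit 15, nat_lit 22, nat_lit 14, nat_lit 17, nat_lit 2, nat_lit 8, nat_lit 1],
  [nat_lit 15, nat_lit 22, nat_lit 14, nat_lit 17, nat_lit 2, nat_lit 8, nat_lit 1],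
  [nat_lit 3, nat_lit 15, nat_lit 21, nat_lit 22, nat_lit 6, nat_lit 15, nat_lit 5, nat_lit 0, nat_lit 2],
  [nat_lit 15, nat_lit 22, nat_lit 14, nat_lit 17, nat_lit 2, nat_lit 9, nat_lit 0],
  [nat_lit 14, nat_lit 21, nat_lit 17, nat_lit 15, nat_lit 16, nat_lit 13, nat_lit 17, nat_lit 0],
  [nat_lit 15, nat_lit 22, nat_lit 14, nat_lit 17, nat_lit 2, nat_lit 9, nat_lit 1],
  [nat_lit 14, nat_lit 21, nat_lit 17, nat_lit 15, nat_lit 16, nat_lit 13, nat_lit 17, nat_lit 1],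
  [nat_lit 16, nat_lit 14, nat_lit 16, nat_lit 15, nat_lit 13, nat_lit 3, nat_lit 1, nat_lit 10, nat_lit 1],
  [nat_lit 22, nat_lit 20, nat_lit 15, nat_lit 17, nat_lit 15, nat_lit 15, nat_lit 13, nat_lit 3, nat_lit 5, nat_lit 10],
  [nat_lit 16, nat_lit 18, nat_lit 16, nat_lit 15, nat_lit 13, nat_lit 3, nat_lit 0, nat_lit 10, nat_lit 1],
  [nat_lit 15, nat_lit 22, nat_lit 14, nat_lit 17, nat_lit 2, nat_lit 9, nat_lit 10, nat_lit 8],
  [nat_lit 15, nat_lit 22, nat_lit 14, nat_lit 17, nat_lit 2, nat_lit 9, nat_lit 10, nat_lit 7],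
  [nat_lit 10, nat_lit 15, nat_lit 22, nat_lit 14, nat_lit 17, nat_lit 2, nat_lit 8],
  [nat_lit 14, nat_lit 21, nat_lit 17, nat_lit 15, nat_lit 16, nat_lit 13, nat_lit 17, nat_lit 10],
  [nat_lit 15, nat_lit 22, nat_lit 14, nat_lit 17, nat_lit 2, nat_lit 9, nat_lit 10],
  [nat_lit 15, nat_lit 22, nat_lit 14, nat_lit 17, nat_lit 2, nat_lit 10],
  [nat_lit 15, nat_lit 22, nat_lit 14, nat_lit 17, nat_lit 2, nat_lit 6, nat_lit 10],
  [nat_lit 1, nat_lit 9, nat_lit 5, nat_lit 10, nat_lit 8],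
  [nat_lit 12, nat_lit 3, nat_lit 20, nat_lit 3, nat_lit 3, nat_lit 0, nat_lit 10, nat_lit 9],
  [nat_lit 9, nat_lit 9, nat_lit 9, nat_lit 1, nat_lit 10],
  [nat_lit 0, nat_lit 9, nat_lit 6, nat_lit 9, nat_lit 5, nat_lit 10],
  [nat_lit 8, nat_lit 10, nat_lit 0],
  [nat_lit 8, nat_lit 0, nat_lit 10],
  [nat_lit 8, nat_lit 10, nat_lit 1],
  [nat_lit 8, nat_lit 1, nat_lit 10],
  [nat_lit 6, nat_lit 1, nat_lit 10],
  [nat_lit 1, nat_lit 10],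
  [nat_lit 6, nat_lit 0, nat_lit 10],
  [nat_lit 0, nat_lit 10],
  [nat_lit 9, nat_lit 10, nat_lit 0],
  [nat_lit 9, nat_lit 0, nat_lit 10],
  [nat_lit 6, nat_lit 9, nat_lit 1, nat_lit 10],
  [nat_lit 9, nat_lit 1, nat_lit 10],
  [nat_lit 10, nat_lit 15, nat_lit 22, nat_lit 14, nat_lit 17, nat_lit 2],
  [nat_lit 15, nat_lit 22, nat_lit 14, nat_lit 17, nat_lit 2, nat_lit 6, nat_lit 5, nat_lit 10],
  [nat_lit 15, nat_lit 22, nat_lit 14, nat_lit 17, nat_lit 2, nat_lit 8, nat_lit 10],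
  [nat_lit 15, nat_lit 22, nat_lit 14, nat_lit 17, nat_lit 2, nat_lit 8, nat_lit 1, nat_lit 10, nat_lit 0],
  [nat_lit 15, nat_lit 22, nat_lit 14, nat_lit 17, nat_lit 2, nat_lit 8, nat_lit 5, nat_lit 10],
  [nat_lit 15, nat_lit 22, nat_lit 14, nat_lit 17, nat_lit 2, nat_lit 8, nat_lit 10, nat_lit 7]]
noncomputable def L64 : List (List ℕ) := [[nat_lit 8, nat_lit 10, nat_lit 11, nat_lit 9, nat_lit 9, nat_lit 11, nat_lit 9, nat_lit 9, nat_lit 11, nat_lit 9, nat_lit 9, nat_lit 11, nat_lit 9],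
  [nat_lit 6, nat_lit 8, nat_lit 10, nat_lit 11, nat_lit 9, nat_lit 9, nat_lit 11, nat_lit 9, nat_lit 9, nat_lit 11, nat_lit 9, nat_lit 9, nat_lit 11, nat_lit 9],
  [],
  [nat_lit 6],
  [nat_lit 5, nat_lit 8, nat_lit 10, nat_lit 11, nat_lit 9, nat_lit 9, nat_lit 11, nat_lit 9, nat_lit 9, nat_lit 11, nat_lit 9, nat_lit 9, nat_lit 11, nat_lit 9],
  [nat_lit 7, nat_lit 8, nat_lit 10, nat_lit 11, nat_lit 9, nat_lit 9, nat_lit 11, nat_lit 9, nat_lit 9, nat_lit 11, nat_lit 9, nat_lit 9, nat_lit 11, nat_lit 9],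
  [nat_lit 5],
  [nat_lit 7],
  [nat_lit 8, nat_lit 8, nat_lit 10, nat_lit 11, nat_lit 9, nat_lit 11, nat_lit 8, nat_lit 11, nat_lit 9, nat_lit 11, nat_lit 9, nat_lit 9],
  [nat_lit 6, nat_lit 8, nat_lit 8, nat_lit 10, nat_lit 11, nat_lit 9, nat_lit 11, nat_lit 8, nat_lit 11, nat_lit 9, nat_lit 11, nat_lit 9, nat_lit 9],
  [nat_lit 8, nat_lit 11, nat_lit 9, nat_lit 11, nat_lit 8, nat_lit 11, nat_lit 9, nat_lit 9, nat_lit 11, nat_lit 8, nat_lit 11, nat_lit 9, nat_lit 11, nat_lit 8],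
  [nat_lit 8, nat_lit 11, nat_lit 9, nat_lit 9, nat_lit 11, nat_lit 8, nat_lit 11, nat_lit 9, nat_lit 11, nat_lit 8, nat_lit 11, nat_lit 8, nat_lit 11, nat_lit 9],
  [nat_lit 5, nat_lit 8, nat_lit 8, nat_lit 10, nat_lit 11, nat_lit 9, nat_lit 11, nat_lit 8, nat_lit 11, nat_lit 9, nat_lit 11, nat_lit 9, nat_lit 9],
  [nat_lit 7, nat_lit 8, nat_lit 8, nat_lit 10, nat_lit 11, nat_lit 9, nat_lit 11, nat_lit 8, nat_lit 11, nat_lit 9, nat_lit 11, nat_lit 9, nat_lit 9],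
  [nat_lit 5, nat_lit 8, nat_lit 11, nat_lit 9, nat_lit 11, nat_lit 8, nat_lit 11, nat_lit 9, nat_lit 9, nat_lit 11, nat_lit 8, nat_lit 11, nat_lit 9, nat_lit 11, nat_lit 8],
  [nat_lit 5, nat_lit 8, nat_lit 11, nat_lit 9, nat_lit 9, nat_lit 11, nat_lit 8, nat_lit 11, nat_lit 9, nat_lit 11, nat_lit 8, nat_lit 11, nat_lit 8, nat_lit 11, nat_lit 9],
  [nat_lit 5, nat_lit 10, nat_lit 11, nat_lit 8, nat_lit 8, nat_lit 11, nat_lit 8, nat_lit 11, nat_lit 9, nat_lit 11, nat_lit 8, nat_lit 11, nat_lit 8, nat_lit 8],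
  [nat_lit 7, nat_lit 10, nat_lit 11, nat_lit 8, nat_lit 8, nat_lit 11, nat_lit 8, nat_lit 11, nat_lit 9, nat_lit 11, nat_lit 8, nat_lit 11, nat_lit 8, nat_lit 8],
  [nat_lit 10, nat_lit 11, nat_lit 8, nat_lit 8, nat_lit 11, nat_lit 8, nat_lit 11, nat_lit 9, nat_lit 11, nat_lit 8, nat_lit 11, nat_lit 8, nat_lit 8],
  [nat_lit 6, nat_lit 10, nat_lit 11, nat_lit 8, nat_lit 8, nat_lit 11, nat_lit 8, nat_lit 11, nat_lit 9, nat_lit 11, nat_lit 8, nat_lit 11, nat_lit 8, nat_lit 8],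
  [nat_lit 6, nat_lit 8, nat_lit 11, nat_lit 8, nat_lit 8, nat_lit 11, nat_lit 8, nat_lit 8, nat_lit 11, nat_lit 8, nat_lit 8, nat_lit 11, nat_lit 8],
  [nat_lit 8, nat_lit 11, nat_lit 8, nat_lit 8, nat_lit 11, nat_lit 8, nat_lit 8, nat_lit 11, nat_lit 8, nat_lit 8, nat_lit 11, nat_lit 8],
  [nat_lit 7, nat_lit 8, nat_lit 11, nat_lit 8, nat_lit 8, nat_lit 11, nat_lit 8, nat_lit 8, nat_lit 11, nat_lit 8, nat_lit 8, nat_lit 11, nat_lit 8],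
  [nat_lit 5, nat_lit 8, nat_lit 11, nat_lit 8, nat_lit 8, nat_lit 11, nat_lit 8, nat_lit 8, nat_lit 11, nat_lit 8, nat_lit 8, nat_lit 11, nat_lit 8],
  [nat_lit 5, nat_lit 8, nat_lit 8, nat_lit 11, nat_lit 8, nat_lit 11, nat_lit 9, nat_lit 11, nat_lit 8, nat_lit 11, nat_lit 8, nat_lit 8],
  [nat_lit 7, nat_lit 8, nat_lit 8, nat_lit 11, nat_lit 8, nat_lit 11, nat_lit 9, nat_lit 11, nat_lit 8, nat_lit 11, nat_lit 8, nat_lit 8],
  [nat_lit 5, nat_lit 8, nat_lit 8, nat_lit 10, nat_lit 11, nat_lit 9, nat_lit 11, nat_lit 8, nat_lit 11, nat_lit 9, nat_lit 11, nat_lit 9, nat_lit 9, nat_lit 11],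
  [nat_lit 7, nat_lit 8, nat_lit 8, nat_lit 10, nat_lit 11, nat_lit 9, nat_lit 11, nat_lit 8, nat_lit 11, nat_lit 9, nat_lit 11, nat_lit 9, nat_lit 9, nat_lit 11],
  [nat_lit 8, nat_lit 8, nat_lit 10, nat_lit 11, nat_lit 9, nat_lit 11, nat_lit 8, nat_lit 11, nat_lit 9, nat_lit 11, nat_lit 9, nat_lit 9, nat_lit 11],
  [nat_lit 6, nat_lit 8, nat_lit 8, nat_lit 10, nat_lit 11, nat_lit 9, nat_lit 11, nat_lit 8, nat_lit 11, nat_lit 9, nat_lit 11, nat_lit 9, nat_lit 9, nat_lit 11],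
  [nat_lit 5, nat_lit 8, nat_lit 11, nat_lit 9, nat_lit 9, nat_lit 11, nat_lit 8, nat_lit 11, nat_lit 9, nat_lit 11, nat_lit 8, nat_lit 11, nat_lit 8, nat_lit 11, nat_lit 9, nat_lit 11],
  [nat_lit 5, nat_lit 8, nat_lit 11, nat_lit 9, nat_lit 11, nat_lit 8, nat_lit 11, nat_lit 9, nat_lit 9, nat_lit 11, nat_lit 8, nat_lit 11, nat_lit 9, nat_lit 11, nat_lit 8, nat_lit 11],
  [nat_lit 8, nat_lit 11, nat_lit 9, nat_lit 9, nat_lit 11, nat_lit 8, nat_lit 11, nat_lit 9, nat_lit 11, nat_lit 8, nat_lit 11, nat_lit 8, nat_lit 11, nat_lit 9, nat_lit 11],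
  [nat_lit 8, nat_lit 11, nat_lit 9, nat_lit 11, nat_lit 8, nat_lit 11, nat_lit 9, nat_lit 9, nat_lit 11, nat_lit 8, nat_lit 11, nat_lit 9, nat_lit 11, nat_lit 8, nat_lit 11],
  [nat_lit 5, nat_lit 8, nat_lit 10, nat_lit 11, nat_lit 8, nat_lit 8, nat_lit 11, nat_lit 9, nat_lit 11, nat_lit 8, nat_lit 11, nat_lit 9, nat_lit 11, nat_lit 9, nat_lit 11, nat_lit 8],
  [nat_lit 5, nat_lit 8, nat_lit 10, nat_lit 11, nat_lit 8, nat_lit 11, nat_lit 9, nat_lit 11, nat_lit 8, nat_lit 8, nat_lit 11, nat_lit 9, nat_lit 11, nat_lit 8, nat_lit 11, nat_lit 9],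
  [nat_lit 7, nat_lit 11, nat_lit 8, nat_lit 8, nat_lit 11, nat_lit 8, nat_lit 11, nat_lit 9, nat_lit 11, nat_lit 8, nat_lit 11, nat_lit 8, nat_lit 8],
  [nat_lit 5, nat_lit 11, nat_lit 8, nat_lit 8, nat_lit 11, nat_lit 8, nat_lit 11, nat_lit 9, nat_lit 11, nat_lit 8, nat_lit 11, nat_lit 8, nat_lit 8],
  [nat_lit 11],
  [nat_lit 6, nat_lit 11],
  [nat_lit 6, nat_lit 11, nat_lit 8, nat_lit 8, nat_lit 11, nat_lit 8, nat_lit 11, nat_lit 9, nat_lit 11, nat_lit 8, nat_lit 11, nat_lit 8, nat_lit 8],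
  [nat_lit 11, nat_lit 8, nat_lit 8, nat_lit 11, nat_lit 8, nat_lit 11, nat_lit 9, nat_lit 11, nat_lit 8, nat_lit 11, nat_lit 8, nat_lit 8],
  [nat_lit 5, nat_lit 11],
  [nat_lit 7, nat_lit 11],
  [nat_lit 8, nat_lit 10, nat_lit 11, nat_lit 8, nat_lit 8, nat_lit 11, nat_lit 9, nat_lit 11, nat_lit 8, nat_lit 11, nat_lit 9, nat_lit 11, nat_lit 9, nat_lit 11, nat_lit 8],
  [nat_lit 8, nat_lit 10, nat_lit 11, nat_lit 8, nat_lit 11, nat_lit 9, nat_lit 11, nat_lit 8, nat_lit 8, nat_lit 11, nat_lit 9, nat_lit 11, nat_lit 8, nat_lit 11, nat_lit 9],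
  [nat_lit 5, nat_lit 8, nat_lit 8, nat_lit 11, nat_lit 8, nat_lit 11, nat_lit 9, nat_lit 11, nat_lit 8, nat_lit 11, nat_lit 8, nat_lit 8, nat_lit 11],
  [nat_lit 7, nat_lit 8, nat_lit 8, nat_lit 11, nat_lit 8, nat_lit 11, nat_lit 9, nat_lit 11, nat_lit 8, nat_lit 11, nat_lit 8, nat_lit 8, nat_lit 11],
  [nat_lit 8, nat_lit 8, nat_lit 11, nat_lit 8, nat_lit 11, nat_lit 9, nat_lit 11, nat_lit 8, nat_lit 11, nat_lit 8, nat_lit 8, nat_lit 11],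
  [nat_lit 6, nat_lit 8, nat_lit 8, nat_lit 11, nat_lit 8, nat_lit 11, nat_lit 9, nat_lit 11, nat_lit 8, nat_lit 11, nat_lit 8, nat_lit 8, nat_lit 11],
  [nat_lit 10],
  [nat_lit 6, nat_lit 10],
  [nat_lit 8, nat_lit 8, nat_lit 11, nat_lit 8, nat_lit 11, nat_lit 9, nat_lit 11, nat_lit 8, nat_lit 11, nat_lit 8, nat_lit 8],
  [nat_lit 6, nat_lit 8, nat_lit 8, nat_lit 11, nat_lit 8, nat_lit 11, nat_lit 9, nat_lit 11, nat_lit 8, nat_lit 11, nat_lit 8, nat_lit 8],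
  [nat_lit 5, nat_lit 8, nat_lit 10, nat_lit 11, nat_lit 8, nat_lit 11, nat_lit 9, nat_lit 11, nat_lit 8, nat_lit 8, nat_lit 11, nat_lit 9, nat_lit 11, nat_lit 8, nat_lit 11, nat_lit 9, nat_lit 11],
  [nat_lit 5, nat_lit 8, nat_lit 10, nat_lit 11, nat_lit 8, nat_lit 8, nat_lit 11, nat_lit 9, nat_lit 11, nat_lit 8, nat_lit 11, nat_lit 9, nat_lit 11, nat_lit 9, nat_lit 11, nat_lit 8, nat_lit 11],
  [nat_lit 8, nat_lit 10, nat_lit 11, nat_lit 8, nat_lit 11, nat_lit 9, nat_lit 11, nat_lit 8, nat_lit 8, nat_lit 11, nat_lit 9, nat_lit 11, nat_lit 8, nat_lit 11, nat_lit 9, nat_lit 11],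
  [nat_lit 8, nat_lit 10, nat_lit 11, nat_lit 8, nat_lit 8, nat_lit 11, nat_lit 9, nat_lit 11, nat_lit 8, nat_lit 11, nat_lit 9, nat_lit 11, nat_lit 9, nat_lit 11, nat_lit 8, nat_lit 11],
  [nat_lit 10, nat_lit 11],
  [nat_lit 6, nat_lit 10, nat_lit 11],
  [nat_lit 5, nat_lit 10, nat_lit 11],
  [nat_lit 7, nat_lit 10, nat_lit 11],
  [nat_lit 5, nat_lit 10],
  [nat_lit 7, nat_lit 10]]
noncomputable def L20 : List (List ℕ) := [[],
  [nat_lit 5],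
  [nat_lit 22, nat_lit 20, nat_lit 20, nat_lit 15, nat_lit 16, nat_lit 2, nat_lit 6],
  [nat_lit 3, nat_lit 20, nat_lit 16, nat_lit 14, nat_lit 21],
  [nat_lit 22, nat_lit 20, nat_lit 20, nat_lit 15, nat_lit 16, nat_lit 2, nat_lit 7],
  [nat_lit 20, nat_lit 6, nat_lit 14, nat_lit 22, nat_lit 16, nat_lit 9, nat_lit 16, nat_lit 5],
  [nat_lit 7, nat_lit 22, nat_lit 20, nat_lit 20, nat_lit 15, nat_lit 16, nat_lit 2],
  [nat_lit 15, nat_lit 17, nat_lit 17, nat_lit 9, nat_lit 9, nat_lit 21, nat_lit 15, nat_lit 3],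
  [nat_lit 7, nat_lit 22, nat_lit 20, nat_lit 20, nat_lit 15, nat_lit 16, nat_lit 2, nat_lit 10],
  [nat_lit 20, nat_lit 15, nat_lit 17, nat_lit 15, nat_lit 20, nat_lit 3, nat_lit 3, nat_lit 10, nat_lit 6],
  [nat_lit 22, nat_lit 20, nat_lit 20, nat_lit 15, nat_lit 16, nat_lit 2, nat_lit 6, nat_lit 5, nat_lit 10],
  [nat_lit 22, nat_lit 20, nat_lit 20, nat_lit 15, nat_lit 16, nat_lit 2, nat_lit 6, nat_lit 10],
  [nat_lit 20, nat_lit 15, nat_lit 17, nat_lit 21, nat_lit 2, nat_lit 5],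
  [nat_lit 26],
  [nat_lit 6, nat_lit 20, nat_lit 15, nat_lit 17, nat_lit 21, nat_lit 2, nat_lit 6, nat_lit 10],
  [nat_lit 20, nat_lit 7, nat_lit 14, nat_lit 22, nat_lit 16, nat_lit 9, nat_lit 16, nat_lit 10],
  [nat_lit 10],
  [nat_lit 20, nat_lit 15, nat_lit 17, nat_lit 21, nat_lit 2, nat_lit 5, nat_lit 10],
  [nat_lit 20, nat_lit 15, nat_lit 17, nat_lit 21, nat_lit 2, nat_lit 10],
  [nat_lit 5, nat_lit 10]]
noncomputable def L720 : List (List ℕ) := [[nat_lit 4],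
  [nat_lit 22, nat_lit 14, nat_lit 20, nat_lit 22, nat_lit 16, nat_lit 15, nat_lit 2, nat_lit 4],
  [nat_lit 22, nat_lit 2, nat_lit 20, nat_lit 15, nat_lit 21, nat_lit 3, nat_lit 4],
  [nat_lit 22, nat_lit 14, nat_lit 20, nat_lit 17, nat_lit 14, nat_lit 14, nat_lit 6, nat_lit 16, nat_lit 4],
  [nat_lit 15, nat_lit 21, nat_lit 17, nat_lit 14, nat_lit 6, nat_lit 15, nat_lit 4],
  [nat_lit 22, nat_lit 20, nat_lit 20, nat_lit 15, nat_lit 3, nat_lit 9, nat_lit 14, nat_lit 4],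
  [nat_lit 22, nat_lit 14, nat_lit 16, nat_lit 22, nat_lit 6, nat_lit 16, nat_lit 4],
  [nat_lit 22, nat_lit 21, nat_lit 14, nat_lit 16, nat_lit 15, nat_lit 17, nat_lit 17, nat_lit 6, nat_lit 15, nat_lit 4],
  [nat_lit 17, nat_lit 14, nat_lit 21, nat_lit 22, nat_lit 3, nat_lit 20, nat_lit 4],
  [nat_lit 6, nat_lit 4],
  [nat_lit 22, nat_lit 15, nat_lit 15, nat_lit 22, nat_lit 16, nat_lit 15, nat_lit 20, nat_lit 4],
  [nat_lit 12, nat_lit 8, nat_lit 21, nat_lit 8, nat_lit 4],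
  [nat_lit 13, nat_lit 21, nat_lit 16, nat_lit 14, nat_lit 17, nat_lit 12, nat_lit 4],
  [nat_lit 15, nat_lit 15, nat_lit 20, nat_lit 16, nat_lit 15, nat_lit 17, nat_lit 6, nat_lit 4],
  [nat_lit 22, nat_lit 14, nat_lit 22, nat_lit 17, nat_lit 21, nat_lit 2, nat_lit 4],
  [nat_lit 18, nat_lit 8, nat_lit 3, nat_lit 20, nat_lit 20, nat_lit 15, nat_lit 9, nat_lit 9, nat_lit 4],
  [nat_lit 3, nat_lit 21, nat_lit 14, nat_lit 17, nat_lit 15, nat_lit 20, nat_lit 3, nat_lit 4],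
  [nat_lit 14, nat_lit 21, nat_lit 17, nat_lit 14, nat_lit 22, nat_lit 3, nat_lit 4],
  [nat_lit 8, nat_lit 8, nat_lit 10, nat_lit 11, nat_lit 8, nat_lit 11, nat_lit 8, nat_lit 11, nat_lit 9, nat_lit 9, nat_lit 11],
  [nat_lit 3, nat_lit 20, nat_lit 20, nat_lit 15, nat_lit 2, nat_lit 4],
  [nat_lit 15, nat_lit 15, nat_lit 20, nat_lit 16, nat_lit 15, nat_lit 17, nat_lit 4],
  [nat_lit 14, nat_lit 16, nat_lit 15, nat_lit 22, nat_lit 3, nat_lit 20, nat_lit 4],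
  [nat_lit 8, nat_lit 8, nat_lit 15, nat_lit 17, nat_lit 12, nat_lit 4],
  [nat_lit 20, nat_lit 20, nat_lit 15, nat_lit 17, nat_lit 14, nat_lit 20, nat_lit 6, nat_lit 16, nat_lit 4],
  [nat_lit 20, nat_lit 20, nat_lit 15, nat_lit 16, nat_lit 6, nat_lit 20, nat_lit 4, nat_lit 9, nat_lit 17],
  [nat_lit 4, nat_lit 17, nat_lit 15, nat_lit 15, nat_lit 16, nat_lit 2, nat_lit 2, nat_lit 8, nat_lit 8],
  [nat_lit 20, nat_lit 15, nat_lit 21, nat_lit 17, nat_lit 21, nat_lit 3, nat_lit 4],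
  [nat_lit 4, nat_lit 17, nat_lit 17, nat_lit 14, nat_lit 3, nat_lit 15, nat_lit 13],
  [nat_lit 20, nat_lit 15, nat_lit 21, nat_lit 6, nat_lit 14, nat_lit 4, nat_lit 9, nat_lit 21],
  [nat_lit 14, nat_lit 21, nat_lit 17, nat_lit 14, nat_lit 22, nat_lit 3, nat_lit 6, nat_lit 4],
  [nat_lit 21, nat_lit 2, nat_lit 12, nat_lit 4, nat_lit 9, nat_lit 21],
  [nat_lit 12, nat_lit 14, nat_lit 21, nat_lit 14, nat_lit 9, nat_lit 3, nat_lit 4],
  [nat_lit 14, nat_lit 20, nat_lit 22, nat_lit 17, nat_lit 15, nat_lit 13, nat_lit 3, nat_lit 4],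
  [nat_lit 9, nat_lit 21, nat_lit 14, nat_lit 20, nat_lit 17, nat_lit 17, nat_lit 2, nat_lit 8, nat_lit 4],
  [nat_lit 22, nat_lit 14, nat_lit 16, nat_lit 22, nat_lit 6, nat_lit 16, nat_lit 4, nat_lit 5, nat_lit 7],
  [nat_lit 15, nat_lit 15, nat_lit 16, nat_lit 16, nat_lit 6, nat_lit 15, nat_lit 4],
  [],
  [nat_lit 22, nat_lit 14, nat_lit 20, nat_lit 22, nat_lit 16, nat_lit 15, nat_lit 2],
  [nat_lit 22, nat_lit 15, nat_lit 15, nat_lit 22, nat_lit 16, nat_lit 15, nat_lit 20, nat_lit 6],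
  [nat_lit 14, nat_lit 16, nat_lit 15, nat_lit 3, nat_lit 3, nat_lit 9, nat_lit 15],
  [nat_lit 15, nat_lit 21, nat_lit 17, nat_lit 14, nat_lit 6, nat_lit 15],
  [nat_lit 25],
  [nat_lit 22, nat_lit 14, nat_lit 16, nat_lit 22, nat_lit 6, nat_lit 16],
  [nat_lit 13, nat_lit 14, nat_lit 22, nat_lit 17, nat_lit 21, nat_lit 8, nat_lit 12],
  [nat_lit 14, nat_lit 20, nat_lit 17, nat_lit 17, nat_lit 2, nat_lit 21],
  [nat_lit 24],
  [nat_lit 15, nat_lit 15, nat_lit 20, nat_lit 16, nat_lit 15, nat_lit 17, nat_lit 6],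
  [nat_lit 22, nat_lit 14, nat_lit 22, nat_lit 17, nat_lit 21, nat_lit 2],
  [nat_lit 6],
  [nat_lit 15, nat_lit 22, nat_lit 17, nat_lit 15, nat_lit 15, nat_lit 22],
  [nat_lit 12, nat_lit 14, nat_lit 21, nat_lit 17, nat_lit 17, nat_lit 15, nat_lit 13],
  [nat_lit 20, nat_lit 2, nat_lit 22, nat_lit 14, nat_lit 14, nat_lit 3, nat_lit 9],
  [nat_lit 21, nat_lit 17, nat_lit 14, nat_lit 21, nat_lit 12, nat_lit 9, nat_lit 2],
  [nat_lit 14, nat_lit 21, nat_lit 17, nat_lit 14, nat_lit 22, nat_lit 3],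
  [nat_lit 14, nat_lit 16, nat_lit 15, nat_lit 22, nat_lit 3, nat_lit 20],
  [nat_lit 12, nat_lit 9, nat_lit 3],
  [nat_lit 20, nat_lit 20, nat_lit 15, nat_lit 17, nat_lit 14, nat_lit 20, nat_lit 6, nat_lit 16],
  [nat_lit 9, nat_lit 3, nat_lit 14, nat_lit 21, nat_lit 16, nat_lit 16, nat_lit 9, nat_lit 13],
  [nat_lit 20, nat_lit 20, nat_lit 17, nat_lit 21, nat_lit 9, nat_lit 16, nat_lit 15, nat_lit 13],
  [nat_lit 20, nat_lit 15, nat_lit 21, nat_lit 17, nat_lit 21, nat_lit 3],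
  [nat_lit 8, nat_lit 22, nat_lit 15, nat_lit 16, nat_lit 12, nat_lit 9],
  [nat_lit 22, nat_lit 17, nat_lit 14, nat_lit 16, nat_lit 16, nat_lit 3, nat_lit 9, nat_lit 20],
  [nat_lit 14, nat_lit 21, nat_lit 17, nat_lit 14, nat_lit 22, nat_lit 3, nat_lit 6],
  [nat_lit 6, nat_lit 9, nat_lit 11, nat_lit 8, nat_lit 11, nat_lit 9, nat_lit 11, nat_lit 8],
  [nat_lit 22, nat_lit 14, nat_lit 22, nat_lit 17, nat_lit 21, nat_lit 2, nat_lit 6],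
  [nat_lit 15, nat_lit 15, nat_lit 20, nat_lit 16, nat_lit 15, nat_lit 17],
  [nat_lit 23],
  [nat_lit 20, nat_lit 20, nat_lit 15, nat_lit 16, nat_lit 9, nat_lit 3, nat_lit 21],
  [nat_lit 15, nat_lit 15, nat_lit 16, nat_lit 16, nat_lit 6, nat_lit 15],
  [nat_lit 9, nat_lit 22, nat_lit 14, nat_lit 14, nat_lit 17, nat_lit 3, nat_lit 16],
  [nat_lit 13, nat_lit 16, nat_lit 14, nat_lit 9, nat_lit 9],
  [nat_lit 14, nat_lit 20, nat_lit 22, nat_lit 17, nat_lit 15, nat_lit 13, nat_lit 3],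
  [nat_lit 4, nat_lit 5],
  [nat_lit 22, nat_lit 14, nat_lit 20, nat_lit 22, nat_lit 16, nat_lit 15, nat_lit 2, nat_lit 4, nat_lit 5],
  [nat_lit 22, nat_lit 15, nat_lit 15, nat_lit 22, nat_lit 16, nat_lit 15, nat_lit 20, nat_lit 4, nat_lit 7],
  [nat_lit 4, nat_lit 14, nat_lit 16, nat_lit 15, nat_lit 3, nat_lit 3, nat_lit 9, nat_lit 5, nat_lit 15],
  [nat_lit 15, nat_lit 21, nat_lit 17, nat_lit 14, nat_lit 6, nat_lit 15, nat_lit 4, nat_lit 5],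
  [nat_lit 22, nat_lit 20, nat_lit 20, nat_lit 15, nat_lit 3, nat_lit 9, nat_lit 14, nat_lit 4, nat_lit 5],
  [nat_lit 6, nat_lit 4, nat_lit 5],
  [nat_lit 22, nat_lit 15, nat_lit 15, nat_lit 22, nat_lit 16, nat_lit 15, nat_lit 20, nat_lit 4, nat_lit 5],
  [nat_lit 22, nat_lit 14, nat_lit 20, nat_lit 22, nat_lit 16, nat_lit 15, nat_lit 2, nat_lit 6, nat_lit 4, nat_lit 5],
  [nat_lit 6, nat_lit 9, nat_lit 9, nat_lit 10, nat_lit 11, nat_lit 9, nat_lit 11, nat_lit 9, nat_lit 11, nat_lit 8, nat_lit 8, nat_lit 11],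
  [nat_lit 15, nat_lit 15, nat_lit 20, nat_lit 16, nat_lit 15, nat_lit 17, nat_lit 6, nat_lit 4, nat_lit 5],
  [nat_lit 22, nat_lit 14, nat_lit 22, nat_lit 17, nat_lit 21, nat_lit 2, nat_lit 4, nat_lit 5],
  [nat_lit 14, nat_lit 20, nat_lit 20, nat_lit 17, nat_lit 15, nat_lit 15, nat_lit 16, nat_lit 13, nat_lit 3, nat_lit 4, nat_lit 5],
  [nat_lit 7, nat_lit 21, nat_lit 17, nat_lit 17, nat_lit 14, nat_lit 6, nat_lit 4, nat_lit 9, nat_lit 17],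
  [nat_lit 14, nat_lit 21, nat_lit 17, nat_lit 14, nat_lit 22, nat_lit 3, nat_lit 4, nat_lit 5],
  [nat_lit 22, nat_lit 14, nat_lit 16, nat_lit 22, nat_lit 6, nat_lit 16, nat_lit 4, nat_lit 5],
  [nat_lit 2, nat_lit 21, nat_lit 14, nat_lit 16, nat_lit 15, nat_lit 20, nat_lit 2, nat_lit 4, nat_lit 5],
  [nat_lit 15, nat_lit 15, nat_lit 16, nat_lit 16, nat_lit 6, nat_lit 15, nat_lit 4, nat_lit 5, nat_lit 6],
  [nat_lit 9, nat_lit 9, nat_lit 10, nat_lit 11, nat_lit 9, nat_lit 11, nat_lit 9, nat_lit 11, nat_lit 8, nat_lit 8, nat_lit 11],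
  [nat_lit 22, nat_lit 14, nat_lit 22, nat_lit 17, nat_lit 21, nat_lit 2, nat_lit 4, nat_lit 7],
  [nat_lit 15, nat_lit 15, nat_lit 20, nat_lit 16, nat_lit 15, nat_lit 17, nat_lit 4, nat_lit 5],
  [nat_lit 14, nat_lit 16, nat_lit 15, nat_lit 22, nat_lit 3, nat_lit 20, nat_lit 4, nat_lit 5],
  [nat_lit 12, nat_lit 9, nat_lit 3, nat_lit 4, nat_lit 5],
  [nat_lit 9, nat_lit 16, nat_lit 22, nat_lit 2, nat_lit 17, nat_lit 4, nat_lit 5],
  [nat_lit 2, nat_lit 22, nat_lit 20, nat_lit 20, nat_lit 16, nat_lit 22, nat_lit 6, nat_lit 15, nat_lit 4, nat_lit 7],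
  [nat_lit 20, nat_lit 3, nat_lit 14, nat_lit 20, nat_lit 17, nat_lit 17, nat_lit 6, nat_lit 4, nat_lit 5],
  [nat_lit 20, nat_lit 15, nat_lit 21, nat_lit 17, nat_lit 21, nat_lit 3, nat_lit 4, nat_lit 5],
  [nat_lit 4, nat_lit 12, nat_lit 15, nat_lit 20, nat_lit 15, nat_lit 13, nat_lit 5],
  [nat_lit 0, nat_lit 8, nat_lit 12, nat_lit 17, nat_lit 17, nat_lit 6, nat_lit 12, nat_lit 4, nat_lit 1],
  [nat_lit 14, nat_lit 21, nat_lit 17, nat_lit 14, nat_lit 22, nat_lit 3, nat_lit 6, nat_lit 4, nat_lit 5],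
  [nat_lit 21, nat_lit 2, nat_lit 12, nat_lit 4, nat_lit 5, nat_lit 9, nat_lit 21],
  [nat_lit 20, nat_lit 15, nat_lit 21, nat_lit 17, nat_lit 21, nat_lit 3, nat_lit 6, nat_lit 4, nat_lit 5],
  [nat_lit 13, nat_lit 15, nat_lit 21, nat_lit 22, nat_lit 3, nat_lit 21, nat_lit 4, nat_lit 5],
  [nat_lit 10, nat_lit 22, nat_lit 15, nat_lit 16, nat_lit 12, nat_lit 4, nat_lit 9, nat_lit 9, nat_lit 10],
  [nat_lit 12, nat_lit 16, nat_lit 20, nat_lit 9, nat_lit 16, nat_lit 4, nat_lit 5],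
  [nat_lit 15, nat_lit 15, nat_lit 16, nat_lit 16, nat_lit 6, nat_lit 15, nat_lit 4, nat_lit 5],
  [nat_lit 5],
  [nat_lit 22, nat_lit 14, nat_lit 20, nat_lit 22, nat_lit 16, nat_lit 15, nat_lit 2, nat_lit 5],
  [nat_lit 19, nat_lit 22, nat_lit 21, nat_lit 16, nat_lit 15, nat_lit 20, nat_lit 6, nat_lit 5],
  [nat_lit 18, nat_lit 3, nat_lit 15, nat_lit 16, nat_lit 3, nat_lit 9, nat_lit 15, nat_lit 5],
  [nat_lit 15, nat_lit 21, nat_lit 17, nat_lit 14, nat_lit 6, nat_lit 15, nat_lit 5],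
  [nat_lit 22, nat_lit 20, nat_lit 20, nat_lit 15, nat_lit 3, nat_lit 9, nat_lit 14, nat_lit 5],
  [nat_lit 5, nat_lit 9, nat_lit 11, nat_lit 8, nat_lit 11, nat_lit 9, nat_lit 11, nat_lit 8],
  [nat_lit 15, nat_lit 15, nat_lit 20, nat_lit 16, nat_lit 15, nat_lit 17, nat_lit 6, nat_lit 5],
  [nat_lit 22, nat_lit 14, nat_lit 22, nat_lit 17, nat_lit 21, nat_lit 2, nat_lit 5],
  [nat_lit 22, nat_lit 14, nat_lit 16, nat_lit 22, nat_lit 6, nat_lit 16, nat_lit 5],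
  [nat_lit 12, nat_lit 15, nat_lit 15, nat_lit 22, nat_lit 17, nat_lit 9, nat_lit 16, nat_lit 5],
  [nat_lit 14, nat_lit 20, nat_lit 17, nat_lit 17, nat_lit 2, nat_lit 1, nat_lit 1, nat_lit 21],
  [nat_lit 7],
  [nat_lit 22, nat_lit 15, nat_lit 17, nat_lit 14, nat_lit 16, nat_lit 5, nat_lit 15],
  [nat_lit 22, nat_lit 14, nat_lit 20, nat_lit 22, nat_lit 16, nat_lit 15, nat_lit 2, nat_lit 6, nat_lit 5],
  [nat_lit 17, nat_lit 14, nat_lit 20, nat_lit 13, nat_lit 17, nat_lit 5, nat_lit 12],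
  [nat_lit 5, nat_lit 13, nat_lit 17, nat_lit 14, nat_lit 22, nat_lit 9, nat_lit 9],
  [nat_lit 14, nat_lit 21, nat_lit 17, nat_lit 14, nat_lit 22, nat_lit 3, nat_lit 5],
  [nat_lit 14, nat_lit 16, nat_lit 15, nat_lit 22, nat_lit 3, nat_lit 20, nat_lit 5],
  [nat_lit 12, nat_lit 9, nat_lit 3, nat_lit 5],
  [nat_lit 8, nat_lit 0, nat_lit 16, nat_lit 22, nat_lit 2, nat_lit 17, nat_lit 0],
  [nat_lit 16, nat_lit 15, nat_lit 16, nat_lit 20, nat_lit 8, nat_lit 12, nat_lit 5, nat_lit 8],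
  [nat_lit 2, nat_lit 14, nat_lit 22, nat_lit 17, nat_lit 15, nat_lit 3, nat_lit 20, nat_lit 5],
  [nat_lit 20, nat_lit 15, nat_lit 21, nat_lit 17, nat_lit 21, nat_lit 3, nat_lit 5],
  [nat_lit 22, nat_lit 15, nat_lit 16, nat_lit 15, nat_lit 21, nat_lit 13, nat_lit 3, nat_lit 5],
  [nat_lit 17, nat_lit 14, nat_lit 20, nat_lit 13, nat_lit 17, nat_lit 12, nat_lit 5, nat_lit 6],
  [nat_lit 14, nat_lit 21, nat_lit 17, nat_lit 14, nat_lit 22, nat_lit 3, nat_lit 7],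
  [nat_lit 7, nat_lit 9, nat_lit 11, nat_lit 8, nat_lit 11, nat_lit 9, nat_lit 11, nat_lit 8],
  [nat_lit 22, nat_lit 14, nat_lit 22, nat_lit 17, nat_lit 21, nat_lit 2, nat_lit 7],
  [nat_lit 15, nat_lit 15, nat_lit 20, nat_lit 16, nat_lit 15, nat_lit 17, nat_lit 5],
  [nat_lit 21, nat_lit 16, nat_lit 15, nat_lit 17, nat_lit 2, nat_lit 5, nat_lit 21],
  [nat_lit 7, nat_lit 14, nat_lit 16, nat_lit 15, nat_lit 22, nat_lit 3, nat_lit 20],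
  [nat_lit 15, nat_lit 15, nat_lit 16, nat_lit 16, nat_lit 6, nat_lit 15, nat_lit 5],
  [nat_lit 3, nat_lit 12, nat_lit 20, nat_lit 20, nat_lit 12, nat_lit 9, nat_lit 5, nat_lit 15],
  [nat_lit 2, nat_lit 8, nat_lit 5, nat_lit 13],
  [nat_lit 14, nat_lit 20, nat_lit 22, nat_lit 17, nat_lit 15, nat_lit 13, nat_lit 3, nat_lit 5],
  [nat_lit 15, nat_lit 20, nat_lit 16, nat_lit 16, nat_lit 3, nat_lit 15, nat_lit 11, nat_lit 13, nat_lit 14, nat_lit 3],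
  [nat_lit 22, nat_lit 14, nat_lit 17, nat_lit 14, nat_lit 16, nat_lit 9, nat_lit 11, nat_lit 9, nat_lit 21],
  [nat_lit 20, nat_lit 6, nat_lit 17, nat_lit 11, nat_lit 9, nat_lit 17],
  [nat_lit 21, nat_lit 21, nat_lit 14, nat_lit 2, nat_lit 2, nat_lit 4, nat_lit 17, nat_lit 4, nat_lit 1],
  [nat_lit 13, nat_lit 22, nat_lit 20, nat_lit 17, nat_lit 14, nat_lit 14, nat_lit 13, nat_lit 3, nat_lit 11, nat_lit 9, nat_lit 17],
  [nat_lit 19, nat_lit 12, nat_lit 14, nat_lit 20, nat_lit 22, nat_lit 12, nat_lit 9, nat_lit 11, nat_lit 9, nat_lit 17],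
  [nat_lit 16, nat_lit 9, nat_lit 20, nat_lit 17, nat_lit 17, nat_lit 2, nat_lit 11, nat_lit 15, nat_lit 12, nat_lit 18],
  [nat_lit 13, nat_lit 15, nat_lit 16, nat_lit 15, nat_lit 15, nat_lit 3, nat_lit 16, nat_lit 11, nat_lit 9, nat_lit 17],
  [nat_lit 15, nat_lit 17, nat_lit 14, nat_lit 6, nat_lit 1, nat_lit 4, nat_lit 15, nat_lit 16, nat_lit 14, nat_lit 4],
  [nat_lit 22, nat_lit 15, nat_lit 15, nat_lit 20, nat_lit 16, nat_lit 22, nat_lit 6, nat_lit 11, nat_lit 9, nat_lit 17],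
  [nat_lit 22, nat_lit 15, nat_lit 21, nat_lit 17, nat_lit 3, nat_lit 21, nat_lit 11, nat_lit 9, nat_lit 17],
  [nat_lit 22, nat_lit 21, nat_lit 16, nat_lit 15, nat_lit 3, nat_lit 6, nat_lit 11, nat_lit 9, nat_lit 17],
  [nat_lit 11, nat_lit 19, nat_lit 15, nat_lit 22, nat_lit 14, nat_lit 16, nat_lit 3, nat_lit 15, nat_lit 11, nat_lit 9, nat_lit 6],
  [nat_lit 15, nat_lit 16, nat_lit 14, nat_lit 2, nat_lit 12, nat_lit 11, nat_lit 20, nat_lit 8],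
  [nat_lit 22, nat_lit 14, nat_lit 17, nat_lit 13, nat_lit 11, nat_lit 15, nat_lit 2, nat_lit 7, nat_lit 12, nat_lit 22],
  [nat_lit 11, nat_lit 22, nat_lit 21, nat_lit 14, nat_lit 20, nat_lit 17, nat_lit 3, nat_lit 14, nat_lit 5, nat_lit 11],
  [nat_lit 22, nat_lit 14, nat_lit 22, nat_lit 17, nat_lit 14, nat_lit 22, nat_lit 2, nat_lit 11, nat_lit 9, nat_lit 17],
  [nat_lit 14, nat_lit 22, nat_lit 16, nat_lit 14, nat_lit 12, nat_lit 11, nat_lit 9, nat_lit 21],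
  [nat_lit 22, nat_lit 15, nat_lit 21, nat_lit 17, nat_lit 21, nat_lit 3, nat_lit 9, nat_lit 15, nat_lit 11, nat_lit 9, nat_lit 17],
  [nat_lit 15, nat_lit 21, nat_lit 17, nat_lit 14, nat_lit 20, nat_lit 8, nat_lit 12, nat_lit 11, nat_lit 2, nat_lit 15, nat_lit 12],
  [nat_lit 15, nat_lit 17, nat_lit 14, nat_lit 20, nat_lit 2, nat_lit 8, nat_lit 11, nat_lit 17, nat_lit 20, nat_lit 6],
  [nat_lit 22, nat_lit 14, nat_lit 16, nat_lit 14, nat_lit 13, nat_lit 8, nat_lit 11, nat_lit 9, nat_lit 17],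
  [nat_lit 20, nat_lit 15, nat_lit 21, nat_lit 16, nat_lit 14, nat_lit 21, nat_lit 12, nat_lit 9, nat_lit 11, nat_lit 9, nat_lit 21],
  [nat_lit 15, nat_lit 21, nat_lit 22, nat_lit 14, nat_lit 17, nat_lit 14, nat_lit 21, nat_lit 6, nat_lit 11, nat_lit 9, nat_lit 17],
  [nat_lit 3, nat_lit 14, nat_lit 17, nat_lit 15, nat_lit 22, nat_lit 15, nat_lit 6, nat_lit 11, nat_lit 9, nat_lit 17],
  [nat_lit 22, nat_lit 15, nat_lit 21, nat_lit 22, nat_lit 14, nat_lit 6, nat_lit 11, nat_lit 9, nat_lit 17],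
  [nat_lit 22, nat_lit 14, nat_lit 20, nat_lit 16, nat_lit 14, nat_lit 13, nat_lit 1, nat_lit 4, nat_lit 17, nat_lit 4],
  [nat_lit 20, nat_lit 20, nat_lit 16, nat_lit 6, nat_lit 20, nat_lit 1, nat_lit 10, nat_lit 16, nat_lit 4, nat_lit 18, nat_lit 2],
  [nat_lit 3, nat_lit 15, nat_lit 17, nat_lit 21, nat_lit 9, nat_lit 11, nat_lit 9, nat_lit 17],
  [nat_lit 22, nat_lit 15, nat_lit 15, nat_lit 20, nat_lit 17, nat_lit 15, nat_lit 20, nat_lit 8, nat_lit 12, nat_lit 11, nat_lit 9, nat_lit 17],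
  [nat_lit 21, nat_lit 16, nat_lit 16, nat_lit 0, nat_lit 11, nat_lit 13, nat_lit 0, nat_lit 2, nat_lit 21],
  [nat_lit 16, nat_lit 15, nat_lit 20, nat_lit 3, nat_lit 9, nat_lit 11, nat_lit 13, nat_lit 3, nat_lit 20],
  [nat_lit 19, nat_lit 6, nat_lit 14, nat_lit 17, nat_lit 17, nat_lit 15, nat_lit 11, nat_lit 9, nat_lit 17],
  [nat_lit 22, nat_lit 21, nat_lit 14, nat_lit 17, nat_lit 8, nat_lit 12, nat_lit 11, nat_lit 9, nat_lit 17],
  [nat_lit 8, nat_lit 14, nat_lit 16, nat_lit 3, nat_lit 9, nat_lit 11, nat_lit 9, nat_lit 17],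
  [nat_lit 14, nat_lit 21, nat_lit 17, nat_lit 15, nat_lit 16, nat_lit 14, nat_lit 9, nat_lit 11, nat_lit 9, nat_lit 17],
  [nat_lit 22, nat_lit 14, nat_lit 21, nat_lit 16, nat_lit 14, nat_lit 21, nat_lit 6, nat_lit 14, nat_lit 1, nat_lit 11, nat_lit 0, nat_lit 17],
  [nat_lit 17, nat_lit 17, nat_lit 15, nat_lit 13, nat_lit 8, nat_lit 1, nat_lit 11, nat_lit 0, nat_lit 17],
  [nat_lit 17, nat_lit 14, nat_lit 3, nat_lit 9, nat_lit 4, nat_lit 10, nat_lit 2, nat_lit 8, nat_lit 22],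
  [nat_lit 7, nat_lit 10, nat_lit 14, nat_lit 17, nat_lit 15, nat_lit 13, nat_lit 0, nat_lit 4, nat_lit 3, nat_lit 11],
  [nat_lit 8, nat_lit 3, nat_lit 22, nat_lit 15, nat_lit 15, nat_lit 20, nat_lit 17, nat_lit 1, nat_lit 11, nat_lit 0, nat_lit 17],
  [nat_lit 16, nat_lit 14, nat_lit 21, nat_lit 3, nat_lit 11, nat_lit 20, nat_lit 6, nat_lit 21, nat_lit 17],
  [nat_lit 22, nat_lit 21, nat_lit 16, nat_lit 14, nat_lit 9, nat_lit 16, nat_lit 1, nat_lit 11, nat_lit 0, nat_lit 17],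
  [nat_lit 22, nat_lit 11, nat_lit 12, nat_lit 15, nat_lit 21, nat_lit 16, nat_lit 3, nat_lit 14, nat_lit 11, nat_lit 2, nat_lit 20],
  [nat_lit 6, nat_lit 10, nat_lit 20, nat_lit 17, nat_lit 17, nat_lit 21, nat_lit 3, nat_lit 6, nat_lit 10, nat_lit 22, nat_lit 14],
  [nat_lit 22, nat_lit 14, nat_lit 17, nat_lit 14, nat_lit 22, nat_lit 8, nat_lit 1, nat_lit 11, nat_lit 0, nat_lit 17],
  [nat_lit 22, nat_lit 21, nat_lit 14, nat_lit 17, nat_lit 10, nat_lit 15, nat_lit 20, nat_lit 11, nat_lit 10],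
  [nat_lit 11, nat_lit 0, nat_lit 16, nat_lit 15, nat_lit 17, nat_lit 17, nat_lit 21, nat_lit 6, nat_lit 17, nat_lit 1, nat_lit 11],
  [nat_lit 22, nat_lit 20, nat_lit 20, nat_lit 16, nat_lit 16, nat_lit 3, nat_lit 9, nat_lit 1, nat_lit 11, nat_lit 0, nat_lit 17],
  [nat_lit 20, nat_lit 20, nat_lit 15, nat_lit 16, nat_lit 16, nat_lit 6, nat_lit 3, nat_lit 1, nat_lit 11, nat_lit 0, nat_lit 17],
  [nat_lit 10, nat_lit 15, nat_lit 22, nat_lit 14, nat_lit 9, nat_lit 9, nat_lit 10, nat_lit 15, nat_lit 17, nat_lit 12],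
  [nat_lit 21, nat_lit 16, nat_lit 15, nat_lit 17, nat_lit 6, nat_lit 12, nat_lit 1, nat_lit 11, nat_lit 0, nat_lit 17],
  [nat_lit 10, nat_lit 14, nat_lit 17, nat_lit 15, nat_lit 13, nat_lit 1, nat_lit 4, nat_lit 3, nat_lit 11],
  [nat_lit 22, nat_lit 16, nat_lit 22, nat_lit 6, nat_lit 15, nat_lit 11, nat_lit 13, nat_lit 14, nat_lit 12],
  [nat_lit 20, nat_lit 22, nat_lit 14, nat_lit 17, nat_lit 2, nat_lit 9, nat_lit 10, nat_lit 20, nat_lit 10, nat_lit 15, nat_lit 0],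
  [nat_lit 15, nat_lit 7, nat_lit 14, nat_lit 16, nat_lit 14, nat_lit 2, nat_lit 2, nat_lit 11, nat_lit 9, nat_lit 17],
  [nat_lit 14, nat_lit 20, nat_lit 17, nat_lit 17, nat_lit 6, nat_lit 12, nat_lit 1, nat_lit 11, nat_lit 0, nat_lit 17],
  [nat_lit 14, nat_lit 22, nat_lit 3, nat_lit 14, nat_lit 11, nat_lit 17, nat_lit 20, nat_lit 7],
  [nat_lit 14, nat_lit 16, nat_lit 15, nat_lit 3, nat_lit 21, nat_lit 5, nat_lit 11, nat_lit 20, nat_lit 8],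
  [nat_lit 14, nat_lit 22, nat_lit 17, nat_lit 3, nat_lit 6, nat_lit 0, nat_lit 10, nat_lit 20, nat_lit 10, nat_lit 19],
  [nat_lit 22, nat_lit 15, nat_lit 17, nat_lit 15, nat_lit 3, nat_lit 8, nat_lit 11, nat_lit 20, nat_lit 8, nat_lit 5],
  [nat_lit 3, nat_lit 16, nat_lit 16, nat_lit 3, nat_lit 12, nat_lit 1, nat_lit 11, nat_lit 0, nat_lit 17],
  [nat_lit 18, nat_lit 22, nat_lit 20, nat_lit 2, nat_lit 15, nat_lit 0, nat_lit 10, nat_lit 16, nat_lit 4, nat_lit 2],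
  [nat_lit 0, nat_lit 14, nat_lit 20, nat_lit 17, nat_lit 14, nat_lit 20, nat_lit 4, nat_lit 17, nat_lit 4],
  [nat_lit 22, nat_lit 21, nat_lit 16, nat_lit 15, nat_lit 22, nat_lit 3, nat_lit 16, nat_lit 4, nat_lit 17, nat_lit 4, nat_lit 0],
  [nat_lit 20, nat_lit 16, nat_lit 16, nat_lit 2, nat_lit 10, nat_lit 4, nat_lit 14, nat_lit 11, nat_lit 9],
  [nat_lit 14, nat_lit 16, nat_lit 14, nat_lit 3, nat_lit 20, nat_lit 4, nat_lit 10, nat_lit 12, nat_lit 22, nat_lit 20],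
  [nat_lit 7, nat_lit 22, nat_lit 21, nat_lit 16, nat_lit 15, nat_lit 3, nat_lit 6, nat_lit 11, nat_lit 9, nat_lit 17],
  [nat_lit 17, nat_lit 14, nat_lit 21, nat_lit 3, nat_lit 21, nat_lit 5, nat_lit 11, nat_lit 20, nat_lit 8],
  [nat_lit 22, nat_lit 14, nat_lit 20, nat_lit 16, nat_lit 20, nat_lit 13, nat_lit 11, nat_lit 2, nat_lit 20, nat_lit 20, nat_lit 14],
  [nat_lit 22, nat_lit 17, nat_lit 14, nat_lit 22, nat_lit 2, nat_lit 8, nat_lit 1, nat_lit 11, nat_lit 0, nat_lit 17],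
  [nat_lit 11, nat_lit 22, nat_lit 21, nat_lit 14, nat_lit 3, nat_lit 16, nat_lit 11],
  [nat_lit 4, nat_lit 22, nat_lit 20, nat_lit 16, nat_lit 16, nat_lit 3, nat_lit 20, nat_lit 11, nat_lit 15, nat_lit 8, nat_lit 19],
  [nat_lit 14, nat_lit 20, nat_lit 22, nat_lit 17, nat_lit 17, nat_lit 13, nat_lit 17, nat_lit 1, nat_lit 4, nat_lit 17, nat_lit 6],
  [nat_lit 20, nat_lit 20, nat_lit 16, nat_lit 14, nat_lit 3, nat_lit 21, nat_lit 1, nat_lit 4, nat_lit 17, nat_lit 6],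
  [nat_lit 22, nat_lit 14, nat_lit 14, nat_lit 16, nat_lit 10, nat_lit 11, nat_lit 8, nat_lit 18, nat_lit 14, nat_lit 6],
  [nat_lit 5, nat_lit 22, nat_lit 14, nat_lit 21, nat_lit 22, nat_lit 2, nat_lit 2, nat_lit 4, nat_lit 17, nat_lit 6, nat_lit 1],
  [nat_lit 16, nat_lit 15, nat_lit 20, nat_lit 6, nat_lit 14, nat_lit 1, nat_lit 4, nat_lit 17, nat_lit 6],
  [nat_lit 21, nat_lit 16, nat_lit 20, nat_lit 4, nat_lit 17, nat_lit 7, nat_lit 0, nat_lit 5],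
  [nat_lit 15, nat_lit 22, nat_lit 14, nat_lit 16, nat_lit 15, nat_lit 20, nat_lit 13, nat_lit 1, nat_lit 4, nat_lit 17, nat_lit 6],
  [nat_lit 14, nat_lit 20, nat_lit 16, nat_lit 14, nat_lit 2, nat_lit 15, nat_lit 1, nat_lit 4, nat_lit 17, nat_lit 6],
  [nat_lit 22, nat_lit 17, nat_lit 15, nat_lit 15, nat_lit 16, nat_lit 12, nat_lit 1, nat_lit 4, nat_lit 17, nat_lit 6],
  [nat_lit 20, nat_lit 15, nat_lit 16, nat_lit 16, nat_lit 3, nat_lit 13, nat_lit 1, nat_lit 4, nat_lit 17, nat_lit 6],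
  [nat_lit 15, nat_lit 16, nat_lit 15, nat_lit 17, nat_lit 3, nat_lit 9, nat_lit 4, nat_lit 11, nat_lit 21, nat_lit 16],
  [nat_lit 10, nat_lit 21, nat_lit 16, nat_lit 20, nat_lit 13, nat_lit 3, nat_lit 11, nat_lit 9, nat_lit 3],
  [nat_lit 7, nat_lit 13, nat_lit 18, nat_lit 14, nat_lit 17, nat_lit 15, nat_lit 2, nat_lit 9, nat_lit 1, nat_lit 4, nat_lit 17, nat_lit 7],
  [nat_lit 15, nat_lit 21, nat_lit 22, nat_lit 3, nat_lit 16, nat_lit 5, nat_lit 10, nat_lit 11, nat_lit 22, nat_lit 11],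
  [nat_lit 22, nat_lit 14, nat_lit 14, nat_lit 17, nat_lit 14, nat_lit 14, nat_lit 3, nat_lit 13, nat_lit 1, nat_lit 4, nat_lit 17, nat_lit 6],
  [nat_lit 10, nat_lit 2, nat_lit 16, nat_lit 15, nat_lit 15, nat_lit 6, nat_lit 11, nat_lit 9, nat_lit 13],
  [nat_lit 15, nat_lit 15, nat_lit 17, nat_lit 14, nat_lit 9, nat_lit 1, nat_lit 4, nat_lit 17, nat_lit 6],
  [nat_lit 14, nat_lit 21, nat_lit 17, nat_lit 14, nat_lit 14, nat_lit 9, nat_lit 1, nat_lit 4, nat_lit 17, nat_lit 6],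
  [nat_lit 14, nat_lit 20, nat_lit 22, nat_lit 16, nat_lit 16, nat_lit 12, nat_lit 1, nat_lit 4, nat_lit 17, nat_lit 6],
  [nat_lit 20, nat_lit 20, nat_lit 15, nat_lit 17, nat_lit 15, nat_lit 9, nat_lit 3, nat_lit 1, nat_lit 4, nat_lit 17, nat_lit 6],
  [nat_lit 17, nat_lit 14, nat_lit 0, nat_lit 15, nat_lit 21, nat_lit 2, nat_lit 15, nat_lit 4, nat_lit 17, nat_lit 7],
  [nat_lit 22, nat_lit 20, nat_lit 16, nat_lit 22, nat_lit 2, nat_lit 15, nat_lit 1, nat_lit 4, nat_lit 17, nat_lit 6],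
  [nat_lit 22, nat_lit 14, nat_lit 20, nat_lit 16, nat_lit 14, nat_lit 13, nat_lit 1, nat_lit 4, nat_lit 17, nat_lit 6],
  [nat_lit 16, nat_lit 22, nat_lit 3, nat_lit 3, nat_lit 9, nat_lit 4, nat_lit 11, nat_lit 21, nat_lit 18, nat_lit 8],
  [nat_lit 15, nat_lit 21, nat_lit 17, nat_lit 15, nat_lit 15, nat_lit 9, nat_lit 16, nat_lit 1, nat_lit 4, nat_lit 17, nat_lit 6],
  [nat_lit 7, nat_lit 16, nat_lit 20, nat_lit 20, nat_lit 16, nat_lit 15, nat_lit 9, nat_lit 16, nat_lit 1, nat_lit 4, nat_lit 17, nat_lit 7],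
  [nat_lit 20, nat_lit 17, nat_lit 9, nat_lit 0, nat_lit 4, nat_lit 9, nat_lit 2, nat_lit 5, nat_lit 17, nat_lit 12],
  [nat_lit 14, nat_lit 3, nat_lit 15, nat_lit 11, nat_lit 20, nat_lit 6, nat_lit 8, nat_lit 4],
  [nat_lit 21, nat_lit 22, nat_lit 21, nat_lit 14, nat_lit 17, nat_lit 4, nat_lit 11, nat_lit 17, nat_lit 13],
  [nat_lit 13, nat_lit 14, nat_lit 20, nat_lit 3, nat_lit 12, nat_lit 4, nat_lit 11, nat_lit 16, nat_lit 19],
  [nat_lit 15, nat_lit 16, nat_lit 15, nat_lit 21, nat_lit 3, nat_lit 15, nat_lit 1, nat_lit 4, nat_lit 13, nat_lit 8, nat_lit 14],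
  [nat_lit 0, nat_lit 22, nat_lit 14, nat_lit 20, nat_lit 16, nat_lit 13, nat_lit 8, nat_lit 11, nat_lit 16, nat_lit 4, nat_lit 21],
  [nat_lit 15, nat_lit 17, nat_lit 15, nat_lit 20, nat_lit 3, nat_lit 13, nat_lit 1, nat_lit 4, nat_lit 17, nat_lit 6],
  [nat_lit 15, nat_lit 0, nat_lit 14, nat_lit 22, nat_lit 17, nat_lit 15, nat_lit 2, nat_lit 2, nat_lit 4, nat_lit 17, nat_lit 7],
  [nat_lit 22, nat_lit 14, nat_lit 20, nat_lit 17, nat_lit 9, nat_lit 16, nat_lit 4, nat_lit 11, nat_lit 16, nat_lit 6, nat_lit 15],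
  [nat_lit 6, nat_lit 2, nat_lit 20, nat_lit 15, nat_lit 16, nat_lit 22, nat_lit 12, nat_lit 1, nat_lit 4, nat_lit 17],
  [nat_lit 22, nat_lit 21, nat_lit 17, nat_lit 17, nat_lit 15, nat_lit 9, nat_lit 16, nat_lit 1, nat_lit 4, nat_lit 17],
  [nat_lit 16, nat_lit 15, nat_lit 20, nat_lit 6, nat_lit 14, nat_lit 1, nat_lit 4, nat_lit 17],
  [nat_lit 20, nat_lit 20, nat_lit 15, nat_lit 17, nat_lit 15, nat_lit 9, nat_lit 3, nat_lit 1, nat_lit 4, nat_lit 17],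
  [nat_lit 14, nat_lit 21, nat_lit 17, nat_lit 14, nat_lit 14, nat_lit 9, nat_lit 1, nat_lit 4, nat_lit 17],
  [nat_lit 14, nat_lit 20, nat_lit 22, nat_lit 16, nat_lit 16, nat_lit 12, nat_lit 1, nat_lit 4, nat_lit 17],
  [nat_lit 22, nat_lit 20, nat_lit 17, nat_lit 14, nat_lit 12, nat_lit 9, nat_lit 1, nat_lit 4, nat_lit 17],
  [nat_lit 8, nat_lit 22, nat_lit 17, nat_lit 15, nat_lit 15, nat_lit 16, nat_lit 1, nat_lit 4, nat_lit 17],
  [nat_lit 14, nat_lit 13, nat_lit 8, nat_lit 1, nat_lit 4, nat_lit 15, nat_lit 16, nat_lit 16],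
  [nat_lit 1, nat_lit 22, nat_lit 21, nat_lit 16, nat_lit 15, nat_lit 22, nat_lit 3, nat_lit 16, nat_lit 4, nat_lit 17],
  [nat_lit 12, nat_lit 14, nat_lit 20, nat_lit 22, nat_lit 2, nat_lit 1, nat_lit 4, nat_lit 3, nat_lit 22, nat_lit 13],
  [nat_lit 7, nat_lit 0, nat_lit 21, nat_lit 16, nat_lit 20, nat_lit 4, nat_lit 17],
  [nat_lit 8, nat_lit 14, nat_lit 16, nat_lit 9, nat_lit 0, nat_lit 4, nat_lit 12, nat_lit 17, nat_lit 5, nat_lit 9],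
  [nat_lit 14, nat_lit 20, nat_lit 22, nat_lit 17, nat_lit 17, nat_lit 13, nat_lit 17, nat_lit 1, nat_lit 4, nat_lit 17],
  [nat_lit 20, nat_lit 20, nat_lit 16, nat_lit 14, nat_lit 3, nat_lit 21, nat_lit 1, nat_lit 4, nat_lit 17],
  [nat_lit 12, nat_lit 15, nat_lit 17, nat_lit 17, nat_lit 14, nat_lit 13, nat_lit 8, nat_lit 1, nat_lit 4, nat_lit 17],
  [nat_lit 15, nat_lit 21, nat_lit 17, nat_lit 2, nat_lit 17, nat_lit 11, nat_lit 15, nat_lit 22, nat_lit 10],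
  [nat_lit 15, nat_lit 20, nat_lit 16, nat_lit 15, nat_lit 22, nat_lit 13, nat_lit 17, nat_lit 1, nat_lit 4, nat_lit 17],
  [nat_lit 16, nat_lit 14, nat_lit 21, nat_lit 17, nat_lit 14, nat_lit 20, nat_lit 12, nat_lit 1, nat_lit 4, nat_lit 17],
  [nat_lit 15, nat_lit 17, nat_lit 15, nat_lit 20, nat_lit 3, nat_lit 13, nat_lit 1, nat_lit 4, nat_lit 17],
  [nat_lit 15, nat_lit 16, nat_lit 15, nat_lit 20, nat_lit 2, nat_lit 8, nat_lit 1, nat_lit 4, nat_lit 13, nat_lit 3],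
  [nat_lit 20, nat_lit 20, nat_lit 15, nat_lit 16, nat_lit 15, nat_lit 22, nat_lit 13, nat_lit 1, nat_lit 4, nat_lit 17],
  [nat_lit 11, nat_lit 15, nat_lit 15, nat_lit 16, nat_lit 20, nat_lit 3, nat_lit 13, nat_lit 0, nat_lit 4, nat_lit 8],
  [nat_lit 14, nat_lit 22, nat_lit 8, nat_lit 12, nat_lit 1, nat_lit 4, nat_lit 20, nat_lit 8, nat_lit 21],
  [nat_lit 20, nat_lit 15, nat_lit 16, nat_lit 16, nat_lit 3, nat_lit 13, nat_lit 1, nat_lit 4, nat_lit 17],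
  [nat_lit 22, nat_lit 17, nat_lit 15, nat_lit 15, nat_lit 16, nat_lit 12, nat_lit 1, nat_lit 4, nat_lit 17],
  [nat_lit 5, nat_lit 10, nat_lit 14, nat_lit 20, nat_lit 11, nat_lit 20, nat_lit 9, nat_lit 12, nat_lit 8],
  [nat_lit 22, nat_lit 20, nat_lit 16, nat_lit 22, nat_lit 2, nat_lit 15, nat_lit 1, nat_lit 4, nat_lit 17],
  [nat_lit 22, nat_lit 15, nat_lit 21, nat_lit 22, nat_lit 17, nat_lit 12, nat_lit 9, nat_lit 1, nat_lit 4, nat_lit 17],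
  [nat_lit 22, nat_lit 14, nat_lit 20, nat_lit 16, nat_lit 14, nat_lit 13, nat_lit 1, nat_lit 4, nat_lit 17],
  [nat_lit 15, nat_lit 22, nat_lit 14, nat_lit 16, nat_lit 15, nat_lit 20, nat_lit 13, nat_lit 1, nat_lit 4, nat_lit 17],
  [nat_lit 21, nat_lit 16, nat_lit 20, nat_lit 4, nat_lit 17, nat_lit 5, nat_lit 1],
  [nat_lit 14, nat_lit 20, nat_lit 16, nat_lit 14, nat_lit 2, nat_lit 15, nat_lit 1, nat_lit 4, nat_lit 17],
  [nat_lit 0, nat_lit 17, nat_lit 15, nat_lit 22, nat_lit 15, nat_lit 16, nat_lit 3, nat_lit 12, nat_lit 4, nat_lit 5, nat_lit 17],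
  [nat_lit 15, nat_lit 15, nat_lit 17, nat_lit 14, nat_lit 9, nat_lit 1, nat_lit 4, nat_lit 17],
  [nat_lit 7, nat_lit 10, nat_lit 17, nat_lit 15, nat_lit 22, nat_lit 14, nat_lit 2, nat_lit 4, nat_lit 5, nat_lit 10],
  [nat_lit 15, nat_lit 17, nat_lit 21, nat_lit 6, nat_lit 12, nat_lit 1, nat_lit 4, nat_lit 22, nat_lit 7, nat_lit 20],
  [nat_lit 22, nat_lit 21, nat_lit 17, nat_lit 17, nat_lit 15, nat_lit 9, nat_lit 16, nat_lit 0, nat_lit 4, nat_lit 17],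
  [nat_lit 16, nat_lit 15, nat_lit 20, nat_lit 6, nat_lit 14, nat_lit 0, nat_lit 4, nat_lit 17],
  [nat_lit 20, nat_lit 20, nat_lit 15, nat_lit 17, nat_lit 15, nat_lit 9, nat_lit 3, nat_lit 0, nat_lit 4, nat_lit 17],
  [nat_lit 14, nat_lit 21, nat_lit 17, nat_lit 14, nat_lit 14, nat_lit 9, nat_lit 0, nat_lit 4, nat_lit 17],
  [nat_lit 14, nat_lit 20, nat_lit 22, nat_lit 16, nat_lit 16, nat_lit 12, nat_lit 0, nat_lit 4, nat_lit 17],
  [nat_lit 22, nat_lit 20, nat_lit 17, nat_lit 14, nat_lit 12, nat_lit 9, nat_lit 0, nat_lit 4, nat_lit 17],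
  [nat_lit 13, nat_lit 15, nat_lit 16, nat_lit 14, nat_lit 6, nat_lit 0, nat_lit 4, nat_lit 21],
  [nat_lit 1, nat_lit 9, nat_lit 22, nat_lit 14, nat_lit 22, nat_lit 3, nat_lit 6, nat_lit 4, nat_lit 5, nat_lit 17],
  [nat_lit 17, nat_lit 14, nat_lit 20, nat_lit 22, nat_lit 17, nat_lit 6, nat_lit 12, nat_lit 4, nat_lit 1, nat_lit 21],
  [nat_lit 9, nat_lit 16, nat_lit 15, nat_lit 15, nat_lit 22, nat_lit 2, nat_lit 6, nat_lit 0, nat_lit 4, nat_lit 17],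
  [nat_lit 15, nat_lit 21, nat_lit 17, nat_lit 15, nat_lit 15, nat_lit 9, nat_lit 16, nat_lit 0, nat_lit 4, nat_lit 17],
  [nat_lit 14, nat_lit 20, nat_lit 22, nat_lit 17, nat_lit 17, nat_lit 13, nat_lit 17, nat_lit 0, nat_lit 4, nat_lit 17],
  [nat_lit 14, nat_lit 21, nat_lit 22, nat_lit 17, nat_lit 14, nat_lit 14, nat_lit 6, nat_lit 14, nat_lit 0, nat_lit 4, nat_lit 17],
  [nat_lit 20, nat_lit 20, nat_lit 16, nat_lit 14, nat_lit 3, nat_lit 21, nat_lit 0, nat_lit 4, nat_lit 17],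
  [nat_lit 22, nat_lit 20, nat_lit 8, nat_lit 12, nat_lit 0, nat_lit 4, nat_lit 2, nat_lit 19, nat_lit 3],
  [nat_lit 1, nat_lit 11, nat_lit 20, nat_lit 20, nat_lit 15, nat_lit 17, nat_lit 15, nat_lit 9, nat_lit 9, nat_lit 4, nat_lit 9],
  [nat_lit 13, nat_lit 5, nat_lit 20, nat_lit 16, nat_lit 3, nat_lit 1, nat_lit 4, nat_lit 17],
  [nat_lit 21, nat_lit 15, nat_lit 15, nat_lit 17, nat_lit 14, nat_lit 14, nat_lit 12, nat_lit 0, nat_lit 4, nat_lit 17],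
  [nat_lit 15, nat_lit 17, nat_lit 15, nat_lit 20, nat_lit 3, nat_lit 13, nat_lit 0, nat_lit 4, nat_lit 17],
  [nat_lit 13, nat_lit 15, nat_lit 15, nat_lit 17, nat_lit 15, nat_lit 15, nat_lit 3, nat_lit 15, nat_lit 0, nat_lit 4, nat_lit 17],
  [nat_lit 20, nat_lit 20, nat_lit 15, nat_lit 16, nat_lit 15, nat_lit 22, nat_lit 13, nat_lit 0, nat_lit 4, nat_lit 17],
  [nat_lit 0, nat_lit 22, nat_lit 14, nat_lit 16, nat_lit 6, nat_lit 4, nat_lit 3, nat_lit 13],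
  [nat_lit 17, nat_lit 12, nat_lit 21, nat_lit 1, nat_lit 11, nat_lit 8, nat_lit 4, nat_lit 12, nat_lit 14],
  [nat_lit 20, nat_lit 15, nat_lit 16, nat_lit 16, nat_lit 3, nat_lit 13, nat_lit 0, nat_lit 4, nat_lit 17],
  [nat_lit 22, nat_lit 17, nat_lit 15, nat_lit 15, nat_lit 16, nat_lit 12, nat_lit 0, nat_lit 4, nat_lit 17],
  [nat_lit 22, nat_lit 14, nat_lit 16, nat_lit 15, nat_lit 15, nat_lit 22, nat_lit 9, nat_lit 3, nat_lit 0, nat_lit 4, nat_lit 17],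
  [nat_lit 22, nat_lit 20, nat_lit 16, nat_lit 22, nat_lit 2, nat_lit 15, nat_lit 0, nat_lit 4, nat_lit 17],
  [nat_lit 22, nat_lit 21, nat_lit 17, nat_lit 14, nat_lit 8, nat_lit 0, nat_lit 4, nat_lit 12, nat_lit 2],
  [nat_lit 22, nat_lit 14, nat_lit 20, nat_lit 16, nat_lit 14, nat_lit 13, nat_lit 0, nat_lit 4, nat_lit 17],
  [nat_lit 15, nat_lit 22, nat_lit 14, nat_lit 16, nat_lit 15, nat_lit 20, nat_lit 13, nat_lit 0, nat_lit 4, nat_lit 17],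
  [nat_lit 17, nat_lit 5, nat_lit 20, nat_lit 20, nat_lit 4, nat_lit 17, nat_lit 0],
  [nat_lit 14, nat_lit 20, nat_lit 16, nat_lit 14, nat_lit 2, nat_lit 15, nat_lit 0, nat_lit 4, nat_lit 17],
  [nat_lit 13, nat_lit 22, nat_lit 17, nat_lit 17, nat_lit 21, nat_lit 2, nat_lit 0, nat_lit 4, nat_lit 17],
  [nat_lit 15, nat_lit 15, nat_lit 17, nat_lit 14, nat_lit 9, nat_lit 0, nat_lit 4, nat_lit 17],
  [nat_lit 2, nat_lit 20, nat_lit 20, nat_lit 17, nat_lit 17, nat_lit 12, nat_lit 9, nat_lit 0, nat_lit 4, nat_lit 17],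
  [nat_lit 18, nat_lit 21, nat_lit 21, nat_lit 16, nat_lit 22, nat_lit 12, nat_lit 4, nat_lit 10, nat_lit 13, nat_lit 15],
  [nat_lit 11, nat_lit 21, nat_lit 16, nat_lit 6, nat_lit 5, nat_lit 11],
  [nat_lit 15, nat_lit 21, nat_lit 17, nat_lit 15, nat_lit 22, nat_lit 13, nat_lit 8, nat_lit 4, nat_lit 10, nat_lit 13, nat_lit 15],
  [nat_lit 22, nat_lit 14, nat_lit 14, nat_lit 16, nat_lit 20, nat_lit 12, nat_lit 10, nat_lit 15, nat_lit 20, nat_lit 10],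
  [nat_lit 21, nat_lit 22, nat_lit 6, nat_lit 14, nat_lit 10, nat_lit 15, nat_lit 20, nat_lit 10],
  [nat_lit 21, nat_lit 22, nat_lit 16, nat_lit 15, nat_lit 21, nat_lit 3, nat_lit 6, nat_lit 11, nat_lit 2, nat_lit 12, nat_lit 20],
  [nat_lit 19, nat_lit 4, nat_lit 15, nat_lit 15, nat_lit 21, nat_lit 13, nat_lit 3, nat_lit 0, nat_lit 10, nat_lit 2],
  [nat_lit 20, nat_lit 15, nat_lit 17, nat_lit 17, nat_lit 21, nat_lit 6, nat_lit 9, nat_lit 4, nat_lit 10, nat_lit 13, nat_lit 15],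
  [nat_lit 22, nat_lit 14, nat_lit 17, nat_lit 17, nat_lit 2, nat_lit 1, nat_lit 10, nat_lit 13, nat_lit 10, nat_lit 13],
  [nat_lit 16, nat_lit 3, nat_lit 9, nat_lit 14, nat_lit 4, nat_lit 3, nat_lit 10, nat_lit 13, nat_lit 22],
  [nat_lit 20, nat_lit 20, nat_lit 17, nat_lit 15, nat_lit 22, nat_lit 3, nat_lit 8, nat_lit 10, nat_lit 15, nat_lit 20, nat_lit 10],
  [nat_lit 0, nat_lit 21, nat_lit 16, nat_lit 6, nat_lit 16, nat_lit 4, nat_lit 17, nat_lit 4, nat_lit 11],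
  [nat_lit 14, nat_lit 17, nat_lit 15, nat_lit 22, nat_lit 14, nat_lit 6, nat_lit 17, nat_lit 4, nat_lit 10, nat_lit 13, nat_lit 15],
  [nat_lit 22, nat_lit 21, nat_lit 16, nat_lit 3, nat_lit 9, nat_lit 11, nat_lit 3, nat_lit 21, nat_lit 2],
  [nat_lit 15, nat_lit 16, nat_lit 15, nat_lit 22, nat_lit 3, nat_lit 13, nat_lit 4, nat_lit 15, nat_lit 4, nat_lit 14, nat_lit 6],
  [nat_lit 13, nat_lit 14, nat_lit 21, nat_lit 16, nat_lit 14, nat_lit 9, nat_lit 2, nat_lit 4, nat_lit 22, nat_lit 10, nat_lit 2, nat_lit 21],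
  [nat_lit 22, nat_lit 20, nat_lit 20, nat_lit 16, nat_lit 20, nat_lit 3, nat_lit 3, nat_lit 4, nat_lit 10, nat_lit 13, nat_lit 15],
  [nat_lit 14, nat_lit 22, nat_lit 16, nat_lit 2, nat_lit 17, nat_lit 11, nat_lit 13, nat_lit 8, nat_lit 18, nat_lit 11, nat_lit 6],
  [nat_lit 22, nat_lit 16, nat_lit 7, nat_lit 14, nat_lit 14, nat_lit 6, nat_lit 11, nat_lit 16, nat_lit 13, nat_lit 8],
  [nat_lit 21, nat_lit 21, nat_lit 17, nat_lit 21, nat_lit 3, nat_lit 15, nat_lit 1, nat_lit 11, nat_lit 0, nat_lit 17, nat_lit 11],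
  [nat_lit 9, nat_lit 22, nat_lit 14, nat_lit 21, nat_lit 22, nat_lit 3, nat_lit 4, nat_lit 10, nat_lit 13, nat_lit 15],
  [nat_lit 15, nat_lit 15, nat_lit 22, nat_lit 16, nat_lit 2, nat_lit 17, nat_lit 4, nat_lit 10, nat_lit 13, nat_lit 15],
  [nat_lit 11, nat_lit 3, nat_lit 12, nat_lit 5, nat_lit 20, nat_lit 15, nat_lit 11],
  [nat_lit 15, nat_lit 16, nat_lit 15, nat_lit 17, nat_lit 9, nat_lit 11, nat_lit 16, nat_lit 13, nat_lit 5, nat_lit 8],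
  [nat_lit 17, nat_lit 17, nat_lit 13, nat_lit 8, nat_lit 4, nat_lit 10, nat_lit 13, nat_lit 15],
  [nat_lit 8, nat_lit 11, nat_lit 22, nat_lit 20, nat_lit 17, nat_lit 14, nat_lit 3, nat_lit 15, nat_lit 15, nat_lit 11],
  [nat_lit 11, nat_lit 22, nat_lit 21, nat_lit 21, nat_lit 17, nat_lit 8, nat_lit 12, nat_lit 5, nat_lit 11],
  [nat_lit 14, nat_lit 16, nat_lit 13, nat_lit 8, nat_lit 4, nat_lit 3, nat_lit 10, nat_lit 13, nat_lit 22],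
  [nat_lit 20, nat_lit 17, nat_lit 6, nat_lit 20, nat_lit 4, nat_lit 17, nat_lit 4, nat_lit 11, nat_lit 0],
  [nat_lit 21, nat_lit 21, nat_lit 16, nat_lit 22, nat_lit 6, nat_lit 17, nat_lit 4, nat_lit 10, nat_lit 13, nat_lit 15],
  [nat_lit 2, nat_lit 12, nat_lit 1, nat_lit 4, nat_lit 2, nat_lit 2, nat_lit 13, nat_lit 4],
  [nat_lit 8, nat_lit 4, nat_lit 14, nat_lit 14, nat_lit 16, nat_lit 3, nat_lit 1, nat_lit 4, nat_lit 11],
  [nat_lit 22, nat_lit 14, nat_lit 21, nat_lit 17, nat_lit 13, nat_lit 0, nat_lit 11, nat_lit 8, nat_lit 0, nat_lit 13, nat_lit 8],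
  [nat_lit 11, nat_lit 21, nat_lit 21, nat_lit 17, nat_lit 15, nat_lit 15, nat_lit 2, nat_lit 12, nat_lit 11, nat_lit 9],
  [nat_lit 10, nat_lit 15, nat_lit 21, nat_lit 17, nat_lit 3, nat_lit 20, nat_lit 1, nat_lit 10, nat_lit 12, nat_lit 9],
  [nat_lit 21, nat_lit 16, nat_lit 15, nat_lit 17, nat_lit 17, nat_lit 12, nat_lit 4, nat_lit 10, nat_lit 13, nat_lit 15],
  [nat_lit 11, nat_lit 14, nat_lit 21, nat_lit 16, nat_lit 15, nat_lit 2, nat_lit 2, nat_lit 11],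
  [nat_lit 11, nat_lit 0, nat_lit 17, nat_lit 13, nat_lit 3, nat_lit 0, nat_lit 11, nat_lit 20, nat_lit 7, nat_lit 21],
  [nat_lit 5, nat_lit 2, nat_lit 20, nat_lit 15, nat_lit 11, nat_lit 13, nat_lit 17, nat_lit 2, nat_lit 2],
  [nat_lit 10, nat_lit 15, nat_lit 22, nat_lit 14, nat_lit 6, nat_lit 10],
  [nat_lit 7, nat_lit 17, nat_lit 17, nat_lit 13, nat_lit 8, nat_lit 4, nat_lit 10, nat_lit 13, nat_lit 15],
  [nat_lit 3, nat_lit 21, nat_lit 16, nat_lit 16, nat_lit 13, nat_lit 8, nat_lit 4, nat_lit 10, nat_lit 20, nat_lit 3],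
  [nat_lit 20, nat_lit 20, nat_lit 17, nat_lit 14, nat_lit 16, nat_lit 16, nat_lit 2, nat_lit 4, nat_lit 10, nat_lit 20, nat_lit 3],
  [nat_lit 21, nat_lit 3, nat_lit 13, nat_lit 11, nat_lit 14, nat_lit 3, nat_lit 15, nat_lit 11],
  [nat_lit 21, nat_lit 21, nat_lit 14, nat_lit 17, nat_lit 3, nat_lit 15, nat_lit 15, nat_lit 4, nat_lit 10, nat_lit 20, nat_lit 3],
  [nat_lit 20, nat_lit 16, nat_lit 15, nat_lit 15, nat_lit 6, nat_lit 14, nat_lit 4, nat_lit 10, nat_lit 20, nat_lit 3],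
  [nat_lit 14, nat_lit 22, nat_lit 16, nat_lit 15, nat_lit 15, nat_lit 3, nat_lit 11, nat_lit 13, nat_lit 21, nat_lit 12],
  [nat_lit 7, nat_lit 14, nat_lit 20, nat_lit 22, nat_lit 17, nat_lit 2, nat_lit 2, nat_lit 4, nat_lit 10, nat_lit 13, nat_lit 15],
  [nat_lit 22, nat_lit 17, nat_lit 14, nat_lit 12, nat_lit 4, nat_lit 5, nat_lit 10, nat_lit 15, nat_lit 17, nat_lit 19],
  [nat_lit 11, nat_lit 0, nat_lit 2, nat_lit 14, nat_lit 9, nat_lit 9, nat_lit 1, nat_lit 11, nat_lit 0, nat_lit 11, nat_lit 0],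
  [nat_lit 16, nat_lit 6, nat_lit 17, nat_lit 10, nat_lit 12, nat_lit 3, nat_lit 10, nat_lit 16, nat_lit 8],
  [nat_lit 22, nat_lit 14, nat_lit 22, nat_lit 17, nat_lit 17, nat_lit 21, nat_lit 6, nat_lit 11, nat_lit 14, nat_lit 20, nat_lit 22],
  [nat_lit 4, nat_lit 15, nat_lit 17, nat_lit 15, nat_lit 22, nat_lit 11, nat_lit 16, nat_lit 10, nat_lit 17],
  [nat_lit 15, nat_lit 21, nat_lit 21, nat_lit 9, nat_lit 11, nat_lit 14, nat_lit 22, nat_lit 17],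
  [nat_lit 18, nat_lit 8, nat_lit 20, nat_lit 20, nat_lit 6, nat_lit 15, nat_lit 11, nat_lit 22, nat_lit 8, nat_lit 20],
  [nat_lit 11, nat_lit 20, nat_lit 22, nat_lit 17, nat_lit 14, nat_lit 21, nat_lit 6, nat_lit 9, nat_lit 1, nat_lit 11, nat_lit 0],
  [nat_lit 15, nat_lit 21, nat_lit 17, nat_lit 15, nat_lit 22, nat_lit 13, nat_lit 4, nat_lit 10, nat_lit 20, nat_lit 3],
  [nat_lit 21, nat_lit 16, nat_lit 15, nat_lit 17, nat_lit 17, nat_lit 12, nat_lit 9, nat_lit 4, nat_lit 10, nat_lit 20, nat_lit 3],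
  [nat_lit 4, nat_lit 7, nat_lit 14, nat_lit 14, nat_lit 3, nat_lit 14, nat_lit 0, nat_lit 4, nat_lit 12, nat_lit 2, nat_lit 11],
  [nat_lit 14, nat_lit 21, nat_lit 17, nat_lit 15, nat_lit 15, nat_lit 2, nat_lit 4, nat_lit 10, nat_lit 20, nat_lit 3],
  [nat_lit 17, nat_lit 17, nat_lit 13, nat_lit 8, nat_lit 4, nat_lit 5, nat_lit 10, nat_lit 13, nat_lit 15],
  [nat_lit 3, nat_lit 20, nat_lit 17, nat_lit 21, nat_lit 6, nat_lit 11, nat_lit 14, nat_lit 22, nat_lit 21],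
  [nat_lit 17, nat_lit 3, nat_lit 3, nat_lit 9, nat_lit 4, nat_lit 15, nat_lit 10, nat_lit 2, nat_lit 0],
  [nat_lit 11, nat_lit 15, nat_lit 21, nat_lit 21, nat_lit 17, nat_lit 14, nat_lit 16, nat_lit 3, nat_lit 11],
  [nat_lit 15, nat_lit 8, nat_lit 14, nat_lit 16, nat_lit 20, nat_lit 2, nat_lit 17, nat_lit 11, nat_lit 14, nat_lit 20, nat_lit 22],
  [nat_lit 22, nat_lit 14, nat_lit 20, nat_lit 17, nat_lit 6, nat_lit 20, nat_lit 4, nat_lit 10, nat_lit 20, nat_lit 3],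
  [nat_lit 15, nat_lit 15, nat_lit 17, nat_lit 14, nat_lit 14, nat_lit 2, nat_lit 4, nat_lit 10, nat_lit 20, nat_lit 3],
  [nat_lit 17, nat_lit 17, nat_lit 13, nat_lit 4, nat_lit 10, nat_lit 20, nat_lit 3],
  [nat_lit 12, nat_lit 19, nat_lit 6, nat_lit 15, nat_lit 0, nat_lit 10, nat_lit 12, nat_lit 19, nat_lit 10, nat_lit 3],
  [nat_lit 15, nat_lit 21, nat_lit 21, nat_lit 3, nat_lit 8, nat_lit 4, nat_lit 10, nat_lit 20, nat_lit 3],
  [nat_lit 21, nat_lit 17, nat_lit 17, nat_lit 14, nat_lit 6, nat_lit 11, nat_lit 20, nat_lit 12, nat_lit 8, nat_lit 7, nat_lit 8],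
  [nat_lit 22, nat_lit 14, nat_lit 17, nat_lit 13, nat_lit 8, nat_lit 4, nat_lit 10, nat_lit 20, nat_lit 3],
  [nat_lit 15, nat_lit 21, nat_lit 21, nat_lit 9, nat_lit 9, nat_lit 11, nat_lit 20, nat_lit 6, nat_lit 8],
  [nat_lit 1, nat_lit 22, nat_lit 15, nat_lit 22, nat_lit 15, nat_lit 8, nat_lit 0, nat_lit 11, nat_lit 17, nat_lit 20],
  [nat_lit 15, nat_lit 21, nat_lit 21, nat_lit 17, nat_lit 15, nat_lit 6, nat_lit 9, nat_lit 11, nat_lit 17, nat_lit 20],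
  [nat_lit 22, nat_lit 14, nat_lit 21, nat_lit 17, nat_lit 14, nat_lit 21, nat_lit 13, nat_lit 8, nat_lit 11, nat_lit 17, nat_lit 20],
  [nat_lit 15, nat_lit 15, nat_lit 16, nat_lit 15, nat_lit 22, nat_lit 2, nat_lit 9, nat_lit 11, nat_lit 20, nat_lit 17],
  [nat_lit 22, nat_lit 6, nat_lit 14, nat_lit 22, nat_lit 17, nat_lit 13, nat_lit 17, nat_lit 11, nat_lit 17, nat_lit 20],
  [nat_lit 13, nat_lit 15, nat_lit 22, nat_lit 17, nat_lit 21, nat_lit 3, nat_lit 13, nat_lit 11, nat_lit 17, nat_lit 20],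
  [nat_lit 6, nat_lit 0, nat_lit 22, nat_lit 14, nat_lit 14, nat_lit 3, nat_lit 8, nat_lit 1, nat_lit 11, nat_lit 17, nat_lit 20],
  [nat_lit 8, nat_lit 17, nat_lit 17, nat_lit 15, nat_lit 16, nat_lit 3, nat_lit 8, nat_lit 11, nat_lit 17, nat_lit 20],
  [nat_lit 20, nat_lit 3, nat_lit 14, nat_lit 10, nat_lit 21, nat_lit 7, nat_lit 4, nat_lit 13],
  [nat_lit 22, nat_lit 15, nat_lit 15, nat_lit 22, nat_lit 17, nat_lit 17, nat_lit 15, nat_lit 9, nat_lit 11, nat_lit 17, nat_lit 20],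
  [nat_lit 22, nat_lit 15, nat_lit 15, nat_lit 17, nat_lit 15, nat_lit 16, nat_lit 8, nat_lit 11, nat_lit 17, nat_lit 20],
  [nat_lit 22, nat_lit 20, nat_lit 15, nat_lit 21, nat_lit 17, nat_lit 14, nat_lit 14, nat_lit 9, nat_lit 11, nat_lit 17, nat_lit 20],
  [nat_lit 5, nat_lit 16, nat_lit 22, nat_lit 15, nat_lit 11, nat_lit 20, nat_lit 12, nat_lit 15],
  [nat_lit 3, nat_lit 22, nat_lit 14, nat_lit 22, nat_lit 2, nat_lit 6, nat_lit 11, nat_lit 16, nat_lit 21],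
  [nat_lit 22, nat_lit 15, nat_lit 17, nat_lit 21, nat_lit 3, nat_lit 9, nat_lit 20, nat_lit 11, nat_lit 17, nat_lit 20],
  [nat_lit 18, nat_lit 22, nat_lit 16, nat_lit 15, nat_lit 17, nat_lit 2, nat_lit 15, nat_lit 4, nat_lit 22, nat_lit 4, nat_lit 22],
  [nat_lit 22, nat_lit 15, nat_lit 22, nat_lit 16, nat_lit 20, nat_lit 2, nat_lit 9, nat_lit 11, nat_lit 17, nat_lit 20],
  [nat_lit 17, nat_lit 22, nat_lit 15, nat_lit 17, nat_lit 21, nat_lit 2, nat_lit 8, nat_lit 11, nat_lit 17, nat_lit 20],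
  [nat_lit 22, nat_lit 14, nat_lit 20, nat_lit 16, nat_lit 13, nat_lit 8, nat_lit 11, nat_lit 17, nat_lit 20],
  [nat_lit 14, nat_lit 20, nat_lit 16, nat_lit 15, nat_lit 21, nat_lit 3, nat_lit 9, nat_lit 14, nat_lit 11, nat_lit 17, nat_lit 20],
  [nat_lit 22, nat_lit 14, nat_lit 22, nat_lit 17, nat_lit 14, nat_lit 14, nat_lit 2, nat_lit 6, nat_lit 11, nat_lit 17, nat_lit 20],
  [nat_lit 14, nat_lit 20, nat_lit 16, nat_lit 20, nat_lit 11, nat_lit 15, nat_lit 8, nat_lit 15],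
  [nat_lit 10, nat_lit 20, nat_lit 16, nat_lit 15, nat_lit 15, nat_lit 3, nat_lit 3, nat_lit 11, nat_lit 13, nat_lit 4],
  [nat_lit 17, nat_lit 14, nat_lit 22, nat_lit 2, nat_lit 2, nat_lit 11, nat_lit 15, nat_lit 8, nat_lit 19],
  [nat_lit 10, nat_lit 21, nat_lit 14, nat_lit 6, nat_lit 15, nat_lit 4, nat_lit 2, nat_lit 4, nat_lit 9, nat_lit 4],
  [nat_lit 12, nat_lit 15, nat_lit 17, nat_lit 9, nat_lit 3, nat_lit 4, nat_lit 13, nat_lit 4, nat_lit 12],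
  [nat_lit 14, nat_lit 22, nat_lit 3, nat_lit 14, nat_lit 11, nat_lit 17, nat_lit 20],
  [nat_lit 21, nat_lit 14, nat_lit 14, nat_lit 17, nat_lit 21, nat_lit 6, nat_lit 3, nat_lit 4, nat_lit 13, nat_lit 4, nat_lit 12],
  [nat_lit 14, nat_lit 21, nat_lit 16, nat_lit 14, nat_lit 3, nat_lit 9, nat_lit 20, nat_lit 11, nat_lit 17, nat_lit 20],
  [nat_lit 15, nat_lit 21, nat_lit 21, nat_lit 14, nat_lit 6, nat_lit 9, nat_lit 11, nat_lit 17, nat_lit 20],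
  [nat_lit 15, nat_lit 22, nat_lit 17, nat_lit 15, nat_lit 20, nat_lit 16, nat_lit 13, nat_lit 8, nat_lit 11, nat_lit 17, nat_lit 20],
  [nat_lit 15, nat_lit 17, nat_lit 14, nat_lit 20, nat_lit 2, nat_lit 8, nat_lit 11, nat_lit 17, nat_lit 20],
  [nat_lit 14, nat_lit 22, nat_lit 16, nat_lit 22, nat_lit 8, nat_lit 11, nat_lit 17, nat_lit 20],
  [nat_lit 8, nat_lit 5, nat_lit 14, nat_lit 16, nat_lit 3, nat_lit 9, nat_lit 11, nat_lit 9, nat_lit 17, nat_lit 7],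
  [nat_lit 14, nat_lit 21, nat_lit 16, nat_lit 22, nat_lit 3, nat_lit 9, nat_lit 11, nat_lit 16, nat_lit 21],
  [nat_lit 15, nat_lit 22, nat_lit 15, nat_lit 17, nat_lit 3, nat_lit 3, nat_lit 10, nat_lit 11, nat_lit 22, nat_lit 11],
  [nat_lit 14, nat_lit 20, nat_lit 22, nat_lit 17, nat_lit 17, nat_lit 13, nat_lit 17, nat_lit 1, nat_lit 4, nat_lit 17, nat_lit 7],
  [nat_lit 20, nat_lit 20, nat_lit 16, nat_lit 14, nat_lit 3, nat_lit 21, nat_lit 1, nat_lit 4, nat_lit 17, nat_lit 7],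
  [nat_lit 22, nat_lit 21, nat_lit 17, nat_lit 17, nat_lit 15, nat_lit 9, nat_lit 16, nat_lit 1, nat_lit 4, nat_lit 17, nat_lit 7],
  [nat_lit 1, nat_lit 22, nat_lit 14, nat_lit 21, nat_lit 22, nat_lit 2, nat_lit 2, nat_lit 4, nat_lit 17, nat_lit 7],
  [nat_lit 16, nat_lit 15, nat_lit 20, nat_lit 6, nat_lit 14, nat_lit 1, nat_lit 4, nat_lit 17, nat_lit 7],
  [nat_lit 20, nat_lit 15, nat_lit 17, nat_lit 17, nat_lit 14, nat_lit 9, nat_lit 2, nat_lit 1, nat_lit 4, nat_lit 17, nat_lit 7],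
  [nat_lit 16, nat_lit 15, nat_lit 17, nat_lit 14, nat_lit 16, nat_lit 13, nat_lit 1, nat_lit 4, nat_lit 17, nat_lit 7],
  [nat_lit 14, nat_lit 20, nat_lit 16, nat_lit 14, nat_lit 2, nat_lit 15, nat_lit 1, nat_lit 4, nat_lit 17, nat_lit 7],
  [nat_lit 22, nat_lit 17, nat_lit 15, nat_lit 15, nat_lit 16, nat_lit 12, nat_lit 1, nat_lit 4, nat_lit 17, nat_lit 7],
  [nat_lit 20, nat_lit 17, nat_lit 15, nat_lit 16, nat_lit 8, nat_lit 1, nat_lit 11, nat_lit 16, nat_lit 4, nat_lit 15],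
  [nat_lit 20, nat_lit 15, nat_lit 16, nat_lit 16, nat_lit 3, nat_lit 13, nat_lit 1, nat_lit 4, nat_lit 17, nat_lit 7],
  [nat_lit 10, nat_lit 20, nat_lit 20, nat_lit 17, nat_lit 14, nat_lit 6, nat_lit 9, nat_lit 11, nat_lit 3, nat_lit 14],
  [nat_lit 22, nat_lit 4, nat_lit 15, nat_lit 15, nat_lit 3, nat_lit 12, nat_lit 10, nat_lit 2, nat_lit 10],
  [nat_lit 14, nat_lit 17, nat_lit 12, nat_lit 9, nat_lit 1, nat_lit 10, nat_lit 11, nat_lit 22, nat_lit 1, nat_lit 11],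
  [nat_lit 22, nat_lit 14, nat_lit 21, nat_lit 13, nat_lit 17, nat_lit 10, nat_lit 11, nat_lit 0, nat_lit 0, nat_lit 20, nat_lit 3],
  [nat_lit 4, nat_lit 14, nat_lit 22, nat_lit 16, nat_lit 22, nat_lit 8, nat_lit 5, nat_lit 11, nat_lit 17, nat_lit 20],
  [nat_lit 15, nat_lit 15, nat_lit 17, nat_lit 14, nat_lit 9, nat_lit 1, nat_lit 4, nat_lit 17, nat_lit 7],
  [nat_lit 22, nat_lit 20, nat_lit 16, nat_lit 22, nat_lit 2, nat_lit 15, nat_lit 1, nat_lit 4, nat_lit 17, nat_lit 7],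
  [nat_lit 20, nat_lit 16, nat_lit 16, nat_lit 9, nat_lit 3, nat_lit 10, nat_lit 11, nat_lit 15, nat_lit 20, nat_lit 11],
  [nat_lit 1, nat_lit 20, nat_lit 15, nat_lit 6, nat_lit 3, nat_lit 11, nat_lit 16, nat_lit 4, nat_lit 15],
  [nat_lit 14, nat_lit 20, nat_lit 22, nat_lit 16, nat_lit 16, nat_lit 12, nat_lit 1, nat_lit 4, nat_lit 17, nat_lit 7],
  [nat_lit 14, nat_lit 21, nat_lit 17, nat_lit 14, nat_lit 14, nat_lit 9, nat_lit 1, nat_lit 4, nat_lit 17, nat_lit 7],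
  [nat_lit 20, nat_lit 17, nat_lit 17, nat_lit 15, nat_lit 8, nat_lit 1, nat_lit 11, nat_lit 16, nat_lit 4, nat_lit 19],
  [nat_lit 17, nat_lit 22, nat_lit 15, nat_lit 21, nat_lit 22, nat_lit 16, nat_lit 13, nat_lit 17, nat_lit 1, nat_lit 4, nat_lit 17, nat_lit 7],
  [nat_lit 15, nat_lit 21, nat_lit 17, nat_lit 15, nat_lit 15, nat_lit 9, nat_lit 16, nat_lit 1, nat_lit 4, nat_lit 17, nat_lit 7],
  [nat_lit 8, nat_lit 16, nat_lit 16, nat_lit 8, nat_lit 12, nat_lit 1, nat_lit 4, nat_lit 17, nat_lit 7, nat_lit 22],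
  [nat_lit 22, nat_lit 14, nat_lit 22, nat_lit 16, nat_lit 9, nat_lit 1, nat_lit 4, nat_lit 12, nat_lit 7, nat_lit 16, nat_lit 22],
  [nat_lit 22, nat_lit 20, nat_lit 17, nat_lit 14, nat_lit 12, nat_lit 9, nat_lit 1, nat_lit 4, nat_lit 17, nat_lit 7],
  [nat_lit 22, nat_lit 17, nat_lit 14, nat_lit 21, nat_lit 2, nat_lit 17, nat_lit 10, nat_lit 4, nat_lit 10, nat_lit 12],
  [nat_lit 12, nat_lit 5, nat_lit 14, nat_lit 14, nat_lit 13, nat_lit 8, nat_lit 1, nat_lit 4, nat_lit 17, nat_lit 6],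
  [nat_lit 15, nat_lit 22, nat_lit 21, nat_lit 14, nat_lit 17, nat_lit 14, nat_lit 20, nat_lit 4, nat_lit 17, nat_lit 6, nat_lit 1],
  [nat_lit 21, nat_lit 21, nat_lit 17, nat_lit 17, nat_lit 14, nat_lit 9, nat_lit 1, nat_lit 11, nat_lit 17, nat_lit 4, nat_lit 20],
  [nat_lit 15, nat_lit 17, nat_lit 15, nat_lit 20, nat_lit 3, nat_lit 13, nat_lit 1, nat_lit 4, nat_lit 17, nat_lit 7],
  [nat_lit 19, nat_lit 22, nat_lit 21, nat_lit 17, nat_lit 14, nat_lit 14, nat_lit 12, nat_lit 1, nat_lit 4, nat_lit 17, nat_lit 7],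
  [nat_lit 11, nat_lit 22, nat_lit 21, nat_lit 21, nat_lit 16, nat_lit 14, nat_lit 3, nat_lit 9, nat_lit 4, nat_lit 11],
  [nat_lit 14, nat_lit 21, nat_lit 17, nat_lit 15, nat_lit 22, nat_lit 15, nat_lit 6, nat_lit 16, nat_lit 0, nat_lit 4, nat_lit 17, nat_lit 11],
  [nat_lit 16, nat_lit 15, nat_lit 22, nat_lit 14, nat_lit 3, nat_lit 10, nat_lit 11, nat_lit 22, nat_lit 6],
  [nat_lit 5, nat_lit 10, nat_lit 15, nat_lit 22, nat_lit 14, nat_lit 6, nat_lit 10, nat_lit 4, nat_lit 14, nat_lit 19],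
  [nat_lit 1, nat_lit 22, nat_lit 21, nat_lit 21, nat_lit 16, nat_lit 22, nat_lit 3, nat_lit 20, nat_lit 4, nat_lit 5, nat_lit 17, nat_lit 11],
  [nat_lit 1, nat_lit 22, nat_lit 21, nat_lit 16, nat_lit 16, nat_lit 6, nat_lit 16, nat_lit 11, nat_lit 21, nat_lit 10, nat_lit 15],
  [nat_lit 21, nat_lit 6, nat_lit 15, nat_lit 21, nat_lit 21, nat_lit 3, nat_lit 12, nat_lit 0, nat_lit 4, nat_lit 17, nat_lit 11],
  [nat_lit 20, nat_lit 14, nat_lit 14, nat_lit 16, nat_lit 2, nat_lit 9, nat_lit 4, nat_lit 11, nat_lit 3, nat_lit 9],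
  [nat_lit 1, nat_lit 4, nat_lit 21, nat_lit 16, nat_lit 6, nat_lit 16, nat_lit 4, nat_lit 17, nat_lit 4, nat_lit 11],
  [nat_lit 20, nat_lit 17, nat_lit 6, nat_lit 9, nat_lit 1, nat_lit 4, nat_lit 14, nat_lit 18, nat_lit 12],
  [nat_lit 9, nat_lit 17, nat_lit 11, nat_lit 20, nat_lit 1, nat_lit 4, nat_lit 9, nat_lit 11],
  [nat_lit 13, nat_lit 17, nat_lit 14, nat_lit 21, nat_lit 6, nat_lit 14, nat_lit 10, nat_lit 11, nat_lit 22, nat_lit 6],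
  [nat_lit 14, nat_lit 22, nat_lit 17, nat_lit 15, nat_lit 3, nat_lit 9, nat_lit 20, nat_lit 0, nat_lit 4, nat_lit 17, nat_lit 11],
  [nat_lit 21, nat_lit 16, nat_lit 6, nat_lit 16, nat_lit 4, nat_lit 17, nat_lit 11, nat_lit 1],
  [nat_lit 22, nat_lit 15, nat_lit 16, nat_lit 14, nat_lit 6, nat_lit 12, nat_lit 10, nat_lit 22, nat_lit 14, nat_lit 11, nat_lit 18],
  [nat_lit 8, nat_lit 22, nat_lit 14, nat_lit 20, nat_lit 17, nat_lit 15, nat_lit 0, nat_lit 4, nat_lit 17, nat_lit 11],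
  [nat_lit 0, nat_lit 15, nat_lit 22, nat_lit 14, nat_lit 6, nat_lit 15, nat_lit 4, nat_lit 17, nat_lit 11],
  [nat_lit 14, nat_lit 20, nat_lit 16, nat_lit 20, nat_lit 8, nat_lit 1, nat_lit 4, nat_lit 9, nat_lit 13, nat_lit 8],
  [nat_lit 13, nat_lit 16, nat_lit 16, nat_lit 3, nat_lit 4, nat_lit 5, nat_lit 22, nat_lit 1, nat_lit 19, nat_lit 16],
  [nat_lit 15, nat_lit 3, nat_lit 21, nat_lit 21, nat_lit 3, nat_lit 3, nat_lit 4, nat_lit 17, nat_lit 14, nat_lit 0, nat_lit 22],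
  [nat_lit 12, nat_lit 15, nat_lit 22, nat_lit 14, nat_lit 13, nat_lit 8, nat_lit 0, nat_lit 4, nat_lit 17, nat_lit 11],
  [nat_lit 13, nat_lit 15, nat_lit 21, nat_lit 17, nat_lit 15, nat_lit 15, nat_lit 8, nat_lit 0, nat_lit 4, nat_lit 17, nat_lit 11],
  [nat_lit 15, nat_lit 21, nat_lit 16, nat_lit 15, nat_lit 13, nat_lit 10, nat_lit 11, nat_lit 13, nat_lit 14, nat_lit 18],
  [nat_lit 15, nat_lit 21, nat_lit 22, nat_lit 16, nat_lit 14, nat_lit 17, nat_lit 3, nat_lit 5, nat_lit 10, nat_lit 11, nat_lit 22, nat_lit 7],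
  [nat_lit 22, nat_lit 14, nat_lit 21, nat_lit 22, nat_lit 17, nat_lit 17, nat_lit 15, nat_lit 9, nat_lit 0, nat_lit 4, nat_lit 17, nat_lit 11],
  [nat_lit 2, nat_lit 22, nat_lit 15, nat_lit 16, nat_lit 14, nat_lit 2, nat_lit 12, nat_lit 10, nat_lit 11, nat_lit 9, nat_lit 12, nat_lit 12],
  [nat_lit 9, nat_lit 22, nat_lit 14, nat_lit 21, nat_lit 16, nat_lit 3, nat_lit 1, nat_lit 4, nat_lit 2, nat_lit 2, nat_lit 13],
  [nat_lit 22, nat_lit 16, nat_lit 14, nat_lit 21, nat_lit 13, nat_lit 1, nat_lit 11, nat_lit 14, nat_lit 20, nat_lit 0, nat_lit 10],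
  [nat_lit 15, nat_lit 17, nat_lit 15, nat_lit 22, nat_lit 15, nat_lit 13, nat_lit 17, nat_lit 10, nat_lit 11, nat_lit 22, nat_lit 6],
  [nat_lit 19, nat_lit 16, nat_lit 14, nat_lit 6, nat_lit 3, nat_lit 10, nat_lit 11, nat_lit 15, nat_lit 2, nat_lit 8],
  [nat_lit 4, nat_lit 21, nat_lit 16, nat_lit 15, nat_lit 17, nat_lit 17, nat_lit 12, nat_lit 4, nat_lit 10, nat_lit 13, nat_lit 15],
  [nat_lit 21, nat_lit 21, nat_lit 17, nat_lit 21, nat_lit 13, nat_lit 17, nat_lit 11, nat_lit 21, nat_lit 21, nat_lit 10],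
  [nat_lit 14, nat_lit 20, nat_lit 16, nat_lit 22, nat_lit 3, nat_lit 10, nat_lit 11, nat_lit 22, nat_lit 6],
  [nat_lit 10, nat_lit 21, nat_lit 22, nat_lit 16, nat_lit 14, nat_lit 9, nat_lit 9, nat_lit 11, nat_lit 9, nat_lit 13],
  [nat_lit 22, nat_lit 17, nat_lit 15, nat_lit 20, nat_lit 3, nat_lit 9, nat_lit 20, nat_lit 0, nat_lit 4, nat_lit 17, nat_lit 11],
  [nat_lit 15, nat_lit 10, nat_lit 0, nat_lit 22, nat_lit 21, nat_lit 14, nat_lit 16, nat_lit 16, nat_lit 11, nat_lit 15],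
  [nat_lit 14, nat_lit 20, nat_lit 22, nat_lit 16, nat_lit 3, nat_lit 9, nat_lit 15, nat_lit 0, nat_lit 4, nat_lit 17, nat_lit 11],
  [nat_lit 2, nat_lit 4, nat_lit 14, nat_lit 21, nat_lit 16, nat_lit 16, nat_lit 2, nat_lit 5, nat_lit 11, nat_lit 17, nat_lit 11],
  [nat_lit 15, nat_lit 15, nat_lit 16, nat_lit 15, nat_lit 21, nat_lit 2, nat_lit 6, nat_lit 1, nat_lit 4, nat_lit 17, nat_lit 11],
  [nat_lit 11, nat_lit 3, nat_lit 8, nat_lit 15, nat_lit 21, nat_lit 22, nat_lit 14, nat_lit 9, nat_lit 16, nat_lit 4, nat_lit 11, nat_lit 15, nat_lit 9],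
  [nat_lit 22, nat_lit 14, nat_lit 22, nat_lit 17, nat_lit 9, nat_lit 9, nat_lit 0, nat_lit 11, nat_lit 21, nat_lit 10, nat_lit 19],
  [nat_lit 13, nat_lit 21, nat_lit 16, nat_lit 22, nat_lit 8, nat_lit 1, nat_lit 4, nat_lit 14, nat_lit 7, nat_lit 13, nat_lit 21],
  [nat_lit 14, nat_lit 20, nat_lit 22, nat_lit 17, nat_lit 17, nat_lit 14, nat_lit 13, nat_lit 3, nat_lit 1, nat_lit 4, nat_lit 17, nat_lit 11],
  [nat_lit 11, nat_lit 15, nat_lit 22, nat_lit 16, nat_lit 15, nat_lit 17, nat_lit 6, nat_lit 20, nat_lit 11, nat_lit 4],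
  [nat_lit 16, nat_lit 16, nat_lit 2, nat_lit 6, nat_lit 0, nat_lit 4, nat_lit 8, nat_lit 3, nat_lit 9],
  [nat_lit 11, nat_lit 14, nat_lit 14, nat_lit 16, nat_lit 15, nat_lit 15, nat_lit 9, nat_lit 16, nat_lit 1, nat_lit 4, nat_lit 9],
  [nat_lit 20, nat_lit 15, nat_lit 21, nat_lit 9, nat_lit 2, nat_lit 1, nat_lit 4, nat_lit 17, nat_lit 11],
  [nat_lit 10, nat_lit 21, nat_lit 14, nat_lit 17, nat_lit 2, nat_lit 2, nat_lit 5, nat_lit 11, nat_lit 3],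
  [nat_lit 14, nat_lit 20, nat_lit 13, nat_lit 3, nat_lit 0, nat_lit 4, nat_lit 3, nat_lit 16, nat_lit 18],
  [nat_lit 14, nat_lit 21, nat_lit 6, nat_lit 16, nat_lit 1, nat_lit 4, nat_lit 15, nat_lit 7, nat_lit 12, nat_lit 8],
  [nat_lit 3, nat_lit 20, nat_lit 15, nat_lit 21, nat_lit 16, nat_lit 3, nat_lit 9, nat_lit 20, nat_lit 1, nat_lit 4, nat_lit 17, nat_lit 11],
  [nat_lit 22, nat_lit 17, nat_lit 15, nat_lit 16, nat_lit 6, nat_lit 3, nat_lit 0, nat_lit 4, nat_lit 3, nat_lit 3, nat_lit 12],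
  [nat_lit 22, nat_lit 16, nat_lit 15, nat_lit 13, nat_lit 11, nat_lit 16, nat_lit 10, nat_lit 6, nat_lit 17],
  [nat_lit 20, nat_lit 17, nat_lit 6, nat_lit 20, nat_lit 4, nat_lit 17, nat_lit 11, nat_lit 0],
  [nat_lit 17, nat_lit 14, nat_lit 2, nat_lit 2, nat_lit 1, nat_lit 4, nat_lit 11, nat_lit 3, nat_lit 0, nat_lit 8],
  [nat_lit 0, nat_lit 11, nat_lit 21, nat_lit 14, nat_lit 17, nat_lit 17, nat_lit 14, nat_lit 4, nat_lit 5, nat_lit 9],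
  [nat_lit 1, nat_lit 15, nat_lit 22, nat_lit 15, nat_lit 16, nat_lit 22, nat_lit 3, nat_lit 8, nat_lit 4, nat_lit 17, nat_lit 11],
  [nat_lit 15, nat_lit 15, nat_lit 17, nat_lit 15, nat_lit 15, nat_lit 16, nat_lit 6, nat_lit 14, nat_lit 1, nat_lit 4, nat_lit 17, nat_lit 11],
  [nat_lit 15, nat_lit 15, nat_lit 17, nat_lit 14, nat_lit 21, nat_lit 6, nat_lit 16, nat_lit 1, nat_lit 4, nat_lit 17, nat_lit 11],
  [nat_lit 3, nat_lit 14, nat_lit 20, nat_lit 17, nat_lit 14, nat_lit 20, nat_lit 9, nat_lit 1, nat_lit 4, nat_lit 17, nat_lit 11],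
  [nat_lit 14, nat_lit 16, nat_lit 15, nat_lit 17, nat_lit 6, nat_lit 3, nat_lit 11, nat_lit 16, nat_lit 10, nat_lit 21],
  [nat_lit 8, nat_lit 0, nat_lit 13, nat_lit 21, nat_lit 6, nat_lit 17, nat_lit 11, nat_lit 21, nat_lit 10, nat_lit 15],
  [nat_lit 7, nat_lit 16, nat_lit 22, nat_lit 3, nat_lit 15, nat_lit 1, nat_lit 4, nat_lit 3, nat_lit 3, nat_lit 17, nat_lit 19, nat_lit 19],
  [nat_lit 1, nat_lit 14, nat_lit 20, nat_lit 17, nat_lit 14, nat_lit 6, nat_lit 16, nat_lit 4, nat_lit 17, nat_lit 11],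
  [nat_lit 9, nat_lit 22, nat_lit 14, nat_lit 14, nat_lit 16, nat_lit 16, nat_lit 6, nat_lit 15, nat_lit 1, nat_lit 4, nat_lit 17, nat_lit 11],
  [nat_lit 2, nat_lit 21, nat_lit 17, nat_lit 21, nat_lit 13, nat_lit 3, nat_lit 1, nat_lit 4, nat_lit 17, nat_lit 11],
  [nat_lit 11, nat_lit 20, nat_lit 16, nat_lit 14, nat_lit 21, nat_lit 6, nat_lit 3, nat_lit 4, nat_lit 11],
  [nat_lit 8, nat_lit 20, nat_lit 11, nat_lit 14, nat_lit 16, nat_lit 15, nat_lit 21, nat_lit 9, nat_lit 16, nat_lit 10, nat_lit 16, nat_lit 21],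
  [nat_lit 22, nat_lit 15, nat_lit 21, nat_lit 22, nat_lit 16, nat_lit 15, nat_lit 17, nat_lit 9, nat_lit 1, nat_lit 4, nat_lit 17, nat_lit 11],
  [nat_lit 22, nat_lit 14, nat_lit 17, nat_lit 17, nat_lit 15, nat_lit 16, nat_lit 6, nat_lit 16, nat_lit 1, nat_lit 4, nat_lit 17, nat_lit 11],
  [nat_lit 4, nat_lit 17, nat_lit 17, nat_lit 13, nat_lit 4, nat_lit 10, nat_lit 20, nat_lit 3],
  [nat_lit 2, nat_lit 12, nat_lit 0, nat_lit 4, nat_lit 2, nat_lit 2, nat_lit 13],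
  [nat_lit 14, nat_lit 20, nat_lit 22, nat_lit 16, nat_lit 3, nat_lit 9, nat_lit 15, nat_lit 1, nat_lit 4, nat_lit 17, nat_lit 11],
  [nat_lit 20, nat_lit 16, nat_lit 15, nat_lit 20, nat_lit 3, nat_lit 13, nat_lit 1, nat_lit 4, nat_lit 9, nat_lit 13, nat_lit 17],
  [nat_lit 22, nat_lit 20, nat_lit 16, nat_lit 14, nat_lit 21, nat_lit 8, nat_lit 12, nat_lit 10, nat_lit 11, nat_lit 22],
  [nat_lit 21, nat_lit 21, nat_lit 14, nat_lit 17, nat_lit 14, nat_lit 2, nat_lit 17, nat_lit 10, nat_lit 11, nat_lit 22],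
  [nat_lit 6, nat_lit 11, nat_lit 22, nat_lit 15, nat_lit 15, nat_lit 17, nat_lit 15, nat_lit 10, nat_lit 4, nat_lit 10],
  [nat_lit 10, nat_lit 17, nat_lit 14, nat_lit 17, nat_lit 14, nat_lit 20, nat_lit 12, nat_lit 11, nat_lit 20, nat_lit 2],
  [nat_lit 22, nat_lit 16, nat_lit 14, nat_lit 3, nat_lit 21, nat_lit 10, nat_lit 11, nat_lit 22],
  [nat_lit 22, nat_lit 21, nat_lit 2, nat_lit 9, nat_lit 10, nat_lit 11, nat_lit 22, nat_lit 19],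
  [nat_lit 14, nat_lit 21, nat_lit 16, nat_lit 2, nat_lit 9, nat_lit 1, nat_lit 4, nat_lit 13, nat_lit 8, nat_lit 13],
  [nat_lit 13, nat_lit 15, nat_lit 21, nat_lit 21, nat_lit 16, nat_lit 13, nat_lit 8, nat_lit 10, nat_lit 11, nat_lit 22],
  [nat_lit 15, nat_lit 22, nat_lit 14, nat_lit 16, nat_lit 2, nat_lit 9, nat_lit 4, nat_lit 11, nat_lit 13, nat_lit 9],
  [nat_lit 4, nat_lit 14, nat_lit 16, nat_lit 16, nat_lit 13, nat_lit 4, nat_lit 15, nat_lit 4, nat_lit 14],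
  [nat_lit 14, nat_lit 20, nat_lit 22, nat_lit 17, nat_lit 17, nat_lit 9, nat_lit 2, nat_lit 10, nat_lit 11, nat_lit 22],
  [nat_lit 15, nat_lit 15, nat_lit 20, nat_lit 16, nat_lit 22, nat_lit 8, nat_lit 12, nat_lit 10, nat_lit 11, nat_lit 22],
  [nat_lit 14, nat_lit 20, nat_lit 20, nat_lit 17, nat_lit 6, nat_lit 10, nat_lit 11, nat_lit 22],
  [nat_lit 12, nat_lit 16, nat_lit 15, nat_lit 6, nat_lit 12, nat_lit 10, nat_lit 11, nat_lit 22],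
  [nat_lit 20, nat_lit 16, nat_lit 15, nat_lit 17, nat_lit 9, nat_lit 10, nat_lit 11, nat_lit 22, nat_lit 14],
  [nat_lit 22, nat_lit 15, nat_lit 21, nat_lit 21, nat_lit 3, nat_lit 15, nat_lit 4, nat_lit 11, nat_lit 13, nat_lit 9],
  [nat_lit 22, nat_lit 20, nat_lit 17, nat_lit 15, nat_lit 3, nat_lit 6, nat_lit 4, nat_lit 11, nat_lit 13, nat_lit 9],
  [nat_lit 15, nat_lit 15, nat_lit 22, nat_lit 16, nat_lit 15, nat_lit 15, nat_lit 6, nat_lit 10, nat_lit 11, nat_lit 22],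
  [nat_lit 3, nat_lit 10, nat_lit 21, nat_lit 6, nat_lit 15, nat_lit 1, nat_lit 10, nat_lit 12, nat_lit 10],
  [nat_lit 20, nat_lit 13, nat_lit 8, nat_lit 4, nat_lit 10, nat_lit 17, nat_lit 13, nat_lit 10, nat_lit 17],
  [nat_lit 11, nat_lit 16, nat_lit 15, nat_lit 22, nat_lit 3, nat_lit 15, nat_lit 0, nat_lit 4, nat_lit 9],
  [nat_lit 8, nat_lit 19, nat_lit 16, nat_lit 20, nat_lit 20, nat_lit 17, nat_lit 14, nat_lit 14, nat_lit 10, nat_lit 11, nat_lit 22],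
  [nat_lit 21, nat_lit 17, nat_lit 14, nat_lit 4, nat_lit 22, nat_lit 0, nat_lit 9, nat_lit 2, nat_lit 9],
  [nat_lit 15, nat_lit 15, nat_lit 20, nat_lit 17, nat_lit 14, nat_lit 20, nat_lit 3, nat_lit 21, nat_lit 10, nat_lit 11, nat_lit 22],
  [nat_lit 22, nat_lit 17, nat_lit 14, nat_lit 22, nat_lit 3, nat_lit 6, nat_lit 10, nat_lit 11, nat_lit 22],
  [nat_lit 0, nat_lit 21, nat_lit 4, nat_lit 14, nat_lit 17, nat_lit 14, nat_lit 14, nat_lit 16, nat_lit 11],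
  [nat_lit 13, nat_lit 20, nat_lit 20, nat_lit 3, nat_lit 9, nat_lit 14, nat_lit 10, nat_lit 11, nat_lit 22],
  [nat_lit 20, nat_lit 17, nat_lit 15, nat_lit 22, nat_lit 15, nat_lit 3, nat_lit 10, nat_lit 11, nat_lit 22],
  [nat_lit 3, nat_lit 15, nat_lit 16, nat_lit 15, nat_lit 15, nat_lit 3, nat_lit 10, nat_lit 11, nat_lit 22],
  [nat_lit 15, nat_lit 21, nat_lit 22, nat_lit 14, nat_lit 16, nat_lit 15, nat_lit 20, nat_lit 13, nat_lit 17, nat_lit 10, nat_lit 11, nat_lit 22],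
  [nat_lit 22, nat_lit 15, nat_lit 15, nat_lit 16, nat_lit 15, nat_lit 22, nat_lit 9, nat_lit 2, nat_lit 10, nat_lit 11, nat_lit 22],
  [nat_lit 14, nat_lit 20, nat_lit 16, nat_lit 22, nat_lit 3, nat_lit 10, nat_lit 11, nat_lit 22],
  [nat_lit 20, nat_lit 17, nat_lit 15, nat_lit 15, nat_lit 16, nat_lit 3, nat_lit 21, nat_lit 10, nat_lit 11, nat_lit 22],
  [nat_lit 7, nat_lit 4, nat_lit 21, nat_lit 21, nat_lit 2, nat_lit 12, nat_lit 1, nat_lit 11, nat_lit 2, nat_lit 11, nat_lit 14],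
  [nat_lit 18, nat_lit 3, nat_lit 22, nat_lit 15, nat_lit 16, nat_lit 8, nat_lit 10, nat_lit 11, nat_lit 22],
  [nat_lit 16, nat_lit 20, nat_lit 17, nat_lit 15, nat_lit 22, nat_lit 2, nat_lit 8, nat_lit 5, nat_lit 11, nat_lit 17, nat_lit 20],
  [nat_lit 22, nat_lit 20, nat_lit 16, nat_lit 15, nat_lit 3, nat_lit 9, nat_lit 14, nat_lit 5, nat_lit 11, nat_lit 17, nat_lit 20],
  [nat_lit 15, nat_lit 21, nat_lit 21, nat_lit 17, nat_lit 15, nat_lit 6, nat_lit 9, nat_lit 5, nat_lit 11, nat_lit 17, nat_lit 20],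
  [nat_lit 22, nat_lit 14, nat_lit 21, nat_lit 16, nat_lit 22, nat_lit 13, nat_lit 11, nat_lit 9, nat_lit 20, nat_lit 8],
  [nat_lit 22, nat_lit 10, nat_lit 15, nat_lit 16, nat_lit 15, nat_lit 15, nat_lit 9, nat_lit 16, nat_lit 4, nat_lit 3, nat_lit 1],
  [nat_lit 11, nat_lit 22, nat_lit 21, nat_lit 14, nat_lit 20, nat_lit 16, nat_lit 14, nat_lit 6, nat_lit 11, nat_lit 9, nat_lit 11],
  [nat_lit 11, nat_lit 15, nat_lit 21, nat_lit 16, nat_lit 14, nat_lit 21, nat_lit 2, nat_lit 8, nat_lit 11],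
  [nat_lit 21, nat_lit 14, nat_lit 16, nat_lit 15, nat_lit 9, nat_lit 16, nat_lit 11, nat_lit 13, nat_lit 8, nat_lit 14],
  [nat_lit 2, nat_lit 22, nat_lit 16, nat_lit 15, nat_lit 15, nat_lit 2, nat_lit 15, nat_lit 11, nat_lit 9, nat_lit 21, nat_lit 7],
  [nat_lit 22, nat_lit 16, nat_lit 3, nat_lit 9, nat_lit 1, nat_lit 11, nat_lit 14, nat_lit 11, nat_lit 22],
  [nat_lit 18, nat_lit 14, nat_lit 22, nat_lit 17, nat_lit 13, nat_lit 17, nat_lit 11, nat_lit 13, nat_lit 8, nat_lit 14],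
  [nat_lit 14, nat_lit 2, nat_lit 15, nat_lit 0, nat_lit 11, nat_lit 8, nat_lit 0, nat_lit 21],
  [nat_lit 22, nat_lit 20, nat_lit 15, nat_lit 21, nat_lit 17, nat_lit 14, nat_lit 14, nat_lit 9, nat_lit 5, nat_lit 11, nat_lit 17, nat_lit 20],
  [nat_lit 22, nat_lit 14, nat_lit 17, nat_lit 14, nat_lit 16, nat_lit 11, nat_lit 20, nat_lit 12, nat_lit 15],
  [nat_lit 22, nat_lit 15, nat_lit 21, nat_lit 16, nat_lit 20, nat_lit 3, nat_lit 9, nat_lit 5, nat_lit 11, nat_lit 17, nat_lit 20],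
  [nat_lit 20, nat_lit 17, nat_lit 15, nat_lit 22, nat_lit 14, nat_lit 3, nat_lit 21, nat_lit 11, nat_lit 20, nat_lit 12, nat_lit 19],
  [nat_lit 10, nat_lit 22, nat_lit 17, nat_lit 15, nat_lit 15, nat_lit 2, nat_lit 9, nat_lit 10, nat_lit 14, nat_lit 19],
  [nat_lit 22, nat_lit 14, nat_lit 20, nat_lit 16, nat_lit 13, nat_lit 8, nat_lit 5, nat_lit 11, nat_lit 17, nat_lit 20],
  [nat_lit 22, nat_lit 15, nat_lit 17, nat_lit 21, nat_lit 3, nat_lit 9, nat_lit 20, nat_lit 5, nat_lit 11, nat_lit 17, nat_lit 20],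
  [nat_lit 11, nat_lit 22, nat_lit 21, nat_lit 17, nat_lit 3, nat_lit 9, nat_lit 15, nat_lit 11, nat_lit 9, nat_lit 11],
  [nat_lit 22, nat_lit 15, nat_lit 22, nat_lit 16, nat_lit 20, nat_lit 2, nat_lit 9, nat_lit 5, nat_lit 11, nat_lit 17, nat_lit 20],
  [nat_lit 11, nat_lit 22, nat_lit 21, nat_lit 21, nat_lit 16, nat_lit 14, nat_lit 3, nat_lit 9, nat_lit 11],
  [nat_lit 20, nat_lit 20, nat_lit 15, nat_lit 17, nat_lit 14, nat_lit 16, nat_lit 9, nat_lit 5, nat_lit 11, nat_lit 17, nat_lit 20],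
  [nat_lit 8, nat_lit 15, nat_lit 17, nat_lit 15, nat_lit 15, nat_lit 3, nat_lit 11, nat_lit 9, nat_lit 20, nat_lit 8],
  [nat_lit 1, nat_lit 21, nat_lit 14, nat_lit 20, nat_lit 16, nat_lit 20, nat_lit 8, nat_lit 1, nat_lit 11, nat_lit 20, nat_lit 17],
  [nat_lit 12, nat_lit 20, nat_lit 15, nat_lit 22, nat_lit 17, nat_lit 17, nat_lit 3, nat_lit 12, nat_lit 5, nat_lit 11, nat_lit 17, nat_lit 20],
  [nat_lit 20, nat_lit 20, nat_lit 17, nat_lit 15, nat_lit 15, nat_lit 2, nat_lit 9, nat_lit 5, nat_lit 11, nat_lit 17, nat_lit 20],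
  [nat_lit 14, nat_lit 22, nat_lit 3, nat_lit 14, nat_lit 5, nat_lit 11, nat_lit 17, nat_lit 20],
  [nat_lit 10, nat_lit 14, nat_lit 21, nat_lit 16, nat_lit 15, nat_lit 13, nat_lit 11, nat_lit 2, nat_lit 4, nat_lit 9],
  [nat_lit 14, nat_lit 21, nat_lit 16, nat_lit 14, nat_lit 3, nat_lit 9, nat_lit 20, nat_lit 5, nat_lit 11, nat_lit 17, nat_lit 20],
  [nat_lit 15, nat_lit 21, nat_lit 21, nat_lit 14, nat_lit 6, nat_lit 9, nat_lit 5, nat_lit 11, nat_lit 17, nat_lit 20],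
  [nat_lit 15, nat_lit 22, nat_lit 17, nat_lit 15, nat_lit 20, nat_lit 16, nat_lit 13, nat_lit 8, nat_lit 5, nat_lit 11, nat_lit 17, nat_lit 20],
  [nat_lit 11, nat_lit 14, nat_lit 2, nat_lit 15, nat_lit 11, nat_lit 12, nat_lit 2, nat_lit 20],
  [nat_lit 14, nat_lit 22, nat_lit 16, nat_lit 22, nat_lit 8, nat_lit 5, nat_lit 11, nat_lit 17, nat_lit 20],
  [nat_lit 8, nat_lit 7, nat_lit 16, nat_lit 15, nat_lit 20, nat_lit 13, nat_lit 17, nat_lit 11, nat_lit 21, nat_lit 16],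
  [nat_lit 15, nat_lit 15, nat_lit 17, nat_lit 14, nat_lit 9, nat_lit 1, nat_lit 4, nat_lit 17, nat_lit 7, nat_lit 4],
  [nat_lit 16, nat_lit 22, nat_lit 14, nat_lit 20, nat_lit 22, nat_lit 8, nat_lit 11, nat_lit 12, nat_lit 20, nat_lit 13],
  [nat_lit 22, nat_lit 15, nat_lit 16, nat_lit 16, nat_lit 3, nat_lit 13, nat_lit 4, nat_lit 15, nat_lit 4, nat_lit 14],
  [nat_lit 14, nat_lit 20, nat_lit 17, nat_lit 17, nat_lit 9, nat_lit 3, nat_lit 4, nat_lit 15, nat_lit 4, nat_lit 14],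
  [nat_lit 22, nat_lit 21, nat_lit 16, nat_lit 14, nat_lit 8, nat_lit 5, nat_lit 10, nat_lit 2, nat_lit 2, nat_lit 21, nat_lit 10],
  [nat_lit 14, nat_lit 16, nat_lit 16, nat_lit 13, nat_lit 4, nat_lit 15, nat_lit 4, nat_lit 14],
  [nat_lit 16, nat_lit 16, nat_lit 9, nat_lit 2, nat_lit 4, nat_lit 15, nat_lit 4, nat_lit 14],
  [nat_lit 0, nat_lit 17, nat_lit 15, nat_lit 17, nat_lit 3, nat_lit 3, nat_lit 4, nat_lit 14, nat_lit 10, nat_lit 2],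
  [nat_lit 22, nat_lit 20, nat_lit 20, nat_lit 16, nat_lit 12, nat_lit 11, nat_lit 21, nat_lit 2, nat_lit 12],
  [nat_lit 4, nat_lit 22, nat_lit 16, nat_lit 14, nat_lit 3, nat_lit 21, nat_lit 10, nat_lit 11, nat_lit 22],
  [nat_lit 22, nat_lit 20, nat_lit 17, nat_lit 17, nat_lit 15, nat_lit 9, nat_lit 2, nat_lit 10, nat_lit 22, nat_lit 4, nat_lit 2],
  [nat_lit 17, nat_lit 15, nat_lit 16, nat_lit 13, nat_lit 3, nat_lit 10, nat_lit 3, nat_lit 16, nat_lit 10],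
  [nat_lit 15, nat_lit 21, nat_lit 17, nat_lit 17, nat_lit 3, nat_lit 3, nat_lit 4, nat_lit 14, nat_lit 4, nat_lit 19],
  [nat_lit 22, nat_lit 17, nat_lit 15, nat_lit 12, nat_lit 9, nat_lit 4, nat_lit 14, nat_lit 4, nat_lit 19],
  [nat_lit 8, nat_lit 19, nat_lit 9, nat_lit 9, nat_lit 11, nat_lit 12, nat_lit 6, nat_lit 19, nat_lit 22],
  [nat_lit 4, nat_lit 9, nat_lit 20, nat_lit 16, nat_lit 15, nat_lit 21, nat_lit 3, nat_lit 12, nat_lit 10, nat_lit 11, nat_lit 22],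
  [nat_lit 4, nat_lit 14, nat_lit 20, nat_lit 20, nat_lit 17, nat_lit 6, nat_lit 10, nat_lit 11, nat_lit 22],
  [nat_lit 15, nat_lit 16, nat_lit 15, nat_lit 22, nat_lit 3, nat_lit 13, nat_lit 4, nat_lit 15, nat_lit 4, nat_lit 14],
  [nat_lit 14, nat_lit 2, nat_lit 14, nat_lit 21, nat_lit 6, nat_lit 3, nat_lit 4, nat_lit 15, nat_lit 4, nat_lit 14],
  [nat_lit 22, nat_lit 15, nat_lit 17, nat_lit 21, nat_lit 6, nat_lit 17, nat_lit 4, nat_lit 15, nat_lit 4, nat_lit 14],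
  [nat_lit 16, nat_lit 15, nat_lit 17, nat_lit 3, nat_lit 0, nat_lit 10, nat_lit 12, nat_lit 5, nat_lit 22, nat_lit 10],
  [nat_lit 15, nat_lit 21, nat_lit 16, nat_lit 22, nat_lit 9, nat_lit 10, nat_lit 4, nat_lit 3, nat_lit 9, nat_lit 5],
  [nat_lit 15, nat_lit 22, nat_lit 15, nat_lit 17, nat_lit 14, nat_lit 9, nat_lit 2, nat_lit 4, nat_lit 15, nat_lit 4, nat_lit 14],
  [nat_lit 14, nat_lit 20, nat_lit 20, nat_lit 16, nat_lit 22, nat_lit 2, nat_lit 2, nat_lit 4, nat_lit 15, nat_lit 4, nat_lit 14],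
  [nat_lit 14, nat_lit 21, nat_lit 16, nat_lit 14, nat_lit 6, nat_lit 17, nat_lit 4, nat_lit 15, nat_lit 4, nat_lit 14],
  [nat_lit 22, nat_lit 21, nat_lit 21, nat_lit 17, nat_lit 15, nat_lit 4, nat_lit 2, nat_lit 21, nat_lit 3, nat_lit 4, nat_lit 18],
  [nat_lit 16, nat_lit 16, nat_lit 13, nat_lit 17, nat_lit 4, nat_lit 14, nat_lit 4, nat_lit 15],
  [nat_lit 15, nat_lit 15, nat_lit 20, nat_lit 17, nat_lit 9, nat_lit 2, nat_lit 11, nat_lit 21, nat_lit 2, nat_lit 12],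
  [nat_lit 7, nat_lit 15, nat_lit 15, nat_lit 3, nat_lit 16, nat_lit 10, nat_lit 4, nat_lit 3, nat_lit 9],
  [nat_lit 16, nat_lit 15, nat_lit 15, nat_lit 3, nat_lit 20, nat_lit 10, nat_lit 4, nat_lit 13, nat_lit 8],
  [nat_lit 22, nat_lit 15, nat_lit 16, nat_lit 20, nat_lit 2, nat_lit 4, nat_lit 15, nat_lit 10, nat_lit 2, nat_lit 1, nat_lit 6],
  [nat_lit 15, nat_lit 22, nat_lit 14, nat_lit 17, nat_lit 14, nat_lit 16, nat_lit 3, nat_lit 12, nat_lit 4, nat_lit 15, nat_lit 4, nat_lit 14],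
  [nat_lit 14, nat_lit 13, nat_lit 16, nat_lit 22, nat_lit 3, nat_lit 15, nat_lit 1, nat_lit 11, nat_lit 3, nat_lit 11, nat_lit 17],
  [nat_lit 20, nat_lit 16, nat_lit 15, nat_lit 22, nat_lit 6, nat_lit 20, nat_lit 4, nat_lit 15, nat_lit 4, nat_lit 14],
  [nat_lit 14, nat_lit 14, nat_lit 17, nat_lit 14, nat_lit 14, nat_lit 3, nat_lit 12, nat_lit 4, nat_lit 15, nat_lit 4, nat_lit 14],
  [nat_lit 22, nat_lit 15, nat_lit 17, nat_lit 17, nat_lit 3, nat_lit 9, nat_lit 14, nat_lit 10, nat_lit 3, nat_lit 16, nat_lit 10],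
  [nat_lit 7, nat_lit 14, nat_lit 20, nat_lit 2, nat_lit 17, nat_lit 10, nat_lit 12, nat_lit 22, nat_lit 10, nat_lit 5, nat_lit 1],
  [nat_lit 15, nat_lit 17, nat_lit 15, nat_lit 22, nat_lit 2, nat_lit 0, nat_lit 4, nat_lit 2, nat_lit 9, nat_lit 22, nat_lit 12],
  [nat_lit 16, nat_lit 21, nat_lit 17, nat_lit 15, nat_lit 22, nat_lit 3, nat_lit 8, nat_lit 5, nat_lit 10, nat_lit 11, nat_lit 22],
  [nat_lit 22, nat_lit 16, nat_lit 14, nat_lit 3, nat_lit 21, nat_lit 5, nat_lit 10, nat_lit 11, nat_lit 22],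
  [nat_lit 21, nat_lit 14, nat_lit 20, nat_lit 17, nat_lit 15, nat_lit 16, nat_lit 6, nat_lit 5, nat_lit 10, nat_lit 11, nat_lit 22],
  [nat_lit 22, nat_lit 21, nat_lit 21, nat_lit 17, nat_lit 14, nat_lit 20, nat_lit 11, nat_lit 21, nat_lit 21, nat_lit 7, nat_lit 10],
  [nat_lit 8, nat_lit 21, nat_lit 17, nat_lit 3, nat_lit 12, nat_lit 0, nat_lit 4, nat_lit 9, nat_lit 16, nat_lit 8],
  [nat_lit 20, nat_lit 20, nat_lit 16, nat_lit 16, nat_lit 6, nat_lit 16, nat_lit 0, nat_lit 4, nat_lit 17, nat_lit 21, nat_lit 16, nat_lit 6],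
  [nat_lit 20, nat_lit 20, nat_lit 12, nat_lit 21, nat_lit 1, nat_lit 10, nat_lit 11, nat_lit 22, nat_lit 0],
  [nat_lit 21, nat_lit 21, nat_lit 14, nat_lit 17, nat_lit 14, nat_lit 2, nat_lit 17, nat_lit 5, nat_lit 10, nat_lit 11, nat_lit 22],
  [nat_lit 11, nat_lit 2, nat_lit 22, nat_lit 17, nat_lit 15, nat_lit 22, nat_lit 0, nat_lit 4, nat_lit 9, nat_lit 11],
  [nat_lit 15, nat_lit 21, nat_lit 22, nat_lit 16, nat_lit 14, nat_lit 17, nat_lit 3, nat_lit 5, nat_lit 10, nat_lit 11, nat_lit 22],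
  [nat_lit 16, nat_lit 15, nat_lit 3, nat_lit 14, nat_lit 4, nat_lit 3, nat_lit 9, nat_lit 1, nat_lit 12],
  [nat_lit 16, nat_lit 6, nat_lit 0, nat_lit 4, nat_lit 9, nat_lit 22, nat_lit 14, nat_lit 20, nat_lit 9],
  [nat_lit 14, nat_lit 20, nat_lit 20, nat_lit 17, nat_lit 6, nat_lit 5, nat_lit 10, nat_lit 11, nat_lit 22],
  [nat_lit 22, nat_lit 14, nat_lit 16, nat_lit 6, nat_lit 0, nat_lit 4, nat_lit 13, nat_lit 8, nat_lit 13],
  [nat_lit 21, nat_lit 3, nat_lit 20, nat_lit 20, nat_lit 6, nat_lit 16, nat_lit 0, nat_lit 4, nat_lit 9, nat_lit 3, nat_lit 8],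
  [nat_lit 21, nat_lit 17, nat_lit 14, nat_lit 22, nat_lit 2, nat_lit 9, nat_lit 0, nat_lit 4, nat_lit 3, nat_lit 9, nat_lit 2],
  [nat_lit 15, nat_lit 22, nat_lit 16, nat_lit 16, nat_lit 6, nat_lit 20, nat_lit 0, nat_lit 4, nat_lit 3, nat_lit 9, nat_lit 3],
  [nat_lit 2, nat_lit 17, nat_lit 22, nat_lit 16, nat_lit 15, nat_lit 3, nat_lit 5, nat_lit 10, nat_lit 11, nat_lit 22],
  [nat_lit 14, nat_lit 21, nat_lit 17, nat_lit 1, nat_lit 11, nat_lit 17, nat_lit 4, nat_lit 17, nat_lit 3],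
  [nat_lit 2, nat_lit 16, nat_lit 15, nat_lit 17, nat_lit 3, nat_lit 5, nat_lit 10, nat_lit 11, nat_lit 22],
  [nat_lit 15, nat_lit 17, nat_lit 15, nat_lit 22, nat_lit 15, nat_lit 13, nat_lit 17, nat_lit 5, nat_lit 10, nat_lit 11, nat_lit 22],
  [nat_lit 6, nat_lit 0, nat_lit 15, nat_lit 22, nat_lit 16, nat_lit 15, nat_lit 6, nat_lit 3, nat_lit 4, nat_lit 17, nat_lit 7, nat_lit 11],
  [nat_lit 6, nat_lit 11, nat_lit 17, nat_lit 20, nat_lit 4, nat_lit 11],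
  [nat_lit 17, nat_lit 15, nat_lit 22, nat_lit 15, nat_lit 13, nat_lit 17, nat_lit 5, nat_lit 10, nat_lit 11, nat_lit 22, nat_lit 18],
  [nat_lit 22, nat_lit 17, nat_lit 14, nat_lit 22, nat_lit 3, nat_lit 6, nat_lit 5, nat_lit 10, nat_lit 11, nat_lit 22],
  [nat_lit 11, nat_lit 2, nat_lit 14, nat_lit 22, nat_lit 16, nat_lit 14, nat_lit 17, nat_lit 8, nat_lit 4, nat_lit 11, nat_lit 6],
  [nat_lit 3, nat_lit 16, nat_lit 9, nat_lit 16, nat_lit 4, nat_lit 8, nat_lit 17, nat_lit 1, nat_lit 16, nat_lit 18],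
  [nat_lit 20, nat_lit 17, nat_lit 15, nat_lit 22, nat_lit 15, nat_lit 3, nat_lit 5, nat_lit 10, nat_lit 11, nat_lit 22],
  [nat_lit 11, nat_lit 17, nat_lit 20, nat_lit 4, nat_lit 11],
  [nat_lit 6, nat_lit 20, nat_lit 17, nat_lit 15, nat_lit 22, nat_lit 15, nat_lit 3, nat_lit 5, nat_lit 10, nat_lit 11, nat_lit 22],
  [nat_lit 22, nat_lit 15, nat_lit 15, nat_lit 16, nat_lit 15, nat_lit 22, nat_lit 9, nat_lit 2, nat_lit 5, nat_lit 10, nat_lit 11, nat_lit 22],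
  [nat_lit 14, nat_lit 20, nat_lit 16, nat_lit 22, nat_lit 3, nat_lit 5, nat_lit 10, nat_lit 11, nat_lit 22],
  [nat_lit 7, nat_lit 22, nat_lit 17, nat_lit 14, nat_lit 22, nat_lit 3, nat_lit 6, nat_lit 10, nat_lit 11, nat_lit 22],
  [nat_lit 8, nat_lit 15, nat_lit 15, nat_lit 20, nat_lit 16, nat_lit 3, nat_lit 14, nat_lit 5, nat_lit 10, nat_lit 11, nat_lit 22],
  [nat_lit 11, nat_lit 1, nat_lit 22, nat_lit 14, nat_lit 17, nat_lit 3, nat_lit 8, nat_lit 4, nat_lit 2, nat_lit 14, nat_lit 14],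
  [nat_lit 20, nat_lit 17, nat_lit 15, nat_lit 22, nat_lit 14, nat_lit 8, nat_lit 12, nat_lit 10, nat_lit 4, nat_lit 3, nat_lit 9],
  [nat_lit 22, nat_lit 17, nat_lit 14, nat_lit 21, nat_lit 8, nat_lit 11, nat_lit 9, nat_lit 16, nat_lit 8],
  [nat_lit 14, nat_lit 21, nat_lit 17, nat_lit 14, nat_lit 16, nat_lit 3, nat_lit 16, nat_lit 10, nat_lit 4, nat_lit 3, nat_lit 9],
  [nat_lit 21, nat_lit 17, nat_lit 17, nat_lit 6, nat_lit 3, nat_lit 10, nat_lit 4, nat_lit 2, nat_lit 7, nat_lit 22],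
  [nat_lit 11, nat_lit 21, nat_lit 3, nat_lit 16, nat_lit 22, nat_lit 9, nat_lit 16, nat_lit 1, nat_lit 11, nat_lit 0],
  [nat_lit 19, nat_lit 15, nat_lit 21, nat_lit 21, nat_lit 16, nat_lit 20, nat_lit 9, nat_lit 11, nat_lit 9, nat_lit 16, nat_lit 8],
  [nat_lit 14, nat_lit 22, nat_lit 16, nat_lit 16, nat_lit 3, nat_lit 11, nat_lit 20, nat_lit 3, nat_lit 8, nat_lit 14, nat_lit 18],
  [nat_lit 8, nat_lit 15, nat_lit 22, nat_lit 17, nat_lit 21, nat_lit 10, nat_lit 4, nat_lit 3, nat_lit 9],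
  [nat_lit 15, nat_lit 16, nat_lit 6, nat_lit 12, nat_lit 4, nat_lit 17, nat_lit 14, nat_lit 10, nat_lit 21, nat_lit 18],
  [nat_lit 22, nat_lit 15, nat_lit 16, nat_lit 16, nat_lit 2, nat_lit 15, nat_lit 10, nat_lit 12, nat_lit 22, nat_lit 10, nat_lit 0],
  [nat_lit 15, nat_lit 15, nat_lit 3, nat_lit 16, nat_lit 10, nat_lit 4, nat_lit 3, nat_lit 9],
  [nat_lit 15, nat_lit 22, nat_lit 21, nat_lit 17, nat_lit 17, nat_lit 14, nat_lit 13, nat_lit 3, nat_lit 10, nat_lit 4, nat_lit 3, nat_lit 9],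
  [nat_lit 14, nat_lit 20, nat_lit 22, nat_lit 17, nat_lit 17, nat_lit 15, nat_lit 3, nat_lit 8, nat_lit 10, nat_lit 4, nat_lit 3, nat_lit 9],
  [nat_lit 21, nat_lit 21, nat_lit 2, nat_lit 12, nat_lit 1, nat_lit 11, nat_lit 2, nat_lit 11, nat_lit 14],
  [nat_lit 22, nat_lit 15, nat_lit 15, nat_lit 16, nat_lit 15, nat_lit 21, nat_lit 2, nat_lit 10, nat_lit 4, nat_lit 3, nat_lit 9],
  [nat_lit 22, nat_lit 20, nat_lit 15, nat_lit 21, nat_lit 17, nat_lit 15, nat_lit 13, nat_lit 3, nat_lit 10, nat_lit 4, nat_lit 3, nat_lit 9],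
  [nat_lit 21, nat_lit 21, nat_lit 17, nat_lit 17, nat_lit 14, nat_lit 13, nat_lit 17, nat_lit 10, nat_lit 4, nat_lit 3, nat_lit 9],
  [nat_lit 11, nat_lit 3, nat_lit 20, nat_lit 14, nat_lit 17, nat_lit 15, nat_lit 20, nat_lit 3, nat_lit 6, nat_lit 11],
  [nat_lit 22, nat_lit 15, nat_lit 16, nat_lit 3, nat_lit 15, nat_lit 10, nat_lit 12, nat_lit 3, nat_lit 10],
  [nat_lit 22, nat_lit 15, nat_lit 22, nat_lit 15, nat_lit 16, nat_lit 14, nat_lit 9, nat_lit 10, nat_lit 4, nat_lit 3, nat_lit 9],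
  [nat_lit 20, nat_lit 20, nat_lit 16, nat_lit 15, nat_lit 13, nat_lit 10, nat_lit 4, nat_lit 3, nat_lit 9],
  [nat_lit 22, nat_lit 15, nat_lit 22, nat_lit 14, nat_lit 17, nat_lit 14, nat_lit 14, nat_lit 13, nat_lit 10, nat_lit 4, nat_lit 3, nat_lit 9],
  [nat_lit 14, nat_lit 5, nat_lit 20, nat_lit 17, nat_lit 15, nat_lit 22, nat_lit 14, nat_lit 9, nat_lit 11, nat_lit 21, nat_lit 2, nat_lit 12],
  [nat_lit 15, nat_lit 21, nat_lit 16, nat_lit 22, nat_lit 9, nat_lit 10, nat_lit 4, nat_lit 3, nat_lit 9],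
  [nat_lit 6, nat_lit 14, nat_lit 16, nat_lit 15, nat_lit 6, nat_lit 10, nat_lit 14, nat_lit 12, nat_lit 10, nat_lit 3],
  [nat_lit 8, nat_lit 14, nat_lit 21, nat_lit 16, nat_lit 3, nat_lit 6, nat_lit 1, nat_lit 11, nat_lit 17, nat_lit 1, nat_lit 20],
  [nat_lit 11, nat_lit 16, nat_lit 20, nat_lit 17, nat_lit 14, nat_lit 14, nat_lit 6, nat_lit 3, nat_lit 11],
  [nat_lit 22, nat_lit 21, nat_lit 16, nat_lit 15, nat_lit 17, nat_lit 13, nat_lit 3, nat_lit 10, nat_lit 4, nat_lit 3, nat_lit 9],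
  [nat_lit 20, nat_lit 16, nat_lit 15, nat_lit 17, nat_lit 3, nat_lit 16, nat_lit 10, nat_lit 4, nat_lit 3, nat_lit 9],
  [nat_lit 14, nat_lit 22, nat_lit 16, nat_lit 22, nat_lit 8, nat_lit 5, nat_lit 11, nat_lit 12, nat_lit 20, nat_lit 13],
  [nat_lit 21, nat_lit 14, nat_lit 20, nat_lit 16, nat_lit 15, nat_lit 2, nat_lit 10, nat_lit 4, nat_lit 3, nat_lit 9],
  [nat_lit 15, nat_lit 22, nat_lit 17, nat_lit 17, nat_lit 9, nat_lit 10, nat_lit 4, nat_lit 22, nat_lit 15, nat_lit 20, nat_lit 12],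
  [nat_lit 11, nat_lit 22, nat_lit 21, nat_lit 21, nat_lit 16, nat_lit 14, nat_lit 17, nat_lit 12, nat_lit 9, nat_lit 11],
  [nat_lit 14, nat_lit 21, nat_lit 3, nat_lit 8, nat_lit 11, nat_lit 16, nat_lit 13, nat_lit 17],
  [nat_lit 21, nat_lit 16, nat_lit 16, nat_lit 6, nat_lit 17, nat_lit 1, nat_lit 11, nat_lit 17, nat_lit 1, nat_lit 16],
  [nat_lit 15, nat_lit 17, nat_lit 6, nat_lit 9, nat_lit 4, nat_lit 3, nat_lit 8, nat_lit 10, nat_lit 19]]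
noncomputable def Ra : List (List ℕ) := [[nat_lit 0, nat_lit 2, nat_lit 0, nat_lit 2, nat_lit 0, nat_lit 2, nat_lit 0, nat_lit 2, nat_lit 0, nat_lit 2, nat_lit 0, nat_lit 2, nat_lit 3]]
noncomputable def Rb : List (List ℕ) := [[nat_lit 0, nat_lit 2, nat_lit 0, nat_lit 2, nat_lit 0, nat_lit 2, nat_lit 0, nat_lit 2, nat_lit 0, nat_lit 2, nat_lit 0, nat_lit 2, nat_lit 3],
  [nat_lit 0, nat_lit 0]]
noncomputable def Cb : List (List ℕ) := [[nat_lit 5, nat_lit 8, nat_lit 10, nat_lit 11, nat_lit 8, nat_lit 11, nat_lit 9, nat_lit 11, nat_lit 8, nat_lit 8, nat_lit 11, nat_lit 9, nat_lit 11, nat_lit 8, nat_lit 11, nat_lit 9, nat_lit 11],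
  [nat_lit 5, nat_lit 8, nat_lit 10, nat_lit 11, nat_lit 8, nat_lit 8, nat_lit 11, nat_lit 9, nat_lit 11, nat_lit 8, nat_lit 11, nat_lit 9, nat_lit 11, nat_lit 9, nat_lit 11, nat_lit 8, nat_lit 11],
  [nat_lit 8, nat_lit 10, nat_lit 11, nat_lit 8, nat_lit 11, nat_lit 9, nat_lit 11, nat_lit 8, nat_lit 8, nat_lit 11, nat_lit 9, nat_lit 11, nat_lit 8, nat_lit 11, nat_lit 9, nat_lit 11],
  [nat_lit 8, nat_lit 10, nat_lit 11, nat_lit 8, nat_lit 8, nat_lit 11, nat_lit 9, nat_lit 11, nat_lit 8, nat_lit 11, nat_lit 9, nat_lit 11, nat_lit 9, nat_lit 11, nat_lit 8, nat_lit 11],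
  [nat_lit 10, nat_lit 11],
  [nat_lit 6, nat_lit 10, nat_lit 11],
  [nat_lit 5, nat_lit 10, nat_lit 11],
  [nat_lit 7, nat_lit 10, nat_lit 11]]
noncomputable def LC : List (List ℕ) := [[nat_lit 15, nat_lit 15, nat_lit 22, nat_lit 17, nat_lit 6, nat_lit 0, nat_lit 4, nat_lit 13, nat_lit 8],
  [nat_lit 21, nat_lit 17, nat_lit 14, nat_lit 8, nat_lit 12, nat_lit 11, nat_lit 1, nat_lit 15],
  [],
  [],
  [nat_lit 3, nat_lit 14, nat_lit 12, nat_lit 21, nat_lit 4, nat_lit 10, nat_lit 4, nat_lit 9],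
  [nat_lit 0, nat_lit 21, nat_lit 14, nat_lit 17, nat_lit 15, nat_lit 2, nat_lit 10, nat_lit 21],
  [],
  [],
  [nat_lit 15, nat_lit 22, nat_lit 17, nat_lit 17, nat_lit 9, nat_lit 0, nat_lit 10, nat_lit 3],
  [nat_lit 22, nat_lit 20, nat_lit 15, nat_lit 17, nat_lit 15, nat_lit 6, nat_lit 1, nat_lit 11, nat_lit 22, nat_lit 10],
  [],
  [],
  [nat_lit 6, nat_lit 20, nat_lit 3, nat_lit 8, nat_lit 0, nat_lit 10, nat_lit 3, nat_lit 12],
  [nat_lit 16, nat_lit 15, nat_lit 20, nat_lit 0, nat_lit 11, nat_lit 17, nat_lit 14],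
  [],
  [],
  [],
  [],
  [],
  [],
  [],
  [],
  [],
  [],
  [],
  [],
  [],
  [],
  [],
  [],
  [nat_lit 15, nat_lit 22, nat_lit 3, nat_lit 20, nat_lit 0, nat_lit 10, nat_lit 17, nat_lit 14],
  [nat_lit 14, nat_lit 20, nat_lit 13, nat_lit 8, nat_lit 10, nat_lit 21, nat_lit 17],
  [nat_lit 14, nat_lit 17, nat_lit 14, nat_lit 13, nat_lit 10, nat_lit 4, nat_lit 3, nat_lit 10],
  [nat_lit 17, nat_lit 17, nat_lit 15, nat_lit 11, nat_lit 3, nat_lit 17, nat_lit 18],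
  [nat_lit 15, nat_lit 15, nat_lit 20, nat_lit 17, nat_lit 3, nat_lit 15, nat_lit 10, nat_lit 2, nat_lit 15],
  [nat_lit 15, nat_lit 6, nat_lit 15, nat_lit 22, nat_lit 17, nat_lit 11, nat_lit 2, nat_lit 6],
  [],
  [],
  [nat_lit 10, nat_lit 21, nat_lit 17, nat_lit 21, nat_lit 6, nat_lit 15, nat_lit 4, nat_lit 14],
  [nat_lit 14, nat_lit 16, nat_lit 10, nat_lit 2, nat_lit 14, nat_lit 4],
  [],
  [],
  [nat_lit 16, nat_lit 16, nat_lit 20, nat_lit 8, nat_lit 10, nat_lit 15, nat_lit 0, nat_lit 16, nat_lit 8],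
  [nat_lit 17, nat_lit 21, nat_lit 12, nat_lit 0, nat_lit 4, nat_lit 22, nat_lit 7],
  [nat_lit 15, nat_lit 22, nat_lit 14, nat_lit 17, nat_lit 2, nat_lit 0, nat_lit 11, nat_lit 4],
  [nat_lit 11, nat_lit 22, nat_lit 17, nat_lit 3, nat_lit 13, nat_lit 11, nat_lit 16, nat_lit 11, nat_lit 16],
  [],
  [],
  [],
  [],
  [nat_lit 22, nat_lit 15, nat_lit 17, nat_lit 15, nat_lit 10, nat_lit 14, nat_lit 17, nat_lit 21],
  [nat_lit 22, nat_lit 20, nat_lit 3, nat_lit 4, nat_lit 5, nat_lit 15, nat_lit 3, nat_lit 16],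
  [],
  [],
  [nat_lit 0, nat_lit 17, nat_lit 15, nat_lit 9, nat_lit 2, nat_lit 0, nat_lit 4, nat_lit 14],
  [nat_lit 15, nat_lit 16, nat_lit 22, nat_lit 9, nat_lit 16, nat_lit 0, nat_lit 10, nat_lit 15, nat_lit 16],
  [nat_lit 15, nat_lit 22, nat_lit 15, nat_lit 16, nat_lit 16, nat_lit 6, nat_lit 11, nat_lit 22],
  [nat_lit 21, nat_lit 21, nat_lit 6, nat_lit 12, nat_lit 1, nat_lit 11, nat_lit 17, nat_lit 7],
  [nat_lit 22, nat_lit 20, nat_lit 17, nat_lit 3, nat_lit 13, nat_lit 10, nat_lit 13, nat_lit 15],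
  [nat_lit 16, nat_lit 5, nat_lit 9, nat_lit 14, nat_lit 3, nat_lit 13, nat_lit 4, nat_lit 14],
  [nat_lit 15, nat_lit 15, nat_lit 13, nat_lit 3, nat_lit 1, nat_lit 11, nat_lit 22, nat_lit 11],
  [nat_lit 20, nat_lit 15, nat_lit 15, nat_lit 13, nat_lit 3, nat_lit 0, nat_lit 10, nat_lit 14, nat_lit 9],
  [nat_lit 17, nat_lit 14, nat_lit 9, nat_lit 9, nat_lit 10, nat_lit 20, nat_lit 6, nat_lit 10, nat_lit 3],
  [nat_lit 9, nat_lit 17, nat_lit 15, nat_lit 11, nat_lit 14, nat_lit 11, nat_lit 15]]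
noncomputable def wa : List ℕ := [nat_lit 11, nat_lit 9, nat_lit 9, nat_lit 11, nat_lit 8, nat_lit 8, nat_lit 11, nat_lit 8, nat_lit 11, nat_lit 9, nat_lit 11, nat_lit 8, nat_lit 11, nat_lit 8, nat_lit 11]
noncomputable def wj0 : List ℕ := [nat_lit 8, nat_lit 11, nat_lit 8, nat_lit 8, nat_lit 11, nat_lit 8, nat_lit 11, nat_lit 8, nat_lit 8, nat_lit 11, nat_lit 8, nat_lit 11, nat_lit 8, nat_lit 8, nat_lit 11]
noncomputable def wj : List ℕ := [nat_lit 9, nat_lit 9, nat_lit 10, nat_lit 11, nat_lit 9, nat_lit 11, nat_lit 9, nat_lit 9, nat_lit 11, nat_lit 8, nat_lit 11, nat_lit 9, nat_lit 11, nat_lit 9, nat_lit 9, nat_lit 11]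
noncomputable def wc : List ℕ := [nat_lit 9, nat_lit 11, nat_lit 9, nat_lit 9, nat_lit 11, nat_lit 9, nat_lit 11, nat_lit 9, nat_lit 9, nat_lit 11, nat_lit 9, nat_lit 11, nat_lit 9, nat_lit 9, nat_lit 11]
noncomputable def z46 : List ℕ := [nat_lit 8, nat_lit 10, nat_lit 11, nat_lit 8, nat_lit 11, nat_lit 8, nat_lit 11, nat_lit 9, nat_lit 11, nat_lit 9, nat_lit 11, nat_lit 8, nat_lit 11]
noncomputable def czz : List ℕ := [nat_lit 6, nat_lit 20, nat_lit 20, nat_lit 9, nat_lit 16, nat_lit 1, nat_lit 4, nat_lit 17]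
noncomputable def czw : List ℕ := [nat_lit 14, nat_lit 14, nat_lit 16, nat_lit 16, nat_lit 4, nat_lit 11, nat_lit 3]
noncomputable def czb : List ℕ := [nat_lit 14, nat_lit 16, nat_lit 15, nat_lit 20, nat_lit 0, nat_lit 11, nat_lit 21, nat_lit 9]
noncomputable def cuw : List ℕ := [nat_lit 6, nat_lit 1, nat_lit 11]
noncomputable def cub : List ℕ := [nat_lit 22, nat_lit 17, nat_lit 17, nat_lit 13, nat_lit 1, nat_lit 11, nat_lit 14]
noncomputable def cut : List ℕ := [nat_lit 16, nat_lit 20, nat_lit 20, nat_lit 12, nat_lit 11, nat_lit 7, nat_lit 18]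
noncomputable def u2 : List ℕ := [nat_lit 10, nat_lit 11, nat_lit 8, nat_lit 11, nat_lit 8, nat_lit 8, nat_lit 11, nat_lit 8, nat_lit 11, nat_lit 8, nat_lit 8, nat_lit 11, nat_lit 8, nat_lit 11]
noncomputable def Wm : List ℕ := [nat_lit 11, nat_lit 8, nat_lit 11, nat_lit 8, nat_lit 11, nat_lit 9, nat_lit 11, nat_lit 9, nat_lit 9, nat_lit 11, nat_lit 9, nat_lit 9, nat_lit 11, nat_lit 8, nat_lit 8, nat_lit 11]
noncomputable def f2 : List ℕ := [nat_lit 9, nat_lit 9]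
noncomputable def F2 : List ℕ := [nat_lit 8, nat_lit 8]
noncomputable def l1 : List ℕ := [nat_lit 11, nat_lit 8, nat_lit 11, nat_lit 9, nat_lit 11]
noncomputable def l2 : List ℕ := [nat_lit 8]
noncomputable def wY : List ℕ := [nat_lit 1, nat_lit 1, nat_lit 0, nat_lit 1, nat_lit 2, nat_lit 1, nat_lit 2, nat_lit 2, nat_lit 0, nat_lit 2, nat_lit 1, nat_lit 1]
noncomputable def cwe : List ℕ := [nat_lit 12, nat_lit 22, nat_lit 21, nat_lit 9, nat_lit 2, nat_lit 11, nat_lit 2, nat_lit 22]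
noncomputable def R2 : List ℕ := [nat_lit 8, nat_lit 8, nat_lit 11, nat_lit 8, nat_lit 11, nat_lit 9, nat_lit 11, nat_lit 8, nat_lit 11, nat_lit 8, nat_lit 8]
noncomputable def cr1 : List ℕ := [nat_lit 20, nat_lit 17, nat_lit 15, nat_lit 9, nat_lit 0, nat_lit 10, nat_lit 21, nat_lit 8, nat_lit 12]
noncomputable def cr2 : List ℕ := [nat_lit 22, nat_lit 20, nat_lit 15, nat_lit 6, nat_lit 3, nat_lit 5, nat_lit 10, nat_lit 16]
noncomputable def L1 : List (List ℕ × ℕ) := [([], (nat_lit 0)),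
  ([nat_lit 8, nat_lit 10, nat_lit 11, nat_lit 8, nat_lit 8, nat_lit 11, nat_lit 8, nat_lit 11, nat_lit 9, nat_lit 9, nat_lit 11, nat_lit 9, nat_lit 9, nat_lit 11, nat_lit 9, nat_lit 11], (nat_lit 0)),
  ([nat_lit 8, nat_lit 10, nat_lit 11, nat_lit 8, nat_lit 11, nat_lit 8, nat_lit 8, nat_lit 11, nat_lit 9, nat_lit 11, nat_lit 8, nat_lit 11, nat_lit 8, nat_lit 8, nat_lit 11], (nat_lit 1)),
  ([nat_lit 9], (nat_lit 1)),
  ([nat_lit 11, nat_lit 8, nat_lit 8, nat_lit 11, nat_lit 8, nat_lit 11, nat_lit 8, nat_lit 8, nat_lit 11, nat_lit 8, nat_lit 11, nat_lit 8, nat_lit 8, nat_lit 11], (nat_lit 1)),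
  ([nat_lit 10, nat_lit 11, nat_lit 8, nat_lit 11, nat_lit 8, nat_lit 8, nat_lit 11, nat_lit 8, nat_lit 8, nat_lit 11, nat_lit 9, nat_lit 11, nat_lit 9, nat_lit 9, nat_lit 11], (nat_lit 1)),
  ([nat_lit 9, nat_lit 9, nat_lit 10, nat_lit 11, nat_lit 9, nat_lit 11, nat_lit 9, nat_lit 9, nat_lit 11, nat_lit 8, nat_lit 11, nat_lit 9, nat_lit 11, nat_lit 9, nat_lit 9, nat_lit 11], (nat_lit 0)),
  ([nat_lit 8, nat_lit 11, nat_lit 8, nat_lit 8, nat_lit 11, nat_lit 8, nat_lit 11, nat_lit 8, nat_lit 8, nat_lit 11, nat_lit 8, nat_lit 11, nat_lit 8, nat_lit 8, nat_lit 11], (nat_lit 0)),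
  ([nat_lit 8, nat_lit 10, nat_lit 11, nat_lit 8, nat_lit 8, nat_lit 11, nat_lit 8, nat_lit 11, nat_lit 9, nat_lit 9, nat_lit 11, nat_lit 9, nat_lit 9, nat_lit 11, nat_lit 9, nat_lit 11], (nat_lit 1)),
  ([nat_lit 8, nat_lit 11, nat_lit 8, nat_lit 8, nat_lit 11, nat_lit 8, nat_lit 11, nat_lit 8, nat_lit 8, nat_lit 11, nat_lit 8, nat_lit 11, nat_lit 8, nat_lit 8, nat_lit 11], (nat_lit 1)),
  ([], (nat_lit 1)),
  ([nat_lit 9, nat_lit 9, nat_lit 10, nat_lit 11, nat_lit 9, nat_lit 11, nat_lit 9, nat_lit 9, nat_lit 11, nat_lit 8, nat_lit 11, nat_lit 9, nat_lit 11, nat_lit 9, nat_lit 9, nat_lit 11], (nat_lit 1)),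
  ([nat_lit 10, nat_lit 11, nat_lit 9, nat_lit 11, nat_lit 9, nat_lit 9, nat_lit 11, nat_lit 9, nat_lit 9, nat_lit 11, nat_lit 8, nat_lit 11, nat_lit 8, nat_lit 8, nat_lit 11], (nat_lit 0)),
  ([nat_lit 8], (nat_lit 0)),
  ([nat_lit 9, nat_lit 11, nat_lit 9, nat_lit 11, nat_lit 9, nat_lit 9, nat_lit 11, nat_lit 9, nat_lit 11, nat_lit 9, nat_lit 9, nat_lit 11, nat_lit 9, nat_lit 11], (nat_lit 0)),
  ([nat_lit 9, nat_lit 10, nat_lit 11, nat_lit 8, nat_lit 8, nat_lit 11, nat_lit 8, nat_lit 11, nat_lit 9, nat_lit 11, nat_lit 8, nat_lit 8, nat_lit 11, nat_lit 8, nat_lit 11], (nat_lit 0)),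
  ([nat_lit 11, nat_lit 8, nat_lit 8, nat_lit 11, nat_lit 8, nat_lit 11, nat_lit 8, nat_lit 8, nat_lit 11, nat_lit 8, nat_lit 11, nat_lit 8, nat_lit 8, nat_lit 11], (nat_lit 0)),
  ([nat_lit 8, nat_lit 10, nat_lit 11, nat_lit 8, nat_lit 11, nat_lit 8, nat_lit 8, nat_lit 11, nat_lit 9, nat_lit 11, nat_lit 8, nat_lit 11, nat_lit 8, nat_lit 8, nat_lit 11], (nat_lit 0)),
  ([nat_lit 10, nat_lit 11, nat_lit 8, nat_lit 11, nat_lit 8, nat_lit 8, nat_lit 11, nat_lit 8, nat_lit 8, nat_lit 11, nat_lit 9, nat_lit 11, nat_lit 9, nat_lit 9, nat_lit 11], (nat_lit 0)),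
  ([nat_lit 9], (nat_lit 0)),
  ([nat_lit 9, nat_lit 10, nat_lit 11, nat_lit 8, nat_lit 11, nat_lit 8, nat_lit 8, nat_lit 11, nat_lit 8, nat_lit 8, nat_lit 11, nat_lit 9, nat_lit 11, nat_lit 9, nat_lit 9, nat_lit 11], (nat_lit 1)),
  ([nat_lit 11, nat_lit 8, nat_lit 11, nat_lit 8, nat_lit 8, nat_lit 11, nat_lit 8, nat_lit 11, nat_lit 8, nat_lit 8, nat_lit 11, nat_lit 8, nat_lit 11], (nat_lit 1)),
  ([nat_lit 9, nat_lit 9], (nat_lit 1)),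
  ([nat_lit 10, nat_lit 11, nat_lit 9, nat_lit 9, nat_lit 11, nat_lit 9, nat_lit 11, nat_lit 8, nat_lit 11, nat_lit 9, nat_lit 9, nat_lit 11, nat_lit 9, nat_lit 11], (nat_lit 1)),
  ([nat_lit 11, nat_lit 8, nat_lit 11, nat_lit 8, nat_lit 8, nat_lit 11, nat_lit 8, nat_lit 11, nat_lit 8, nat_lit 8, nat_lit 11, nat_lit 8, nat_lit 11], (nat_lit 0)),
  ([nat_lit 10, nat_lit 11, nat_lit 9, nat_lit 9, nat_lit 11, nat_lit 9, nat_lit 11, nat_lit 8, nat_lit 11, nat_lit 9, nat_lit 9, nat_lit 11, nat_lit 9, nat_lit 11], (nat_lit 0)),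
  ([nat_lit 9, nat_lit 10, nat_lit 11, nat_lit 8, nat_lit 11, nat_lit 8, nat_lit 8, nat_lit 11, nat_lit 8, nat_lit 8, nat_lit 11, nat_lit 9, nat_lit 11, nat_lit 9, nat_lit 9, nat_lit 11], (nat_lit 0)),
  ([nat_lit 9, nat_lit 9], (nat_lit 0)),
  ([nat_lit 10, nat_lit 11, nat_lit 8, nat_lit 8, nat_lit 11, nat_lit 8, nat_lit 11, nat_lit 9, nat_lit 11, nat_lit 8, nat_lit 8, nat_lit 11, nat_lit 8, nat_lit 11], (nat_lit 0)),
  ([nat_lit 11, nat_lit 9, nat_lit 11, nat_lit 9, nat_lit 9, nat_lit 11, nat_lit 9, nat_lit 11, nat_lit 9, nat_lit 9, nat_lit 11, nat_lit 9, nat_lit 11], (nat_lit 0)),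
  ([nat_lit 8, nat_lit 8], (nat_lit 0)),
  ([nat_lit 8, nat_lit 10, nat_lit 11, nat_lit 9, nat_lit 11, nat_lit 9, nat_lit 9, nat_lit 11, nat_lit 9, nat_lit 9, nat_lit 11, nat_lit 8, nat_lit 11, nat_lit 8, nat_lit 8, nat_lit 11], (nat_lit 0)),
  ([nat_lit 11, nat_lit 9, nat_lit 11, nat_lit 9, nat_lit 9, nat_lit 11, nat_lit 9, nat_lit 11, nat_lit 9, nat_lit 9, nat_lit 11, nat_lit 9, nat_lit 11], (nat_lit 1)),
  ([nat_lit 8, nat_lit 10, nat_lit 11, nat_lit 9, nat_lit 11, nat_lit 9, nat_lit 9, nat_lit 11, nat_lit 9, nat_lit 9, nat_lit 11, nat_lit 8, nat_lit 11, nat_lit 8, nat_lit 8, nat_lit 11], (nat_lit 1)),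
  ([nat_lit 10, nat_lit 11, nat_lit 8, nat_lit 8, nat_lit 11, nat_lit 8, nat_lit 11, nat_lit 9, nat_lit 11, nat_lit 8, nat_lit 8, nat_lit 11, nat_lit 8, nat_lit 11], (nat_lit 1)),
  ([nat_lit 8, nat_lit 8], (nat_lit 1)),
  ([nat_lit 9, nat_lit 11, nat_lit 9, nat_lit 11, nat_lit 9, nat_lit 9, nat_lit 11, nat_lit 9, nat_lit 11, nat_lit 9, nat_lit 9, nat_lit 11, nat_lit 9, nat_lit 11], (nat_lit 1)),
  ([nat_lit 10, nat_lit 11, nat_lit 9, nat_lit 11, nat_lit 9, nat_lit 9, nat_lit 11, nat_lit 9, nat_lit 9, nat_lit 11, nat_lit 8, nat_lit 11, nat_lit 8, nat_lit 8, nat_lit 11], (nat_lit 1)),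
  ([nat_lit 9, nat_lit 10, nat_lit 11, nat_lit 8, nat_lit 8, nat_lit 11, nat_lit 8, nat_lit 11, nat_lit 9, nat_lit 11, nat_lit 8, nat_lit 8, nat_lit 11, nat_lit 8, nat_lit 11], (nat_lit 1)),
  ([nat_lit 8], (nat_lit 1))]
noncomputable def L3 : List (List ℕ × ℕ) := [([], (nat_lit 0)),
  ([], (nat_lit 1)),
  ([nat_lit 26], (nat_lit 0)),
  ([nat_lit 22, nat_lit 20, nat_lit 20, nat_lit 15, nat_lit 16, nat_lit 2, nat_lit 6], (nat_lit 0)),
  ([nat_lit 26], (nat_lit 1)),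
  ([nat_lit 22, nat_lit 20, nat_lit 20, nat_lit 15, nat_lit 16, nat_lit 2, nat_lit 6], (nat_lit 1)),
  ([nat_lit 2, nat_lit 17, nat_lit 17, nat_lit 15, nat_lit 13, nat_lit 8, nat_lit 19], (nat_lit 1)),
  ([nat_lit 3, nat_lit 20, nat_lit 16, nat_lit 14, nat_lit 21], (nat_lit 0)),
  ([nat_lit 16, nat_lit 20, nat_lit 20, nat_lit 17, nat_lit 15, nat_lit 22, nat_lit 6], (nat_lit 3)),
  ([nat_lit 21, nat_lit 21, nat_lit 17, nat_lit 14, nat_lit 2, nat_lit 15, nat_lit 20], (nat_lit 2)),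
  ([nat_lit 26], (nat_lit 3)),
  ([nat_lit 26], (nat_lit 2)),
  ([nat_lit 14, nat_lit 22, nat_lit 17, nat_lit 21, nat_lit 2, nat_lit 17, nat_lit 14], (nat_lit 1)),
  ([nat_lit 7, nat_lit 22, nat_lit 20, nat_lit 20, nat_lit 15, nat_lit 16, nat_lit 2], (nat_lit 0)),
  ([nat_lit 22, nat_lit 20, nat_lit 20, nat_lit 15, nat_lit 16, nat_lit 2, nat_lit 6], (nat_lit 2)),
  ([nat_lit 22, nat_lit 20, nat_lit 20, nat_lit 15, nat_lit 16, nat_lit 2, nat_lit 6], (nat_lit 3)),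
  ([], (nat_lit 2)),
  ([nat_lit 14, nat_lit 22, nat_lit 8, nat_lit 12, nat_lit 16, nat_lit 13, nat_lit 6], (nat_lit 3)),
  ([nat_lit 7, nat_lit 22, nat_lit 20, nat_lit 20, nat_lit 15, nat_lit 16, nat_lit 2], (nat_lit 2)),
  ([], (nat_lit 3))]
noncomputable def C0 : List ℕ := [nat_lit 5, nat_lit 8, nat_lit 10, nat_lit 11, nat_lit 8, nat_lit 11, nat_lit 9, nat_lit 11, nat_lit 8, nat_lit 8, nat_lit 11, nat_lit 9, nat_lit 11, nat_lit 8, nat_lit 11, nat_lit 9, nat_lit 11]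
noncomputable def c1_0 : List ℕ := [nat_lit 22, nat_lit 16, nat_lit 20, nat_lit 12, nat_lit 9, nat_lit 4, nat_lit 10, nat_lit 3]
noncomputable def R_0 : List ℕ := [nat_lit 0, nat_lit 1, nat_lit 4]
noncomputable def c2_0 : List ℕ := [nat_lit 17, nat_lit 14, nat_lit 12, nat_lit 9, nat_lit 10, nat_lit 12, nat_lit 12, nat_lit 7]
noncomputable def c3_0 : List ℕ := [nat_lit 22, nat_lit 14, nat_lit 22, nat_lit 16, nat_lit 6, nat_lit 15, nat_lit 11, nat_lit 13, nat_lit 9]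
noncomputable def ch_0 : List (List ℕ × List ℕ × List ℕ) := [([nat_lit 6], [nat_lit 5], [nat_lit 4]),
  ([nat_lit 24], [nat_lit 6, nat_lit 1, nat_lit 10, nat_lit 4, nat_lit 10], [nat_lit 1, nat_lit 2, nat_lit 0, nat_lit 1, nat_lit 2, nat_lit 0, nat_lit 1, nat_lit 2, nat_lit 0, nat_lit 1, nat_lit 2]),
  ([nat_lit 23], [nat_lit 15, nat_lit 15, nat_lit 22, nat_lit 16, nat_lit 3, nat_lit 16, nat_lit 1, nat_lit 4, nat_lit 10, nat_lit 11], [nat_lit 0, nat_lit 2, nat_lit 2, nat_lit 2, nat_lit 0, nat_lit 2, nat_lit 0, nat_lit 1, nat_lit 2, nat_lit 0, nat_lit 2, nat_lit 2, nat_lit 0, nat_lit 2, nat_lit 0, nat_lit 1, nat_lit 4]),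
  ([nat_lit 11, nat_lit 8, nat_lit 11, nat_lit 9, nat_lit 11], [nat_lit 14, nat_lit 16, nat_lit 13, nat_lit 4, nat_lit 12, nat_lit 17, nat_lit 15], [nat_lit 0, nat_lit 2, nat_lit 0, nat_lit 1, nat_lit 2, nat_lit 0, nat_lit 1]),
  ([nat_lit 8], [nat_lit 9, nat_lit 9], [nat_lit 2]),
  ([nat_lit 0], [nat_lit 15, nat_lit 22, nat_lit 14, nat_lit 17, nat_lit 2, nat_lit 6], [nat_lit 0, nat_lit 2, nat_lit 0, nat_lit 2, nat_lit 2, nat_lit 0, nat_lit 2, nat_lit 2, nat_lit 0, nat_lit 1, nat_lit 2, nat_lit 0, nat_lit 2, nat_lit 2, nat_lit 0, nat_lit 1, nat_lit 2]),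
  ([nat_lit 4], [nat_lit 22, nat_lit 21, nat_lit 14, nat_lit 17, nat_lit 15, nat_lit 15], [nat_lit 1, nat_lit 2, nat_lit 0, nat_lit 2, nat_lit 2, nat_lit 0, nat_lit 2, nat_lit 0, nat_lit 2, nat_lit 0, nat_lit 2, nat_lit 2, nat_lit 0, nat_lit 2])]
noncomputable def im_0 : List (List ℕ) := [[nat_lit 5],
  [nat_lit 6, nat_lit 1, nat_lit 10, nat_lit 4, nat_lit 10],
  [nat_lit 15, nat_lit 15, nat_lit 22, nat_lit 16, nat_lit 3, nat_lit 16, nat_lit 1, nat_lit 4, nat_lit 10, nat_lit 11],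
  [nat_lit 14, nat_lit 16, nat_lit 13, nat_lit 4, nat_lit 12, nat_lit 17, nat_lit 15],
  [nat_lit 9, nat_lit 9],
  [nat_lit 15, nat_lit 22, nat_lit 14, nat_lit 17, nat_lit 2, nat_lit 6],
  [nat_lit 22, nat_lit 21, nat_lit 14, nat_lit 17, nat_lit 15, nat_lit 15]]
noncomputable def h_0 : List ℕ := [nat_lit 21, nat_lit 17, nat_lit 14, nat_lit 16, nat_lit 6, nat_lit 0, nat_lit 4, nat_lit 16]
noncomputable def T_0 : List ℕ := [nat_lit 15, nat_lit 16, nat_lit 15, nat_lit 17, nat_lit 3, nat_lit 9, nat_lit 11, nat_lit 17, nat_lit 20, nat_lit 7]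
noncomputable def Ti_0 : List ℕ := [nat_lit 10, nat_lit 22, nat_lit 17, nat_lit 17, nat_lit 6, nat_lit 16, nat_lit 10, nat_lit 3, nat_lit 16, nat_lit 12]
noncomputable def La_0 : List ℕ := [nat_lit 8, nat_lit 22, nat_lit 15, nat_lit 16, nat_lit 12, nat_lit 9, nat_lit 0, nat_lit 4]
noncomputable def Lb_0 : List ℕ := [nat_lit 22, nat_lit 14, nat_lit 14, nat_lit 16, nat_lit 15, nat_lit 22, nat_lit 6, nat_lit 4, nat_lit 13, nat_lit 10]
noncomputable def xx_0 : List ℕ := [nat_lit 14, nat_lit 20, nat_lit 20, nat_lit 17, nat_lit 15, nat_lit 16, nat_lit 6]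
noncomputable def zz_0 : List ℕ := [nat_lit 6]
noncomputable def C1 : List ℕ := [nat_lit 5, nat_lit 8, nat_lit 10, nat_lit 11, nat_lit 8, nat_lit 8, nat_lit 11, nat_lit 9, nat_lit 11, nat_lit 8, nat_lit 11, nat_lit 9, nat_lit 11, nat_lit 9, nat_lit 11, nat_lit 8, nat_lit 11]
noncomputable def c1_1 : List ℕ := [nat_lit 11, nat_lit 2, nat_lit 8, nat_lit 4, nat_lit 8, nat_lit 13]
noncomputable def R_1 : List ℕ := [nat_lit 0, nat_lit 1, nat_lit 4]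
noncomputable def c2_1 : List ℕ := [nat_lit 14, nat_lit 20, nat_lit 17, nat_lit 21, nat_lit 12, nat_lit 4, nat_lit 14, nat_lit 7]
noncomputable def c3_1 : List ℕ := [nat_lit 22, nat_lit 14, nat_lit 17, nat_lit 21, nat_lit 13, nat_lit 10, nat_lit 11, nat_lit 14]
noncomputable def C2 : List ℕ := [nat_lit 8, nat_lit 10, nat_lit 11, nat_lit 8, nat_lit 11, nat_lit 9, nat_lit 11, nat_lit 8, nat_lit 8, nat_lit 11, nat_lit 9, nat_lit 11, nat_lit 8, nat_lit 11, nat_lit 9, nat_lit 11]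
noncomputable def c1_2 : List ℕ := [nat_lit 20, nat_lit 22, nat_lit 2, nat_lit 6, nat_lit 10, nat_lit 11, nat_lit 14, nat_lit 0]
noncomputable def R_2 : List ℕ := [nat_lit 0, nat_lit 1]
noncomputable def c2_2 : List ℕ := [nat_lit 22, nat_lit 16, nat_lit 16, nat_lit 9, nat_lit 3, nat_lit 10, nat_lit 15, nat_lit 4, nat_lit 8]
noncomputable def c3_2 : List ℕ := [nat_lit 11, nat_lit 3, nat_lit 21, nat_lit 21, nat_lit 12, nat_lit 10, nat_lit 2, nat_lit 17]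
noncomputable def C3 : List ℕ := [nat_lit 8, nat_lit 10, nat_lit 11, nat_lit 8, nat_lit 8, nat_lit 11, nat_lit 9, nat_lit 11, nat_lit 8, nat_lit 11, nat_lit 9, nat_lit 11, nat_lit 9, nat_lit 11, nat_lit 8, nat_lit 11]
noncomputable def c1_3 : List ℕ := [nat_lit 14, nat_lit 17, nat_lit 3, nat_lit 20, nat_lit 1, nat_lit 11, nat_lit 17]
noncomputable def R_3 : List ℕ := [nat_lit 0, nat_lit 1]
noncomputable def c2_3 : List ℕ := [nat_lit 15, nat_lit 21, nat_lit 16, nat_lit 20, nat_lit 6, nat_lit 5, nat_lit 11, nat_lit 15, nat_lit 2]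
noncomputable def c3_3 : List ℕ := [nat_lit 16, nat_lit 15, nat_lit 12, nat_lit 21, nat_lit 1, nat_lit 11, nat_lit 20, nat_lit 15]
noncomputable def C4 : List ℕ := [nat_lit 10, nat_lit 11]
noncomputable def c1_4 : List ℕ := [nat_lit 17, nat_lit 17, nat_lit 2, nat_lit 12, nat_lit 4, nat_lit 11, nat_lit 17, nat_lit 17, nat_lit 0]
noncomputable def R_4 : List ℕ := [nat_lit 0, nat_lit 1, nat_lit 4]
noncomputable def c2_4 : List ℕ := [nat_lit 14, nat_lit 21, nat_lit 16, nat_lit 14, nat_lit 13, nat_lit 3, nat_lit 11, nat_lit 1, nat_lit 12]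
noncomputable def c3_4 : List ℕ := [nat_lit 14, nat_lit 21, nat_lit 16, nat_lit 3, nat_lit 20, nat_lit 1, nat_lit 4, nat_lit 15, nat_lit 7]
noncomputable def ch_4 : List (List ℕ × List ℕ × List ℕ) := [([nat_lit 6], [nat_lit 5], [nat_lit 4]),
  ([nat_lit 24], [nat_lit 0, nat_lit 4], [nat_lit 1, nat_lit 2, nat_lit 0, nat_lit 1, nat_lit 2, nat_lit 0, nat_lit 1, nat_lit 2, nat_lit 0, nat_lit 1, nat_lit 2]),
  ([nat_lit 23], [nat_lit 4, nat_lit 0, nat_lit 9, nat_lit 9, nat_lit 4, nat_lit 9, nat_lit 9], [nat_lit 0, nat_lit 2, nat_lit 2, nat_lit 2, nat_lit 0, nat_lit 2, nat_lit 0, nat_lit 1, nat_lit 2, nat_lit 0, nat_lit 2, nat_lit 2, nat_lit 0, nat_lit 2, nat_lit 0, nat_lit 1, nat_lit 4]),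
  ([nat_lit 11, nat_lit 8, nat_lit 11, nat_lit 9, nat_lit 11], [nat_lit 10, nat_lit 11, nat_lit 9, nat_lit 9, nat_lit 11, nat_lit 9, nat_lit 9, nat_lit 11], [nat_lit 0, nat_lit 2, nat_lit 0, nat_lit 1, nat_lit 2, nat_lit 0, nat_lit 1]),
  ([nat_lit 8], [nat_lit 9, nat_lit 9], [nat_lit 2]),
  ([nat_lit 0], [nat_lit 15, nat_lit 22, nat_lit 14, nat_lit 17, nat_lit 2, nat_lit 6, nat_lit 5], [nat_lit 0, nat_lit 2, nat_lit 0, nat_lit 2, nat_lit 2, nat_lit 0, nat_lit 2, nat_lit 2, nat_lit 0, nat_lit 1, nat_lit 2, nat_lit 0, nat_lit 2, nat_lit 2, nat_lit 0, nat_lit 1, nat_lit 2]),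
  ([nat_lit 4], [nat_lit 22, nat_lit 21, nat_lit 14, nat_lit 17, nat_lit 15, nat_lit 15, nat_lit 1, nat_lit 11, nat_lit 0, nat_lit 11], [nat_lit 1, nat_lit 2, nat_lit 0, nat_lit 2, nat_lit 2, nat_lit 0, nat_lit 2, nat_lit 0, nat_lit 2, nat_lit 0, nat_lit 2, nat_lit 2, nat_lit 0, nat_lit 2])]
noncomputable def im_4 : List (List ℕ) := [[nat_lit 5],
  [nat_lit 0, nat_lit 4],
  [nat_lit 4, nat_lit 0, nat_lit 9, nat_lit 9, nat_lit 4, nat_lit 9, nat_lit 9],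
  [nat_lit 10, nat_lit 11, nat_lit 9, nat_lit 9, nat_lit 11, nat_lit 9, nat_lit 9, nat_lit 11],
  [nat_lit 9, nat_lit 9],
  [nat_lit 15, nat_lit 22, nat_lit 14, nat_lit 17, nat_lit 2, nat_lit 6, nat_lit 5],
  [nat_lit 22, nat_lit 21, nat_lit 14, nat_lit 17, nat_lit 15, nat_lit 15, nat_lit 1, nat_lit 11, nat_lit 0, nat_lit 11]]
noncomputable def h_4 : List ℕ := [nat_lit 3, nat_lit 1, nat_lit 6, nat_lit 14, nat_lit 0, nat_lit 11, nat_lit 16, nat_lit 18]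
noncomputable def T_4 : List ℕ := [nat_lit 14, nat_lit 21, nat_lit 17, nat_lit 15, nat_lit 12, nat_lit 11, nat_lit 2, nat_lit 22, nat_lit 17, nat_lit 3]
noncomputable def Ti_4 : List ℕ := [nat_lit 11, nat_lit 22, nat_lit 15, nat_lit 16, nat_lit 15, nat_lit 20, nat_lit 8, nat_lit 11]
noncomputable def La_4 : List ℕ := [nat_lit 22, nat_lit 15, nat_lit 16, nat_lit 15, nat_lit 21, nat_lit 13, nat_lit 3, nat_lit 0, nat_lit 4]
noncomputable def Lb_4 : List ℕ := [nat_lit 10, nat_lit 15, nat_lit 22, nat_lit 16, nat_lit 16, nat_lit 3, nat_lit 3, nat_lit 9, nat_lit 5, nat_lit 10, nat_lit 15]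
noncomputable def xx_4 : List ℕ := [nat_lit 16, nat_lit 6, nat_lit 15, nat_lit 21, nat_lit 6, nat_lit 14, nat_lit 5, nat_lit 11, nat_lit 17, nat_lit 20]
noncomputable def zz_4 : List ℕ := [nat_lit 6, nat_lit 11, nat_lit 18, nat_lit 14, nat_lit 20, nat_lit 3, nat_lit 20, nat_lit 11]
noncomputable def C5 : List ℕ := [nat_lit 6, nat_lit 10, nat_lit 11]
noncomputable def c1_5 : List ℕ := [nat_lit 14, nat_lit 16, nat_lit 15, nat_lit 20, nat_lit 2, nat_lit 8, nat_lit 10, nat_lit 15, nat_lit 16]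
noncomputable def R_5 : List ℕ := [nat_lit 0, nat_lit 1, nat_lit 4]
noncomputable def c2_5 : List ℕ := [nat_lit 22, nat_lit 17, nat_lit 17, nat_lit 12, nat_lit 10, nat_lit 13, nat_lit 7]
noncomputable def c3_5 : List ℕ := [nat_lit 3, nat_lit 22, nat_lit 17, nat_lit 12, nat_lit 4, nat_lit 11, nat_lit 17]
noncomputable def C6 : List ℕ := [nat_lit 5, nat_lit 10, nat_lit 11]
noncomputable def c1_6 : List ℕ := [nat_lit 22, nat_lit 16, nat_lit 15, nat_lit 0, nat_lit 11, nat_lit 15, nat_lit 10, nat_lit 0]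
noncomputable def R_6 : List ℕ := [nat_lit 0, nat_lit 1]
noncomputable def c2_6 : List ℕ := [nat_lit 20, nat_lit 20, nat_lit 17, nat_lit 13, nat_lit 17, nat_lit 11, nat_lit 8, nat_lit 16, nat_lit 9]
noncomputable def c3_6 : List ℕ := [nat_lit 12, nat_lit 14, nat_lit 14, nat_lit 17, nat_lit 14, nat_lit 10, nat_lit 20, nat_lit 15]
noncomputable def C7 : List ℕ := [nat_lit 7, nat_lit 10, nat_lit 11]
noncomputable def c1_7 : List ℕ := [nat_lit 22, nat_lit 21, nat_lit 14, nat_lit 12, nat_lit 10, nat_lit 15, nat_lit 1, nat_lit 12]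
noncomputable def R_7 : List ℕ := [nat_lit 0, nat_lit 1]
noncomputable def c2_7 : List ℕ := [nat_lit 20, nat_lit 16, nat_lit 14, nat_lit 8, nat_lit 11, nat_lit 1, nat_lit 11, nat_lit 8]
noncomputable def c3_7 : List ℕ := [nat_lit 22, nat_lit 14, nat_lit 9, nat_lit 9, nat_lit 4, nat_lit 5, nat_lit 10, nat_lit 21]

theorem L80a : L80.length = 80 ∧ incr κ L80 0 = true := by decide +kernel
theorem L80b : allB (fun W => allB (fun Z => cjK κ W Z Z) cfx_W) L80 = true := by decide +kernel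
theorem L64a : L64.length = 64 ∧ incr κ L64 0 = true := by decide +kernel
theorem L64b : allB (fun W => allB (fun Z => cjK κ W Z Z) cux_W) L64 = true := by decide +kernel
theorem L20a : L20.length = 20 ∧ incr κ L20 0 = true := by decide +kernel
theorem L20b : allB (fun W => allB (fun Z => cjK κ W Z Z) crx_W) L20 = true := by decide +kernel
theorem L720a : L720.length = 720 ∧ incr κ L720 0 = true := by decide +kernel
theorem L720b : allB (fun W => allB (fun Z => cjK κ W Z Z) czx_W) L720 = true := by decide +kernel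
theorem t2_0 : allB (fun W => !eqK κ (app (rep W 2) (app xx_0 W)) xx_0 || !eqK κ (rep (app W zz_0) 3) [] ||
    anyB (eqK κ W) [T_0, Ti_0]) L720 = true := by decide +kernel
theorem t2_4 : allB (fun W => !eqK κ (app (rep W 2) (app xx_4 W)) xx_4 || !eqK κ (rep (app W zz_4) 3) [] ||
    anyB (eqK κ W) [T_4, Ti_4]) L720 = true := by decide +kernel

end H29.HY
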