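/-
Minimal `2`-fusion systems: the complement to the Baumann subgroup.
-/
import Cfsg.Agent.H4.MF3
import Cfsg.Agent.H2.SZ

set_option autoImplicit false
set_option linter.unusedSectionVars false
set_option linter.unusedVariables false
set_option linter.unusedSimpArgs false

namespace H29.MF
open Subgroup H25 H25.FS H4.MF

universe u
variable {K : Type} [Field K] {Γ : Type u} [Group Γ] [Finite Γ] {F : FS Γ} {B A D H L O : Subgroup Γ} {b x : Γ}

/-- the complement acts without fixed points on `B / D` -/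
theorem fpf (c : Cg K F B A D H x) (q : 4 ≤ Nat.card K) (m : (F.NF B).Mdl 2 L)
    (dec : ∀ l ∈ L, l ∈ nz A → ∃ b ∈ B, ∃ o ∈ O, l = b * o) (hb : b ∈ B) (k : b ∈ cz O) : b ∈ D := by
  have := c.ch
  obtain ⟨t, t0, t1⟩ : ∃ w : K, w ≠ 0 ∧ w ≠ 1 := by
    by_contra! e
    have := Nat.card_le_card_of_surjective (fun b : Bool => if b then (1 : K) else 0) fun a => by
      by_cases a0 : a = 0
      exacts [⟨false, a0.symm⟩, ⟨true, (e a a0).symm⟩]
    simp at this; omega
  have t2 : t ≠ t⁻¹ := fun e => t1 (by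
    have : (t - 1) ^ 2 = 0 := by linear_combination t * e + mul_inv_cancel₀ t0 + (1 - t) * Uc.two K
    exact sub_eq_zero.1 (pow_eq_zero_iff two_ne_zero |>.1 this))
  obtain ⟨e, he, -, M⟩ := c.sl' (p := t) (q := 0) (r := 0) (s := t⁻¹) (by simp [t0])
  have n := M.nzB he
  obtain ⟨-, -, l, hl, ag⟩ := m.T_iff.1 ((c.T_of he c.BN ((mem_nz.1 n).le.trans c.BN)).toNK n le_rfl le_rfl (le_nz_self B))
  obtain ⟨b', hb', o, ho, rfl⟩ := dec l hl ((ag.mono c.AB).symm.mem_nz (c.nH he))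
  have M' := ((c.M_B (inv_mem hb')).mul M (c.nH he)).congr (g := o) fun a ha => by
    rw [show b'⁻¹ * e * a * (b'⁻¹ * e)⁻¹ = b'⁻¹ * (e * a * e⁻¹) * b' by group, ag a (c.AB ha)]; group
  have on : o ∈ nz A := (mul_mem_cancel_left (c.nA hb')).1 ((ag.mono c.AB).symm.mem_nz (c.nH he))
  have e1 := mem_cz'.1 k o ho
  have bA : b ∈ A := (c.τ_zero hb).1 (by
    have := ((M'.mul (c.M_B hb) (c.nA hb)).uniq (e1 ▸ (c.M_B hb).mul M' on)).2.1
    simp only [RingEquiv.refl_apply, RingEquiv.trans_apply, mul_one, mul_zero, add_zero, one_mul, zero_mul, zero_add] at this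
    have : c.τ b * (t - t⁻¹) = 0 := by linear_combination this
    exact (mul_eq_zero.1 this).resolve_right (sub_ne_zero.2 t2))
  have := M' b bA
  rw [e1, mul_inv_cancel_right] at this
  have a1 := congrFun this 1
  have a0 := congrFun this 0
  simp only [RingEquiv.refl_apply, RingEquiv.trans_apply, mul_one, mul_zero, add_zero, one_mul, zero_mul, zero_add,
    Matrix.cons_val_zero, Matrix.cons_val_one] at a0 a1
  have b1 : c.ψ b 1 = 0 := (mul_eq_zero.1 (show c.ψ b 1 * (t - 1) = 0 by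
    linear_combination t * a1 + c.ψ b 1 * mul_inv_cancel₀ t0)).resolve_right (sub_ne_zero.2 t1)
  rw [b1] at a0
  exact c.memD bA (vx ((mul_eq_zero.1 (show c.ψ b 0 * (t - 1) = 0 by linear_combination -a0)).resolve_right (sub_ne_zero.2 t1)) b1)

variable (K Γ) in
theorem yy : YY K Γ := fun F B A D H L x c nA tw wc q m => by
  have eS : (F.NF B).S = F.S := wc.N_eq
  have TL : F.S ≤ L := eS ▸ m.le
  have LB : L ≤ nz B := (m.nm_iff.1 (nm_NF c.BT)).2
  have n0 : L ≤ nz (L ⊓ nz A) := fun l hl => mem_nz_of_conj_mem fun g hg => mem_inf.2 ⟨mul_mem (mul_mem hl hg.1) (inv_mem hl), by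
    rcases c.swap (LB hl) with e | e
    · exact mul_mem (mul_mem e.1 hg.2) (inv_mem e.1)
    · have := conj_mem_cj l (c.n₂_of (LB hg.1) hg.2)
      rwa [cj_nz, e.2] at this⟩
  have BL : B ≤ L ⊓ nz A := le_inf (c.BT.trans TL) c.nA
  have s : Syl 2 B (L ⊓ nz A) := by
    have := (eS ▸ m.syl).inf_normal n0
    rwa [← inf_assoc, inf_eq_left.2 TL, show F.S ⊓ nz A = B from le_antisymm nA c.BN, ← inf_assoc, inf_idem] at this
  have : (B.subgroupOf (L ⊓ nz A)).Normal := (normal_subgroupOf_iff_le_normalizer BL).2 (inf_le_left.trans LB)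
  obtain ⟨n, hn⟩ := c.pgB.exists_card_eq
  obtain ⟨O', hO⟩ := exists_right_complement'_of_coprime (N := B.subgroupOf (L ⊓ nz A)) (by
    rw [Nat.card_congr (subgroupOfEquivOfLe BL).toEquiv, hn]
    exact (Nat.prime_two.coprime_iff_not_dvd.2 s.2).pow_left n)
  have od : Odd (Nat.card (O'.map (L ⊓ nz A).subtype)) := by
    rw [card_map_of_injective (subtype_injective _), ← hO.symm.index_eq_card]
    exact Nat.not_even_iff_odd.1 fun e => s.2 e.two_dvd
  have OL := map_subtype_le O'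
  have dec : ∀ l ∈ L, l ∈ nz A → ∃ b ∈ B, ∃ o ∈ O'.map (L ⊓ nz A).subtype, l = b * o := fun l a b => by
    obtain ⟨⟨b, o⟩, e⟩ := (hO.existsUnique ⟨l, a, b⟩).exists
    exact ⟨_, b.2, _, mem_map_of_mem _ o.2, (congrArg Subtype.val e).symm⟩
  generalize O'.map (L ⊓ nz A).subtype = O at od OL dec
  have cp : (Nat.card O).Coprime (Nat.card B) := hn ▸ (Nat.coprime_two_right.2 od).pow_right n
  obtain ⟨k, hk, e⟩ := H2.exists_conj_mem_of_le_sup (A := O) (K := B) (B := cj x O) (OL.trans (inf_le_left.trans LB))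
    (((cj_mono x OL).trans (mem_nz.1 (n0 (TL c.xT))).le).trans fun l hl =>
      let ⟨b, hb, o, ho, e⟩ := dec l hl.1 hl.2; e ▸ mul_mem_sup hb ho) (card_cj x O ▸ cp)
    (.inr (have := c.pgB.isNilpotent; inferInstance))
  have yT := mul_mem (inv_mem (c.BT hk)) c.xT
  have yB : k⁻¹ * x ∉ B := fun e => c.xnB ((mul_mem_cancel_left (inv_mem hk)).1 e)
  have yO : k⁻¹ * x ∈ nz O := mem_nz_of_conj_mem fun o ho => by simpa [mul_assoc] using e _ (conj_mem_cj x ho)
  generalize k⁻¹ * x = y at yT yB yO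
  have y2 := tw y yT y yT yB yB
  have z : y * y ∈ cz O := mem_cz.2 fun o ho => mul_inv_eq_one.1 (mem_bot.1 ((disjoint_of_coprime_natCard cp).le_bot
    (mem_inf.2 ⟨mul_mem (conj_mem_of_mem_nz (mul_mem yO yO) ho) (inv_mem ho), by
      simpa [mul_assoc] using mul_mem y2 (conj_mem_of_mem_nz (LB (OL ho).1) (inv_mem y2))⟩)))
  exact ⟨O, y, m, OL.trans inf_le_left, OL.trans inf_le_right, od, yT, yB, mem_bot.1 (c.d0.le ⟨fpf c q m dec y2 z,
    fpf c.symm q m (fun l a b => dec l a (c.n₁_of (LB a) b)) y2 z⟩), yO, dec⟩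

end H29.MF
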