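import Cfsg.Agent.H27.MS3

/-! S5899, part 3: failure of factorization, case (i). Interface; sketches in `notes/MS5899f.md`. -/

set_option autoImplicit false
set_option linter.unusedVariables false

namespace H29.MF
open Cfsg Subgroup H18 H17.GS H28.S H2.GW H27.MS
open H19 hiding eq_bot_mono
open H28.NG hiding Hyp Uniq Ch
open H29.PU (bm)
open H9 (JJ MaxAb)

universe u
variable {G : Type u} [Group G]

/-- a minimal parabolic over `T` acting as `S₃` on the four-group `L` -/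
structure Lp (T P L : Subgroup G) (w : G) : Prop where
  ab : Abelem 2 L
  c4 : #L = 4
  LT : L ≤ T
  wL : w ∈ L
  w1 : w ≠ 1
  Tw : T ≤ C[w]
  TP : T ≤ P
  cP : #P = 3 * #T
  nL : P ≤ N(L)
  mv : ¬ P ≤ C[w]
  nJ : ¬ JJ 2 T ≤ C(L)

/-- the `T`-invariant line `L` of a bad local subgroup -/
structure Ln (N T V L : Subgroup G) (p : G) : Prop where
  pL : p ∈ L
  p1 : p ≠ 1
  Tp : T ≤ C[p]
  LV : L ≤ V
  c4 : #L = 4
  TL : T ≤ N(L)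
  cP : #(N ⊓ N(L)) = 3 * #T
  cP1 : #(N ⊓ C[p]) = 3 * #T
  mv : ¬ N ⊓ N(L) ≤ C[p]
  uni : ∀ X, X ≤ V → #X = 4 → T ≤ N(X) → X = L
  two : ∀ P, T ≤ P → P ≤ N → #P = 3 * #T → P = N ⊓ C[p] ∨ P = N ⊓ N(L)
  gen : ∀ X, N ⊓ C[p] ≤ X → N ⊓ N(L) ≤ X → N ≤ X
  cT : N ⊓ C(L) ≤ T

def LN : Prop := ∀ {G : Type u} [Group G] [Finite G] {N Q T V : Subgroup G}, Bd N Q T V → ∃ L p, Ln N T V L p
def K1 : Prop := ∀ {G : Type u} [Group G] [Finite G] {N Q T V L : Subgroup G} {p : G}, Bd N Q T V → Ln N T V L p →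
  ¬ JJ 2 T ≤ C(L) → bm 2 T = T ∧ ∀ x ∈ Zs T, N ≤ C[x] ∨ N ≤ C[x * p]
/-- two parabolics in a solvable group -/
def SV : Prop := ∀ {G : Type u} [Group G] [Finite G] {H T P P' L L' : Subgroup G} {w w' : G}, Sol H →
  H28.NG.Ch H → Syl 2 T H → bm 2 T = T → P ≤ H → P' ≤ H → Lp T P L w → Lp T P' L' w' → P' ≤ N(L)
/-- a line in a solvable group -/
def S1 : Prop := ∀ {G : Type u} [Group G] [Finite G] {H T : Subgroup G}, Sol H → H28.NG.Ch H → Syl 2 T H →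
  bm 2 T = T → ¬ JJ 2 T ≤ C(Kc (Zs T) H) → ∃ (L : Subgroup G) (w : G), Abelem 2 L ∧ #L = 4 ∧ L ≤ T ∧ w ∈ L ∧ w ≠ 1 ∧
    T ≤ C[w] ∧ H ⊓ C[w] ≤ N(L) ∧ ¬ H ⊓ N(L) ≤ C[w] ∧ ¬ JJ 2 T ≤ C(L)
/-- two parabolics in `G` -/
def PP : Prop := ∀ {G : Type u} [Group G] [Finite G] {T P P' L L' : Subgroup G} {w w' : G}, Hy G → Syl 2 T ⊤ →
  bm 2 T = T → 128 < #T → Lp T P L w → Lp T P' L' w' → P' ≤ N(L)

/-- the setting of case (i) -/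
structure Fi (N Q T V L : Subgroup G) (p : G) : Prop extends Bd N Q T V, Ln N T V L p where
  syl' : Syl 2 T ⊤
  big : 128 < #T
  nJ : ¬ JJ 2 T ≤ C(L)
  eB : bm 2 T = T
  cen : ∀ x ∈ Zs T, N ≤ C[x] ∨ N ≤ C[x * p]
  cZ : C(Zs T) ≤ N
  nN : N(JJ 2 T) ≤ N
  nC : ¬ C[p] ≤ N
  nX : ¬ JJ 2 T ≤ C(Kc (Zs T) C[p])

def F0 : Prop := ∀ {G : Type u} [Group G] [Finite G] {N Q T V L : Subgroup G} {p : G}, Bd N Q T V → Ln N T V L p →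
  ¬ JJ 2 T ≤ C(L) → #(Zs T) ≠ 2 → ¬ C[p] ≤ N → Fi N Q T V L p
def FS1 : Prop := ∀ {G : Type u} [Group G] [Finite G] {N Q T V L : Subgroup G} {p : G}, Fi N Q T V L p → ¬ Sol C[p]
def FI1 : Prop := ∀ {G : Type u} [Group G] [Finite G] {N Q T V L : Subgroup G} {p : G}, Fi N Q T V L p → Sol C[p]
/-- case (i) -/
def FK1 : Prop := ∀ {G : Type u} [Group G] [Finite G] {N Q T V L : Subgroup G} {p : G}, Bd N Q T V → Ln N T V L p →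
  #(Zs T) ≠ 2 → ¬ C[p] ≤ N → JJ 2 T ≤ C(L)
/-- case (ii) -/
def FK2 : Prop := ∀ {G : Type u} [Group G] [Finite G] {N Q T V L : Subgroup G} {p : G}, Bd N Q T V → Ln N T V L p →
  #(Zs T) ≠ 2 → ¬ C[p] ≤ N → JJ 2 T ≤ C(L) → JJ 2 T ≤ Q

theorem fk1 (f0 : F0.{u}) (fs : FS1.{u}) (fi : FI1.{u}) : FK1.{u} := fun b l z c => by_contra fun j =>
  fs (f0 b l j z c) (fi (f0 b l j z c))

end H29.MF
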