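import Cfsg.Agent.H1.Fitting
import Cfsg.Agent.H5.Zs1
import Cfsg.Prelude.Def_CaseTheorems

/-! Thompson triples; minimal simple sections. -/

set_option autoImplicit false
set_option linter.unusedVariables false
set_option linter.unusedSectionVars false

namespace H29.NC
open Cfsg Subgroup MulAction
open scoped commutatorElement

universe u v
variable {G : Type u} [Group G] {K : Type v} [Group K]

/-- three non-identity elements of pairwise coprime orders with product one -/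
def Tri (G : Type*) [Group G] : Prop :=
  ∃ a b c : G, a ≠ 1 ∧ b ≠ 1 ∧ c ≠ 1 ∧ (orderOf a).Coprime (orderOf b) ∧
    (orderOf b).Coprime (orderOf c) ∧ (orderOf a).Coprime (orderOf c) ∧ a * b * c = 1

theorem tri_of_pow {a b : G} {l m n : ℕ} (a1 : a ≠ 1) (b1 : b ≠ 1) (ha : a ^ l = 1) (hb : b ^ m = 1)
    (hc : (a * b) ^ n = 1) (h1 : l.Coprime m) (h2 : m.Coprime n) (h3 : l.Coprime n) : Tri G := by
  have k : ∀ {x y : G} {i j : ℕ}, x ^ i = 1 → y ^ j = 1 → i.Coprime j → (orderOf x).Coprime (orderOf y) :=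
    fun hx hy h => (h.coprime_dvd_left (orderOf_dvd_of_pow_eq_one hx)).coprime_dvd_right (orderOf_dvd_of_pow_eq_one hy)
  have hc' : (a * b)⁻¹ ^ n = 1 := by rw [inv_pow, hc, inv_one]
  refine ⟨a, b, (a * b)⁻¹, a1, b1, fun e => a1 ?_, k ha hb h1, k hb hc' h2, k ha hc' h3, mul_inv_cancel _⟩
  have e : a = b⁻¹ := eq_inv_of_mul_eq_one_left (inv_eq_one.1 e)
  exact (pow_eq_one_iff_of_coprime h1).1 ⟨ha, by rw [e, inv_pow, hb, inv_one]⟩

theorem Tri.map (h : Tri G) (f : G →* K) (hf : Function.Injective f) : Tri K := by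
  obtain ⟨a, b, c, h1, h2, h3, h4, h5, h6, h7⟩ := h
  refine ⟨f a, f b, f c, (map_ne_one_iff f hf).2 h1, (map_ne_one_iff f hf).2 h2, (map_ne_one_iff f hf).2 h3, ?_, ?_, ?_,
    by rw [← map_mul, ← map_mul, h7, map_one]⟩ <;>
    rwa [orderOf_injective f hf, orderOf_injective f hf]

theorem Tri.equiv (h : Tri K) (e : G ≃* K) : Tri G := h.map e.symm.toMonoidHom e.symm.injective

theorem mem_commutator {a b c : G} (h1 : (orderOf a).Coprime (orderOf b)) (h2 : (orderOf a).Coprime (orderOf c))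
    (h : a * b * c = 1) : a ∈ commutator G := by
  rw [← Abelianization.ker_of, MonoidHom.mem_ker]
  have e : Abelianization.of a = (Abelianization.of b * Abelianization.of c)⁻¹ := by
    rw [eq_inv_iff_mul_eq_one, ← mul_assoc, ← map_mul, ← map_mul, h, map_one]
  refine (pow_eq_one_iff_of_coprime (h1.mul_right h2)).1 ⟨by rw [← map_pow, pow_orderOf_eq_one, map_one], ?_⟩
  rw [e, inv_pow, mul_pow, pow_mul, mul_comm (orderOf b), pow_mul, ← map_pow, ← map_pow _ c, pow_orderOf_eq_one,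
    pow_orderOf_eq_one]
  simp

theorem Tri.not_sol (h : Tri G) : ¬ Group.IsSolvable G := fun ⟨n, hn⟩ => by
  obtain ⟨a, b, c, h1, -, -, h4, h5, h6, h7⟩ := h
  have k : ∀ n, a ∈ derivedSeries G n ∧ b ∈ derivedSeries G n ∧ c ∈ derivedSeries G n := fun n => by
    induction n with
    | zero => exact ⟨trivial, trivial, trivial⟩
    | succ n ih =>
      have f : ∀ {x y z : G} (hx : x ∈ derivedSeries G n), y ∈ derivedSeries G n → z ∈ derivedSeries G n →
          (orderOf x).Coprime (orderOf y) → (orderOf x).Coprime (orderOf z) → x * y * z = 1 →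
          x ∈ derivedSeries G (n + 1) := fun hx hy hz c1 c2 e => by
        rw [derivedSeries_succ, ← map_subtype_commutator]
        exact ⟨⟨_, hx⟩, mem_commutator (b := ⟨_, hy⟩) (c := ⟨_, hz⟩) (by simpa) (by simpa) (Subtype.ext e), rfl⟩
      have e1 : b * c * a = 1 := by rw [mul_eq_one_comm, ← mul_assoc, h7]
      have e2 : c * a * b = 1 := by rw [mul_assoc, mul_eq_one_comm, h7]
      exact ⟨f ih.1 ih.2.1 ih.2.2 h4 h6 h7, f ih.2.1 ih.2.2 ih.1 h5 h4.symm e1, f ih.2.2 ih.1 ih.2.1 h6.symm h5.symm e2⟩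
  exact h1 (mem_bot.1 (hn ▸ (k n).1))

theorem Tri.lift {A : Subgroup G} [A.Normal] {p : ℕ} (hp : p.Prime) (hA : ∀ x ∈ A, x ^ p = 1) (h : Tri (G ⧸ A)) :
    Tri G := by
  have l : ∀ x : G ⧸ A, (orderOf x).Coprime p → ∃ y : G, (y : G ⧸ A) = x ∧ y ^ orderOf x = 1 := fun x hx => by
    obtain ⟨y, rfl⟩ := QuotientGroup.mk_surjective x
    obtain ⟨m, m1, m2⟩ := Nat.chineseRemainder hx 1 0
    obtain ⟨k, rfl⟩ := (Nat.modEq_zero_iff_dvd).1 m2
    refine ⟨y ^ (p * k), by rw [QuotientGroup.mk_pow, pow_eq_pow_iff_modEq.2 m1, pow_one], ?_⟩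
    rw [← pow_mul, mul_comm, pow_mul, pow_mul, hA _ ((QuotientGroup.eq_one_iff _).1 (by
      rw [QuotientGroup.mk_pow, pow_orderOf_eq_one])), one_pow]
  have k : ∀ a b c : G ⧸ A, a ≠ 1 → b ≠ 1 → (orderOf a).Coprime (orderOf b) → (orderOf b).Coprime (orderOf c) →
      (orderOf a).Coprime (orderOf c) → a * b * c = 1 → (orderOf a).Coprime p → (orderOf b).Coprime p → Tri G :=
    fun a b c a1 b1 h1 h2 h3 e ha hb => by
      obtain ⟨x, rfl, hx⟩ := l a ha
      obtain ⟨y, rfl, hy⟩ := l b hb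
      refine tri_of_pow (fun e => a1 (by simp [e])) (fun e => b1 (by simp [e])) hx hy (n := orderOf c * p) ?_ h1
        (h2.mul_right hb) (h3.mul_right ha)
      rw [pow_mul]
      refine hA _ ((QuotientGroup.eq_one_iff _).1 ?_)
      rw [QuotientGroup.mk_pow, QuotientGroup.mk_mul, eq_inv_of_mul_eq_one_left e, inv_pow, pow_orderOf_eq_one, inv_one]
  obtain ⟨a, b, c, h1, h2, h3, h4, h5, h6, h7⟩ := h
  have e1 : b * c * a = 1 := by rw [mul_eq_one_comm, ← mul_assoc, h7]
  have e2 : c * a * b = 1 := by rw [mul_assoc, mul_eq_one_comm, h7]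
  have d : ∀ {i j : ℕ}, i.Coprime j → ¬ i.Coprime p → j.Coprime p := fun h n =>
    (h.symm.coprime_dvd_right (by_contra fun m => n (hp.coprime_iff_not_dvd.2 m).symm))
  by_cases ha : (orderOf a).Coprime p
  · by_cases hb : (orderOf b).Coprime p
    · exact k a b c h1 h2 h4 h5 h6 h7 ha hb
    · exact k c a b h3 h1 h6.symm h4 h5.symm e2 (d h5 hb) ha
  · exact k b c a h2 h3 h5 h6.symm h4.symm e1 (d h4 ha) (d h6 ha)

theorem not_comm_of_not_sol (h : ¬ Group.IsSolvable G) : ¬ IsMulCommutative G := fun c =>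
  h (Group.isSolvable_of_comm fun a b => c.1.1 a b)

theorem tri_of_min (hm : ∀ (K : Type u) [Group K] [Finite K], IsMinimalSimple K → Tri K) (G : Type u) [Group G]
    [Finite G] (h : ¬ Group.IsSolvable G) : Tri G := by
  induction hn : Nat.card G using Nat.strong_induction_on generalizing G with
  | _ n ih =>
  subst hn
  by_cases c : ∀ H : Subgroup G, H ≠ ⊤ → Group.IsSolvable H
  · by_cases s : IsSimpleGroup G
    · exact hm G ⟨s, not_comm_of_not_sol h, c⟩
    have : Nontrivial G := not_subsingleton_iff_nontrivial.1 fun _ => h inferInstance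
    obtain ⟨N, hN, n1, n2⟩ : ∃ N : Subgroup G, N.Normal ∧ N ≠ ⊥ ∧ N ≠ ⊤ := by
      by_contra! k
      exact s ⟨fun N hN => (em _).imp_right (k N hN)⟩
    obtain ⟨A, p, hp, a1, a2, a3, a4, -⟩ := H1.exists_minimal_normal_elementary_le N n1 (c N n2)
    have := c A fun e => n2 (top_le_iff.1 (e ▸ a1))
    refine Tri.lift hp a4.2 (ih _ ?_ (G ⧸ A) (fun _ => h
      (Group.isSolvable_of_ker_le_range A.subtype (QuotientGroup.mk' A) (by simp))) rfl)
    rw [card_eq_card_quotient_mul_card_subgroup A]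
    exact lt_mul_of_one_lt_right Nat.card_pos (one_lt_card_iff_ne_bot _ |>.2 a3)
  · push Not at c
    obtain ⟨H, h1, h2⟩ := c
    exact (ih _ (by rw [← card_top (G := G)]; exact H1.card_lt_of_lt (lt_top_iff_ne_top.2 h1)) H h2 rfl).map
      H.subtype H.subtype_injective

theorem exists_min_section [Finite G] (h : ¬ Group.IsSolvable G) :
    ∃ (H : Subgroup G) (N : Subgroup H) (_ : N.Normal), IsMinimalSimple (H ⧸ N) := by
  obtain ⟨H, h1, h2⟩ := (wellFounded_lt (α := Subgroup G)).has_min {H | ¬ Group.IsSolvable H}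
    ⟨⊤, fun _ => h (Group.isSolvable_of_surjective (f := (⊤ : Subgroup G).subtype) fun x => ⟨⟨x, trivial⟩, rfl⟩)⟩
  have c : ∀ L : Subgroup H, L ≠ ⊤ → Group.IsSolvable L := fun L n => by
    have : Group.IsSolvable (L.map H.subtype) := by_contra fun m => h2 _ m (lt_of_le_of_ne (map_subtype_le L) fun e =>
      n (map_injective H.subtype_injective (by rw [e, ← MonoidHom.range_eq_map, range_subtype])))
    exact Group.isSolvable_of_isSolvable_injective (f := (L.equivMapOfInjective _ H.subtype_injective).toMonoidHom)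
      (MulEquiv.injective _)
  have : Nontrivial H := not_subsingleton_iff_nontrivial.1 fun _ => h1 inferInstance
  obtain ⟨N, ⟨n1, n2⟩, n3⟩ := (wellFounded_gt (α := Subgroup H)).has_min {N | N.Normal ∧ N ≠ ⊤} ⟨⊥, inferInstance, bot_ne_top⟩
  have := c N n2
  have ns : ¬ Group.IsSolvable (H ⧸ N) := fun _ => h1
    (Group.isSolvable_of_ker_le_range N.subtype (QuotientGroup.mk' N) (by simp))
  have s := QuotientGroup.mk'_surjective N
  have : Nontrivial (H ⧸ N) := not_subsingleton_iff_nontrivial.1 fun _ => ns inferInstance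
  refine ⟨H, N, n1, ⟨fun L hL => (em _).symm.imp_left fun m => ?_⟩, not_comm_of_not_sol ns, fun L m => ?_⟩
  · have l : N ≤ L.comap (QuotientGroup.mk' N) := by
      conv_lhs => rw [← QuotientGroup.ker_mk' N]
      exact ker_le_comap _ _
    have e := eq_of_le_of_not_lt l (n3 _ ⟨hL.comap _, fun e => m (comap_injective s (by rw [e, comap_top]))⟩)
    rw [← map_comap_eq_self_of_surjective s L, ← e, Subgroup.map_eq_bot_iff, QuotientGroup.ker_mk']
  · have := c (L.comap (QuotientGroup.mk' N)) fun e => m (comap_injective s (by rw [e, comap_top]))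
    exact Group.isSolvable_of_surjective ((QuotientGroup.mk' N).subgroupComap_surjective_of_surjective L s)

/-- a simple Zassenhaus group has a Thompson triple -/
theorem tri_of_zs {Ω : Type*} [MulAction G Ω] [Finite G] [Finite Ω] [IsSimpleGroup G] (hZ : H5.Zs G Ω) {a b : Ω}
    (hab : a ≠ b) (h2 : 2 < Nat.card Ω) {r : ℕ} (hr : r.Prime) (h1 : r ∣ Nat.card Ω) (h3 : ¬ r ∣ Nat.card (H5.D2 G a b)) :
    Tri G := by
  open H5 in
  by_contra n
  have := Fact.mk hr
  have cF : ∀ ω, Nat.card Ω = Nat.card (Fk G ω) + 1 := fun ω =>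
    (em (ω = a)).elim (fun e => e ▸ hZ.card_F hab) fun e => hZ.card_F e
  have cD : ∀ {x y : Ω}, x ≠ y → Nat.card (D2 G x y) = Nat.card (D2 G a b) := fun h => hZ.card_D2 hab h
  have rF : ∀ ω, (Nat.card (Fk G ω)).Coprime r := fun ω =>
    (hr.coprime_iff_not_dvd.2 fun e => hr.not_dvd_one ((Nat.dvd_add_right e).1 (cF ω ▸ h1))).symm
  have nf : ∀ c : G, orderOf c = r → ∀ ω, c • ω ≠ ω := fun c hc ω e => by
    obtain ⟨y, hy⟩ : ∃ y, ω ≠ y := (em (ω = a)).elim (fun e => ⟨b, e ▸ hab⟩) fun e => ⟨a, e⟩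
    have := (stabilizer G ω).orderOf_dvd_natCard (mem_stabilizer_iff.2 e)
    rw [hc, hZ.card_B hy, cD hy, hr.dvd_mul] at this
    exact this.elim (hr.coprime_iff_not_dvd.1 (rF ω).symm) h3
  have one : ∀ c : G, orderOf c = r → ∀ ω, ∀ u ∈ Fk G ω, u ≠ 1 → ∀ x y, (u * c) • x = x → (u * c) • y = y → x = y :=
    fun c hc ω u hu u1 x y hx hy => by_contra fun m => n (tri_of_pow (l := Nat.card (Fk G ω)) (m := r)
      (n := Nat.card (D2 G x y)) u1 (by rintro rfl; simp at hc; exact hr.ne_one hc.symm)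
      (congrArg Subtype.val (pow_card_eq_one' (x := (⟨u, hu⟩ : Fk G ω)))) (hc ▸ pow_orderOf_eq_one c)
      (congrArg Subtype.val (pow_card_eq_one' (x := (⟨_, mem_D2.2 ⟨hx, hy⟩⟩ : D2 G x y)))) (rF ω)
      (cD m ▸ hr.coprime_iff_not_dvd.2 h3) (by
        have := hZ.coprime_DF m
        have e := cF ω; rw [cF x] at e
        rw [← Nat.add_right_cancel e]; exact this.symm))
  have step : ∀ c : G, orderOf c = r → ∀ u : G, (u ≠ 1 ∧ ∃ ω, u ∈ Fk G ω) → u * c ≠ 1 ∧ ∃ ω, u * c ∈ Fk G ω :=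
    fun c hc u hu => by
      obtain ⟨u1, ω, hu⟩ := hu
      have ex : ∀ x : {x : Ω // x ≠ ω ∧ x ≠ c⁻¹ • ω}, ∃ v : {v : Fk G ω // v ≠ 1}, (v.1.1 * c) • x.1 = x.1 := fun x => by
        obtain ⟨v, v1, v2⟩ := hZ.reg_exists (a := ω) (b := c • x.1) (fun e => x.2.2 (eq_inv_smul_iff.2 e)) x.2.1
        exact ⟨⟨⟨v, v1⟩, fun e => nf c hc x.1 (by rwa [show v = 1 from congrArg Subtype.val e, one_smul] at v2)⟩,
          by rw [mul_smul, v2]⟩
      choose φ hφ using ex
      have i : Function.Injective φ := fun x y e => Subtype.ext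
        (one c hc ω _ (φ x).1.2 (fun e => (φ x).2 (Subtype.ext e)) _ _ (hφ x) (e ▸ hφ y))
      have c1 : Nat.card {v : Fk G ω // v ≠ 1} + 1 = Nat.card (Fk G ω) := by
        classical
        have := Fintype.ofFinite (Fk G ω)
        simp only [Nat.card_eq_fintype_card, Fintype.card_subtype_compl, Fintype.card_unique]
        have := Fintype.card_pos (α := Fk G ω); omega
      have c2 : Nat.card {x : Ω // x ≠ ω ∧ x ≠ c⁻¹ • ω} + 2 = Nat.card Ω := by
        have := Set.ncard_add_ncard_compl ({ω, c⁻¹ • ω} : Set Ω)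
        rw [Set.ncard_pair (fun e => nf c hc ω (by rw [e, smul_inv_smul, ← e]))] at this
        rw [← this, add_comm, ← Nat.card_coe_set_eq]
        congr 1
        exact Nat.card_congr (Equiv.subtypeEquivRight fun x => by simp)
      obtain ⟨x, e⟩ := (i.bijective_of_nat_card_le (by have := cF ω; omega)).2
        ⟨⟨u, hu⟩, fun e => u1 (congrArg Subtype.val e)⟩
      have k := hφ x
      rw [e] at k
      exact ⟨fun e => nf c hc ω (by rw [eq_inv_of_mul_eq_one_right e]; exact inv_smul_eq (Fk_fix hu)), x.1,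
        hZ.mem_Fk.2 (.inr ⟨k, fun y hy => one c hc ω u hu u1 _ _ hy k⟩)⟩
  obtain ⟨c, hc⟩ := exists_prime_orderOf_dvd_card' (G := G) r (hZ.card_G' a ▸ h1.mul_right _)
  have top : closure {c : G | orderOf c = r} = ⊤ := (Normal.eq_bot_or_eq_top ⟨fun x hx g =>
    closure_induction (p := fun x _ => g * x * g⁻¹ ∈ closure {c : G | orderOf c = r}) (fun x hx => subset_closure
      ((MulAut.conj g).orderOf_eq x ▸ hx : orderOf (MulAut.conj g x) = r)) (by simp) (fun x y _ _ a b => by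
        simpa [mul_assoc] using mul_mem a b) (fun x _ a => by simpa [mul_assoc] using inv_mem a) hx⟩).resolve_left
    fun e => hr.ne_one (by rw [← hc, mem_bot.1 (e ▸ subset_closure hc : c ∈ ⊥), orderOf_one])
  obtain ⟨⟨u, hu⟩, u1⟩ := ne_bot_iff_exists_ne_one.1 ((one_lt_card_iff_ne_bot (Fk G a)).1 (by have := cF a; omega))
  have k : ∀ g ∈ closure {c : G | orderOf c = r}, ∀ u : G, (u ≠ 1 ∧ ∃ ω, u ∈ Fk G ω) → u * g ≠ 1 ∧ ∃ ω, u * g ∈ Fk G ω :=
    fun g hg => closure_induction'' step (fun c hc => step _ (by rwa [orderOf_inv])) (by simp)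
      (fun x y _ _ hx hy u hu => mul_assoc u x y ▸ hy _ (hx u hu)) hg
  exact (k u⁻¹ (top ▸ trivial) u ⟨fun e => u1 (Subtype.ext e), a, hu⟩).1 (mul_inv_cancel u)

end H29.NC
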