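import Cfsg.Agent.H24.ND0

/-! S4780, chunk SA: commuting spread sets. -/

set_option autoImplicit false

namespace H29.ND

open Module

universe u

theorem del_pow {F U : Type*} [CommRing F] [AddCommGroup U] [Module F U]
    (ω : U →ₗ[F] U →ₗ[F] F) (X : Module.End F U)
    (h : ∀ a b, ω (X (X a)) b - ω (X a) (X b) = ω (X a) (X b) - ω a (X (X b))) (k : ℕ) :
    ∀ a b, ω ((X ^ (k + 1)) a) b - ω a ((X ^ (k + 1)) b) =
      ((k + 1 : ℕ) : F) * (ω (X ((X ^ k) a)) b - ω ((X ^ k) a) (X b)) := by
  induction k with
  | zero => intro a b; simp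
  | succ k ih =>
    intro a b
    have e1 : (X ^ (k + 1 + 1)) a = X (X ((X ^ k) a)) := by
      rw [pow_succ', pow_succ']; rfl
    have e2 : (X ^ (k + 1 + 1)) b = (X ^ (k + 1)) (X b) := by rw [pow_succ]; rfl
    have e3 : (X ^ (k + 1)) a = X ((X ^ k) a) := by rw [pow_succ']; rfl
    have h1 := ih a (X b)
    have h2 := h ((X ^ k) a) b
    rw [e3] at h1
    rw [e1, e2, e3]
    push_cast at h1 ⊢
    linear_combination h1 - ((k : F) + 1) * h2

theorem sa : H24.ND.SA.{u} := by
  intro p hp T U _ _ _ _ _ _ _ ω S e h0 hn hd hS he hc hs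
  obtain ⟨v, v0⟩ := exists_ne (0 : U)
  have anti : ∀ a b, ω a b = -ω b a := fun a b => by
    have := h0 (a + b)
    simp only [map_add, LinearMap.add_apply, h0] at this
    linear_combination this
  have inj : Function.Injective (S.flip v) := (injective_iff_map_eq_zero _).2 fun t ht =>
    (hS t v ht).resolve_right v0
  have sur : Function.Surjective (S.flip v) :=
    (LinearMap.injective_iff_surjective_of_finrank_eq_finrank
      (le_antisymm (LinearMap.finrank_le_finrank_of_injective inj) hd)).1 inj
  have mul : ∀ t t', ∃ s, S s = (S t : Module.End (ZMod p) U) * S t' := fun t t' => by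
    obtain ⟨s, h1⟩ := sur (S t (S t' v))
    refine ⟨s, LinearMap.ext fun a => ?_⟩
    obtain ⟨r, rfl⟩ := sur a
    change S s v = _ at h1
    change S s (S r v) = S t (S t' (S r v))
    rw [hc s r, h1, hc r t, hc r t']
  have pw : ∀ t (k : ℕ), ∃ s, S s = (S t : Module.End (ZMod p) U) ^ k := fun t k => by
    induction k with
    | zero => exact ⟨e, LinearMap.ext he⟩
    | succ k ih =>
      obtain ⟨s, h1⟩ := ih
      obtain ⟨r, h2⟩ := mul s t
      exact ⟨r, by rw [h2, h1, pow_succ]⟩
  choose f hf using fun t => pw t p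
  have : CharP (Module.End (ZMod p) U) p :=
    charP_of_injective_algebraMap (algebraMap (ZMod p) (Module.End (ZMod p) U)).injective p
  have fi : Function.Injective f := fun t t' h => by
    by_contra hne
    have c : Commute (S t : Module.End (ZMod p) U) (S t') := LinearMap.ext (hc t t')
    have h1 : (S (t - t') : Module.End (ZMod p) U) ^ p = 0 := by
      rw [map_sub, sub_pow_char_of_commute p c, ← hf, ← hf, h, sub_self]
    have h2 : Function.Injective (S (t - t')) := (injective_iff_map_eq_zero _).2 fun a ha =>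
      (hS _ a ha).resolve_left (sub_ne_zero.2 hne)
    have h3 : Function.Injective ((S (t - t') : Module.End (ZMod p) U) ^ p) := by
      rw [Module.End.coe_pow]; exact h2.iterate p
    rw [h1] at h3
    exact v0 (h3 (by simp))
  have fs := Finite.surjective_of_injective fi
  have adj : ∀ t a b, ω (S t a) b = ω a (S t b) := fun t a b => by
    obtain ⟨s, rfl⟩ := fs t
    obtain ⟨k, hk⟩ : ∃ k, p = k + 1 := ⟨p - 1, (Nat.sub_add_cancel hp.out.one_le).symm⟩
    have h1 := del_pow ω (S s) (fun a b => by
      have := hs s s a b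
      rw [anti (S s (S s b)) a, anti (S s b) (S s a)] at this
      linear_combination this) k a b
    rw [← hk, ZMod.natCast_self, zero_mul, ← hf] at h1
    exact sub_eq_zero.1 h1
  refine v0 (hn v fun b => ?_)
  obtain ⟨t, rfl⟩ := sur b
  change ω v (S t v) = 0
  by_cases h2 : p = 2
  · obtain ⟨s, rfl⟩ := fs t
    rw [hf]
    subst h2
    rw [pow_two, Module.End.mul_apply, ← adj, h0]
  · have h3 : (2 : ZMod p) ≠ 0 := fun h => h2 ((Nat.prime_dvd_prime_iff_eq hp.out Nat.prime_two).1
      ((ZMod.natCast_eq_zero_iff 2 p).1 (by exact_mod_cast h)))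
    have h4 := adj t v v
    rw [anti] at h4
    exact (mul_eq_zero.1 (show (2 : ZMod p) * ω v (S t v) = 0 by
      linear_combination -h4)).resolve_left h3

end H29.ND
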