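import Cfsg.Agent.H24.ND0

/-! S4780, chunk W1: the class is at most three. -/

set_option autoImplicit false
set_option linter.unusedSectionVars false

open Subgroup MulAction H19 H20 H6 Cfsg H3.PT H3.GR H3.ND H24.ND
open scoped commutatorElement

namespace H29.ND

universe u
variable {G : Type u} [Group G] [Finite G] {P H : Subgroup G} {p : ℕ}

theorem fx {X Y : Subgroup G} {c : G} (hc : c ∈ H) (h : Fpf X Y c) : X ⊓ C(H) ≤ Y := fun w hw =>
  h w hw.1 (by rw [mem_centralizer_iff.1 hw.2 c hc]; simp)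

theorem c3 (ra : RA.{u}) (fp : FP.{u}) (ji : JI.{u}) (lv : LV.{u}) (so : SO.{u}) (c4 : C4.{u})
    (h : PC P H p) (h0 : g2 P ⊓ C(H) ≤ g3 P) : g4 P = ⊥ := by
  have := h.nP
  have a2 : g2 P ≤ P := commutator_le_left _ _
  have a3 : g3 P ≤ g2 P := commutator_le_left _ _
  have a4 : g4 P ≤ g3 P := commutator_le_left _ _
  have a5 : g5 P ≤ g4 P := commutator_le_left _ _
  have aJ : P ⊓ C(H) ≤ P := inf_le_left
  have j3 := ji h a3 le_rfl le_rfl (commutator_mono aJ le_rfl) h0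
  obtain ⟨d2, -⟩ := lv h a3 le_rfl le_rfl j3 fun x h1 h2 y h3 =>
    (h.cam x h1 h2 y h3).imp fun g hg => ⟨hg.1, by rw [hg.2, mul_inv_cancel]; exact one_mem _⟩
  have b22 : ⁅g2 P, g2 P⁆ ≤ g4 P :=
    H1.three_subgroups (by rw [commutator_comm P]) le_rfl
  have b2J : ⁅g2 P, P ⊓ C(H)⁆ ≤ g4 P :=
    H1.three_subgroups (by rw [commutator_comm P]; exact commutator_mono j3 le_rfl)
      (commutator_mono j3 le_rfl)
  have f2 : ∀ c ∈ H, c ∉ C(P) → Ce (g3 P) (g2 P) c → Fpf (g3 P) (g4 P) c := fun c h1 h2 h3 =>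
    fp h a2 (by
      rw [commutator_comm (g2 P) (V1 P H)]
      exact commg_sup_left_le b22 (by rwa [commutator_comm]) nr nr) h1 h2 h3
  obtain ⟨c, c1, c2, c3⟩ := ra h a3 le_rfl le_rfl
  have j4 := ji h a4 a3 le_rfl j3 (fx c1 (f2 c c1 c2 c3))
  have s2 := so h a4 a3 le_rfl b22 le_rfl le_rfl d2 f2
  obtain ⟨d3, -⟩ := lv h a4 a3 le_rfl j4 fun x h1 h2 y h3 => by
    by_cases e : x ∈ V1 P H
    · obtain ⟨w, w1, a, a1, rfl⟩ := mem_sup_of_normal_left.1 e
      obtain ⟨g, g1, g2⟩ := s2 w w1 (fun e => h2 (mul_mem_sup e a1)) y h3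
      refine ⟨g, g1, ?_⟩
      have k : ⁅g, a⁆ ∈ g4 P := j4 (commutator_comm P _ ▸ commutator_mem_commutator g1 a1)
      have := mul_mem (Normal.conj_mem inferInstance _ k (g * w * g⁻¹)) g2
      convert this using 1
      simp only [commutatorElement_def]; group
    · exact (h.cam x h1 e y (a3 h3)).imp fun g hg =>
        ⟨hg.1, by rw [hg.2, mul_inv_cancel]; exact one_mem _⟩
  have b23 : ⁅g2 P, g3 P⁆ ≤ g5 P :=
    H1.three_subgroups (by rw [commutator_comm P]) le_rfl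
  have b3J : ⁅g3 P, P ⊓ C(H)⁆ ≤ g5 P :=
    H1.three_subgroups (by rw [commutator_comm P]; exact commutator_mono j4 a2)
      (commutator_mono ((commutator_mono le_rfl a2).trans j4) le_rfl)
  have f3 : ∀ c ∈ H, c ∉ C(P) → Ce (g4 P) (g3 P) c → Fpf (g4 P) (g5 P) c := fun c h1 h2 h3 =>
    fp h (a3.trans a2) (by
      rw [commutator_comm (g3 P) (V1 P H)]
      exact commg_sup_left_le b23 (by rwa [commutator_comm]) nr nr) h1 h2 h3
  obtain ⟨e, e1, e2, e3⟩ := ra h a4 a3 le_rfl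
  have j5 := ji h a5 (a4.trans a3) le_rfl j4 (fx e1 (f3 e e1 e2 e3))
  have s3 := so h a5 a4 a3 ((commutator_mono a3 le_rfl).trans b23) le_rfl le_rfl d3 f3
  exact nil_eq_bot_of_commg h.pg.nil (a4.trans (a3.trans a2)) le_rfl nr
    (c4 h.pr h.pg aJ j5 h.cam s2 s3)

end H29.ND
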