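import Cfsg.Agent.H29.PL1
import Cfsg.Agent.H29.JC6

/-! Classes of involutions in projective special linear groups and fusion preserving automorphisms. -/

set_option autoImplicit false
set_option linter.unusedSectionVars false

namespace H29.PL
open Matrix Finset Subgroup H25 H25.FS _root_.H29.JC

variable {F : Type*} [Field F] {ι : Type*} [Fintype ι] [DecidableEq ι] {Γ : Type*} [Group Γ]
  {ρ : SpecialLinearGroup ι F →* Γ} {T P : Subgroup Γ} {A B g g' : SpecialLinearGroup ι F}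
  {s t : Finset ι} {a b y y' : Γ} {k : ℕ} {κ : Type*} {x x' x'' : κ → Γ}

theorem ext' (h : A.1 = B.1) : A = B := Subtype.ext h
theorem val_eq (h : A = B) : A.1 = B.1 := h ▸ rfl
theorem vmul (A B : SpecialLinearGroup ι F) : (A * B).1 = A.1 * B.1 := rfl

theorem det_ne (A : SpecialLinearGroup ι F) : A.1.det ≠ 0 := A.2.trans_ne one_ne_zero

/-- sign matrices -/
def es (F : Type*) [Field F] (s : Finset ι) : SpecialLinearGroup ι F :=
  if h : Even s.card then ⟨diagonal (sg F s), by simp [prod_sg, h.neg_one_pow]⟩ else 1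

theorem es_val (h : Even s.card) : (es F s).1 = diagonal (sg F s) := val_eq (dif_pos h)

theorem es_mul (hs : Even s.card) (ht : Even t.card) (h : Even (symmDiff s t).card) :
    es F s * es F t = es F (symmDiff s t) := ext' (by
  rw [vmul, es_val hs, es_val ht, es_val h, diagonal_mul_diagonal]
  simp only [sg_mul])

theorem es_empty : es F (∅ : Finset ι) = 1 := ext' (by
  rw [es_val (by simp)]; exact diagonal_one)

theorem es_sq (s : Finset ι) : es F s * es F s = 1 := by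
  by_cases h : Even s.card
  · rw [es_mul h h (by simp), symmDiff_self]; exact es_empty
  · simp [es, h]

theorem es_of (h2 : (2 : F) ≠ 0) (h : A.1 * g.1 = g.1 * diagonal (sg F t)) :
    Even t.card ∧ A = g * es F t * g⁻¹ := by
  have h1 := congrArg det h
  rw [det_mul, det_mul, A.2, g.2, det_diagonal, prod_sg, one_mul, one_mul] at h1
  have h3 := (neg_one_pow_eq_one_iff_even (neg_ne h2)).1 h1.symm
  exact ⟨h3, eq_mul_inv_of_mul_eq (ext' (by simpa [es_val h3] using h))⟩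

theorem card_eq (h2 : (2 : F) ≠ 0) (hs : Even s.card) (ht : Even t.card)
    (e : g * es F s * g⁻¹ = g' * es F t * g'⁻¹) : s.card = t.card := by
  have : g'⁻¹ * g * es F s = es F t * (g'⁻¹ * g) := by
    rw [mul_assoc, mul_inv_eq_iff_eq_mul.1 e]; group
  have h := val_eq this
  rw [vmul, vmul (es F t), es_val hs, es_val ht] at h
  rw [← cnt_sg h2, ← cnt_sg h2 t]
  exact cnt (det_ne _) h 1

theorem exists_mon' [Nonempty ι] (σ : Equiv.Perm ι) : ∃ w : SpecialLinearGroup ι F,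
    (∀ u : ι → F, diagonal u * w.1 = w.1 * diagonal (u ∘ σ)) ∧
      ∀ s, w * es F s * w⁻¹ = es F (s.map σ.toEmbedding) := by
  obtain ⟨w, h⟩ := exists_mon (F := F) σ
  refine ⟨w, h, fun s => ?_⟩
  by_cases hs : Even s.card
  · refine mul_inv_eq_of_eq_mul (ext' ?_)
    rw [vmul, vmul, es_val hs, es_val (by simpa using hs), h]
    congr 2; ext i; simp [sg]
  · simp [es, hs]

/-- simultaneous conjugacy -/
def Cn (ρ : SpecialLinearGroup ι F →* Γ) (x x' : κ → Γ) : Prop := ∃ g, ∀ i, ρ g * x i * (ρ g)⁻¹ = x' i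
/-- conjugate family -/
def cf (a : Γ) (x : κ → Γ) (i : κ) : Γ := a * x i * a⁻¹
/-- conjugates of sign matrices -/
def Jk (ρ : SpecialLinearGroup ι F →* Γ) (k : ℕ) (y : Γ) : Prop :=
  ∃ s : Finset ι, s.card = k ∧ ∃ g, y = ρ (g * es F s * g⁻¹)

theorem Cn.refl : Cn ρ x x := ⟨1, by simp⟩
theorem Cn.symm (h : Cn ρ x x') : Cn ρ x' x :=
  let ⟨g, h⟩ := h; ⟨g⁻¹, fun i => by rw [← h]; simp [mul_assoc]⟩
theorem Cn.trans (h : Cn ρ x x') (h' : Cn ρ x' x'') : Cn ρ x x'' :=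
  let ⟨g, h⟩ := h; let ⟨g', h'⟩ := h'; ⟨g' * g, fun i => by rw [← h', ← h]; simp [mul_assoc]⟩
theorem cf_mul : cf (a * b) x = cf a (cf b x) := funext fun i => by simp [cf, mul_assoc]
theorem cf_one : cf 1 x = x := funext fun i => by simp [cf]

theorem Jk.conj (h : Jk ρ k y) (g : SpecialLinearGroup ι F) : Jk ρ k (ρ g * y * (ρ g)⁻¹) :=
  let ⟨s, hs, g', e⟩ := h; ⟨s, hs, g * g', by simp [e, mul_assoc]⟩
theorem Jk.sq (h : Jk ρ k y) : y * y = 1 := by
  obtain ⟨s, -, g, rfl⟩ := h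
  rw [← map_mul, conj_mul, es_sq]; simp
theorem jk_es : Jk ρ s.card (ρ (es F s)) := ⟨s, rfl, 1, by simp⟩
theorem Jk.cn [Nonempty ι] (h : Jk ρ k y) (h' : Jk ρ k y') : ∃ g, ρ g * y * (ρ g)⁻¹ = y' := by
  obtain ⟨s, rfl, g, rfl⟩ := h
  obtain ⟨t, ht, g', rfl⟩ := h'
  obtain ⟨σ, rfl⟩ := Equiv.Perm.exists_map_finset_eq s t ht.symm
  obtain ⟨w, -, hw⟩ := exists_mon' (F := F) σ
  exact ⟨g' * w * g⁻¹, by rw [← hw]; simp [mul_assoc]⟩

variable [Fintype F]

/-- a projective special linear group with a Sylow 2-subgroup -/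
structure St (ρ : SpecialLinearGroup ι F →* Γ) (T : Subgroup Γ) : Prop where
  odd : Odd (Fintype.card F)
  ker : ∀ A, ρ A = 1 ↔ ∃ c : F, A.1 = c • 1
  pg : IsPGroup 2 T
  syl : Syl 2 T ρ.range

theorem St.two (h : St ρ T) : (2 : F) ≠ 0 := two_ne h.odd

theorem St.eq_iff (h : St ρ T) : ρ A = ρ B ↔ ∃ c : F, A.1 = c • B.1 := by
  rw [← mul_inv_eq_one, ← map_inv, ← map_mul, h.ker]
  refine exists_congr fun c => ⟨fun e => ?_, fun e => ?_⟩
  · rw [← inv_mul_cancel_right A B, mul_assoc, inv_mul_cancel, mul_one, ← inv_mul_cancel_right A B,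
      mul_assoc, ← mul_assoc, vmul, e, smul_mul_assoc, one_mul]
  · rw [vmul, e, smul_mul_assoc, ← vmul, mul_inv_cancel]; rfl

theorem St.lift (h : St ρ T) (n2 : Fintype.card ι ≠ 2) (n4 : Fintype.card ι ≠ 4) (hs : s.card = 2)
    (ht : t.card = 2) (e : ρ (g * es F s * g⁻¹) = ρ (g' * es F t * g'⁻¹)) :
    g * es F s * g⁻¹ = g' * es F t * g'⁻¹ := by
  classical
  obtain ⟨c, hc⟩ := h.eq_iff.1 e
  have h1 : (g'⁻¹ * g).1 * diagonal (sg F s) = diagonal (c • sg F t) * (g'⁻¹ * g).1 := by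
    rw [diagonal_smul, ← es_val (hs ▸ even_two), ← es_val (ht ▸ even_two), smul_mul_assoc,
      ← vmul, ← vmul,
      show g'⁻¹ * g * es F s = g'⁻¹ * (g * es F s * g⁻¹) * g by group,
      show es F t * (g'⁻¹ * g) = g'⁻¹ * (g' * es F t * g'⁻¹) * g by group,
      vmul _ g, vmul _ g, vmul g'⁻¹,
      vmul g'⁻¹, hc, mul_smul_comm, smul_mul_assoc]
  have h2 := (cnt_sg h.two s).symm.trans (cnt (det_ne _) h1 1)
  by_cases c1 : c = 1
  · exact ext' (by rw [hc, c1, one_smul])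
  by_cases c2 : c = -1
  · rw [hs, show #{i | (c • sg F t) i ≠ 1} = #tᶜ from congrArg card (by
      ext i; by_cases e : i ∈ t <;> simp [sg, e, c2, neg_ne h.two]), card_compl, ht] at h2
    omega
  · rw [hs, show #{i | (c • sg F t) i ≠ 1} = #univ from congrArg card (by
      ext i; by_cases e : i ∈ t <;> simp [sg, e, c1, neg_eq_iff_eq_neg, c2])] at h2
    exact absurd h2.symm n2

theorem St.sc [Finite κ] [Nonempty ι] (h : St ρ T) (n2 : Fintype.card ι ≠ 2) (n4 : Fintype.card ι ≠ 4)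
    (hx : ∀ i, Jk ρ 2 (x i)) (cm : ∀ i j, x i * x j = x j * x i) :
    ∃ g, ∀ i, ∃ s : Finset ι, s.card = 2 ∧ x i = ρ (g * es F s * g⁻¹) := by
  choose s hs g e using hx
  obtain ⟨g₀, h0⟩ := sim_diag h.two (Set.finite_range fun i => (g i * es F (s i) * (g i)⁻¹).1)
    (by rintro _ ⟨i, rfl⟩; rw [← vmul, conj_mul, es_sq]; simp) (by
      rintro _ ⟨i, rfl⟩ _ ⟨j, rfl⟩
      have := h.lift n2 n4 (hs j) (hs j) (g := g i * es F (s i) * (g i)⁻¹ * g j) (g' := g j) (by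
        rw [← e, ← mul_inv_cancel_right (x j) (x i), ← cm, e i, e j]; simp [mul_assoc])
      rw [← vmul, ← vmul]
      exact val_eq (mul_inv_eq_iff_eq_mul.1 (Eq.trans (by group) this)))
  refine ⟨g₀, fun i => ?_⟩
  obtain ⟨t, ht⟩ := h0 _ ⟨i, rfl⟩
  obtain ⟨h1, h2⟩ := es_of h.two ht
  exact ⟨t, (card_eq h.two h1 (hs i ▸ even_two) h2.symm).trans (hs i), h2 ▸ e i⟩

theorem St.refl [Nonempty ι] (h : St ρ T) (hy : y ∈ ρ.range) (y2 : y * y = 1) (y1 : y ≠ 1) :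
    ∃ g, Jk ρ 2 (y * (ρ g * y * (ρ g)⁻¹)) := by
  classical
  obtain ⟨A, rfl⟩ := hy
  obtain ⟨μ, hμ⟩ := (h.ker _).1 ((map_mul ρ A A).trans y2)
  obtain ⟨g, J, h1, h2, h3⟩ := exists_refl h.odd (μ := μ) (fun e => by
    have := (A * A).2
    simp [hμ, e] at this) hμ fun c e => y1 ((h.ker _).2 ⟨c, e⟩)
  obtain ⟨g₀, h0⟩ := sim_diag h.two (Set.finite_singleton J.1) (by simpa using h2) (by simp)
  obtain ⟨t, ht⟩ := h0 _ rfl
  have h4 : g * A * g⁻¹ = A * J := mul_inv_eq_of_eq_mul (ext' h1)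
  refine ⟨g, t, ?_, g₀, by
    rw [← (es_of h.two ht).2, ← map_inv, ← map_mul, ← map_mul, h4, map_mul, ← mul_assoc, y2, one_mul]⟩
  rw [← h3, ← rank_mul_eq_left_of_isUnit_det g₀.1 _ (by simp), sub_mul, ht, one_mul, ← mul_sub_one,
    rank_mul_eq_right_of_isUnit_det _ _ (by simp), ← diagonal_one, diagonal_sub, rank_diagonal,
    ← cnt_sg h.two, Fintype.card_subtype]
  simp [sub_eq_zero]

theorem card_sd (hs : s.card = 2) (ht : t.card = 2) :
    s = t ∨ (symmDiff s t).card = 2 ∧ (s ∩ t).Nonempty ∨ (symmDiff s t).card = 4 ∧ Disjoint s t := by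
  have h1 : (symmDiff s t).card + 2 * (s ∩ t).card = 4 := by
    rw [symmDiff_def, sup_eq_union, card_union_of_disjoint disjoint_sdiff_sdiff]
    have := card_sdiff_add_card_inter s t
    have := card_sdiff_add_card_inter t s
    rw [inter_comm] at this; omega
  have h2 := card_le_card (inter_subset_left : s ∩ t ⊆ s)
  rcases (by omega : (s ∩ t).card = 2 ∨ (s ∩ t).card = 1 ∨ (s ∩ t).card = 0) with e | e | e
  · exact Or.inl ((eq_of_subset_of_card_le inter_subset_left (by omega)).symm.trans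
      (eq_of_subset_of_card_le inter_subset_right (by omega)))
  · exact Or.inr (Or.inl ⟨by omega, card_pos.1 (by omega)⟩)
  · exact Or.inr (Or.inr ⟨by omega, disjoint_iff_inter_eq_empty.2 (card_eq_zero.1 e)⟩)

theorem St.prod [Nonempty ι] (h : St ρ T) (n2 : Fintype.card ι ≠ 2) (n4 : Fintype.card ι ≠ 4)
    (h1 : Jk ρ 2 y) (h2 : Jk ρ 2 y') (cm : y * y' = y' * y) :
    y * y' = 1 ∨ Jk ρ 2 (y * y') ∨ Jk ρ 4 (y * y') := by
  obtain ⟨g, hg⟩ := h.sc (x := ![y, y']) n2 n4 (by simp [Fin.forall_fin_two, h1, h2])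
    (by simp [Fin.forall_fin_two, cm])
  obtain ⟨s, hs, e⟩ := hg 0
  obtain ⟨t, ht, e'⟩ := hg 1
  obtain rfl : y = _ := e
  obtain rfl : y' = _ := e'
  rw [← map_mul, conj_mul]
  rcases card_sd hs ht with rfl | e | e
  · simp [es_sq]
  all_goals rw [es_mul (hs ▸ even_two) (ht ▸ even_two) (by rw [e.1]; decide)]
  exacts [Or.inr (Or.inl ⟨_, e.1, g, rfl⟩), Or.inr (Or.inr ⟨_, e.1, g, rfl⟩)]

variable [Finite Γ]

theorem St.cf_mem (ha : a ∈ (ofSub ρ.range T).aut) (hx : ∀ i, x i ∈ T) (i : κ) : cf a x i ∈ T :=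
  conj_mem_of_mem_nz (aut_le_nz _ ha) (hx i)

theorem St.fp (h : St ρ T) (ha : a ∈ (ofSub ρ.range T).aut) (hx : ∀ i, x i ∈ T) (hx' : ∀ i, x' i ∈ T)
    (c : Cn ρ x x') : Cn ρ (cf a x) (cf a x') := by
  obtain ⟨g, c⟩ := c
  have H : (ofSub ρ.range T).T (closure (Set.range x)) (ρ g) :=
    ofSub_T_of_mem ((closure_le _).2 (Set.range_subset_iff.2 hx)) ⟨g, rfl⟩ (cj_le_iff.2
      ((closure_le _).2 (Set.range_subset_iff.2 fun i => mem_cj.2 (by simpa [c] using hx' i))))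
  obtain ⟨-, -, _, ⟨g', rfl⟩, e⟩ := (ofSub_T h.syl.le).1 (H.conj_aut ha)
  refine ⟨g', fun i => ?_⟩
  rw [cf, cf, ← c, ← e _ (conj_mem_cj a (subset_closure ⟨i, rfl⟩))]; group

theorem St.two_cl (h : St ρ T) (ha : a ∈ (ofSub ρ.range T).aut) (ho : (orderOf a).Coprime 2)
    (hx : ∀ i, x i ∈ T) {C : (κ → Γ) → Prop} (hC : ∀ y y', C y → C y' → Cn ρ y y')
    (hb : ∀ b ∈ (ofSub ρ.range T).aut, (orderOf b).Coprime 2 → Cn ρ x (cf b x) ∨ C (cf b x)) :
    Cn ρ x (cf a x) := by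
  by_contra hn
  have h2 := mul_mem ha ha
  have h1 : Cn ρ x (cf (a * a) x) := (hb _ h2 (ho.coprime_dvd_left (pow_two a ▸ orderOf_pow_dvd 2))).resolve_right
    fun e => hn (by
    simpa [← cf_mul, cf_one] using h.fp (inv_mem ha) (St.cf_mem ha hx) (St.cf_mem h2 hx)
      (hC _ _ ((hb a ha ho).resolve_left hn) e))
  have h3 : ∀ n : ℕ, Cn ρ x (cf ((a * a) ^ n) x) := fun n => by
    induction n with
    | zero => rw [pow_zero, cf_one]; exact .refl
    | succ n ih => rw [pow_succ, cf_mul]; exact ih.trans (h.fp (pow_mem h2 n) hx (St.cf_mem h2 hx) h1)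
  obtain ⟨n, hn'⟩ := exists_pow_eq_self_of_coprime (x := a) ho.symm
  exact hn (by simpa [← pow_two, hn'] using h3 n)

theorem St.fp1 (h : St ρ T) (ha : a ∈ (ofSub ρ.range T).aut) (hy : y ∈ T) (hy' : y' ∈ T)
    (c : ρ g * y * (ρ g)⁻¹ = y') : ∃ g, ρ g * (a * y * a⁻¹) * (ρ g)⁻¹ = a * y' * a⁻¹ :=
  let ⟨g, e⟩ := h.fp (x := fun _ : Unit => y) (x' := fun _ => y') ha (fun _ => hy) (fun _ => hy')
    ⟨g, fun _ => c⟩
  ⟨g, e ()⟩

theorem el_pg {V : Subgroup Γ} (h : El V) : IsPGroup 2 V := fun v => ⟨1, Subtype.ext (by simpa [pow_two] using h v v.2)⟩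

theorem St.ne (h : St ρ T) (n2 : Fintype.card ι ≠ 2) (h1 : Jk ρ 2 y) : y ≠ 1 := by
  obtain ⟨s, hs, g, rfl⟩ := h1
  intro e
  obtain ⟨c, hc⟩ := (h.ker (es F s)).1 (by simpa using e)
  obtain ⟨i, hi⟩ := card_pos.1 (hs ▸ two_pos)
  obtain ⟨j, hj⟩ : ∃ j, j ∉ s := by
    by_contra! e
    exact n2 (by rw [← hs, eq_univ_iff_forall.2 e, card_univ])
  rw [es_val (hs ▸ even_two)] at hc
  have h1 := congrFun (congrFun hc i) i
  have h2 := congrFun (congrFun hc j) j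
  simp [sg, hi, hj] at h1 h2
  exact neg_ne h.two (h1.trans h2.symm)

/-- the class of the rank two reflections is invariant -/
theorem St.jinv [Nonempty ι] (h : St ρ T) (n2 : Fintype.card ι ≠ 2) (n4 : Fintype.card ι ≠ 4)
    (ha : a ∈ (ofSub ρ.range T).aut) (ho : (orderOf a).Coprime 2) (hy : y ∈ T) (h1 : Jk ρ 2 y) :
    Jk ρ 2 (a * y * a⁻¹) := by
  suffices H : ∀ b ∈ (ofSub ρ.range T).aut, Cn ρ (fun _ : Unit => y) (cf b fun _ => y) ∨
      Jk ρ 4 (b * y * b⁻¹) by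
    obtain ⟨g, e⟩ := h.two_cl (x := fun _ : Unit => y) ha ho (fun _ => hy) (C := fun y => Jk ρ 4 (y ()))
      (fun y y' h1 h2 => let ⟨g, e⟩ := h1.cn h2; ⟨g, fun _ => e⟩) fun b hb _ => H b hb
    exact (show ρ g * y * (ρ g)⁻¹ = a * y * a⁻¹ from e ()) ▸ h1.conj g
  intro b hb
  have m := conj_mem_of_mem_nz' (aut_le_nz _ hb) hy
  have sq : b⁻¹ * y * b * (b⁻¹ * y * b) = 1 := by
    calc _ = b⁻¹ * (y * y) * b := by group
      _ = 1 := by simp [h1.sq]
  generalize hz : b⁻¹ * y * b = z at m sq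
  obtain rfl : y = b * z * b⁻¹ := by simp [← hz, mul_assoc]
  obtain ⟨g, h2⟩ := h.refl (h.syl.le m) sq fun e => h.ne n2 h1 (by simp [e])
  have sq' : ρ g * z * (ρ g)⁻¹ * (ρ g * z * (ρ g)⁻¹) = 1 := by rw [conj_mul, sq]; simp
  generalize hz' : ρ g * z * (ρ g)⁻¹ = z' at h2 sq'
  have cm : z * z' = z' * z := by
    rw [← inv_eq_of_mul_eq_one_right h2.sq, _root_.mul_inv_rev, inv_eq_of_mul_eq_one_right sq,
      inv_eq_of_mul_eq_one_right sq']
  obtain ⟨_, ⟨w, rfl⟩, hw⟩ := h.syl.exists_cj_le (el_pg ((el_zpowers sq).sup (el_zpowers sq')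
    (zpowers_le.2 (mem_cz_zpowers.2 (by rw [cm]; simp))))) (sup_le (zpowers_le.2 (h.syl.le m))
      (zpowers_le.2 ⟨g * (h.syl.le m).choose * g⁻¹, by simp [(h.syl.le m).choose_spec, hz']⟩))
  have m1 := hw (conj_mem_cj _ (mem_sup_left (mem_zpowers z)))
  have m2 := hw (conj_mem_cj _ (mem_sup_right (mem_zpowers z')))
  obtain ⟨g1, e1⟩ := h.fp1 hb m m1 rfl
  obtain ⟨g2, e2⟩ := h.fp1 (g := w * g) hb m m2 (by simp [← hz', mul_assoc])
  obtain ⟨g3, e3⟩ := (h2.conj w).cn h1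
  obtain ⟨g4, e4⟩ := h.fp1 hb (conj_mul (b := ρ w) ▸ mul_mem m1 m2) hy e3
  have e5 : b * (ρ w * z * (ρ w)⁻¹) * b⁻¹ * (b * (ρ w * z' * (ρ w)⁻¹) * b⁻¹) =
      b * (ρ w * (z * z') * (ρ w)⁻¹) * b⁻¹ := by rw [conj_mul, conj_mul]
  rcases h.prod n2 n4 (e1 ▸ h1.conj g1) (e2 ▸ h1.conj g2) (by rw [e5, cm, conj_mul, conj_mul]) with
    e | e | e <;> rw [e5] at e
  · exact absurd (by simpa using e) (h.ne n2 h2)
  all_goals replace e := e.conj g4; rw [e4] at e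
  exacts [Or.inl (let ⟨g, e⟩ := h1.cn e; ⟨g, fun _ => e⟩), Or.inr e]

end H29.PL
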