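import Cfsg.Agent.H29.PL2

/-! Odd order fusion preserving automorphisms for `PSL_n(q)`, `n = 3` or `n ≥ 5`. -/

set_option autoImplicit false
set_option linter.unusedSectionVars false

namespace H29.PL
open Matrix Finset Subgroup H25 H25.FS _root_.H29.JC

variable {F : Type*} [Field F] {ι : Type*} [Fintype ι] [DecidableEq ι] {Γ : Type*} [Group Γ]
  {ρ : SpecialLinearGroup ι F →* Γ} {T P : Subgroup Γ} {A B g g' : SpecialLinearGroup ι F}
  {s t : Finset ι} {a b y y' : Γ} {k : ℕ} {κ : Type*} {x x' x'' : κ → Γ}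

/-- on some centric subgroup `a` acts like an element of `H`, up to a `2`-element -/
def GA (H T : Subgroup Γ) (a : Γ) : Prop := ∃ P, (ofSub H T).Centric P ∧ ∃ g ∈ H, ∃ n : ℕ,
  g * a ∈ nz P ∧ (g * a) ^ 2 ^ n ∈ cz P

theorem two_mem {i j k : ι} (hs : s.card = 2) (hi : i ∈ s) (hj : j ∈ s) (h : i ≠ j) (hk : k ∈ s) :
    k = i ∨ k = j := by
  rw [← eq_of_subset_of_card_le (show {i, j} ⊆ s by simp [insert_subset_iff, hi, hj])
    (by rw [card_pair h, hs])] at hk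
  simpa using hk

theorem pair_of {i : ι} (hs : s.card = 2) (hi : i ∈ s) : ∃ j, i ≠ j ∧ s = {i, j} := by
  obtain ⟨j, k, h, rfl⟩ := card_eq_two.1 hs
  rcases (by simpa using hi : i = j ∨ i = k) with rfl | rfl
  exacts [⟨k, h, rfl⟩, ⟨j, h.symm, pair_comm _ _⟩]

theorem sd_pair {i j k : ι} (h1 : i ≠ j) (h2 : i ≠ k) (h3 : j ≠ k) :
    symmDiff ({i, j} : Finset ι) {i, k} = {j, k} := by
  ext l; simp only [mem_symmDiff, mem_insert, mem_singleton]; grind

theorem third (n3 : 2 < Fintype.card ι) (i j : ι) : ∃ k, k ≠ i ∧ k ≠ j := by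
  by_contra! e
  have := card_le_card (show univ ⊆ {i, j} from fun k _ => by simpa [or_iff_not_imp_left] using e k)
  have := card_le_two (a := i) (b := j)
  rw [card_univ] at *; omega

/-- a map on edges of a complete graph that respects triangles comes from a permutation -/
theorem whitney (n3 : 2 < Fintype.card ι) (π : Finset ι → Finset ι) (h1 : ∀ s, s.card = 2 → (π s).card = 2)
    (h2 : ∀ s t, s.card = 2 → t.card = 2 → π s = π t → s = t)
    (h3 : ∀ i j k, i ≠ j → i ≠ k → j ≠ k → π {j, k} = symmDiff (π {i, j}) (π {i, k})) :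
    ∃ σ : Equiv.Perm ι, ∀ s, s.card = 2 → π s = s.map σ.toEmbedding := by
  have mt : ∀ i j k, i ≠ j → i ≠ k → j ≠ k → ∃ l ∈ π {i, j}, l ∈ π {i, k} := fun i j k a b c => by
    have := h1 _ (card_pair c)
    rw [h3 i j k a b c] at this
    rcases card_sd (h1 _ (card_pair a)) (h1 _ (card_pair b)) with e | ⟨-, l, e⟩ | e
    · simp [e] at this
    · exact ⟨l, mem_inter.1 e⟩
    · omega
  have st : ∀ i, ∃ l, ∀ j, i ≠ j → l ∈ π {i, j} := fun i => by
    obtain ⟨j, hj, -⟩ := third n3 i i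
    obtain ⟨k, hk, hk'⟩ := third n3 i j
    obtain ⟨l, l1, l2⟩ := mt i j k hj.symm hk.symm hk'.symm
    refine ⟨l, fun m hm => by_contra fun hn => ?_⟩
    have mj : j ≠ m := fun e => hn (e ▸ l1)
    have mk : k ≠ m := fun e => hn (e ▸ l2)
    obtain ⟨p, p1, p2⟩ := mt i j m hj.symm hm mj
    obtain ⟨q, q1, q2⟩ := mt i k m hk.symm hm mk
    have := h2 _ _ (card_pair hk'.symm) (card_pair hm) (eq_of_subset_of_card_le (fun w hw => by
      rw [h3 i j k hj.symm hk.symm hk'.symm, mem_symmDiff] at hw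
      rcases hw with hw | hw
      · exact ((two_mem (h1 _ (card_pair hj.symm)) l1 hw.1 (fun e => hw.2 (e ▸ l2)) p1).resolve_left
          fun e => hn (e ▸ p2)) ▸ p2
      · exact ((two_mem (h1 _ (card_pair hk.symm)) l2 hw.1 (fun e => hw.2 (e ▸ l1)) q1).resolve_left
          fun e => hn (e ▸ q2)) ▸ q2) (by rw [h1 _ (card_pair hm), h1 _ (card_pair hk'.symm)]))
    have : i ∈ ({j, k} : Finset ι) := by simp [this]
    simp [hj.symm, hk.symm] at this
  choose σ hσ using st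
  have inj : ∀ i j, i ≠ j → σ i ≠ σ j := fun i j h e => by
    obtain ⟨k, hi, hj⟩ := third n3 i j
    have := hσ i j h
    rw [h3 k i j hi hj h, mem_symmDiff, pair_comm k, pair_comm k] at this
    have := hσ i k hi.symm
    have := e ▸ hσ j k hj.symm
    tauto
  refine ⟨.ofBijective σ (Finite.injective_iff_bijective.1 fun i j e => by_contra fun h => inj i j h e),
    fun s hs => ?_⟩
  obtain ⟨i, j, h, rfl⟩ := card_eq_two.1 hs
  refine (eq_of_subset_of_card_le ?_ (by rw [card_map, h1 _ hs, hs])).symm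
  simpa [insert_subset_iff, hσ i j h] using pair_comm i j ▸ hσ j i h.symm

theorem es_mem {K : Subgroup (SpecialLinearGroup ι F)} (h : ∀ s, s.card = 2 → es F s ∈ K) (n : ℕ) :
    ∀ s : Finset ι, s.card = 2 * n → es F s ∈ K := by
  induction n with
  | zero => intro s hs; rw [card_eq_zero.1 hs, es_empty]; exact one_mem _
  | succ n ih =>
    intro s hs
    obtain ⟨t, ht, h2⟩ := exists_subset_card_eq (show 2 ≤ s.card by omega)
    have h3 : (s \ t).card = 2 * n := by rw [card_sdiff_of_subset ht]; omega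
    have h4 : symmDiff (s \ t) t = s := by
      ext i; have := @ht i; simp only [mem_symmDiff, mem_sdiff]; tauto
    rw [← h4, ← es_mul (by simp [h3]) (by simp [h2]) (by simp [h4, hs])]
    exact mul_mem (ih _ h3) (h _ h2)

theorem even_sd (hs : ¬ Even s.card) (ht : ¬ Even t.card) : Even (symmDiff s t).card := by
  rw [symmDiff_def, sup_eq_union, card_union_of_disjoint disjoint_sdiff_sdiff]
  have := card_sdiff_add_card_inter s t
  have := card_sdiff_add_card_inter t s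
  rw [inter_comm] at this
  rw [Nat.even_iff] at *; omega

variable [Fintype F] [Finite Γ]

theorem St.wlog (h : St ρ T) {R Z : Subgroup (SpecialLinearGroup ι F)} (hR : IsPGroup 2 R)
    (hZ : Z ≤ cz Z) (hRZ : R ≤ cz Z) : ∃ ρ' : SpecialLinearGroup ι F →* Γ, St ρ' T ∧
      ρ'.range = ρ.range ∧ (∀ A ∈ R, ρ' A ∈ T) ∧ ∀ A ∈ Z, PEl 2 ⊥ (ρ' A) → ρ' A ∈ T := by
  obtain ⟨Y, h1, h2⟩ := exists_syl (p := 2) (Z.map ρ)
  have cm : ∀ {R : Subgroup _}, R ≤ cz Z → R.map ρ ≤ cz (Z.map ρ) := fun hR => by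
    rintro _ ⟨A, hA, rfl⟩ _ ⟨B, hB, rfl⟩
    rw [← map_mul, ← map_mul, hR hA B hB]
  obtain ⟨_, ⟨w, rfl⟩, hw⟩ := h.syl.exists_cj_le (isPGroup_sup_of_le_nz (hR.map ρ) h1
    ((cm hRZ).trans ((cz_anti h2.le).trans (cz_le_nz _))))
    (sup_le (map_le_range _ _) (h2.le.trans (map_le_range _ _)))
  have e : (ρ.comp (MulAut.conj w).toMonoidHom).range = ρ.range := by
    rw [MonoidHom.range_comp, MonoidHom.range_eq_top.2 (MulAut.conj w).surjective, MonoidHom.range_eq_map]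
  have e' : ∀ A, ρ.comp (MulAut.conj w).toMonoidHom A = ρ w * ρ A * (ρ w)⁻¹ := by simp
  refine ⟨_, ⟨h.odd, fun A => ?_, h.pg, e ▸ h.syl⟩, e, fun A hA => e' A ▸ hw (conj_mem_cj _
    (mem_sup_left (mem_map_of_mem ρ hA))), fun A hA ⟨n, hn⟩ => e' A ▸ hw (conj_mem_cj _ (mem_sup_right
      (h2.le_of_normal (X := zpowers (ρ A)) ?_ (zpowers_le.2 (mem_map_of_mem ρ hA)) ((cm hZ).trans
        ((cz_anti (zpowers_le.2 (mem_map_of_mem ρ hA))).trans (cz_le_nz _))) (mem_zpowers _))))⟩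
  · rw [e', conj_eq_one_iff, h.ker]
  · rw [e', conj_pow, mem_bot, conj_eq_one_iff] at hn
    obtain ⟨k, -, hk⟩ := (Nat.dvd_prime_pow Nat.prime_two).1 (orderOf_dvd_of_pow_eq_one hn)
    exact isPGroup_zpowers_of_orderOf hk

theorem St.fin (h : St ρ T) (X : κ → SpecialLinearGroup ι F) (ha : a ∈ (ofSub ρ.range T).aut)
    (hx : ∀ i, ρ (X i) ∈ T) (lf : ∀ A i, ρ (A * X i * A⁻¹) = ρ (X i) → A * X i * A⁻¹ = X i)
    (ab : cz (closure (Set.range X)) ≤ cz (cz (closure (Set.range X))))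
    (h2 : ∀ A ∈ cz (closure (Set.range X)), PEl 2 ⊥ (ρ A) → ρ A ∈ T)
    (c : Cn ρ (fun i => ρ (X i)) (cf a fun i => ρ (X i)))
    (iv : ∀ c : Γ, (orderOf c).Coprime 2 → (∀ i, c * ρ (X i) * c⁻¹ = ρ (X i)) →
      ∀ A ∈ cz (closure (Set.range X)), ∀ B ∈ cz (closure (Set.range X)), ρ A * ρ A = 1 →
        c * ρ A * c⁻¹ = ρ B → ρ B = ρ A) : GA ρ.range T a := by
  set Z := cz (closure (Set.range X))
  set R := closure (Set.range fun i => ρ (X i))
  have mR : ∀ {y : Γ}, y ∈ cz R ↔ ∀ i, y * ρ (X i) * y⁻¹ = ρ (X i) := fun {y} => by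
    rw [← zpowers_le, le_cz_comm, closure_le, Set.range_subset_iff]
    exact forall_congr' fun i => by rw [SetLike.mem_coe, ← zpowers_le, le_cz_comm, zpowers_le, mem_cz_zpowers]
  have mZ : ∀ {A}, A ∈ Z ↔ ρ A ∈ cz R := fun {A} => by
    rw [mR, ← zpowers_le, le_cz_comm, closure_le, Set.range_subset_iff]
    refine forall_congr' fun i => ?_
    rw [SetLike.mem_coe, ← zpowers_le, le_cz_comm, zpowers_le, mem_cz_zpowers, ← map_inv, ← map_mul, ← map_mul]
    exact ⟨congrArg ρ, lf A i⟩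
  have key : ∀ y ∈ T, ∀ g, ρ g * y * (ρ g)⁻¹ ∈ cz R → ρ g * y * (ρ g)⁻¹ ∈ T ⊓ Z.map ρ := fun y hy g e => by
    obtain ⟨A, rfl⟩ := h.syl.le hy
    have := (PEl.of_isPGroup (C := ⊥) h.pg hy).conj (ρ g)
    rw [cj_bot] at this
    rw [← map_inv, ← map_mul, ← map_mul] at *
    exact ⟨h2 _ (mZ.2 e) this, mem_map_of_mem ρ (mZ.2 e)⟩
  obtain ⟨g, c⟩ := c.symm
  have b1 : ρ g * a ∈ cz R := mR.2 fun i => by simpa [cf, mul_assoc] using c i
  have b2 : ρ g * a ∈ nz (T ⊓ Z.map ρ) := mem_nz_of_conj_mem fun y hy => by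
    have := key _ (conj_mem_of_mem_nz (aut_le_nz _ ha) hy.1) g
    obtain ⟨A, hA, rfl⟩ := hy.2
    have h3 := conj_mem_of_mem_nz (mem_nz_cz (cz_le_nz _ b1)) (mZ.1 hA)
    simp only [_root_.mul_inv_rev, mul_assoc] at *
    exact this h3
  obtain ⟨n, hn⟩ := exists_coprime_pow (p := 2) (ρ g * a)
  have b3 := fix_ab hn (V := T ⊓ Z.map ρ) (by
    rintro _ ⟨-, A, hA, rfl⟩ _ ⟨-, B, hB, rfl⟩
    rw [← map_mul, ← map_mul, ab hA B hB]) (h.pg.to_le inf_le_left) (pow_mem b2 _) (by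
    rintro _ ⟨h3, A, hA, rfl⟩ e
    obtain ⟨-, B, hB, e'⟩ := conj_mem_of_mem_nz (pow_mem b2 (2 ^ n)) ⟨h3, A, hA, rfl⟩
    exact e' ▸ iv _ hn (mR.1 (pow_mem b1 _)) A hA B hB e e'.symm)
  have hP : R ⊔ T ⊓ Z.map ρ ≤ T := sup_le ((closure_le _).2 (Set.range_subset_iff.2 hx)) inf_le_left
  refine ⟨R ⊔ T ⊓ Z.map ρ, ⟨hP, fun k H y hy => ?_⟩, _, ⟨g, rfl⟩, n, mem_nz_sup (cz_le_nz _ b1) b2,
    cz_sup R _ ▸ ⟨pow_mem b1 _, b3⟩⟩
  obtain ⟨-, -, _, ⟨w, rfl⟩, e⟩ := (ofSub_T h.syl.le).1 H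
  replace hy := mem_inf.1 hy
  rw [e.cj_eq, ← cj_cz, mem_cj] at *
  simpa using mem_sup_right (S := R) (key y hy.1 w⁻¹ (by simpa using cz_anti le_sup_left hy.2))

theorem St.es_inj (h : St ρ T) (n2 : Fintype.card ι ≠ 2) (n4 : Fintype.card ι ≠ 4) (hs : s.card = 2)
    (ht : t.card = 2) (e : ρ (es F s) = ρ (es F t)) : s = t := by
  have := val_eq (h.lift n2 n4 hs ht (g := 1) (g' := 1) (by simpa using e))
  simp only [one_mul, inv_one, mul_one, es_val (hs ▸ even_two), es_val (ht ▸ even_two)] at this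
  ext i
  have := congrFun (diagonal_injective this) i
  by_cases h1 : i ∈ s <;> by_cases h2 : i ∈ t <;> simp_all [sg, neg_ne h.two, (neg_ne h.two).symm]

theorem cn_of {m : ℕ} [Nonempty ι] (f f' : Fin m → ι) (hf : (List.ofFn f).Nodup)
    (hf' : (List.ofFn f').Nodup) (i j k l : Fin m) :
    Cn ρ ![ρ (g * es F {f i, f j} * g⁻¹), ρ (g * es F {f k, f l} * g⁻¹)]
      ![ρ (g' * es F {f' i, f' j} * g'⁻¹), ρ (g' * es F {f' k, f' l} * g'⁻¹)] := by
  obtain ⟨σ, e⟩ := Equiv.Perm.exists_extending_pair f f' (List.nodup_ofFn.1 hf) (List.nodup_ofFn.1 hf')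
  obtain ⟨w, -, hw⟩ := exists_mon' (F := F) σ
  have : ∀ i j, es F {f' i, f' j} = w * es F {f i, f j} * w⁻¹ := fun i j => by simp [hw, e]
  exact ⟨g' * w * g⁻¹, by simp [Fin.forall_fin_two, this, mul_assoc]⟩

theorem St.adj (h : St ρ T) (n3 : 2 < Fintype.card ι) (n4 : Fintype.card ι ≠ 4)
    (hT : ∀ s, s.card = 2 → ρ (es F s) ∈ T) (ha : a ∈ (ofSub ρ.range T).aut)
    (ho : (orderOf a).Coprime 2) {i j k : ι} (h1 : i ≠ j) (h2 : i ≠ k) (h3 : j ≠ k) :
    Cn ρ ![ρ (es F {i, j}), ρ (es F {i, k})] (cf a ![ρ (es F {i, j}), ρ (es F {i, k})]) := by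
  have : Nonempty ι := ⟨i⟩
  have hx : ∀ l, ![ρ (es F {i, j}), ρ (es F {i, k})] l ∈ T := by
    simp [Fin.forall_fin_two, hT _ (card_pair h1), hT _ (card_pair h2)]
  have hJ : ∀ l, Jk ρ 2 (![ρ (es F {i, j}), ρ (es F {i, k})] l) := by
    simpa [Fin.forall_fin_two] using ⟨card_pair h1 ▸ jk_es, card_pair h2 ▸ jk_es⟩
  refine h.two_cl ha ho hx (C := fun y => ∃ i j k l g, [i, j, k, l].Nodup ∧
    y = ![ρ (g * es F {i, j} * g⁻¹), ρ (g * es F {k, l} * g⁻¹)]) ?_ fun b hb ho => ?_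
  · rintro _ _ ⟨i, j, k, l, g, e, rfl⟩ ⟨i', j', k', l', g', e', rfl⟩
    exact cn_of ![i, j, k, l] ![i', j', k', l'] e e' 0 1 2 3
  have cm : es F {i, j} * es F {i, k} = es F {i, k} * es F {i, j} := by
    rw [es_mul, es_mul, symmDiff_comm] <;> simp [sd_pair, h1, h2, h3, h3.symm]
  obtain ⟨g, hg⟩ := h.sc (x := cf b ![ρ (es F {i, j}), ρ (es F {i, k})]) n3.ne' n4
    (fun l => h.jinv n3.ne' n4 hb ho (hx l) (hJ l)) (by
      simp [Fin.forall_fin_two, cf, conj_mul, ← map_mul, cm])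
  obtain ⟨s, hs, e⟩ := hg 0
  obtain ⟨t, ht, e'⟩ := hg 1
  have hst : s ≠ t := fun q => by
    have := h.es_inj n3.ne' n4 (card_pair h1) (card_pair h2) ((MulAut.conj b).injective
      (e.trans (q ▸ e'.symm)))
    have : j ∈ ({i, k} : Finset ι) := by simp [← this]
    simp [h1.symm, h3] at this
  rw [show cf b _ = ![ρ (g * es F s * g⁻¹), ρ (g * es F t * g⁻¹)] from
    funext (Fin.forall_fin_two.2 ⟨e, e'⟩)]
  rcases card_sd hs ht with q | ⟨-, l, hl⟩ | ⟨-, q⟩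
  · exact absurd q hst
  · obtain ⟨p, hp, rfl⟩ := pair_of hs (mem_inter.1 hl).1
    obtain ⟨q, hq, rfl⟩ := pair_of ht (mem_inter.1 hl).2
    have : p ≠ q := fun e => hst (e ▸ rfl)
    left
    simpa using (cn_of (ρ := ρ) (g := 1) (g' := g) ![i, j, k] ![l, p, q] (by simp [*]) (by simp [*]) 0 1 0 2)
  · obtain ⟨i, j, h1, rfl⟩ := card_eq_two.1 hs
    obtain ⟨k, l, h2, rfl⟩ := card_eq_two.1 ht
    exact Or.inr ⟨i, j, k, l, g, by simp at q ⊢; tauto, rfl⟩

theorem St.gen (h : St ρ T) (n3 : 2 < Fintype.card ι) (n4 : Fintype.card ι ≠ 4)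
    (ha : a ∈ (ofSub ρ.range T).aut) (ho : (orderOf a).Coprime 2) : GA ρ.range T a := by
  have : Nonempty ι := Fintype.card_pos_iff.1 (by omega)
  let X : {s : Finset ι // s.card = 2} → SpecialLinearGroup ι F := fun s => es F s.1
  have dg : ∀ A ∈ cz (closure (Set.range X)), ∃ u, A.1 = diagonal u := fun A hA => by
    refine ⟨_, (IsDiag.diagonal_diag fun i j hij => ?_).symm⟩
    obtain ⟨k, hi, hj⟩ := third n3 i j
    have := val_eq (hA _ (subset_closure ⟨⟨_, card_pair hi.symm⟩, rfl⟩))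
    rw [vmul, vmul, es_val (by simp [hi.symm])] at this
    have := congrFun (congrFun this i) j
    simp [sg, hij.symm, hj.symm] at this
    exact (mul_eq_zero.1 (show 2 * A.1 i j = 0 by linear_combination -this)).resolve_left h.two
  have ab : cz (closure (Set.range X)) ≤ cz (cz (closure (Set.range X))) := fun A hA B hB => by
    obtain ⟨u, hu⟩ := dg A hA
    obtain ⟨v, hv⟩ := dg B hB
    exact ext' (by rw [vmul, vmul, hu, hv, (commute_diagonal _ _).eq])
  have cm : ∀ i j, X i * X j = X j * X i := fun i j => ext' (by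
    rw [vmul, vmul, es_val (by simp [i.2]), es_val (by simp [j.2]), (commute_diagonal _ _).eq])
  obtain ⟨ρ, h, e, -, h2⟩ := h.wlog (R := ⊥) IsPGroup.of_bot ab bot_le
  rw [← e] at ha ⊢
  have hx : ∀ i, ρ (X i) ∈ T := fun i => h2 _ (by
    rw [cz, centralizer_closure]; rintro _ ⟨j, rfl⟩; exact cm j i) ⟨1, by rw [← map_pow, pow_one, pow_two, es_sq, map_one]; exact one_mem _⟩
  refine h.fin X ha hx (fun A i e => by
    simpa using h.lift n3.ne' n4 i.2 i.2 (g := A) (g' := 1) (by simpa using e)) ab h2 ?_ ?_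
  · obtain ⟨g, hg⟩ := h.sc (x := cf a fun i => ρ (X i)) n3.ne' n4
      (fun i => h.jinv n3.ne' n4 ha ho (hx i) ⟨i.1, i.2, 1, by simp [X]⟩) fun i j => by
        simp only [cf, conj_mul, ← map_mul, cm i j]
    have hg : ∀ s : Finset ι, s.card = 2 → ∃ t : Finset ι, t.card = 2 ∧
      a * ρ (es F s) * a⁻¹ = ρ (g * es F t * g⁻¹) := fun s hs => hg ⟨s, hs⟩
    choose! π h3 h4 using hg
    obtain ⟨σ, hσ⟩ := whitney n3 π h3 (fun s t hs ht e => h.es_inj n3.ne' n4 hs ht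
      ((MulAut.conj a).injective ((h4 s hs).trans (e ▸ (h4 t ht).symm)))) fun i j k h5 h6 h7 => by
        obtain ⟨g', h8⟩ := h.adj n3 n4 (fun s hs => hx ⟨s, hs⟩) ha ho h5 h6 h7
        have p1 := card_pair h5
        have p2 := card_pair h6
        have p3 := card_pair h7
        have e1 := h.lift n3.ne' n4 p1 (h3 _ p1) (g := g') (by simpa using (h8 0).trans (h4 _ p1))
        have e2 := h.lift n3.ne' n4 p2 (h3 _ p2) (g := g') (by simpa using (h8 1).trans (h4 _ p2))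
        have ev : Even (symmDiff (π {i, j}) (π {i, k})).card := by
          rcases card_sd (h3 _ p1) (h3 _ p2) with e | e | e <;> simp [e]; decide
        have e3 := es_mul (F := F) (p1 ▸ even_two) (p2 ▸ even_two) (by simp [sd_pair h5 h6 h7, p3])
        have e4 := es_mul (F := F) (h3 _ p1 ▸ even_two) (h3 _ p2 ▸ even_two) ev
        rw [sd_pair h5 h6 h7] at e3
        have e5 := card_eq h.two (p3 ▸ even_two) ev (g := g') (g' := g) (by
          rw [← e3, ← e4, ← conj_mul, ← conj_mul, e1, e2])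
        refine h.es_inj n3.ne' n4 (h3 _ p3) (e5 ▸ p3) ((MulAut.conj (ρ g)).injective ?_)
        have := h4 _ p3
        rw [← e3, map_mul, ← conj_mul, h4 _ p1, h4 _ p2, ← map_mul, conj_mul, e4] at this
        simpa [eq_comm] using this
    obtain ⟨w, -, hw⟩ := exists_mon' (F := F) σ
    exact ⟨g * w, fun i => by rw [cf, h4 _ i.2, hσ _ i.2, ← hw]; simp [X, mul_assoc]⟩
  intro c hc fx A hA B hB a2 e
  have sgn : ∀ A ∈ cz (closure (Set.range X)), ρ A * ρ A = 1 → ∃ (l : F) (s : Finset ι),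
      A.1 = l • diagonal (sg F s) := fun A hA a2 => by
    classical
    obtain ⟨u, hu⟩ := dg A hA
    obtain ⟨μ, hμ⟩ := (h.ker _).1 ((map_mul ρ A A).trans a2)
    obtain ⟨j⟩ := this
    have : ∀ i, u i * u i = μ := fun i => by simpa [vmul, hu] using congrFun (congrFun hμ i) i
    refine ⟨u j, univ.filter (u · ≠ u j), by
      rw [hu, ← diagonal_smul]; congr 1; ext i; by_cases q : u i = u j <;> simp [sg, q]
      exact (mul_self_eq_mul_self_iff.1 ((this i).trans (this j).symm)).resolve_left q⟩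
  have fx' : ∀ {A : SpecialLinearGroup ι F} {l : F} {s : Finset ι}, A.1 = l • diagonal (sg F s) → Even s.card →
      c * ρ A * c⁻¹ = ρ A ∧ ρ A * ρ A = 1 := fun {A l s} e ⟨n, hn⟩ => by
    rw [h.eq_iff.2 ⟨l, e.trans (by rw [es_val ⟨n, hn⟩])⟩, ← map_mul, es_sq, map_one]
    exact ⟨mem_cz_zpowers.1 (le_cz_comm.1 (zpowers_le.2 (es_mem (K := (cz (zpowers c)).comap ρ)
      (fun s hs => le_cz_comm.1 (zpowers_le.2 (mem_cz_zpowers.2 (fx ⟨s, hs⟩))) (mem_zpowers _)) n s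
      (by omega))) (mem_zpowers _)), rfl⟩
  obtain ⟨l, s, hs⟩ := sgn A hA a2
  obtain ⟨m, t, ht⟩ := sgn B hB (by rw [← e, conj_mul, a2]; simp)
  by_cases q1 : Even s.card
  · exact e.symm.trans (fx' hs q1).1
  by_cases q2 : Even t.card
  · exact (MulAut.conj c).injective ((fx' ht q2).1.trans e.symm)
  have := fx' (A := B * A) (l := m * l) (by
    rw [vmul, hs, ht, smul_mul_smul, diagonal_mul_diagonal]; simp only [sg_mul]) (even_sd q2 q1)
  have := fix1 hc (y := ρ A) (by rw [e, map_mul, mul_assoc, a2, mul_one]) this.1 ⟨1, by simpa [pow_two] using this.2⟩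
  rw [← mul_one (ρ B), ← a2, ← mul_assoc, ← map_mul, this, one_mul]

end H29.PL
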