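import Cfsg.Agent.H29.PL3
import Cfsg.Agent.H10.Cyc2
import Cfsg.Agent.H10.Inv1
import Cfsg.Agent.S0261

/-! Two by two matrices, quaternion pairs and the case of `PSL_2(q)`. -/

set_option autoImplicit false
set_option linter.unusedSectionVars false

namespace H29.PL
open Matrix Finset Subgroup H25 H25.FS _root_.H29.JC

variable {F : Type*} [Field F] {Γ : Type*} [Group Γ] {T : Subgroup Γ} {a : Γ}

theorem pg_zp {x : Γ} {n : ℕ} (h : x ^ 2 ^ n = 1) : IsPGroup 2 (zpowers x) :=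
  let ⟨_, _, hk⟩ := (Nat.dvd_prime_pow Nat.prime_two).1 (orderOf_dvd_of_pow_eq_one h)
  isPGroup_zpowers_of_orderOf hk

/-- `SL_2` -/
abbrev S2 (F : Type*) [Field F] := SpecialLinearGroup (Fin 2) F

theorem sq2 {A : Matrix (Fin 2) (Fin 2) F} {s : F} (h : A * A = s • 1) :
    (∃ l, A = l • 1 ∧ l * l = s) ∨ A.trace = 0 ∧ A.det = -s := by
  have h0 := congrFun (congrFun h 0) 0
  have h1 := congrFun (congrFun h 0) 1
  have h2 := congrFun (congrFun h 1) 0
  have h3 := congrFun (congrFun h 1) 1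
  simp [mul_apply] at h0 h1 h2 h3
  rw [trace_fin_two, det_fin_two]
  by_cases e : A 0 0 + A 1 1 = 0
  · exact Or.inr ⟨e, by linear_combination A 0 0 * e - h0⟩
  have e1 : A 0 1 = 0 := (mul_eq_zero.1 (by linear_combination h1)).resolve_left e
  have e2 : A 1 0 = 0 := (mul_eq_zero.1 (by linear_combination h2)).resolve_left e
  have e3 : A 1 1 = A 0 0 := sub_eq_zero.1 ((mul_eq_zero.1 (by linear_combination h3 - h0)).resolve_left e)
  exact Or.inl ⟨A 0 0, by ext i j; fin_cases i <;> fin_cases j <;> simp [*], by simpa [e1] using h0⟩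

theorem tr0 (h2 : (2 : F) ≠ 0) {x : S2 F} (h : x * x = -1) : x.1.trace = 0 := by
  rcases sq2 (A := x.1) (s := -1) (by simpa using val_eq h) with ⟨l, e, e'⟩ | e
  · have := x.2
    rw [e, det_smul, det_one, Fintype.card_fin, pow_two, e', mul_one] at this
    exact absurd this (neg_ne h2)
  · exact e.1

/-- generators of a quaternion group -/
structure QP (x y : S2 F) : Prop where
  l : x * x = -1
  r : y * y = -1
  c : x * y = -(y * x)

theorem QP.m {x y : S2 F} (h : QP x y) : x * y * (x * y) = -1 := by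
  rw [mul_assoc, ← mul_assoc y, ← neg_neg (y * x), ← h.c, neg_mul, mul_assoc, h.r]; simp [h.l]

variable [Fintype F]

theorem exists_uv (hq : Odd (Fintype.card F)) : ∃ u v w : S2 F, QP u v ∧ w * u = v * w ∧
    w * v = u * v * w ∧ (∀ C, C * u.1 = u.1 * C → C * v.1 = v.1 * C → ∃ l : F, C = l • 1) ∧
    ∀ x y : S2 F, QP x y → ∃ g : Matrix (Fin 2) (Fin 2) F, g.det ≠ 0 ∧ g * u.1 = x.1 * g ∧
      g * v.1 = y.1 * g := by
  have h2 := two_ne hq
  obtain ⟨a, b, hab⟩ := quad hq (neg_ne_zero.2 one_ne_zero) 1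
  replace hab : a ^ 2 + b ^ 2 = -1 := by linear_combination -hab
  obtain ⟨c, hc⟩ : ∃ c : F, 2 * c = 1 := ⟨_, mul_inv_cancel₀ h2⟩
  let u : Matrix (Fin 2) (Fin 2) F := !![0, -1; 1, 0]
  let v : Matrix (Fin 2) (Fin 2) F := !![a, b; b, -a]
  let w : Matrix (Fin 2) (Fin 2) F := !![c * (1 + a - b), c * (a + b - 1); c * (1 + a + b), c * (1 - a + b)]
  have uu : u * u = -1 := by ext i j; fin_cases i <;> fin_cases j <;> simp [u, mul_apply]
  have vv : v * v = -1 := by ext i j; fin_cases i <;> fin_cases j <;> simp [v, mul_apply] <;> grind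
  have vu : v * u = -(u * v) := by ext i j; fin_cases i <;> fin_cases j <;> simp [u, v, mul_apply]
  have wu : w * u = v * w := by ext i j; fin_cases i <;> fin_cases j <;> simp [u, v, w, mul_apply] <;> grind
  have wv : w * v = u * v * w := by
    ext i j; fin_cases i <;> fin_cases j <;> simp [u, v, w, mul_apply] <;> grind
  refine ⟨⟨u, by simp [u]⟩, ⟨v, by rw [det_fin_two_of]; linear_combination -hab⟩, ⟨w, by
      rw [det_fin_two_of]; linear_combination -2 * c ^ 2 * hab + (2 * c + 1) * hc⟩,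
    ⟨ext' uu, ext' vv, ext' (neg_eq_iff_eq_neg.1 vu.symm)⟩, ext' wu, ext' wv, fun C h h' => ?_,
    fun x y h => ?_⟩
  · have h0 := congrFun (congrFun h 0) 0
    have h1 := congrFun (congrFun h 0) 1
    have h3 := congrFun (congrFun h' 0) 0
    have h4 := congrFun (congrFun h' 0) 1
    simp [u, v, mul_apply] at h0 h1 h3 h4
    have : C 0 1 = 0 := by grind
    exact ⟨C 0 0, by ext i j; fin_cases i <;> fin_cases j <;> simp <;> grind⟩
  dsimp only
  have xx : x.1 * x.1 = -1 := val_eq h.l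
  have yy : y.1 * y.1 = -1 := val_eq h.r
  have yx : y.1 * x.1 = -(x.1 * y.1) := neg_eq_iff_eq_neg.1 (val_eq h.c).symm
  have as : ∀ {A B C : Matrix (Fin 2) (Fin 2) F}, A * B = C → ∀ D, A * (B * D) = C * D := fun e D => by
    rw [← mul_assoc, e]
  let g (M : Matrix (Fin 2) (Fin 2) F) := M - x.1 * M * u - y.1 * M * v - x.1 * y.1 * M * (u * v)
  have g1 : ∀ M, g M * u = x.1 * g M := fun M => by
    simp only [g, mul_sub, sub_mul, mul_assoc, uu, vu, as uu, as xx, mul_neg, neg_mul, mul_one, one_mul]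
    abel
  have g2 : ∀ M, g M * v = y.1 * g M := fun M => by
    simp only [g, mul_sub, sub_mul, mul_assoc, vv, as yy, as yx, mul_neg, neg_mul, mul_one, one_mul]
    abel
  by_contra! hn
  have g3 : ∀ M j, g M 0 j = 0 := fun M j => by
    have e : (g M).det = 0 := by_contra fun e => hn _ e (g1 M) (g2 M)
    have e1 : g M * u * adjugate (g M) = 0 := by rw [g1, mul_assoc, mul_adjugate, e]; simp
    have e2 : g M * v * adjugate (g M) = 0 := by rw [g2, mul_assoc, mul_adjugate, e]; simp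
    generalize g M = G at e1 e2
    have h0 := congrFun (congrFun e1 0) 1
    have h1 := congrFun (congrFun e2 0) 1
    simp [u, v, mul_apply, adjugate_fin_two] at h0 h1
    have h3 : G 0 0 = 0 := pow_eq_zero_iff three_ne_zero |>.1 (by grind)
    have h4 : G 0 1 = 0 := mul_self_eq_zero.1 (by simpa [h3] using h0)
    fin_cases j <;> assumption
  have h0 := g3 (single 0 0 1) 0
  have h1 := g3 (single 0 1 1) 1
  simp [g, u, v, mul_apply, single_apply] at h0 h1
  exact h2 (by linear_combination h0 + h1)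

theorem St.gen2 [Finite Γ] {ρ : S2 F →* Γ} (h : St ρ T) (h2 : IsSquare (2 : F)) (ha : a ∈ nz T)
    (ho : (orderOf a).Coprime 2) : GA ρ.range T a := by
  refine ⟨T, (ofSub ρ.range T).centric_S, 1, one_mem _, 0, by simpa using ha, ?_⟩
  have k1 : ρ (-1) = 1 := (h.ker _).2 ⟨-1, by simp⟩
  have k2 : ∀ A, ρ A = 1 → A * A = 1 := fun A e => by
    obtain ⟨c, hc⟩ := (h.ker A).1 e
    have := A.2
    rw [hc, det_smul, det_one, Fintype.card_fin, pow_two, mul_one] at this
    exact ext' (by simp [hc, smul_smul, this])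
  have k3 : (-1 : S2 F) ≠ 1 := fun e => neg_ne h.two (by simpa using congrFun (congrFun (val_eq e) 0) 0)
  obtain ⟨S, hS⟩ := (h.pg.comap_of_ker_isPGroup ρ fun A =>
    ⟨1, Subtype.ext (by simpa [pow_two] using k2 _ A.2)⟩).exists_le_sylow
  obtain ⟨k, -, ⟨e⟩⟩ := Cfsg.Agent.S0261.result h.odd S
  have key : ∀ i, ρ (e.symm (.a i)) ∈ zpowers (ρ (e.symm (.a 1))) := fun i =>
    ⟨i.val, by
      simp only [zpow_natCast, ← map_pow, ← SubgroupClass.coe_pow, QuaternionGroup.a_one_pow]; simp⟩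
  rcases H10.odd_centralizes_of_le (S.2.map ρ) (T := T) (fun y hy => by
      obtain ⟨A, rfl⟩ := h.syl.le hy; exact mem_map_of_mem ρ (hS hy))
    (mem_map_of_mem ρ (e.symm (.a 1)).2) (relIndex_dvd_two_iff.2 ⟨_, mem_map_of_mem ρ (e.symm (.xa 0)).2, by
      rintro _ ⟨A, hA, rfl⟩
      obtain ⟨i | i, e'⟩ := e.symm.surjective ⟨A, hA⟩ <;> obtain rfl : _ = A := congrArg Subtype.val e'
      · exact Or.inr (key i)
      · rw [← map_mul, ← Subgroup.coe_mul, ← map_mul]; exact Or.inl (key _)⟩) ha ho with q | q | ⟨⟨q⟩⟩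
  · simpa using q
  · obtain ⟨r, hr⟩ := h2
    obtain ⟨M, m1⟩ : ∃ M : S2 F, M * M * (M * M) = -1 := ⟨⟨!![0, -1; 1, r], by simp⟩, ext' (show
      !![0, -1; 1, r] * !![0, -1; 1, r] * (!![0, -1; 1, r] * !![0, -1; 1, r]) = -1 by
        ext i j; fin_cases i <;> fin_cases j <;> simp <;> grind)⟩
    obtain ⟨g, -, hg⟩ := h.syl.exists_cj_le (pg_zp (x := ρ M) (n := 2) (by
      rw [← k1, ← m1, ← map_pow]; congr 1; rw [pow_two, pow_mul, pow_two, pow_two]))
      (zpowers_le.2 ⟨M, rfl⟩)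
    have := congrArg Subtype.val (IsKleinFour.mul_self (⟨_, hg (conj_mem_cj g (mem_zpowers _))⟩ : T))
    exact absurd (m1.symm.trans (k2 _ (by simpa [conj_mul] using this))) k3
  obtain ⟨u, v, -, p, -⟩ := exists_uv h.odd
  have s1 : ρ u * ρ u = 1 := by rw [← map_mul, p.l, k1]
  have s2 : ρ v * ρ v = 1 := by rw [← map_mul, p.r, k1]
  have s3 : ρ u * ρ v = ρ v * ρ u := by rw [← map_mul, p.c, ← neg_one_mul, map_mul, k1, one_mul, map_mul]
  obtain ⟨g, -, hg⟩ := h.syl.exists_cj_le (el_pg ((el_zpowers s1).sup (el_zpowers s2)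
    (zpowers_le.2 (mem_cz_zpowers.2 (by rw [s3]; simp))))) (sup_le (zpowers_le.2 ⟨u, rfl⟩)
      (zpowers_le.2 ⟨v, rfl⟩))
  rcases (by decide : ∀ x y : QuaternionGroup 2, x * x = 1 → y * y = 1 → x = 1 ∨ y = 1 ∨ x * y = 1)
    (q ⟨_, hg (conj_mem_cj g (mem_sup_left (mem_zpowers _)))⟩)
    (q ⟨_, hg (conj_mem_cj g (mem_sup_right (mem_zpowers _)))⟩)
    (by simp [← map_mul, conj_mul, s1, Subtype.ext_iff]) (by simp [← map_mul, conj_mul, s2, Subtype.ext_iff]) with e | e | e
  · exact absurd (p.l.symm.trans (k2 _ (by simpa [Subtype.ext_iff] using e))) k3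
  · exact absurd (p.r.symm.trans (k2 _ (by simpa [Subtype.ext_iff] using e))) k3
  · exact absurd (p.m.symm.trans (k2 _ (by simpa [← map_mul, conj_mul, Subtype.ext_iff] using e))) k3

end H29.PL
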