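import Cfsg.Agent.H29.PL4
import Mathlib.NumberTheory.LegendreSymbol.QuadraticChar.Basic

/-! The case of `PSL_4(q)`. -/

set_option autoImplicit false
set_option linter.unusedSectionVars false

namespace H29.PL
open Matrix Finset Subgroup H25 H25.FS _root_.H29.JC

variable {F : Type*} [Field F] {Γ : Type*} [Group Γ] {T : Subgroup Γ} {a b : Γ}

/-- `SL_4` in block form -/
abbrev S4 (F : Type*) [Field F] := SpecialLinearGroup (Fin 2 ⊕ Fin 2) F
/-- block diagonal matrices -/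
def bd (A B : Matrix (Fin 2) (Fin 2) F) : Matrix (Fin 2 ⊕ Fin 2) (Fin 2 ⊕ Fin 2) F := fromBlocks A 0 0 B

section
variable {A B C D : Matrix (Fin 2) (Fin 2) F}
theorem bd_mul : bd A B * bd C D = bd (A * C) (B * D) := by simp [bd, fromBlocks_multiply]
theorem bd_det : (bd A B).det = A.det * B.det := det_fromBlocks_zero₂₁ _ _ _
theorem bd_smul {c : F} : c • bd A B = bd (c • A) (c • B) := by simp [bd, fromBlocks_smul]
theorem bd_inj : bd A B = bd C D ↔ A = C ∧ B = D := by simp [bd, fromBlocks_inj]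
theorem bd_one : bd (1 : Matrix (Fin 2) (Fin 2) F) 1 = 1 := fromBlocks_one
theorem bd_trace : (bd A B).trace = A.trace + B.trace := by simp [bd, trace]
theorem bd_sw : fromBlocks 0 1 1 0 * bd A B = bd B A * fromBlocks 0 1 1 0 := by
  simp [bd, fromBlocks_multiply]
end

theorem blk (h2 : (2 : F) ≠ 0) {M : Matrix (Fin 2 ⊕ Fin 2) (Fin 2 ⊕ Fin 2) F}
    (h : M * bd (-1) 1 = bd (-1) 1 * M) : ∃ A B, M = bd A B := by
  rw [← fromBlocks_toBlocks M] at h ⊢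
  simp [bd, fromBlocks_multiply, fromBlocks_inj] at h
  have k : ∀ A : Matrix (Fin 2) (Fin 2) F, A = -A → A = 0 := fun A e =>
    (smul_eq_zero.1 (by rw [two_smul]; exact eq_neg_iff_add_eq_zero.1 e)).resolve_left h2
  exact ⟨_, _, by rw [k _ h.1, k _ h.2.symm]; rfl⟩

/-- the first block -/
def i1 : S2 F →* S4 F where
  toFun A := ⟨bd A.1 1, by simp [bd_det]⟩
  map_one' := ext' bd_one
  map_mul' A B := ext' (show bd _ _ = bd _ _ * bd _ _ by simp [bd_mul])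
/-- the second block -/
def i2 : S2 F →* S4 F where
  toFun A := ⟨bd 1 A.1, by simp [bd_det]⟩
  map_one' := ext' bd_one
  map_mul' A B := ext' (show bd _ _ = bd _ _ * bd _ _ by simp [bd_mul])
theorem i1_val (A : S2 F) : (i1 A).1 = bd A.1 1 := rfl
theorem i2_val (A : S2 F) : (i2 A).1 = bd 1 A.1 := rfl
theorem i12 (A B : S2 F) : i1 A * i2 B = i2 B * i1 A := ext' (by simp [i1_val, i2_val, bd_mul])

theorem q8 {x y : Γ} (h1 : x * x * y = y * (x * x)) (h2 : x * (y * y) = y * y * x)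
    (h3 : y * (x * y * (x * y)) = x * y * (x * y) * y) : (x * y) ^ 4 = x * y ^ 4 * x ^ 3 :=
  have e : x * y * (x * y) = y * x * (y * x) := mul_right_cancel (b := y) (by rw [← h3]; group)
  calc _ = x * y * (x * y) * (x * y * (x * y)) := by simp [pow_succ, mul_assoc]
    _ = x * y * (x * y) * (y * x * (y * x)) := by rw [← e]
    _ = x * y * (x * (y * y)) * x * y * x := by group
    _ = x * y * (y * y) * (x * x * y) * x := by rw [h2]; group
    _ = _ := by rw [h1]; simp [pow_succ, mul_assoc]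

theorem s2_ne (h2 : (2 : F) ≠ 0) : (-1 : S2 F) ≠ 1 := fun e =>
  neg_ne h2 (by simpa using congrFun (congrFun (val_eq e) 0) 0)

theorem QP.not (h2 : (2 : F) ≠ 0) {x y c : S2 F} (h : QP x y) (hc : c * c = -1) (h1 : x * c = c * x)
    (h3 : y * c = c * y) : False := by
  have k : ∀ {x : S2 F}, x * x = -1 → x * c = c * x → ∀ g, x * c * g = g * (x * c) := fun {x} e e' g => by
    rcases sq2 (A := (x * c).1) (s := 1) (by
      rw [← vmul, mul_assoc, ← mul_assoc c, ← e', mul_assoc, hc, ← mul_assoc, e]; simp) with ⟨l, q, -⟩ | q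
    · exact ext' (by rw [vmul, vmul g, q]; simp)
    · exact absurd (q.2.symm.trans (x * c).2) (neg_ne h2)
  have e : x * y = y * x := mul_right_cancel (b := c * c) <|
    calc _ = x * (y * c) * c := by group
      _ = y * c * (x * c) := by rw [← k h.r h3]; group
      _ = y * (x * c) * c := by rw [mul_assoc, ← k h.l h1 c]; group
      _ = _ := by group
  exact s2_ne h2 (mul_right_cancel (b := y * x) (by simpa [e] using h.c.symm))

variable [Fintype F] [Finite Γ] {ρ : S4 F →* Γ} {x y g g' : S4 F} {u v w : S2 F}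

theorem St.z2 (h : St ρ T) : ρ (i2 (-1)) = ρ (i1 (-1)) :=
  h.eq_iff.2 ⟨-1, by simp [i1_val, i2_val, bd_smul, -neg_smul]; simp⟩

theorem St.inj1 (h : St ρ T) (e : ρ (i1 u) = ρ (i1 v)) : u = v := by
  obtain ⟨c, hc⟩ := h.eq_iff.1 e
  rw [i1_val, i1_val, bd_smul, bd_inj] at hc
  exact ext' (by rw [hc.1, ← one_mul v.1, ← smul_mul_assoc, ← hc.2])

theorem St.inj2 (h : St ρ T) (e : ρ (i2 u) = ρ (i2 v)) : u = v := by
  obtain ⟨c, hc⟩ := h.eq_iff.1 e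
  rw [i2_val, i2_val, bd_smul, bd_inj] at hc
  exact ext' (by rw [hc.2, ← one_mul v.1, ← smul_mul_assoc, ← hc.1])

theorem St.z_ne (h : St ρ T) : ρ (i1 (-1)) ≠ 1 := fun e => s2_ne h.two (h.inj1 (by simpa using e))

theorem St.p4 (h : St ρ T) (e : ρ x = ρ y) : x ^ 4 = y ^ 4 := by
  obtain ⟨c, hc⟩ := h.eq_iff.1 e
  have := x.2
  rw [hc, det_smul, y.2, mul_one] at this
  exact ext' (by simp [hc, smul_pow, show c ^ 4 = 1 from this])

theorem St.sqz (h : St ρ T) (e : ρ (x * x) = ρ (i1 (-1))) :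
    (∀ y, y * i1 (-1) = i1 (-1) * y ↔ y * (x * x) = x * x * y) ∧ ∀ y, y * x ^ 4 = x ^ 4 * y := by
  obtain ⟨c, hc⟩ := h.eq_iff.1 e
  have c0 : c ≠ 0 := fun q => det_ne (x * x) (by simp [hc, q])
  refine ⟨fun y => ⟨fun q => ext' ?_, fun q => ext' (smul_right_injective _ c0 ?_)⟩, fun y => ext' ?_⟩
  · rw [vmul, vmul _ y, hc, mul_smul_comm, smul_mul_assoc, ← vmul, q, vmul]
  · simpa only [vmul y, vmul _ y, hc, mul_smul_comm, smul_mul_assoc] using val_eq q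
  · rw [show x ^ 4 = x * x * (x * x) by simp [pow_succ, mul_assoc], vmul, vmul _ y, vmul (x * x), hc]
    simp [i1_val, bd_mul, bd_one]

theorem St.kap (h : St ρ T) (hx : ρ (x * x) = ρ (i1 (-1))) (hy : ρ (y * y) = ρ (i1 (-1)))
    (hxy : ρ (x * y * (x * y)) = ρ (i1 (-1))) (c1 : ρ (g * x * g⁻¹) = ρ y)
    (c2 : ρ (g' * y * g'⁻¹) = ρ (x * y)) : x ^ 4 = 1 ∧ y ^ 4 = 1 := by
  have x1 := ((h.sqz hx).1 x).2 (mul_assoc _ _ _).symm
  have y1 := ((h.sqz hy).1 y).2 (mul_assoc _ _ _).symm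
  have e1 := h.p4 c1
  have e2 := h.p4 c2
  rw [conj_pow, (h.sqz hx).2, mul_inv_cancel_right] at e1
  rw [conj_pow, (h.sqz hy).2, mul_inv_cancel_right, q8 (((h.sqz hx).1 y).1 y1).symm
    (((h.sqz hy).1 x).1 x1) (((h.sqz hxy).1 y).1 y1), (h.sqz hy).2, mul_assoc, ← pow_succ',
    left_eq_mul] at e2
  exact ⟨e2, e1 ▸ e2⟩

theorem St.k12 (h : St ρ T) (hx : ρ (x * x) = ρ (i1 (-1))) (h4 : x ^ 4 = 1) :
    ∃ A : S2 F, A * A = -1 ∧ (ρ x = ρ (i1 A) ∨ ρ x = ρ (i2 A)) := by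
  obtain ⟨A, B, e⟩ := blk h.two (val_eq (((h.sqz hx).1 x).2 (mul_assoc _ _ _).symm))
  obtain ⟨c, hc⟩ := h.eq_iff.1 hx
  have c2 : c * c = 1 := by
    have := val_eq h4
    rw [show x ^ 4 = x * x * (x * x) by simp [pow_succ, mul_assoc], vmul, hc] at this
    simpa [i1_val, bd_mul, bd_one, smul_smul] using congrFun (congrFun this (.inl 0)) (.inl 0)
  have d := x.2
  rw [vmul, e, i1_val, bd_mul, bd_smul, bd_inj] at hc
  rw [e, bd_det] at d
  have k : ∀ {A : Matrix (Fin 2) (Fin 2) F} {l s : F}, A * A = s • 1 → A.det = -s → l * l = -s → s * s = 1 →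
      ∃ A' : S2 F, A' * A' = -1 ∧ A = l • A'.1 := fun {A l s} h1 h2 h3 h4 => by
    have l0 : l ≠ 0 := fun q => by simp_all
    refine ⟨⟨l⁻¹ • A, by rw [det_smul, h2, ← h3]; simp; field_simp⟩, ext' ?_, by simp [l0]⟩
    change l⁻¹ • A * l⁻¹ • A = -1
    rw [smul_mul_smul, h1, smul_smul, ← neg_neg s, ← h3, mul_neg, show l⁻¹ * l⁻¹ * (l * l) = 1 by field_simp,
      neg_smul, one_smul]
  rcases sq2 (A := A) (s := -c) (by simpa using hc.1) with ⟨l, rfl, q⟩ | ⟨-, q⟩ <;>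
    rcases sq2 hc.2 with ⟨m, rfl, q'⟩ | ⟨-, q'⟩
  · simp [pow_two, q, q', c2] at d; exact absurd d (neg_ne h.two)
  · obtain ⟨A', h1, h2⟩ := k hc.2 q' q c2
    exact ⟨A', h1, Or.inr (h.eq_iff.2 ⟨l, by rw [e, i2_val, bd_smul, h2]⟩)⟩
  · obtain ⟨A', h1, h2⟩ := k (s := -c) (by simpa using hc.1) q (q'.trans (neg_neg c).symm) (by simpa using c2)
    exact ⟨A', h1, Or.inl (h.eq_iff.2 ⟨m, by rw [e, i1_val, bd_smul, h2]⟩)⟩
  · simp [q, q', c2] at d; exact absurd d (neg_ne h.two)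

theorem St.pr (h : St ρ T) (p : QP u v) (wu : w * u = v * w) (wv : w * v = u * v * w)
    (j : S2 F →* S4 F) (hj : ρ (j (-1)) = ρ (i1 (-1))) (hb : b ∈ (ofSub ρ.range T).aut)
    (hz : b * ρ (i1 (-1)) * b⁻¹ = ρ (i1 (-1))) (hu : ρ (j u) ∈ T) (hv : ρ (j v) ∈ T) :
    ∃ A B, QP A B ∧ (b * ρ (j u) * b⁻¹ = ρ (i1 A) ∧ b * ρ (j v) * b⁻¹ = ρ (i1 B) ∨
      b * ρ (j u) * b⁻¹ = ρ (i2 A) ∧ b * ρ (j v) * b⁻¹ = ρ (i2 B)) := by
  obtain ⟨x, hx⟩ := h.syl.le (conj_mem_of_mem_nz (aut_le_nz _ hb) hu)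
  obtain ⟨y, hy⟩ := h.syl.le (conj_mem_of_mem_nz (aut_le_nz _ hb) hv)
  obtain ⟨g, c1⟩ := h.fp1 (g := j w) hb hu hv (by
    rw [← map_inv, ← map_inv, ← map_mul, ← map_mul, ← map_mul, ← map_mul, wu, mul_inv_cancel_right])
  obtain ⟨g', c2⟩ := h.fp1 (g := j w) hb hv (mul_mem hu hv) (by
    simp only [← map_inv, ← map_mul, wv, mul_inv_cancel_right])
  have s1 : ρ (x * x) = ρ (i1 (-1)) := by rw [map_mul, hx, conj_mul, ← map_mul, ← map_mul, p.l, hj, hz]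
  have s2 : ρ (y * y) = ρ (i1 (-1)) := by rw [map_mul, hy, conj_mul, ← map_mul, ← map_mul, p.r, hj, hz]
  have s3 : ρ x * ρ y = ρ (i1 (-1)) * (ρ y * ρ x) := by
    rw [hx, hy, ← hz, ← hj]; simp only [conj_mul, ← map_mul, p.c, neg_one_mul]
  obtain ⟨k1, k2⟩ := h.kap (g := g) (g' := g') s1 s2 (by
    simp only [map_mul, hx, hy, conj_mul]; simp only [← map_mul, p.m, hj, hz]) (by simp [hx, hy, c1])
    (by simp only [map_mul, map_inv, hx, hy, c2, conj_mul])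
  obtain ⟨A, a1, a2⟩ := h.k12 s1 k1
  obtain ⟨B, b1, b2⟩ := h.k12 s2 k2
  rw [← hx, ← hy]
  rcases a2 with a2 | a2 <;> rcases b2 with b2 | b2 <;> rw [a2, b2] at s3
  · exact ⟨A, B, ⟨a1, b1, h.inj1 (by simpa only [← map_mul, neg_one_mul] using s3)⟩, Or.inl ⟨a2, b2⟩⟩
  · rw [← map_mul, i12, map_mul, right_eq_mul] at s3; exact absurd s3 h.z_ne
  · rw [← map_mul, ← i12, map_mul, right_eq_mul] at s3; exact absurd s3 h.z_ne
  · exact ⟨A, B, ⟨a1, b1, h.inj2 (by simpa only [← h.z2, ← map_mul, neg_one_mul] using s3)⟩,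
      Or.inr ⟨a2, b2⟩⟩

/-- `G` conjugates `X` to lifts of `y` -/
def Gc {κ : Type*} (ρ : S4 F →* Γ) (X : κ → S4 F) (G : Matrix (Fin 2 ⊕ Fin 2) (Fin 2 ⊕ Fin 2) F)
    (y : κ → Γ) : Prop :=
  G.det ≠ 0 ∧ ∀ i, ∃ B : S4 F, y i = ρ B ∧ G * (X i).1 = B.1 * G

theorem Gc.cn {κ : Type*} {X : κ → S4 F} {G G' : Matrix _ _ F} {y y' : κ → Γ} (h : Gc ρ X G y)
    (h' : Gc ρ X G' y') (hX : ∀ (l : F) i, bd (l • 1) 1 * (X i).1 = (X i).1 * bd (l • 1) 1)
    (e : IsSquare (G.det * G'.det)) : Cn ρ y y' := by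
  obtain ⟨d, hd⟩ := e
  have d0 : d ≠ 0 := fun q => mul_ne_zero h.1 h'.1 (by simp [hd, q])
  have := h.1
  let H : S4 F := ⟨G' * bd ((G.det / d) • 1) 1 * G⁻¹, by
    simp only [det_mul, bd_det, det_smul, det_one, det_nonsing_inv, Ring.inverse_eq_inv, Fintype.card_fin]
    field_simp; linear_combination hd⟩
  refine ⟨H, fun i => ?_⟩
  obtain ⟨B, e, q⟩ := h.2 i
  obtain ⟨B', e', q'⟩ := h'.2 i
  rw [e, e', ← map_inv, ← map_mul, ← map_mul, mul_inv_eq_of_eq_mul (ext' ?_)]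
  change G' * _ * G⁻¹ * B.1 = B'.1 * (G' * _ * G⁻¹)
  rw [← mul_assoc, ← mul_assoc, ← q', mul_assoc G' (X i).1, ← hX, ← mul_assoc G', mul_assoc _ G⁻¹,
    mul_assoc _ (X i).1, ← mul_nonsing_inv_cancel_right G (G⁻¹ * B.1) this.isUnit, mul_assoc G⁻¹, ← q,
    nonsing_inv_mul_cancel_left _ _ this.isUnit]

theorem St.gen4 (h : St ρ T) (ha : a ∈ (ofSub ρ.range T).aut) (ho : (orderOf a).Coprime 2) :
    GA ρ.range T a := by
  obtain ⟨u, v, w, p, wu, wv, cm, sn⟩ := exists_uv h.odd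
  let X : Fin 4 → S4 F := ![i1 u, i1 v, i2 u, i2 v]
  have dg : ∀ A ∈ cz (closure (Set.range X)), ∃ l m : F, A.1 = bd (l • 1) (m • 1) := fun A hA => by
    have k : ∀ i, A.1 * (X i).1 = (X i).1 * A.1 := fun i => val_eq (hA _ (subset_closure ⟨i, rfl⟩)).symm
    have k0 : A.1 * bd u.1 1 = bd u.1 1 * A.1 := k 0
    obtain ⟨B, C, e⟩ := blk h.two (M := A.1) (by
      rw [← show u.1 * u.1 = -1 from val_eq p.l, ← mul_one (1 : Matrix (Fin 2) (Fin 2) F), ← bd_mul,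
        ← mul_assoc, k0, mul_assoc, k0, mul_assoc])
    simp [Fin.forall_fin_succ, X, e, i1_val, i2_val, bd_mul, bd_inj] at k
    obtain ⟨l, hl⟩ := cm B k.1 k.2.1
    obtain ⟨m, hm⟩ := cm C k.2.2.1 k.2.2.2
    exact ⟨l, m, by rw [e, hl, hm]⟩
  have ab : cz (closure (Set.range X)) ≤ cz (cz (closure (Set.range X))) := fun A hA B hB => by
    obtain ⟨l, m, hu⟩ := dg A hA
    obtain ⟨l', m', hv⟩ := dg B hB
    exact ext' (by simp [hu, hv, bd_mul, smul_smul, mul_comm])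
  have q1 : IsPGroup 2 (zpowers u ⊔ zpowers v : Subgroup _) := by
    have k : ∀ {x : S2 F}, x * x = -1 → x ^ 2 ^ 2 = 1 := fun e => by rw [pow_two, pow_mul, pow_two, pow_two, e]; simp
    refine isPGroup_sup_of_le_nz (pg_zp (k p.l)) (pg_zp (k p.r)) (zpowers_le.2 (mem_nz_of_le ?_))
    rw [cj_zpowers, zpowers_le, p.c, neg_mul, mul_inv_cancel_right, ← neg_one_mul, ← p.r]
    exact mul_mem (mul_mem (mem_zpowers _) (mem_zpowers _)) (mem_zpowers _)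
  obtain ⟨ρ, h, e, h1, h2⟩ := h.wlog (isPGroup_sup_of_le_nz (q1.map i1) (q1.map i2) ((cz_le_nz _).trans' (by
    rintro _ ⟨A, -, rfl⟩ _ ⟨B, -, rfl⟩; exact (i12 _ _).symm))) ab (by
      refine le_cz_comm.1 (cz_anti (sup_le ?_ ?_)) <;> rw [Subgroup.map_sup, MonoidHom.map_zpowers, MonoidHom.map_zpowers] <;>
        simp only [sup_le_iff, zpowers_le]
      exacts [⟨subset_closure ⟨0, rfl⟩, subset_closure ⟨1, rfl⟩⟩, ⟨subset_closure ⟨2, rfl⟩, subset_closure ⟨3, rfl⟩⟩])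
  rw [← e] at ha ⊢
  have m1 := mem_sup_left (T := zpowers v) (mem_zpowers u)
  have m2 := mem_sup_right (S := zpowers u) (mem_zpowers v)
  have x0 := h1 _ (mem_sup_left (mem_map_of_mem i1 m1))
  have x1 := h1 _ (mem_sup_left (mem_map_of_mem i1 m2))
  have x2 := h1 _ (mem_sup_right (mem_map_of_mem i2 m1))
  have x3 := h1 _ (mem_sup_right (mem_map_of_mem i2 m2))
  have hx : ∀ i, ρ (X i) ∈ T := by simp [Fin.forall_fin_succ, X, *]
  have lf : ∀ A i, ρ (A * X i * A⁻¹) = ρ (X i) → A * X i * A⁻¹ = X i := fun A i e => by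
    obtain ⟨c, hc⟩ := h.eq_iff.1 e
    have t1 : (X i).1.trace = 2 := by
      fin_cases i <;> simp [X, i1_val, i2_val, bd_trace, tr0 h.two p.l, tr0 h.two p.r]
    have t2 := congrArg trace hc
    rw [vmul, vmul, trace_mul_cycle, ← vmul, inv_mul_cancel, trace_smul] at t2
    exact ext' (by rw [hc, mul_right_cancel₀ h.two (show c * 2 = 1 * 2 by simpa [t1] using t2.symm), one_smul])
  have zz : ρ (i1 (-1)) = ρ (X 0) * ρ (X 0) := by rw [← p.l, map_mul, map_mul]; rfl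
  have iv : ∀ A ∈ cz (closure (Set.range X)), ρ A * ρ A = 1 → ρ A = 1 ∨ ρ A = ρ (i1 (-1)) := fun A hA e => by
    obtain ⟨l, m, q⟩ := dg A hA
    obtain ⟨c, hc⟩ := (h.ker _).1 ((map_mul ρ A A).trans e)
    rw [vmul, q, bd_mul, ← bd_one, bd_smul, bd_inj] at hc
    have := congrFun (congrFun (hc.1.trans hc.2.symm) 0) 0
    rcases mul_self_eq_mul_self_iff.1 (show l * l = m * m by simpa using this) with rfl | rfl
    · exact Or.inl ((h.ker _).2 ⟨l, by rw [q, ← bd_smul, bd_one]⟩)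
    · exact Or.inr (h.eq_iff.2 ⟨m, by simp [q, i1_val, bd_smul]⟩)
  have zc : ∀ y ∈ T ⊓ cz T, y * y = 1 → y ≠ 1 → y = ρ (i1 (-1)) := fun y hy e e' => by
    obtain ⟨A, rfl⟩ := h.syl.le hy.1
    refine (iv A ?_ e).resolve_left e'
    rw [cz, centralizer_closure]
    rintro _ ⟨i, rfl⟩
    exact (mul_inv_eq_iff_eq_mul.1 (lf A i (by simpa using mem_cz.1 hy.2 _ (hx i)))).symm
  have hz : ∀ b ∈ (ofSub ρ.range T).aut, b * ρ (i1 (-1)) * b⁻¹ = ρ (i1 (-1)) := fun b hb => by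
    obtain ⟨y, h3, h4, h5⟩ := H10.Inv1.exists_inv (h.pg.to_le (inf_le_left (b := cz T)))
      (inf_cz_ne_bot h.pg le_rfl (le_nz_self T) fun e => h.z_ne (by
        rw [zz]; exact mem_bot.1 (e ▸ mul_mem (hx 0) (hx 0))))
    rw [pow_two] at h5
    have := aut_le_nz _ hb
    rw [zc _ (conj_mem_of_mem_nz (mem_nz_inf this (mem_nz_cz this)) (zc y h3 h5 h4 ▸ h3)) (by
      rw [conj_mul, ← zc y h3 h5 h4, h5]; simp) (by simpa using h.z_ne)]
  refine h.fin X ha hx lf ab h2 ?_ fun c _ fx A hA B _ a2 e => by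
    rcases iv A hA a2 with q | q <;> rw [← e, q]
    · simp
    · rw [zz, ← conj_mul, fx]
  have hX : ∀ (l : F) i, bd (l • 1) 1 * (X i).1 = (X i).1 * bd (l • 1) 1 := by
    simp [Fin.forall_fin_succ, X, i1_val, i2_val, bd_mul]
  have hG : ∀ b ∈ (ofSub ρ.range T).aut, ∃ G, Gc ρ X G (cf b fun i => ρ (X i)) := fun b hb => by
    obtain ⟨A, B, p1, e1⟩ := h.pr p wu wv i1 rfl hb (hz b hb) x0 x1
    obtain ⟨C, D, p2, e2⟩ := h.pr p wu wv i2 h.z2 hb (hz b hb) x2 x3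
    obtain ⟨g1, d1, r1, s1⟩ := sn A B p1
    obtain ⟨g2, d2, r2, s2⟩ := sn C D p2
    have k : ∀ x, b * ρ (i1 x) * b⁻¹ * (b * ρ (i2 u) * b⁻¹) = b * ρ (i2 u) * b⁻¹ * (b * ρ (i1 x) * b⁻¹) :=
      fun x => by simp only [conj_mul, ← map_mul, i12]
    have k1 := k u
    have k2 := k v
    rcases e1 with ⟨e1, e1'⟩ | ⟨e1, e1'⟩ <;> rcases e2 with ⟨e2, e2'⟩ | ⟨e2, e2'⟩ <;>
      simp only [e1, e1', e2, ← map_mul] at k1 k2
    · exact (p1.not h.two p2.l (h.inj1 k1) (h.inj1 k2)).elim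
    · refine ⟨bd g1 g2, by simp [bd_det, d1, d2], fun i => ?_⟩
      fin_cases i
      exacts [⟨_, e1, by simp [X, i1_val, bd_mul, r1]⟩, ⟨_, e1', by simp [X, i1_val, bd_mul, s1]⟩,
        ⟨_, e2, by simp [X, i2_val, bd_mul, r2]⟩, ⟨_, e2', by simp [X, i2_val, bd_mul, s2]⟩]
    · refine ⟨fromBlocks 0 1 1 0 * bd g1 g2, ?_, fun i => ?_⟩
      · rw [det_mul, bd_det]
        refine mul_ne_zero (left_ne_zero_of_mul_eq_one (b := det (fromBlocks 0 1 1 0 :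
          Matrix (Fin 2 ⊕ Fin 2) (Fin 2 ⊕ Fin 2) F)) ?_) (mul_ne_zero d1 d2)
        simp [← det_mul, fromBlocks_multiply]
      fin_cases i
      exacts [⟨_, e1, by simp [X, i1_val, i2_val, ← mul_assoc, ← bd_sw]; simp [mul_assoc, bd_mul, r1]⟩,
        ⟨_, e1', by simp [X, i1_val, i2_val, ← mul_assoc, ← bd_sw]; simp [mul_assoc, bd_mul, s1]⟩,
        ⟨_, e2, by simp [X, i1_val, i2_val, ← mul_assoc, ← bd_sw]; simp [mul_assoc, bd_mul, r2]⟩,
        ⟨_, e2', by simp [X, i1_val, i2_val, ← mul_assoc, ← bd_sw]; simp [mul_assoc, bd_mul, s2]⟩]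
    · exact (p1.not h.two p2.l (h.inj2 k1) (h.inj2 k2)).elim
  classical
  refine h.two_cl ha ho hx (C := fun y => ∃ G, ¬ IsSquare G.det ∧ Gc ρ X G y) ?_ fun b hb _ => ?_
  · rintro y y' ⟨G, q, c⟩ ⟨G', q', c'⟩
    refine c.cn c' hX ((quadraticChar_one_iff_isSquare (mul_ne_zero c.1 c'.1)).1 ?_)
    rw [map_mul, quadraticChar_neg_one_iff_not_isSquare.2 q, quadraticChar_neg_one_iff_not_isSquare.2 q']; rfl
  obtain ⟨G, c⟩ := hG b hb
  by_cases q : IsSquare G.det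
  · exact Or.inl (Gc.cn (G := 1) ⟨by simp, fun i => ⟨_, rfl, by simp⟩⟩ c hX (by simpa using q))
  · exact Or.inr ⟨G, q, c⟩

end H29.PL
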