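import Cfsg.Agent.H29.PL5
import Cfsg.Agent.H25.RS
import Cfsg.Agent.H25.Comp
import Mathlib.NumberTheory.LegendreSymbol.QuadraticChar.GaussSum
import Mathlib.LinearAlgebra.Matrix.ProjectiveSpecialLinearGroup

/-! A normal subsystem of type `PSL_n(q)` with trivial centralizer in the fusion system of a simple group. -/

set_option autoImplicit false
set_option linter.unusedSectionVars false

namespace H29.PL
open Subgroup H25 H25.FS Cfsg

section
variable {Γ : Type*} [Group Γ] [Finite Γ] {E F : FS Γ} {a : Γ}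

theorem up' (h : E.WN F 2) (ha : a ∈ F.A E.S) (ho : (orderOf a).Coprime 2) (Q : Subgroup Γ) :
    E.Centric Q → E.T Q a → a ∈ E.A E.S := by
  induction Q using card_induction_down with
  | h Q ih =>
  intro h1 h2
  rcases h1.le.eq_or_lt with rfl | h4
  · exact h2.mem_A ha.1
  have h5 := lt_inf_nz_of_lt h.sat.pg h4
  refine ih _ (card_lt_of_lt h5) (h1.mono h5.le inf_le_left) ?_
  obtain ⟨k, hk, h8, h9, H⟩ := h.sat.step h.le h.sc le_rfl (h.inv.cin h1) h5.le le_rfl
    ((T_of_mem_A h.sc.1 ha).mono inf_le_left) h2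
  have h6 : ∀ n : ℕ, E.T (E.S ⊓ nz Q) (a ^ n * k ^ n) := fun n => by
    induction n with
    | zero => simpa using E.one inf_le_left
    | succ n ih =>
      have := ih.mul' (H.conj_aut (pow_mem (h.inv.A_le_aut ha) n)) (by
        rw [← cj_cj, mem_nz.1 (pow_mem hk.1 n)])
      rwa [show a ^ n * (a * k) * (a ^ n)⁻¹ * (a ^ n * k ^ n) = a ^ (n + 1) * k ^ (n + 1) by group] at this
  have h7 := h6 (orderOf a)
  rw [pow_orderOf_eq_one, one_mul] at h7
  have h10 := ((pel_of_stab_cz (h.sat.pg' h1.le) h8 h9).mono (E.cz_le_A _)).mem_of_pow_mem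
    (h7.mem_A (pow_mem hk.1 _)) ho
  simpa using (T_of_mem_A inf_le_left (inv_mem h10)).mul' H (mem_nz.1 (inv_mem hk.1)).le

theorem GA.mem {H T : Subgroup Γ} (h : (ofSub H T).WN F 2) (ha : a ∈ F.A T) (ho : (orderOf a).Coprime 2)
    (q : GA H T a) : a ∈ (ofSub H T).A T := by
  obtain ⟨P, hP, g, hg, n, h1, h2⟩ := q
  have h3 := h.inv.A_le_aut ha
  have h4 : (ofSub H T).T (cj a P) g := ofSub_T_of_mem ((cj_mono a hP.le).trans (mem_nz.1 ha.1).le) hg
    (by rw [cj_cj, mem_nz.1 h1]; exact hP.le)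
  have h5 := FS.T.pow_ext (b := a) (a := g * a) (by simpa [mul_assoc] using h4.conj_aut (inv_mem h3)) h3 h1 (2 ^ n)
  have h6 := up' h (inv_mem (pow_mem ha (2 ^ n))) (by
    rw [orderOf_inv]; exact ho.coprime_dvd_left (orderOf_pow_dvd _)) P hP (h5.congr (agree_mul_cz _ h2).symm)
  exact mem_of_pow_mem_of_coprime (inv_mem_iff.1 h6) (ho.symm.pow_left n)
end

theorem eqF {M : ℕ} {E F : FS (Univ M)} (h : E.Nml F 2) (hB : Big F.S) (hC : F.cse E ≤ E.S)
    (hf : F.foc = F.S) (hA : resid 2 (F.A E.S) ≤ E.A E.S) : E = F := by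
  have h1 : F.S ≤ E.A E.S := ((h.satF.hyp_eq_S_iff.2 hf).ge.trans (h.satF.hyp_le_resid h.sc)).trans
    (sup_le hA fun t ht => E.N_le_A _ ⟨ht, le_nz_self _ ht⟩)
  have h5 : F.A E.S ≤ E.A E.S := (h.satF.syl h.sc.fn).le_resid_sup.trans (sup_le hA
    (ai_le (fun x hx => h1 hx.1) (cz_le_A _ _)))
  have e : F.S = E.S ⊔ F.C E.S := le_antisymm ((le_inf le_rfl (((le_inf le_rfl h1).trans
    (h.wn.S_inf_A_le (h.sat.fa E.FN_S))).trans (ai_mono le_sup_left _))).trans
      (inf_ai_eq (sup_C_le_N h.S_le) le_sup_right).le) (sup_le h.S_le inf_le_left)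
  have h8 : F.foc ≤ E.S := h.satF.foc_le_of_sc h.sc (by
    rw [e]
    exact H25.commutator_sup_le' (inf_le_right.trans (cz_le_nz _)) (inf_le_right.trans (cz_le_nz _))
      ((h.commutator_le hB).trans hC)) fun a ha => by
    obtain ⟨b, hb, e'⟩ := mem_ai'.1 (h.le_ai (h5 (h.sc.mem_A (T_of_mem_A le_rfl ha) h.S_le)))
    rw [e] at ha ⊢
    have c1 := (F.A _).mul_mem ((F.A _).inv_mem hb.1.1) ha
    have c2 := agree_iff.1 e'
    have c3 := (T_of_mem_A e.ge c1).toNK c2 le_sup_right le_sup_left inf_le_right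
    simpa using (stab _ _).mul_mem hb.1.2 (mem_stab_sup (cz_le_stab _ _ c2) (mem_stab.2 ⟨mem_nz_of_le c3.cj_le,
      fun x hx => hC (h.foc_CF_le hB (c3.mem_foc hx))⟩)
      ((le_cz_comm.1 inf_le_right).trans (cz_le_nz _)) (inf_le_right.trans (cz_le_nz _)))
  exact h.inv.eq_of_A_le (le_antisymm h.S_le (hf.ge.trans h8)) h5

variable {F : Type*} [Field F] [Fintype F]

theorem St.all {Γ : Type*} [Group Γ] [Finite Γ] {n : ℕ} {ρ : Matrix.SpecialLinearGroup (Fin n) F →* Γ}
    {T : Subgroup Γ} {a : Γ} (h : St ρ T) (hn : 2 ≤ n)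
    (h2 : n = 2 → Fintype.card F % 8 = 1 ∨ Fintype.card F % 8 = 7) (ha : a ∈ (ofSub ρ.range T).aut)
    (ho : (orderOf a).Coprime 2) : GA ρ.range T a := by
  obtain rfl | n2 := eq_or_ne n 2
  · exact h.gen2 (FiniteField.isSquare_two_iff.2 (by have := h2 rfl; omega)) (aut_le_nz _ ha) ho
  obtain rfl | n4 := eq_or_ne n 4
  swap
  · exact h.gen (by simp; omega) (by simpa using n4) ha ho
  let e : Fin 4 ≃ Fin 2 ⊕ Fin 2 := (finSumFinEquiv (m := 2) (n := 2)).symm
  let r : S4 F →* Matrix.SpecialLinearGroup (Fin 4) F :=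
    { toFun A := ⟨A.1.submatrix e e, by simp⟩
      map_one' := ext' (Matrix.submatrix_one_equiv e)
      map_mul' A B := ext' (Matrix.submatrix_mul_equiv A.1 B.1 e e e).symm }
  have q : (ρ.comp r).range = ρ.range := by
    rw [MonoidHom.range_comp, MonoidHom.range_eq_top.2 fun A => ⟨⟨A.1.submatrix e.symm e.symm, by simp⟩,
      ext' (show Matrix.submatrix (Matrix.submatrix _ _ _) e e = _ by simp)⟩, MonoidHom.range_eq_map]
  rw [← q] at ha ⊢
  refine St.gen4 ⟨h.odd, fun A => (h.ker _).trans (exists_congr fun c => ?_), h.pg, q ▸ h.syl⟩ ha ho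
  change A.1.submatrix e e = _ ↔ _
  exact ⟨fun q => by simpa [Matrix.submatrix_smul] using congrArg (Matrix.submatrix · e.symm e.symm) q,
    fun q => by simp [q, Matrix.submatrix_smul]⟩

theorem main {G : Type*} [Group G] [Finite G] [IsSimpleGroup G] (hG : ¬ IsMulCommutative G) (S : Sylow 2 G)
    {n : ℕ} (hn : 2 ≤ n) (hq : Odd (Fintype.card F))
    (h2 : n = 2 → Fintype.card F % 8 = 1 ∨ Fintype.card F % 8 = 7) {T : Subgroup G} (hT : T ≤ S)
    (E : FusionSystem T) (hE : ∀ {N} {θ : (S : Subgroup G) →* Univ N}, URep θ →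
      (fs θ E).Nml (fs θ (groupFusionSystem (S : Subgroup G))) 2 ∧
      (fs θ (groupFusionSystem (S : Subgroup G))).cse (fs θ E) ≤ (fs θ E).S)
    (hiso : ∃ ι : T →* Matrix.ProjectiveSpecialLinearGroup (Fin n) F, E.IsRealizedBy ι ∧
      ∃ T' : Sylow 2 (Matrix.ProjectiveSpecialLinearGroup (Fin n) F), (T' : Subgroup _) = ι.range) :
    ∃ ι : (S : Subgroup G) →* Matrix.ProjectiveSpecialLinearGroup (Fin n) F,
      (groupFusionSystem (S : Subgroup G)).IsRealizedBy ι ∧
      ∃ T' : Sylow 2 (Matrix.ProjectiveSpecialLinearGroup (Fin n) F), (T' : Subgroup _) = ι.range := by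
  obtain ⟨N, θ, hN, h1, h3⟩ := exists_big_embed (S : Subgroup G)
    (Nat.card (Matrix.ProjectiveSpecialLinearGroup (Fin n) F)) Nat.card_pos
  have u : URep θ := ⟨h1, h3⟩
  have R := u.rep le_rfl (groupFusionSystem (S : Subgroup G))
  have R' := u.rep hT E
  obtain ⟨h4, h5⟩ := hE u
  suffices e : fs θ E = fs θ (groupFusionSystem (S : Subgroup G)) by
    obtain rfl := (R.S_eq_iff R').1 (congrArg FS.S e)
    exact (R.eq_iff R').2 e ▸ hiso
  obtain ⟨ι, hι, T', hT'⟩ := hiso
  obtain ⟨i, hi, -, e⟩ := u.exists_embed hT hι.1 hN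
  have eK := (R'.realizedBy_iff hi e).1 hι
  have q : (i.comp (QuotientGroup.mk' _)).range = i.range := by
    rw [MonoidHom.range_comp, MonoidHom.range_eq_top.2 (QuotientGroup.mk'_surjective _), MonoidHom.range_eq_map]
  have st : St (i.comp (QuotientGroup.mk' _)) (im θ T) := ⟨hq, fun A => ?_, h4.sat.pg, ?_⟩
  · refine eqF h4 (u.big_im _) h5 ?_ (resid_le_iff.2 fun a ha ho => ?_)
    · have := (rep_group (S : Subgroup G)).im_foc
      rw [im_idE, fs_group, foc_ofSub S.2 (syl_sylow S), ← commutator_def,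
        ((inferInstance : (commutator G).Normal).eq_bot_or_eq_top).resolve_left fun e => hG
          ⟨⟨fun a b => commutatorElement_eq_one_iff_mul_comm.1 (mem_bot.1
            (e ▸ commutator_mem_commutator (mem_top a) (mem_top b)))⟩⟩, inf_top_eq] at this
      rw [← R.im_foc, this]; rfl
    · have := h4.inv.A_le_aut ha
      have w := h4.wn
      rw [eK] at this w ⊢
      exact (q ▸ st.all hn h2 (q ▸ this) ho).mem w ha ho
  · rw [MonoidHom.comp_apply, map_eq_one_iff i hi, QuotientGroup.mk'_apply, QuotientGroup.eq_one_iff,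
      Matrix.SpecialLinearGroup.mem_center_iff]
    refine exists_congr fun c => ⟨fun q => by rw [← q.2]; simp [Matrix.smul_one_eq_diagonal], fun q => ⟨?_, by
      rw [q]; simp [Matrix.smul_one_eq_diagonal]⟩⟩
    simpa [q] using A.2
  · rw [q, ← im_top_range hT e, im_top, ← hT', i.range_eq_map]
    exact ⟨map_mono le_top, by
      rw [relIndex_map_map_of_injective _ _ hi, relIndex_top_right]; exact T'.not_dvd_index⟩

end H29.PL
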