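import Cfsg.Agent.H6.PS0

/-! The Praeger-Saxl bound: the chunk `AL`. -/

set_option autoImplicit false
open MulAction Finset
open scoped Pointwise

namespace H29.PS
open H6.PS H22.Bab
universe u

section
variable {G Ω : Type*} [Group G] [MulAction G Ω]

theorem comm_fix (σ τ : G) {Δ : Set Ω} (h : ∀ z, σ • z ≠ z → τ • z ≠ z → z ∈ Δ) {z : Ω} (h0 : z ∉ Δ)
    (h1 : σ⁻¹ • z ∉ Δ) (h2 : τ⁻¹ • z ∉ Δ) : (σ * τ * σ⁻¹ * τ⁻¹) • z = z := by
  have a1 : ∀ z, z ∉ Δ → σ • z ≠ z → τ • z = z := fun z h3 h4 => by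
    by_contra h5; exact h3 (h z h4 h5)
  have a2 : ∀ z, z ∉ Δ → τ • z ≠ z → σ • z = z := fun z h3 h4 => by
    by_contra h5; exact h3 (h z h5 h4)
  have i1 : ∀ (f : G) (z : Ω), f • z = z → f⁻¹ • z = z := fun f z h => by
    rw [inv_smul_eq_iff, h]
  have i2 : ∀ (f : G) (z : Ω), f • z ≠ z → f • f⁻¹ • z ≠ f⁻¹ • z := fun f z h h' => by
    rw [smul_inv_smul, eq_inv_smul_iff] at h'; exact h h'
  simp only [mul_smul]
  by_cases h4 : σ • z = z
  · by_cases h5 : τ • z = z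
    · rw [i1 _ _ h5, i1 _ _ h4, h5, h4]
    · rw [i1 _ _ (a2 _ h2 (i2 _ _ h5)), smul_inv_smul, h4]
  · rw [i1 _ _ (a1 z h0 h4), a1 _ h1 (i2 _ _ h4), smul_inv_smul]

variable [Fintype Ω] [DecidableEq Ω]

theorem two_trans' [Finite G] {g : G} {x : Ω} (hx : g • x ≠ x)
    (h2 : ∀ u v : Ω, u ≠ x → v ≠ x → ∃ h : G, h • x = x ∧ h • u = v)
    (h3 : ∀ f : G, ¬ (toPermHom G Ω f).IsThreeCycle) :
    Fintype.card Ω - 1 ≤ (#(supp Ω g) - 1) * (#(supp Ω g) - 1) := by
  classical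
  have := Fintype.ofFinite (stabilizer G x)
  set D := (supp Ω g).erase x
  have h1 : (univ : Finset (stabilizer G x)) ⊆
      (D ×ˢ D).biUnion fun p => univ.filter fun h => h • p.1 = p.2 := by
    intro h _
    by_contra hc
    simp only [mem_biUnion, mem_filter, mem_univ, true_and, not_exists, not_and] at hc
    have hh : (h : G)⁻¹ • x = x := mem_stabilizer_iff.1 (inv_mem h.2)
    refine h3 _ (three g (h * g * (h : G)⁻¹) hx (fun e => hx ?_) (fun z h4 h5 => ?_))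
    · rw [mul_smul, mul_smul, hh, ← eq_inv_smul_iff, hh] at e; exact e
    · by_contra h6
      refine hc ((h : G)⁻¹ • z, z) ?_ (smul_inv_smul (h : G) z)
      simp only [D, mem_product, mem_erase, mem_supp]
      refine ⟨⟨fun e => h6 ?_, fun e => h5 ?_⟩, h6, h4⟩
      · rw [inv_smul_eq_iff] at e; rw [e]; exact h.2
      · rw [mul_smul, mul_smul, e, smul_inv_smul]
  have h4 := (card_le_card h1).trans card_biUnion_le
  have h5 : (∑ p ∈ D ×ˢ D, #(univ.filter fun h : stabilizer G x => h • p.1 = p.2)) *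
      (Fintype.card Ω - 1) ≤ ∑ _p ∈ D ×ˢ D, Fintype.card (stabilizer G x) := by
    rw [sum_mul]
    refine sum_le_sum (fun p hp => le_trans (Nat.mul_le_mul_left _ ?_) (count p.1 p.2))
    have hp1 := (mem_erase.1 (mem_product.1 hp).1).1
    rw [← card_univ, ← card_erase_of_mem (mem_univ x), Nat.card_coe_set_eq,
      ← Set.ncard_coe_finset]
    refine Set.ncard_le_ncard (fun v hv => ?_)
    obtain ⟨h, h6, h7⟩ := h2 p.1 v hp1 (mem_erase.1 hv).1
    exact ⟨⟨h, h6⟩, h7⟩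
  have h6 := (Nat.mul_le_mul_right _ h4).trans h5
  rw [sum_const, card_product, smul_eq_mul, card_univ, mul_comm (#D * #D)] at h6
  have h7 := Nat.le_of_mul_le_mul_left h6 Fintype.card_pos
  rwa [card_erase_of_mem (mem_supp.2 hx)] at h7
end

/-- a `p`-element fixes the points of an invariant set of size less than `p` -/
theorem fix_small {H Ω : Type*} [Group H] [MulAction H Ω] [Finite Ω] {p k : ℕ} (hp : p.Prime) {x : H}
    (hx : x ^ p ^ k = 1) {F : Set Ω} (hF : ∀ g ∈ Subgroup.zpowers x, ∀ z ∈ F, g • z ∈ F) (hc : F.ncard < p)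
    {z : Ω} (hz : z ∈ F) : x • z = z := by
  have := Fact.mk hp
  have hP : IsPGroup p (Subgroup.zpowers x) := by
    rintro ⟨_, n, rfl⟩
    refine ⟨k, Subtype.ext ?_⟩
    change (x ^ n) ^ p ^ k = 1
    rw [← zpow_natCast, ← zpow_mul, mul_comm, zpow_mul, zpow_natCast, hx, one_zpow]
  obtain ⟨j, hj⟩ := hP.card_orbit z
  have hs : orbit (Subgroup.zpowers x) z ⊆ F := by
    rintro _ ⟨g, rfl⟩
    exact hF g g.2 z hz
  have hl := Set.ncard_le_ncard hs
  rw [Nat.card_coe_set_eq] at hj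
  have j0 : j = 0 := by
    by_contra h
    have := Nat.le_self_pow h p
    omega
  rw [j0, pow_zero, Set.ncard_eq_one] at hj
  obtain ⟨a, ha⟩ := hj
  have h1 : z ∈ orbit (Subgroup.zpowers x) z := mem_orbit_self z
  have h2 : x • z ∈ orbit (Subgroup.zpowers x) z := ⟨⟨x, Subgroup.mem_zpowers x⟩, rfl⟩
  rw [ha] at h1 h2
  exact h2.trans h1.symm

/-- a `p`-element with prescribed support -/
theorem ex_el {H Λ : Type*} [Group H] [Finite H] [MulAction H Λ] [Fintype Λ] [DecidableEq Λ] {p : ℕ} (hp : p.Prime)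
    (h3 : 3 ≤ p) (hA : alternatingGroup Λ ≤ (toPermHom H Λ).range) (S : Finset Λ) (hS : #S = p) :
    ∃ (x : H) (k : ℕ), x ^ p ^ k = 1 ∧ ∀ l, x • l ≠ l ↔ l ∈ S := by
  obtain ⟨c, hc, hs⟩ := S.exists_cycleOn
  have out : ∀ n l, l ∉ S → (c ^ n) l = l := fun n l hl =>
    Equiv.Perm.pow_apply_eq_self_of_apply_eq_self (Equiv.Perm.notMem_support.1 fun h => hl (hs h)) n
  have cp : c ^ p = 1 := Equiv.ext fun l => by
    by_cases hl : l ∈ S
    · exact hS ▸ hc.pow_card_apply hl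
    · exact out _ l hl
  have ev : c ∈ alternatingGroup Λ := by
    have h1 : (Equiv.Perm.sign c) ^ p = 1 := by rw [← map_pow, cp, map_one]
    have hodd : Odd p := hp.odd_of_ne_two (by omega)
    show Equiv.Perm.sign c = 1
    rcases Int.units_eq_one_or (Equiv.Perm.sign c) with h | h
    · exact h
    · rw [h, hodd.neg_one_pow] at h1
      exact absurd h1 (by decide)
  obtain ⟨y, hy⟩ := hA ev
  obtain ⟨k, m, hm, e⟩ := Nat.exists_eq_pow_mul_and_not_dvd (orderOf_pos y).ne' p hp.ne_one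
  refine ⟨y ^ m, k, by rw [← pow_mul, mul_comm, ← e, pow_orderOf_eq_one], fun l => ?_⟩
  have a : y ^ m • l = (c ^ m) l := by rw [← hy, ← map_pow]; rfl
  rw [a]
  by_cases hl : l ∈ S
  · simp only [hl, iff_true, Ne, hc.pow_apply_eq hl, hS]
    exact hm
  · simp [hl, out m l hl]

theorem al : AL.{u} := by
  intro K Ω Λ _ _ _ _ α _ _ _ s b t2 n3 B hA
  classical
  have hb := B.hb
  obtain ⟨p, hp, h1, h2⟩ := Nat.exists_prime_lt_and_le_two_mul b (by omega)
  by_cases hs : s < 2 * p - 1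
  · omega
  have hc : Fintype.card Λ = s := by rw [← B.cs, Nat.card_eq_fintype_card]
  obtain ⟨T, -, hT⟩ := exists_subset_card_eq (s := (univ : Finset Λ)) (n := 2 * p - 1) (by rw [card_univ]; omega)
  obtain ⟨S1, s1, c1⟩ := exists_subset_card_eq (s := T) (n := p) (by omega)
  obtain ⟨σ, hσ⟩ : S1.Nonempty := card_pos.1 (by omega)
  have c2 : #(insert σ (T \ S1)) = p := by
    rw [card_insert_of_notMem (by simp [hσ]), card_sdiff_of_subset s1]; omega
  obtain ⟨x1, k1, e1, m1⟩ := ex_el hp (by omega) hA S1 c1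
  obtain ⟨x2, k2, e2, m2⟩ := ex_el hp (by omega) hA _ c2
  have key : ∀ (x : stabilizer K α) (k : ℕ), x ^ p ^ k = 1 → ∀ z : Ω, (x : K) • z ≠ z →
      z ≠ α ∧ x • B.π z ≠ B.π z := fun x k e z hz => by
    have za : z ≠ α := fun h => hz (h ▸ x.2)
    refine ⟨za, fun h => hz (fix_small (H := stabilizer K α) hp e (F := {y | y ≠ α ∧ B.π y = B.π z})
      (fun g hg y hy => ⟨fun q => hy.1 (MulAction.injective (g : K) (q.trans g.2.symm)), ?_⟩)
      (by rw [B.fib]; exact h1) ⟨za, rfl⟩)⟩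
    have := B.eqv g y hy.1
    rw [hy.2, (Subgroup.zpowers_le (H := stabilizer _ (B.π z))).2 h hg] at this
    exact this
  have inter : ∀ l, x1 • l ≠ l → x2 • l ≠ l → l = σ := fun l a1 a2 => by
    have := (m2 l).1 a2
    rw [mem_insert, mem_sdiff] at this
    exact this.resolve_right fun q => q.2 ((m1 l).1 a1)
  let Δ : Set Ω := {y | y ≠ α ∧ B.π y = σ}
  have hΔ : Δ.ncard = b := B.fib σ
  have hd : ∀ z, (x1 : K) • z ≠ z → (x2 : K) • z ≠ z → z ∈ Δ := fun z a1 a2 =>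
    ⟨(key _ _ e1 z a1).1, inter _ (key _ _ e1 z a1).2 (key _ _ e2 z a2).2⟩
  set g : K := x1 * x2 * (x1 : K)⁻¹ * (x2 : K)⁻¹ with hg
  have hsup : #(supp Ω g) ≤ 3 * b := by
    have sub : (supp Ω g : Set Ω) ⊆ Δ ∪ (x1 : K) • Δ ∪ (x2 : K) • Δ := fun z hz => by
      by_contra q
      simp only [Set.mem_union, not_or, Set.mem_smul_set_iff_inv_smul_mem] at q
      exact mem_supp.1 hz (comm_fix _ _ hd q.1.1 q.1.2 q.2)
    have := Set.ncard_le_ncard sub
    have u1 := Set.ncard_union_le (Δ ∪ (x1 : K) • Δ) ((x2 : K) • Δ)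
    have u2 := Set.ncard_union_le Δ ((x1 : K) • Δ)
    rw [Set.ncard_smul_set] at u1 u2
    rw [Set.ncard_coe_finset] at this
    omega
  obtain ⟨l, hl⟩ : ∃ l : Λ, (x1 * x2 * x1⁻¹ * x2⁻¹) • l ≠ l := by
    by_contra! q
    exact (three x1 x2 ((m1 σ).2 hσ) ((m2 σ).2 (mem_insert_self _ _)) inter).isCycle.ne_one (Equiv.ext q)
  obtain ⟨z, za, hz⟩ : {y | y ≠ α ∧ B.π y = l}.Nonempty := (Set.ncard_pos (Set.toFinite _)).1 (by rw [B.fib]; omega)
  have mv : g • z ≠ z := fun q => hl (by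
    have := B.eqv (x1 * x2 * x1⁻¹ * x2⁻¹) z za
    rw [hz] at this
    rw [← this, ← hz]
    exact congrArg B.π q)
  have tt := two_trans' mv (fun u v hu hv => t2 z u z v hu.symm hv.symm) fun f hf => n3 f (by
    rw [← hf.card_support, ← Set.ncard_coe_finset]
    congr 1
    ext y
    simp)
  have cn := B.cn
  rw [Nat.card_eq_fintype_card] at cn
  have q : (#(supp Ω g) - 1) * (#(supp Ω g) - 1) ≤ (3 * b - 1) * (3 * b - 1) :=
    Nat.mul_le_mul (by omega) (by omega)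
  obtain ⟨c, rfl⟩ : ∃ c, b = c + 1 := ⟨b - 1, by omega⟩
  rw [show 3 * (c + 1) - 1 = 3 * c + 2 by omega] at q
  by_contra! r
  have : (9 * c + 4) * (c + 1) ≤ s * (c + 1) := Nat.mul_le_mul_right _ (by omega)
  have w : s * (c + 1) ≤ (3 * c + 2) * (3 * c + 2) := by omega
  nlinarith

end H29.PS
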