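import Cfsg.Agent.H29.PU13
import Cfsg.Agent.H28.CD

/-! Centrally large subgroups and pushing up. -/

set_option autoImplicit false
set_option linter.unusedVariables false
set_option linter.unusedSectionVars false

namespace H29.PU
open Cfsg Subgroup H28 H9 H13.SL2 Matrix MatrixGroups
open scoped commutatorElement

universe u v
variable {X : Type u} [Group X] [Finite X] {Y : Type v} [Group Y] [Finite Y] {f : X →* Y} {p q : ℕ}
  {A B G H R R' S T W : Subgroup X}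

/-- centrally large in `S` -/
structure Lg (S R : Subgroup X) : Prop where
  big : Big S S R
  le : S ⊓ 𝐂 R ≤ R

/-- minimal centrally large in `S` -/
structure Mn (S R : Subgroup X) : Prop where
  lg : Lg S R
  min : ∀ B ≤ R, Lg S B → B = R

/-- minimal centrally large with large socle of the center -/
structure Mx (p : ℕ) (S R : Subgroup X) : Prop where
  mn : Mn S R
  max : ∀ B, Mn S B → Nat.card (𝛀 B) ≤ Nat.card (𝛀 R)

theorem ms_map (hf : Function.Injective f) (S R : Subgroup X) : ms (S.map f) (R.map f) = ms S R := by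
  rw [ms, ← map_centralizer_inf hf, card_map' hf, card_map' hf, ms]

theorem exists_map {B : Subgroup Y} (h : B ≤ S.map f) : ∃ A : Subgroup X, A.map f = B :=
  ⟨_, map_comap_eq_self (h.trans (map_le_range f S))⟩

theorem big_map (hf : Function.Injective f) : Big (S.map f) (S.map f) (R.map f) ↔ Big S S R :=
  ⟨fun h => ⟨(map_le_map_iff_of_injective hf).1 h.le, fun B hB => by
    simpa only [ms_map hf] using h.max _ (map_mono hB)⟩, fun h => ⟨map_mono h.le, fun B hB => by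
    obtain ⟨B, rfl⟩ := exists_map hB
    simpa only [ms_map hf] using h.max B ((map_le_map_iff_of_injective hf).1 hB)⟩⟩

theorem lg_map (hf : Function.Injective f) : Lg (S.map f) (R.map f) ↔ Lg S R :=
  ⟨fun h => ⟨(big_map hf).1 h.big, by simpa only [← map_centralizer_inf hf, map_le_map_iff_of_injective hf] using h.le⟩,
    fun h => ⟨(big_map hf).2 h.big, by simpa only [← map_centralizer_inf hf, map_le_map_iff_of_injective hf] using h.le⟩⟩

theorem mn_map (hf : Function.Injective f) : Mn (S.map f) (R.map f) ↔ Mn S R :=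
  ⟨fun h => ⟨(lg_map hf).1 h.lg, fun B h1 h2 => Subgroup.map_injective hf (h.min _ (map_mono h1) ((lg_map hf).2 h2))⟩,
    fun h => ⟨(lg_map hf).2 h.lg, fun B h1 h2 => by
      obtain ⟨B, rfl⟩ := exists_map h1
      rw [h.min B ((map_le_map_iff_of_injective hf).1 h1) ((lg_map hf).1 h2)]⟩⟩

theorem mx_map (hf : Function.Injective f) : Mx p (S.map f) (R.map f) ↔ Mx p S R :=
  ⟨fun h => ⟨(mn_map hf).1 h.mn, fun B h1 => by
    simpa only [← map_omegaOneCenter hf, card_map' hf] using h.max _ ((mn_map hf).2 h1)⟩,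
    fun h => ⟨(mn_map hf).2 h.mn, fun B h1 => by
      obtain ⟨B, rfl⟩ := exists_map h1.lg.big.le
      simpa only [← map_omegaOneCenter hf, card_map' hf] using h.max _ ((mn_map hf).1 h1)⟩⟩

theorem lg_top : Lg ⊤ R ↔ CL R :=
  ⟨fun h => ⟨cd_iff_big.2 h.big, (top_inf_eq _).ge.trans h.le⟩, fun h => ⟨cd_iff_big.1 h.cd, inf_le_right.trans h.le⟩⟩

theorem mn_top : Mn ⊤ R ↔ MCL R :=
  ⟨fun h => ⟨lg_top.1 h.lg, fun B a b => h.min B a (lg_top.2 b)⟩,
    fun h => ⟨lg_top.2 h.cl, fun B a b => h.min B a (lg_top.1 b)⟩⟩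

theorem map_top_subtype (S : Subgroup X) : (⊤ : Subgroup S).map S.subtype = S := by
  rw [← MonoidHom.range_eq_map, range_subtype]

theorem lg_iff {R : Subgroup S} : Lg S (R.map S.subtype) ↔ CL R := by
  rw [← lg_top, ← lg_map S.subtype_injective, map_top_subtype]

theorem mn_iff {R : Subgroup S} : Mn S (R.map S.subtype) ↔ MCL R := by
  rw [← mn_top, ← mn_map S.subtype_injective, map_top_subtype]

theorem exists_sub (h : R ≤ S) : ∃ A : Subgroup S, A.map S.subtype = R := exists_map (h.trans (map_top_subtype S).ge)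

theorem Mn.comm_eq (h : Mn S R) (h' : Mn S R') : ⁅R, R⁆ = ⁅R', R'⁆ := by
  obtain ⟨R, rfl⟩ := exists_sub h.lg.big.le
  obtain ⟨R', rfl⟩ := exists_sub h'.lg.big.le
  rw [← map_commutator, (mn_iff.1 h).commutator_eq (mn_iff.1 h'), map_commutator]

theorem Mn.of_card (h : Mn S R) (h' : Lg S R') (hc : Nat.card R' ≤ Nat.card R) : Mn S R' := by
  obtain ⟨R, rfl⟩ := exists_sub h.lg.big.le
  obtain ⟨R', rfl⟩ := exists_sub h'.big.le
  exact mn_iff.2 ((mn_iff.1 h).of_card (lg_iff.1 h') (by simpa only [card_map' S.subtype_injective] using hc))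

theorem exists_mn (S : Subgroup X) : ∃ R, Mn S R := let ⟨_, h⟩ := exists_mcl S; ⟨_, mn_iff.2 h⟩

theorem exists_mx (p : ℕ) (S : Subgroup X) : ∃ R, Mx p S R :=
  let ⟨R, h1, h2⟩ := Set.exists_max_image {R | Mn S R} (fun R => Nat.card (𝛀 R)) (Set.toFinite _) (exists_mn S)
  ⟨R, h1, h2⟩

theorem big_cc (h : Big S S R) : S ⊓ 𝐂 (S ⊓ 𝐂 R) ≤ R :=
  (eq_of_le_of_card_le (le_inf h.le (le_centralizer_comm.1 inf_le_right)) (Nat.le_of_mul_le_mul_left
    ((h.max _ inf_le_left).trans (mul_comm _ _).le) Nat.card_pos)).ge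

theorem big_cen (h : Big S S R) : Big S S (S ⊓ 𝐂 R) := h.of_le inf_le_left ((mul_comm _ _).le.trans
  (Nat.mul_le_mul_left _ (card_le_of_le' (le_inf h.le (le_centralizer_comm.1 inf_le_right)))))

theorem ms_le (h : T ≤ S) : ms T B ≤ ms S B := Nat.mul_le_mul_left _ (card_le_of_le' (inf_le_inf_right _ h))

theorem ms_eq (h : T ≤ S) (h' : S ⊓ 𝐂 B ≤ T) : ms T B = ms S B := by
  rw [ms, ms, le_antisymm (inf_le_inf_right _ h) (le_inf h' inf_le_right)]

theorem Lg.down (h : Lg S B) (h1 : B ≤ T) (h2 : T ≤ S) : Lg T B :=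
  ⟨⟨h1, fun A hA => (ms_le h2).trans ((h.big.max A (hA.trans h2)).trans (ms_eq h2 (h.le.trans h1)).ge)⟩,
    (inf_le_inf_right _ h2).trans h.le⟩

theorem Lg.up (h : Lg T B) (hR : Lg S R) (h1 : R ≤ T) (h2 : T ≤ S) : Lg S B := by
  have c := (ms_eq h2 (hR.le.trans h1)).ge.trans (h.big.max R h1)
  have l := h.big.le.trans h2
  exact ⟨hR.big.of_le l (c.trans (ms_le h2)), (eq_of_le_of_card_le (inf_le_inf_right _ h2)
    (Nat.le_of_mul_le_mul_left ((hR.big.max B l).trans c) Nat.card_pos)).ge.trans h.le⟩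

theorem Mn.down (h : Mn S B) (h1 : B ≤ T) (h2 : T ≤ S) : Mn T B :=
  ⟨h.lg.down h1 h2, fun A a b => h.min A a (b.up h.lg h1 h2)⟩

theorem Mn.up (h : Mn T B) (hR : Lg S R) (h1 : R ≤ T) (h2 : T ≤ S) : Mn S B :=
  ⟨h.lg.up hR h1 h2, fun A a b => h.min A a (b.down (a.trans h.lg.big.le) h2)⟩

theorem Mx.down (h : Mx p S B) (h1 : B ≤ T) (h2 : T ≤ S) : Mx p T B :=
  ⟨h.mn.down h1 h2, fun A a => h.max A (a.up h.mn.lg h1 h2)⟩

theorem Mx.up (h : Mx p T B) (hR : Mx p S R) (h1 : R ≤ T) (h2 : T ≤ S) : Mx p S B :=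
  ⟨h.mn.up hR.mn.lg h1 h2, fun A a => (hR.max A a).trans (h.max R (hR.mn.down h1 h2))⟩

/-- the join of the minimal centrally large subgroups -/
def smcl (S : Subgroup X) : Subgroup X := ⨆ R : {R // Mn S R}, R.1

/-- the subgroup `S_Φ` -/
def sphi (p : ℕ) (S : Subgroup X) : Subgroup X := ⨆ R : {R // Mx p S R}, ph p R.1

theorem le_smcl (h : Mn S R) : R ≤ smcl S := le_iSup (fun R : {R // Mn S R} => R.1) ⟨R, h⟩

theorem le_sphi (h : Mx p S R) : ph p R ≤ sphi p S := le_iSup (fun R : {R // Mx p S R} => ph p R.1) ⟨R, h⟩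

theorem map_smcl (hf : Function.Injective f) (S : Subgroup X) : (smcl S).map f = smcl (S.map f) := by
  refine le_antisymm (map_le_iff_le_comap.2 (iSup_le fun R => map_le_iff_le_comap.1 (le_smcl ((mn_map hf).2 R.2))))
    (iSup_le fun ⟨R, h⟩ => ?_)
  obtain ⟨R, rfl⟩ := exists_map h.lg.big.le
  exact map_mono (le_smcl ((mn_map hf).1 h))

theorem map_sphi (hf : Function.Injective f) (S : Subgroup X) : (sphi p S).map f = sphi p (S.map f) := by
  refine le_antisymm (map_le_iff_le_comap.2 (iSup_le fun R => map_le_iff_le_comap.1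
    ((map_ph f _).le.trans (le_sphi ((mx_map hf).2 R.2))))) (iSup_le fun ⟨R, h⟩ => ?_)
  obtain ⟨R, rfl⟩ := exists_map h.mn.lg.big.le
  exact (map_ph f R).ge.trans (map_mono (le_sphi ((mx_map hf).1 h)))

theorem nrm_smcl (h : G ≤ 𝐍 S) : G ≤ 𝐍 (smcl S) := le_normalizer_of_cj_eq fun g hg => by
  rw [map_smcl (conj_injective' g), cj_eq_self (h hg)]

theorem nrm_sphi (h : G ≤ 𝐍 S) : G ≤ 𝐍 (sphi p S) := le_normalizer_of_cj_eq fun g hg => by
  rw [map_sphi (conj_injective' g), cj_eq_self (h hg)]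

theorem smcl_top : smcl ⊤ = minimalCentrallyLargeJoin X := le_antisymm
  (iSup_le fun R => le_sSup (isMinimalCentrallyLarge_iff.2 (mn_top.1 R.2)))
  (sSup_le fun R h => le_smcl (mn_top.2 (isMinimalCentrallyLarge_iff.1 h)))

variable [hp : Fact p.Prime]

theorem sphi_top (h : IsPGroup p X) : sphi p ⊤ = frattiniOfMinimalCLJoin p X := by
  have key : ∀ R : Subgroup X, Mx p ⊤ R ↔ IsMinimalCentrallyLarge R ∧
      Nat.card (𝛀 R) = maxOmegaCenterOfMinimalCL p X := fun R => by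
    have hb : BddAbove {k : ℕ | ∃ Q : Subgroup X, IsMinimalCentrallyLarge Q ∧ Nat.card (𝛀 Q) = k} :=
      ((Set.finite_range fun Q : Subgroup X => Nat.card (𝛀 Q)).subset
        (by rintro _ ⟨Q, -, e⟩; exact ⟨Q, e⟩)).bddAbove
    refine ⟨fun k => ?_, fun k => ⟨mn_top.2 (isMinimalCentrallyLarge_iff.1 k.1), fun B hB => le_trans
        (le_csSup hb ⟨B, isMinimalCentrallyLarge_iff.2 (mn_top.1 hB), rfl⟩) k.2.ge⟩⟩
    have := isMinimalCentrallyLarge_iff.2 (mn_top.1 k.mn)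
    refine ⟨this, le_antisymm (le_csSup hb ⟨R, this, rfl⟩) (csSup_le ⟨_, R, this, rfl⟩ ?_)⟩
    rintro _ ⟨B, hB, rfl⟩; exact k.max B (mn_top.2 (isMinimalCentrallyLarge_iff.1 hB))
  exact le_antisymm (iSup_le fun R => (map_frattini (h.to_subgroup _)).ge.trans
    (le_iSup_of_le ⟨R.1, (key _).1 R.2⟩ le_rfl)) (iSup_le fun R => (map_frattini (h.to_subgroup _)).le.trans
      (le_sphi ((key _).2 R.2)))

theorem ph_sup_cen (hB : IsElementaryAbelian p B) (h : B ≤ 𝐂 A) : ph p (B ⊔ A) ≤ ph p A := ph_le_iff.2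
  ⟨(comm_cp le_rfl le_rfl (le_centralizer_comm.1 h) (le_centralizer_comm.1 h)).trans
    (sup_le ((comm_Ω (ea_le_centralizer hB)).le.trans bot_le) le_sup_left), fun x hx => by
    obtain ⟨y, hy, z, hz, rfl⟩ := (mem_sup_of_le_normalizer (le_normalizer_of_le_centralizer h)).1 hx
    rw [Commute.mul_pow (mem_centralizer'.1 (h hy) z hz).symm, (isElementaryAbelian_iff.1 hB).2 y hy, one_mul]
    exact (ph_le_iff.1 le_rfl).2 z hz⟩

section
variable (hS : IsSylowIn p S G) (h1 : Nat.card S = q * Nat.card (𝐐 G))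
include hS h1

theorem card_le_q (h : B ≤ S) : Nat.card B ≤ Nat.card ↥(B ⊓ 𝐐 G) * q := Nat.le_of_mul_le_mul_right (by
  rw [← H1.card_sup_mul_card_inf (h.trans (hS.le.trans (le_normalizer_pCoreOf p G))), mul_assoc, ← h1, mul_comm]
  exact Nat.mul_le_mul_left _ (card_le_of_le' (sup_le h hS.pCoreOf_le))) (Nat.card_pos (α := 𝐐 G))

theorem sup_eq_of_card (h : B ≤ S) (hc : Nat.card ↥(B ⊓ 𝐐 G) * q ≤ Nat.card B) : B ⊔ 𝐐 G = S :=
  eq_of_le_of_card_le (sup_le h hS.pCoreOf_le) (Nat.le_of_mul_le_mul_right (by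
    rw [H1.card_sup_mul_card_inf (h.trans (hS.le.trans (le_normalizer_pCoreOf p G))), h1, mul_right_comm, mul_comm q]
    exact Nat.mul_le_mul_right _ hc) (Nat.card_pos (α := ↥(B ⊓ 𝐐 G))))

end

namespace Vx
variable (h : Vx p G) (hS : IsSylowIn p S G)
include h hS

theorem card_sup (h2 : Nat.card (𝐙 G) = q * Nat.card (𝛀 S)) (h3 : B ≤ 𝐐 G) (h4 : A ≤ S) (h5 : ¬ A ≤ 𝐐 G)
    (h6 : B ⊓ 𝐙 G ≤ 𝐂 A) : Nat.card B * q ≤ Nat.card ↥(B ⊔ 𝐙 G) := Nat.le_of_mul_le_mul_right (by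
  rw [mul_assoc, ← h2, ← H1.card_sup_mul_card_inf (le_normalizer_of_le_centralizer (h3.trans h.Q_le_C))]
  exact Nat.mul_le_mul_left _ (card_le_of_le' ((le_inf inf_le_right h6).trans (h.inf_le_Ω hS h4 h5))))
  (Nat.card_pos (α := 𝛀 S))

theorem mn_cen (hR : Mn S R) (hQ : ¬ R ≤ 𝐐 G) : ¬ S ⊓ 𝐂 R ≤ 𝐐 G := fun e => by
  obtain ⟨q, a1, a2, -⟩ := h.card hS
  have l := hR.lg.big.le
  have c1 := card_le_q hS a1 l
  have c2 := h.card_sup hS a2 e l hQ (inf_le_left.trans inf_le_right)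
  have l1 : S ⊓ 𝐂 R ⊔ 𝐙 G ≤ S ⊓ 𝐂 (R ⊓ 𝐐 G) := sup_le (inf_le_inf_left _ (centralizer_anti inf_le_left))
    (le_inf (h.Z_le_S hS) (h.Z_le_C.trans (centralizer_anti inf_le_right)))
  have c3 : ms S R ≤ Nat.card ↥(R ⊓ 𝐐 G) * Nat.card ↥(S ⊓ 𝐂 R ⊔ 𝐙 G) :=
    (Nat.mul_le_mul_right _ c1).trans (by rw [mul_assoc, mul_comm q]; exact Nat.mul_le_mul_left _ c2)
  refine hQ ((hR.min _ inf_le_left ⟨hR.lg.big.of_le (inf_le_left.trans l) (c3.trans (Nat.mul_le_mul_left _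
    (card_le_of_le' l1))), (eq_of_le_of_card_le l1 (Nat.le_of_mul_le_mul_left ((hR.lg.big.max _
      (inf_le_left.trans l)).trans c3) Nat.card_pos)).ge.trans (sup_le (le_inf hR.lg.le e) (le_inf (le_trans
        (le_inf (h.Z_le_S hS) (h.Z_le_C.trans (centralizer_anti e))) (big_cc hR.lg.big)) h.Z_le_Q))⟩).ge.trans
    inf_le_right)

theorem mn_down (hR : Mn S R) (hQ : ¬ R ≤ 𝐐 G) : Mn S (R ⊓ 𝐐 G ⊔ 𝐙 G) := by
  obtain ⟨q, a1, a2, -⟩ := h.card hS
  have e := h.mn_cen hS hR hQ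
  have l := hR.lg.big.le
  have c1 := (card_le_q hS a1 l).trans (h.card_sup hS a2 inf_le_right inf_le_left e
    ((inf_le_left.trans inf_le_left).trans (le_centralizer_comm.1 inf_le_right)))
  have c2 := (card_le_q hS a1 (inf_le_left : S ⊓ 𝐂 R ≤ S)).trans (h.card_sup hS a2 inf_le_right l hQ
    ((inf_le_left.trans inf_le_left).trans inf_le_right))
  have l0 := sup_le (inf_le_left.trans l) (h.Z_le_S hS) (a := R ⊓ 𝐐 G)
  have l1 : S ⊓ 𝐂 R ⊓ 𝐐 G ⊔ 𝐙 G ≤ S ⊓ 𝐂 (R ⊓ 𝐐 G ⊔ 𝐙 G) := by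
    rw [centralizer_sup]
    exact sup_le (le_inf (inf_le_left.trans inf_le_left) (le_inf ((inf_le_left.trans inf_le_right).trans
      (centralizer_anti inf_le_left)) (inf_le_right.trans h.Q_le_C))) (le_inf (h.Z_le_S hS)
        (le_inf (h.Z_le_C.trans (centralizer_anti inf_le_right)) h.Z_comm))
  have c3 := c2.trans (card_le_of_le' l1)
  obtain ⟨e1, e2⟩ := nat_eq_of_mul_le c1 c3 (hR.lg.big.max _ l0) Nat.card_pos Nat.card_pos
  exact hR.of_card ⟨hR.lg.big.of_le l0 (Nat.mul_le_mul c1 c3), (eq_of_le_of_card_le l1 (e2.ge.trans c2)).ge.trans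
    (sup_le_sup_right (inf_le_inf_right _ hR.lg.le) _)⟩ e1.ge

theorem mn_comm (hR : Mn S R) (hQ : ¬ R ≤ 𝐐 G) : ⁅R, R⁆ ≤ 𝐂 (𝐄 G) := by
  have h1 := h.mn_down hS hR hQ
  have h2 := h1.down (sup_le inf_le_right h.Z_le_Q) hS.pCoreOf_le
  obtain ⟨y, hy, hy'⟩ := SetLike.not_le_iff_exists.1 (h.mn_cen hS hR hQ)
  refine le_centralizer_comm.1 (h.res_le hS (le_normalizer_centralizer (le_normalizer_of_cj_eq fun g hg => ?_))
    hy.1 hy' (centralizer_anti (commutator_le_of_le_normalizer le_normalizer) hy.2))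
  rw [hR.comm_eq h1, cj_commutator]
  refine Mn.comm_eq ?_ h2
  simpa only [cj_eq_self (le_normalizer_pCoreOf p G hg)] using (mn_map (conj_injective' g)).2 h2

theorem mn_cases (hR : Mn S R) : ⁅R, R⁆ ≤ 𝐂 (𝐄 G) ∨ G ≤ 𝐍 (smcl S) := by
  by_cases hc : ∀ B, Mn S B → B ≤ 𝐐 G
  · rw [show smcl S = smcl (𝐐 G) from le_antisymm (iSup_le fun B => le_smcl (B.2.down (hc _ B.2) hS.pCoreOf_le))
      (iSup_le fun B => le_smcl (B.2.up hR.lg (hc _ hR) hS.pCoreOf_le))]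
    exact Or.inr (nrm_smcl (le_normalizer_pCoreOf p G))
  · obtain ⟨B, hB⟩ := not_forall.1 hc
    obtain ⟨h1, h2⟩ := Classical.not_imp.1 hB
    exact Or.inl (hR.comm_eq h1 ▸ h.mn_comm hS h1 h2)

theorem mx_down (hR : Mx p S R) : ∃ B ≤ 𝐐 G, Mx p S B ∧ ph p R ≤ ph p B := by
  by_cases hQ : R ≤ 𝐐 G
  · exact ⟨R, hQ, hR, le_rfl⟩
  obtain ⟨q, a1, a2, -⟩ := h.card hS
  have h1 := h.mn_down hS hR.mn hQ
  have l := hR.mn.lg.big.le
  have l0 := omegaOneCenter_le p R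
  have l2 := omegaOneCenter_le_centralizer p R
  have c1 := card_le_q hS a1 (l0.trans l)
  have c2 := h.card_sup hS a2 (B := 𝛀 R ⊓ 𝐐 G) inf_le_right l hQ ((inf_le_left.trans inf_le_left).trans l2)
  have c3 := card_le_of_le' (le_omegaOneCenter (sup_le_sup_right (inf_le_inf_right _ l0) _) (by
    rw [centralizer_sup]
    exact sup_le (le_inf (inf_le_left.trans (l2.trans (centralizer_anti inf_le_left))) (inf_le_right.trans h.Q_le_C))
      (le_inf (h.Z_le_C.trans (centralizer_anti inf_le_right)) h.Z_comm)) (isElementaryAbelian_iff.1 (ea_sup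
      (ea_of_le (ea_omegaOneCenter p R) inf_le_left) h.ea (inf_le_right.trans h.Q_le_C))).2 :
    𝛀 R ⊓ 𝐐 G ⊔ 𝐙 G ≤ 𝛀 (R ⊓ 𝐐 G ⊔ 𝐙 G))
  have e := sup_eq_of_card hS a1 (l0.trans l) (c2.trans (c3.trans (hR.max _ h1)))
  refine ⟨_, sup_le inf_le_right h.Z_le_Q, ⟨h1, fun B hB => (hR.max B hB).trans (c1.trans (c2.trans c3))⟩,
    le_trans (ph_mono ?_) ((ph_sup_cen (ea_omegaOneCenter p R) (l2.trans (centralizer_anti inf_le_left))).trans
      (ph_mono le_sup_left))⟩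
  rw [inf_comm, ← sup_inf_of_le_normalizer (Or.inl ((l0.trans l).trans (hS.le.trans (le_normalizer_pCoreOf p G)))) l0, e]
  exact le_inf l le_rfl

theorem nrm_sphi' : G ≤ 𝐍 (sphi p S) := by
  obtain ⟨R, hR⟩ := exists_mx p S
  obtain ⟨R, h1, hR, -⟩ := h.mx_down hS hR
  rw [show sphi p S = sphi p (𝐐 G) from le_antisymm (iSup_le fun B => let ⟨_, a, b, c⟩ := h.mx_down hS B.2
    c.trans (le_sphi (b.down a hS.pCoreOf_le))) (iSup_le fun B => le_sphi (B.2.up hR h1 hS.pCoreOf_le))]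
  exact nrm_sphi (le_normalizer_pCoreOf p G)

end Vx

theorem Rk1.cases' (h : Rk1 p G) (hS : IsSylowIn p S G) (hJ : S ≤ 𝐂 (zj 0 S)) : S ⊓ 𝐂 S ≤ 𝐂 G ∨ Vx p G :=
  (h.cases hS).imp_right fun k => (k.resolve_left fun k => h.not_le_normalizer hS
    (by rwa [bm, inf_of_le_left hJ] at k)).1

theorem rk1_of_sit (h : IsPushingUpSituation p S) : Rk1 p (⊤ : Subgroup X) ∧ IsSylowIn p S ⊤ := by
  obtain ⟨-, ⟨S, rfl⟩, h1, h2, K, _, F, _, _, n, hF, e⟩ := h
  exact ⟨rk1_of_E0 S h1 h2 K hF e, isSylowIn_top S⟩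

end H29.PU
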