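import Cfsg.Agent.H29.PU4
import Cfsg.Agent.H29.CMod

/-! Extending critical paths. -/

set_option autoImplicit false
set_option linter.unusedVariables false
set_option linter.unusedSectionVars false

namespace H29.PU
open Cfsg Subgroup H28 H9 H13.SL2
open scoped commutatorElement

universe u
variable {X : Type u} [Group X] {p : ℕ} {A B C D G H K S S' T : Subgroup X} {𝓥 : Set (Subgroup X)}
  {b d m n : ℕ}

/-- `K` has index at most two in `H` -/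
def Two (H K : Subgroup X) : Prop := ∀ a ∈ H, ∀ b ∈ H, a ∉ K → b ∉ K → a * b ∈ K

theorem Two.mono (h : Two H K) (h1 : A ≤ H) : Two A (A ⊓ K) := fun a ha b hb k k' =>
  ⟨mul_mem ha hb, h a (h1 ha) b (h1 hb) (fun e => k ⟨ha, e⟩) fun e => k' ⟨hb, e⟩⟩

theorem Two.conj (h : Two H K) (g : X) : Two (cj g H) (cj g K) := by
  rintro _ ⟨a, ha, rfl⟩ _ ⟨b, hb, rfl⟩ k k'
  rw [← map_mul]
  exact ⟨_, h a ha b hb (fun e => k ⟨a, e, rfl⟩) fun e => k' ⟨b, e, rfl⟩, rfl⟩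

theorem Two.card_le [Finite X] (h : Two H K) (hK : K ≤ H) : # H ≤ 2 * # K := by
  by_cases e : H ≤ K
  · exact (card_le_of_le' e).trans (by omega)
  obtain ⟨a, ha, ha'⟩ := SetLike.not_le_iff_exists.1 e
  have : (K.subgroupOf H).index = 2 := index_eq_two_iff.2 ⟨⟨a, ha⟩, fun b => by
    by_cases k : b.1 ∈ K
    · exact Or.inr ⟨k, fun e => ha' ((mul_mem_cancel_left k).1 e)⟩
    · exact Or.inl ⟨h b b.2 a ha k ha', k⟩⟩
  rw [← (K.subgroupOf H).card_mul_index, this, card_subgroupOf hK, mul_comm]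

theorem two_mul_card_le [Finite X] (h : K < H) : 2 * # K ≤ # H := by
  obtain ⟨k, hk⟩ := card_dvd_of_le h.le
  have := card_lt_of_lt h
  have h0 : 0 < # K := Nat.card_pos
  rcases k with _ | _ | k <;> nlinarith

theorem mem_sup_zpowers {u w : X} (hu : u ∈ 𝐍 K) (h2 : u * u ∈ K) (hw : w ∈ K ⊔ zpowers u) :
    w ∈ K ∨ w * u⁻¹ ∈ K := by
  obtain ⟨a, ha, _, ⟨n, rfl⟩, rfl⟩ := (mem_sup_of_le_normalizer' (zpowers_le.2 hu)).1 hw
  have h3 := zpow_mem h2 (n / 2)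
  rw [← zpow_two, ← zpow_mul] at h3
  rcases Int.emod_two_eq_zero_or_one n with e | e
  · exact Or.inl (mul_mem ha (by rwa [show 2 * (n / 2) = n by omega] at h3))
  · refine Or.inr (mul_assoc a _ _ ▸ mul_mem ha ?_)
    rwa [show 2 * (n / 2) = n - 1 by omega, zpow_sub_one] at h3

theorem exists_not_mem_two (h1 : ¬ H ≤ A) (h2 : ¬ H ≤ B) : ∃ r ∈ H, r ∉ A ∧ r ∉ B := by
  obtain ⟨a, ha, a1⟩ := SetLike.not_le_iff_exists.1 h1
  obtain ⟨c, hc, c1⟩ := SetLike.not_le_iff_exists.1 h2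
  by_cases k : a ∈ B
  · by_cases k' : c ∈ A
    · exact ⟨_, mul_mem ha hc, fun e => a1 ((mul_mem_cancel_right k').1 e),
        fun e => c1 ((mul_mem_cancel_left k).1 e)⟩
    · exact ⟨c, hc, k', c1⟩
  · exact ⟨a, ha, a1, k⟩

theorem conj_eq_of_cen {g x : X} (hg : g ∈ H) (hx : x ∈ 𝐂 H) : g * x * g⁻¹ = x := by
  rw [mem_centralizer'.1 hx g hg, mul_inv_cancel_right]

variable [Finite X] [hp : Fact p.Prime]

theorem Vx.two (h : Vx p G) (hS : IsSylowIn p S G) (h2 : Two S (𝐐 G)) :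
    Two (𝛀 S) (𝐂 G) ∧ Two (𝐙 G) (𝛀 S) ∧ ∀ z ∈ 𝐙 G, z * z = 1 := by
  obtain ⟨S', -, -, F, _, _, -, ⟨D⟩⟩ := h.ns' hS
  have hF : ∀ s t : F, s ≠ 0 → t ≠ 0 → s + t = 0 := fun s t hs ht => by
    obtain ⟨a, ha, e⟩ := D.up' s
    obtain ⟨c, hc, e'⟩ := D.up' t
    have := (D.inj _ (mul_mem ha hc)).2 (h2 a ha c hc (fun k => hs (x_eq_one.1 (e ▸ (D.inj a ha).2 k)))
      fun k => ht (x_eq_one.1 (e' ▸ (D.inj c hc).2 k)))
    rwa [D.π_mul _ (hS.le ha) _ (hS.le hc), e, e', ← x_add, x_eq_one] at this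
  refine ⟨fun a ha c hc k k' => ?_, fun a ha c hc k k' => ?_, fun z hz => ?_⟩
  · have ha' := hS.omegaOneCenter_le_Z ha
    have hc' := hS.omegaOneCenter_le_Z hc
    rw [h.mem_Ω_iff hS D ha'] at ha
    rw [h.mem_Ω_iff hS D hc'] at hc
    rw [Vx.mem_C_iff D ha'] at k
    rw [Vx.mem_C_iff D hc'] at k'
    rw [Vx.mem_C_iff D (mul_mem ha' hc'), D.mul _ ha' _ hc']
    ext i; fin_cases i
    · exact hF _ _ (fun e => k (by ext i; fin_cases i; exacts [e, ha]))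
        fun e => k' (by ext i; fin_cases i; exacts [e, hc])
    · simp [ha, hc]
  · rw [h.mem_Ω_iff hS D ha] at k
    rw [h.mem_Ω_iff hS D hc] at k'
    rw [h.mem_Ω_iff hS D (mul_mem ha hc), D.mul _ ha _ hc]
    exact hF _ _ k k'
  · obtain ⟨s, hs, hQ⟩ := SetLike.not_le_iff_exists.1 (h.ne hS)
    rcases hp.out.eq_two_or_odd' with rfl | ho
    · exact pow_two z ▸ h.Z_pow hz
    · exact (hQ (mem_of_pow_mem_of_pow_mem (Nat.coprime_two_left.2 ho) (pow_two s ▸ h2 s hs s hs hQ hQ)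
        (h.pow hS hs))).elim

theorem Vx.two_of (h : Vx p G) (hS : IsSylowIn p S G) (h2 : Two ⁅𝐙 G, S⁆ (𝐂 G)) : Two S (𝐐 G) :=
  fun s hs s' hs' k k' => by
    obtain ⟨u, hu, hu'⟩ := SetLike.not_le_iff_exists.1 (h.not_Z_le_Ω hS)
    have m : ∀ s ∈ S, ⁅s, u⁆ ∈ ⁅𝐙 G, S⁆ := fun s hs => comm_comm S _ ▸ commutator_mem_commutator hs hu
    refine by_contra fun e => hu' (h.fix hS (mul_mem hs hs') e hu ?_)
    rw [comm_mul_left, conj_eq_of_cen hs (omegaOneCenter_le_centralizer _ _ (h.comm_le_Ω hS (m _ hs')))]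
    exact h2 _ (m _ hs') _ (m _ hs) (fun e => hu' (h.fix hS hs' k' hu e)) fun e => hu' (h.fix hS hs k hu e)

/-- a critical path `C, B, …, A` with `Z_B Z_C` normal in `C` -/
structure Bad (p : ℕ) (𝓥 : Set (Subgroup X)) (b : ℕ) (A B C S : Subgroup X) : Prop where
  near : Near p 𝓥 (b - 1) A B
  mem : C ∈ 𝓥
  sB : IsSylowIn p S B
  sC : IsSylowIn p S C
  cr : ¬ 𝐙 A ≤ 𝐐 C
  nrm : C ≤ 𝐍 (𝐙 B ⊔ 𝐙 C)

theorem Am.ext_or (h : Am p 𝓥 b) : Ext p 𝓥 b ∨ ∃ A B C S, Bad p 𝓥 b A B C S := by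
  refine or_iff_not_imp_right.2 fun hn A B C S a1 a2 a3 a4 a5 => ?_
  obtain ⟨g, hg, ho⟩ := (h.vx C a2).exists_opp a4
  refine ⟨_, h.conj B a1.right g, _, a4.conj_of_mem hg, a3.conj g, ho, fun e => hn ⟨A, B, C, S, a1, a2,
    a3, a4, a5, ?_⟩⟩
  rwa [← cj_Z, ← cj_eq_self (le_normalizer_Z p C hg), ← cj_sup, ← cj_normalizer, le_cj_iff,
    cj_eq_self_of_mem (inv_mem hg)] at e

namespace Bad
variable (h : Am p 𝓥 b) (k : Bad p 𝓥 b A B C S) (hb : 2 ≤ b)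
include h k hb

theorem A_le : 𝐙 A ≤ 𝐐 B := h.sm _ (by omega) _ _ k.near

theorem B_le : 𝐙 B ≤ 𝐐 C := h.sm _ hb _ _ (.one k.near.right k.mem k.sB k.sC)

theorem sup : 𝐙 A ⊔ 𝐐 C = S :=
  let ⟨_, _, c⟩ := h.crit (by omega) k.near k.mem k.sB k.sC k.cr; c.sup'

theorem nrmN : C ≤ 𝐍 (𝐐 C ⊓ 𝐐 B) := by
  have vB := h.vx B k.near.right
  have : 𝐐 C ⊓ 𝐐 B = 𝐐 C ⊓ 𝐂 (𝐙 B ⊔ 𝐙 C) := by
    rw [centralizer_sup]
    exact le_antisymm (le_inf inf_le_left (le_inf (inf_le_right.trans vB.Q_le_C) (inf_le_left.trans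
      (h.vx C k.mem).Q_le_C))) (le_inf inf_le_left (vB.le_Q k.sB (inf_le_left.trans k.sC.pCoreOf_le)
      (inf_le_right.trans inf_le_left)))
  exact this ▸ le_normalizer_inf (le_normalizer_pCoreOf p C) (le_normalizer_centralizer k.nrm)

theorem QB : 𝐐 C ⊓ 𝐐 B ⊔ 𝐙 A = 𝐐 B := by
  rw [sup_comm, ← sup_inf_of_le_normalizer (Or.inl (le_sup_left.trans ((k.sup h hb).le.trans
    (k.sC.le.trans (le_normalizer_pCoreOf p C))))) (k.A_le h hb), k.sup h hb,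
    inf_of_le_right k.sB.pCoreOf_le]

theorem comm_cj {g : X} (hg : g ∈ B) : ⁅𝐙 (cj g C), cj g S⁆ = ⁅𝐙 (cj g C), 𝐐 B⁆ := by
  have : 𝐐 B ⊔ 𝐐 C = S := le_antisymm (sup_le k.sB.pCoreOf_le k.sC.pCoreOf_le)
    ((k.sup h hb).ge.trans (sup_le_sup_right (k.A_le h hb) _))
  have h1 := (k.sB.conj_of_mem hg).pCoreOf_le.trans ((k.sC.conj g).le.trans (le_normalizer_Z p _))
  conv_lhs => rw [← this, cj_sup, cj_eq_self (le_normalizer_pCoreOf p B hg), cj_pCoreOf]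
  exact comm_sup_cen (h.vx _ (h.conj C k.mem g)).Q_le_C h1

theorem comm_cj' {g : X} (hg : g ∈ B) (hc : 𝐙 A ≤ 𝐂 (𝐙 (cj g C))) :
    ⁅𝐙 (cj g C), cj g S⁆ = ⁅𝐙 (cj g C), 𝐐 C ⊓ 𝐐 B⁆ := by
  rw [k.comm_cj h hb hg, ← comm_sup_cen hc (inf_le_right.trans ((k.sB.conj_of_mem hg).pCoreOf_le.trans
    ((k.sC.conj g).le.trans (le_normalizer_Z p _)))), k.QB h hb]

theorem comm_res : ⁅𝐐 C, 𝐄 C⁆ ≤ 𝐙 C ∨ 3 ≤ b := by
  refine or_iff_not_imp_right.2 fun e => ?_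
  obtain rfl : b = 2 := by omega
  obtain ⟨H, T, a, c, d⟩ := k.near.symm.succ
  cases a
  have vC := h.vx C k.mem
  have cr := PU.crit (h.vx A k.near.left) vC d k.sC ((k.A_le h hb).trans k.sB.pCoreOf_le)
    ((h.sm _ hb _ _ (.one k.mem k.near.right k.sC k.sB)).trans c.pCoreOf_le) k.cr
  obtain ⟨x, hx, hQ⟩ := SetLike.not_le_iff_exists.1 k.cr
  have hx' := (k.sup h hb).le (mem_sup_left hx)
  have n0 := le_normalizer_pCoreOf p C
  have n1 := le_normalizer_Z p C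
  have e1 : 𝐄 C ≤ cmod (𝐐 C) (𝐐 C ⊓ 𝐐 B) := vC.res_le k.sC (le_normalizer_cmod n0 (k.nrmN h hb)) hx' hQ
    (le_cmod (H := 𝐙 A) (le_sup_left.trans ((k.sup h hb).le.trans (k.sC.le.trans (k.nrmN h hb))))
    (le_inf (commutator_le_of_le_normalizer (le_sup_left.trans ((k.sup h hb).le.trans
      (k.sC.le.trans n0)))) ((commutator_mono le_rfl (k.A_le h hb)).trans (commutator_le_of_le_normalizer'
      (k.sC.pCoreOf_le.trans (k.sB.le.trans (le_normalizer_pCoreOf p B)))))) hx)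
  have e2 : 𝐄 C ≤ cmod (𝐐 C ⊓ 𝐐 B) (𝐙 C) := vC.res_le k.sC (le_normalizer_cmod (k.nrmN h hb) n1) hx' hQ
    (le_cmod' (H := 𝐙 A) (le_sup_left.trans ((k.sup h hb).le.trans (k.sC.le.trans n1)))
    ((commutator_mono le_rfl (inf_le_right.trans c.pCoreOf_le)).trans ((cr.comm_eq (h.vx A k.near.left) vC
      d k.sC).le.trans (commutator_le_of_le_normalizer (k.sC.le.trans n1)))) hx)
  rw [← commutator_commutator_pResidualOf' (isPGroup_pCoreOf p C) n0]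
  exact (commutator_mono (commutator_le_of_le_cmod e1) le_rfl).trans (commutator_le_of_le_cmod e2)

end Bad

theorem Am.le_syl (h : Am p 𝓥 (b + 1)) (e : Near p 𝓥 (b + 1) A B) : ∃ T, IsSylowIn p T B ∧ 𝐙 A ≤ T :=
  let ⟨_, T, a, c, d⟩ := e.succ; ⟨T, d, (h.sm _ b.lt_succ_self _ _ a).trans c.pCoreOf_le⟩

namespace Bad
variable (h : Am p 𝓥 (d + 3)) (k : Bad p 𝓥 (d + 3) A B C S)
include h k

theorem near_cj {g : X} (hg : g ∈ B) : Near p 𝓥 1 (cj g C) B :=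
  .one (h.conj C k.mem g) k.near.right (k.sC.conj g) (k.sB.conj_of_mem hg)

theorem dich {g f : X} (hg : g ∈ C) (hf : f ∈ B) :
    ⁅𝐙 (cj f C), cj g (𝐙 A)⁆ ≤ 𝐙 C ∨ ⁅𝐙 (cj f C), cj f S⁆ ≤ 𝐂 (cj g (𝐙 A)) := by
  obtain ⟨H1, T, a1, t1, t2⟩ := k.near.symm.succ
  obtain ⟨H2, T1, a2, t3, t4⟩ := a1.succ
  have vC := h.vx C k.mem
  have vA := h.vx A k.near.left
  have v := h.vx _ (h.conj C k.mem f)
  have n0 : Near p 𝓥 1 B C := .one k.near.right k.mem k.sB k.sC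
  have n1 : Near p 𝓥 1 C (cj g B) := .one k.mem (h.conj _ k.near.right g) (k.sC.conj_of_mem hg) (k.sB.conj g)
  have s := k.sC.conj f
  have sB := (k.sB.conj_of_mem hf).pCoreOf_le
  have key : ∀ {H T : Subgroup X} {n}, Near p 𝓥 n H A → n < d + 3 → IsSylowIn p T (cj g H) →
      𝐙 (cj f C) ≤ T → 𝐙 (cj g H) ≤ 𝐐 B → ¬ 𝐙 (cj f C) ≤ 𝐐 (cj g H) →
      ⁅𝐙 (cj f C), cj f S⁆ ≤ 𝐂 (cj g (𝐙 A)) := fun {H T n} a1 a2 a3 a4 a5 a6 => by
    have v' := h.vx _ (h.conj _ a1.left g)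
    rw [(PU.crit v v' s a3 a4 (a5.trans sB) a6).comm_eq v v' s a3, cj_Z]
    exact (commutator_le_of_le_normalizer (a3.le.trans (le_normalizer_Z p _))).trans
      (h.cen (a1.conj h.conj g) a2)
  refine or_iff_not_imp_right.2 fun e => ?_
  obtain ⟨T2, t5, t6⟩ := h.le_syl (b := d + 2) (by
    simpa [add_comm, ← add_assoc] using (((k.near_cj h hf).trans n0).trans n1).trans (a2.conj h.conj g))
  have q2 : 𝐙 (cj f C) ≤ 𝐐 (cj g H2) := by_contra fun e' => e (key (((Near.refl a2.right).step a1.right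
    t3 t4).step k.near.left t1 t2) (by omega) t5 t6 (h.sm _ (by omega) _ _ (((a2.conj h.conj g).symm.trans
    n1.symm).trans n0.symm)) e')
  have q3 : 𝐙 (cj g H1) ≤ 𝐐 C := h.sm _ (by omega) _ _ ((a1.conj h.conj g).symm.trans n1.symm)
  have q1 : 𝐙 (cj f C) ≤ 𝐐 (cj g H1) := by_contra fun e' => e (key (.one a1.right k.near.left t1 t2)
    (by omega) (t4.conj g) (q2.trans (t3.conj g).pCoreOf_le) ((h.vx B k.near.right).le_Q k.sB
    (q3.trans k.sC.pCoreOf_le) (le_trans ?_ (centralizer_anti (le_sup_left.trans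
    (cj_eq_self (k.nrm hg)).ge)))) e')
  · have cr := PU.crit vA vC t2 k.sC ((k.A_le h (by omega)).trans k.sB.pCoreOf_le)
      ((h.sm _ (by omega) _ _ (n0.symm.trans a1)).trans t1.pCoreOf_le) k.cr
    rw [comm_comm]
    refine (commutator_mono le_rfl (q1.trans (t1.conj g).pCoreOf_le)).trans ?_
    rw [← cj_commutator, cr.comm_eq vA vC t2 k.sC]
    exact cj_le_of_mem_normalizer (commutator_le_of_le_normalizer (k.sC.le.trans (le_normalizer_Z p _)))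
      (le_normalizer_Z p C hg)
  · rw [cj_sup, cj_Z, cj_eq_self (le_normalizer_Z p C hg), centralizer_sup]
    exact le_inf (h.cen (a1.conj h.conj g).symm (by omega)) (q3.trans vC.Q_le_C)

theorem not_le {g : X} (hg : g ∈ C) (ho : S ⊔ cj g S = C) (h1 : S ≤ H) (h2 : cj g (𝐙 A) ≤ H) : C ≤ H := by
  obtain ⟨x, hx, hQ⟩ := SetLike.not_le_iff_exists.1 k.cr
  refine (h.vx C k.mem).gen k.sC (k.sC.conj_of_mem hg) ho (conj_mem_cj ((k.sup h (by omega)).le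
    (mem_sup_left hx))) (fun e => hQ ?_) h1 (h2 (conj_mem_cj hx))
  simpa [mul_assoc] using conj_mem_of_mem_normalizer' (le_normalizer_pCoreOf p _ hg) e

theorem not_cen : ¬ ⁅𝐙 C, S⁆ ≤ 𝐂 B := fun e => by
  have vC := h.vx C k.mem
  obtain ⟨g, hg, ho⟩ := vC.exists_opp k.sC
  have r : ∀ f ∈ B, ⁅𝐙 (cj f C), cj f S⁆ = ⁅𝐙 C, S⁆ := fun f hf => by
    rw [← cj_Z, ← cj_commutator, cj_eq_self (le_normalizer_of_le_centralizer (le_centralizer_comm.1 e) hf)]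
  have r0 := (vC.comm_le_Ω k.sC).trans (omegaOneCenter_le_centralizer _ _)
  have n : C ≤ 𝐍 (nclIn (𝐙 C) B) := k.not_le h hg ho (k.sB.le.trans (le_normalizer_nclIn _ _))
    (le_normalizer_of_cj_le fun a ha => cj_le_iff.2 (nclIn_le_iff.2 fun f hf => cj_le_iff.1 ?_))
  · have w : ⁅nclIn (𝐙 C) B, 𝐐 C ⊓ 𝐐 B⁆ ≤ 𝐂 C := le_C_of_normal k.sC ((commutator_mono le_rfl
      inf_le_right).trans ((commutator_nclIn_le (commutator_mono le_rfl k.sB.pCoreOf_le)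
      (le_normalizer_pCoreOf p B) (le_normalizer_of_le_centralizer (le_centralizer_comm.1 e))
      (le_normalizer_commutator_left _ _)).trans r0)) (le_normalizer_commutator n (k.nrmN h (by omega)))
      vC.toRk1
    obtain ⟨H, T, a, c, t⟩ := k.near.succ
    obtain ⟨f, hf, rfl⟩ := k.sB.exists_conj t
    refine vC.not_comm_le k.sC (le_trans ?_ w)
    rw [← r f hf, k.comm_cj' h (by omega) hf (h.cen (a.step (h.conj C k.mem f) c (k.sC.conj f))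
      (by omega)), ← cj_Z]
    exact commutator_mono (cj_le_nclIn _ hf) le_rfl
  · have := (k.dich h hg hf).resolve_right fun e' => vC.not_comm_le k.sC (le_centralizer_comm.1
      (k.not_le h hg ho (le_centralizer_comm.1 r0) (le_centralizer_comm.1 (r f hf ▸ e'))))
    have h2 := le_normalizer_sup_of_comm ((cj_le_of_mem (le_sup_left.trans ((k.sup h (by omega)).le.trans
      k.sC.le)) hg).trans (le_normalizer_Z p C)) this ha
    rw [cj_Z]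
    exact (cj_le_of_mem_normalizer le_sup_left h2).trans (sup_le (cj_Z f C ▸ cj_le_nclIn _ hf) (le_nclIn _ _))

theorem cen_opp {f : X} (hf : f ∈ B) (ho : S ⊔ cj f S = B) : 𝐙 A ≤ 𝐂 (𝐙 (cj f C)) := by
  obtain ⟨H1, T, a1, t1, t2⟩ := k.near.symm.succ
  have vA := h.vx A k.near.left
  have vC := h.vx C k.mem
  have v := h.vx _ (h.conj C k.mem f)
  have l : ∀ {f}, f ∈ B → 𝐙 (cj f C) ≤ T := fun hf =>
    (h.sm _ (by omega) _ _ ((k.near_cj h hf).trans a1)).trans t1.pCoreOf_le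
  refine vA.Z_le_C.trans (centralizer_anti (by_contra fun e => k.not_cen h (le_trans (le_inf
    (vC.comm_le_Ω k.sC) ?_) (Ω_inf_le ho))))
  have c1 := PU.crit v vA (k.sC.conj f) t2 (l hf) ((k.A_le h (by omega)).trans
    (k.sB.conj_of_mem hf).pCoreOf_le) e
  have c2 := PU.crit vA vC t2 k.sC ((k.A_le h (by omega)).trans k.sB.pCoreOf_le)
    (cj_one C ▸ l (one_mem B)) k.cr
  rw [← c2.comm_eq vA vC t2 k.sC, ← c1.comm_eq v vA (k.sC.conj f) t2]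
  exact v.comm_le_Ω (k.sC.conj f)

theorem le_cmod_opp {g f : X} (hg : g ∈ C) (ho : S ⊔ cj g S = C) (hf : f ∈ B) (ho' : S ⊔ cj f S = B) :
    cj f ⁅𝐙 C, S⁆ ≤ cmod (cj g (𝐙 A)) (𝐂 C) := by
  have vC := h.vx C k.mem
  have v := h.vx _ (h.conj C k.mem f)
  have hA := (cj_le_of_mem (le_sup_left.trans ((k.sup h (by omega)).le.trans k.sC.le)) hg)
  have l1 := (v.comm_le_Ω (k.sC.conj f)).trans (k.sB.conj_of_mem hf).omegaOneCenter_le_Z
  have l2 := (k.B_le h (by omega)).trans (pCoreOf_le p C)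
  rw [cj_commutator, cj_Z]
  refine le_cmod ((l1.trans l2).trans (le_normalizer_centralizer le_normalizer)) ?_
  rcases k.dich h hg hf with e | e
  swap
  · exact (commutator_eq_bot_iff'.2 e).le.trans bot_le
  have n1 : cj g (𝐙 A) ≤ 𝐍 ⁅𝐙 (cj f C), cj f S⁆ := by
    have := le_normalizer_commutator (hA.trans (k.nrmN h (by omega)))
      (le_normalizer_sup_of_comm (hA.trans (le_normalizer_Z p C)) e)
    rwa [comm_sup_cen (vC.Z_le_C.trans (centralizer_anti inf_le_left)) (((h.sm 2 (by omega) _ _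
      ((k.near_cj h hf).step k.mem k.sB k.sC)).trans (pCoreOf_le p C)).trans (k.nrmN h (by omega))),
      comm_comm, ← k.comm_cj' h (by omega) hf (k.cen_opp h hf ho')] at this
  obtain ⟨x, hx, hQ⟩ := SetLike.not_le_iff_exists.1 k.cr
  have w : 𝐙 C ⊓ ⁅𝐙 (cj f C), cj f S⁆ ≤ 𝐂 S := fun z hz => omegaOneCenter_le_centralizer p S
    (vC.fix' k.sC ((k.sup h (by omega)).le (mem_sup_left hx)) hQ hz.1
    (comm_eq_one_of (h.cen k.near (by omega)) hx (l1 hz.2)))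
  refine (le_inf ?_ (commutator_le_of_le_normalizer' n1)).trans (le_C_of_normal k.sC w (k.not_le h hg ho
    (le_normalizer_of_le_centralizer (le_centralizer_comm.1 w)) (le_normalizer_inf (hA.trans
    (le_normalizer_Z p C)) n1)) vC.toRk1)
  have n2 := k.sC.le.trans (le_normalizer_Z p C)
  refine (commutator_mono (hA.trans (vC.nclIn_eq k.sC).ge) (l1.trans le_sup_left)).trans
    (commutator_nclIn_le (commutator_sup_le' (l2.trans (le_normalizer_Z p C)) le_normalizer ?_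
    (commutator_le_of_le_normalizer' n2)) k.nrm (le_normalizer_Z p C) n2)
  rw [comm_comm]
  exact ((h.vx B k.near.right).comm_le_Ω k.sB).trans k.sC.omegaOneCenter_le_Z

theorem two : Two S (𝐐 B) ∧ Two S (𝐐 C) ∧ ⁅𝐙 C, S⁆ ⊓ 𝐂 B ≤ 𝐂 C := by
  have vC := h.vx C k.mem
  have vB := h.vx B k.near.right
  obtain ⟨g, hg, ho⟩ := vC.exists_opp k.sC
  obtain ⟨f, hf, ho'⟩ := vB.exists_opp k.sB
  have t := k.sB.conj_of_mem hf
  have m : ∀ r ∈ ⁅𝐙 C, S⁆, ∀ s ∈ cj f S, s ∉ 𝐐 B → s * r * s⁻¹ ∈ cmod (cj g (𝐙 A)) (𝐂 C) :=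
    fun r hr s hs hQ => k.le_cmod_opp h hg ho (t.le hs) (vB.opp_cj k.sB t ho' hs hQ) (conj_mem_cj hr)
  have m' : ∀ r ∈ ⁅𝐙 C, S⁆, r ∈ cmod (cj g (𝐙 A)) (𝐂 C) → r ∈ 𝐂 C := fun r hr e => by
    obtain ⟨x, hx, hQ⟩ := SetLike.not_le_iff_exists.1 k.cr
    have h1 := vC.comm_le_Ω k.sC hr
    refine Ω_inf_le ho ⟨h1, vC.fix (k.sC.conj_of_mem hg) (conj_mem_cj ((k.sup h (by omega)).le
      (mem_sup_left hx))) (fun e => hQ ?_) (k.sC.omegaOneCenter_le_Z h1) (e.2 _ (conj_mem_cj hx))⟩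
    simpa [mul_assoc] using conj_mem_of_mem_normalizer' (le_normalizer_pCoreOf p _ hg) e
  have h1 : Two (cj f S) (𝐐 B) := fun s hs s' hs' a c => by_contra fun e => by
    obtain ⟨r, hr, hr'⟩ := SetLike.not_le_iff_exists.1 (vC.not_comm_le k.sC)
    have h2 := m r hr _ (mul_mem hs hs') e
    have h3 : ⁅s', r⁆ ∈ 𝐂 (cj f S) := omegaOneCenter_le_centralizer p _ (vB.comm_le_Ω t (comm_comm _ (𝐙 B) ▸
      commutator_mem_commutator hs' (k.sB.omegaOneCenter_le_Z (vC.comm_le_Ω k.sC hr))))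
    rw [show s * s' * r * (s * s')⁻¹ = s * ⁅s', r⁆ * s⁻¹ * (s * r * s⁻¹) by
      simp only [commutatorElement_def]; group, conj_eq_of_cen hs h3,
      mul_mem_cancel_right (m r hr s hs a)] at h2
    have h4 := m r hr s' hs' c
    rw [show s' * r * s'⁻¹ = ⁅s', r⁆ * r by simp only [commutatorElement_def]; group,
      mul_mem_cancel_left h2] at h4
    exact hr' (m' r hr h4)
  have h2 : Two S (𝐐 B) := by
    simpa only [cj_inv_cj, cj_eq_self (le_normalizer_pCoreOf p B (inv_mem hf))] using h1.conj f⁻¹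
  have h3 : ⁅𝐙 C, S⁆ ⊓ 𝐂 B ≤ 𝐂 C := fun r hr => by
    obtain ⟨s, hs, hQ⟩ := SetLike.not_le_iff_exists.1 (vB.ne t)
    exact m' r hr.1 (conj_eq_of_cen (t.le hs) hr.2 ▸ m r hr.1 s hs hQ)
  exact ⟨h2, vC.two_of k.sC fun a ha c hc a1 c1 => h3 ⟨mul_mem ha hc, (vB.two k.sB h2).1 a
    (vC.comm_le_Ω k.sC ha) c (vC.comm_le_Ω k.sC hc) (fun e => a1 (h3 ⟨ha, e⟩)) fun e => c1 (h3 ⟨hc, e⟩)⟩, h3⟩

theorem false : False := by
  obtain ⟨h1, h2, h3⟩ := k.two h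
  have vC := h.vx C k.mem
  have vB := h.vx B k.near.right
  obtain ⟨e, A₀, he, hA, hAQ⟩ := vB.off S k.sB
  obtain ⟨x, hx, hxQ⟩ := SetLike.not_le_iff_exists.1 hAQ
  obtain ⟨f, hf, ho⟩ := vB.exists_opp k.sB
  obtain ⟨t, ht, htQ⟩ := SetLike.not_le_iff_exists.1 (vB.ne (k.sB.conj_of_mem hf))
  replace ho := vB.opp_cj k.sB (k.sB.conj_of_mem hf) ho ht htQ
  replace ht := (k.sB.conj_of_mem hf).le ht
  have hxB := k.sB.le (hA.le hx)
  have v := h.vx _ (h.conj C k.mem t)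
  have s := k.sC.conj t
  have sB := k.sB.conj_of_mem ht
  obtain ⟨u, hu, hu'⟩ := SetLike.not_le_iff_exists.1 (v.not_Z_le_Ω s)
  have lQ : ∀ {f}, f ∈ B → 𝐙 (cj f C) ≤ 𝐐 B := fun hf => h.sm _ (by omega) _ _ (k.near_cj h hf)
  have hu2 : x * u * x⁻¹ ∈ 𝐙 (cj (x * t) C) := by rw [← cj_cj, ← cj_Z]; exact conj_mem_cj hu
  have cZ : 𝐙 (cj (x * t) C) ≤ 𝐂 (𝐙 (cj t C)) :=
    h.cen ((k.near_cj h (mul_mem hxB ht)).trans (k.near_cj h ht).symm) (by omega)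
  have c1 := (h1.mono hA.le).card_le inf_le_left
  have c2 := two_mul_card_le (lt_of_le_of_ne k.sB.omegaOneCenter_le_Z fun e => vB.not_Z_le_Ω k.sB e.ge)
  have pw : ∀ {G : Subgroup X} {z}, Vx p G → z ∈ 𝐙 G → z ^ e = 1 := fun v hz => (abE_of_ea he v.ea).2 _ hz
  have hZ : ∀ z ∈ 𝐙 B, z ∈ A₀ → z ∈ 𝛀 S := fun z hz hz' =>
    vB.fix' k.sB (hA.le hx) hxQ hz (comm_eq_one_of hA.comm hx hz')
  have mx : ∀ {A₁ U : Subgroup X} {n}, A₁ ≤ A₀ → U ≤ S → AbE e U → A₁ ≤ 𝐂 U → A₁ ⊓ U ≤ 𝛀 S →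
      # A₀ ≤ n * # A₁ → n * # (𝛀 S) ≤ # U → MaxAb e S (A₁ ⊔ U) := fun {A₁ U n} a1 a2 a3 a4 a5 a6 a7 => by
    refine hA.of_card_le (sup_le (a1.trans hA.le) a2) ((hA.abE.of_le a1).sup a3 a4)
      (Nat.le_of_mul_le_mul_right (c := # ↥(A₁ ⊓ U)) ?_ Nat.card_pos)
    rw [H1.card_sup_mul_card_inf (le_normalizer_of_le_centralizer a4)]
    calc _ ≤ n * # A₁ * # (𝛀 S) := Nat.mul_le_mul a6 (card_le_of_le' a5)
      _ = # A₁ * (n * # (𝛀 S)) := by ring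
      _ ≤ _ := Nat.mul_le_mul_left _ a7
  have cB : A₀ ⊓ 𝐐 B ≤ 𝐂 (𝐙 B) := inf_le_right.trans vB.Q_le_C
  by_cases hc : A₀ ⊓ 𝐐 B ≤ 𝐐 (cj t C)
  · have m := mx inf_le_left (vB.Z_le_S k.sB) (abE_of_ea he vB.ea) cB (fun z hz => hZ z hz.2 hz.1.1) c1 c2
    have := m.mem_of_mem_centralizer (k.sB.pCoreOf_le (lQ ht hu)) (pw v hu) (by
      rw [centralizer_sup]; exact ⟨centralizer_anti hc (v.Z_le_C hu), vB.Q_le_C (lQ ht hu)⟩)
    obtain ⟨a, ha, z, hz, rfl⟩ := (mem_sup_of_le_normalizer (le_normalizer_of_le_centralizer cB)).1 this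
    obtain ⟨y, hy, hyQ⟩ := SetLike.not_le_iff_exists.1 k.cr
    have hy' : t * y * t⁻¹ ∈ 𝐐 B := conj_mem_of_mem_normalizer (le_normalizer_pCoreOf p B ht)
      (k.A_le h (by omega) hy)
    have o2 : S ⊔ cj (t⁻¹ * (x * t)) S = B := by
      rw [← cj_inj (g := t), cj_sup, cj_cj, mul_inv_cancel_left, cj_eq_self_of_mem ht, ← cj_cj]
      exact vB.opp_cj sB k.sB ((sup_comm _ _).trans ho) (hA.le hx) hxQ
    have o3 := cj_mono t (k.cen_opp h (mul_mem (inv_mem ht) (mul_mem hxB ht)) o2)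
    rw [cj_centralizer, cj_Z, cj_Z, cj_cj, mul_inv_cancel_left, ← cj_Z] at o3
    have o4 := comm_eq_one_of o3 (conj_mem_cj hy) hu2
    have hz' := conj_mem_of_mem_normalizer (le_normalizer_Z p B hxB) hz
    refine hu' (v.fix' s (sB.pCoreOf_le hy') (by rwa [← cj_pCoreOf, conj_mem_cj_iff]) hu ?_)
    rw [show x * (a * z) * x⁻¹ = x * a * x⁻¹ * (x * z * x⁻¹) by group, conj_eq_of_cen hx (hA.comm ha.1),
      comm_mul_right, comm_eq_one_of vB.Q_le_C hy' hz'] at o4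
    rw [comm_mul_right, comm_eq_one_of vB.Q_le_C hy' hz, o4]
  obtain ⟨y, hy, hyQ⟩ := SetLike.not_le_iff_exists.1 hc
  have hyu : ⁅y, u⁆ ≠ 1 := fun e => hu' (v.fix' s (sB.pCoreOf_le hy.2) hyQ hu e)
  have huZ : u ∉ 𝐙 B := fun e => hyu (comm_eq_one_of vB.Q_le_C hy.2 e)
  have t2 : Two (cj t S) (𝐐 (cj t C)) := cj_pCoreOf t C ▸ h2.conj t
  have uu : u * u ∈ 𝐙 B := (v.two s t2).2.2 u hu ▸ one_mem _
  have un : u ∈ 𝐍 (𝐙 B) := le_normalizer_Z p B (pCoreOf_le p B (lQ ht hu))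
  have cU : A₀ ⊓ 𝐐 B ⊓ 𝐐 (cj t C) ≤ 𝐂 (𝐙 B ⊔ zpowers u) := by
    rw [centralizer_sup]
    exact le_inf (inf_le_left.trans cB) (inf_le_right.trans (v.Q_le_C.trans (centralizer_anti
      (zpowers_le.2 hu))))
  have yw : ∀ w, w * u⁻¹ ∈ 𝐙 B → ⁅y, w⁆ ∈ 𝐙 B → ⁅y, w⁆ = ⁅y, u⁆ := fun w hw hw' => by
    rw [← inv_mul_cancel_right w u, comm_mul_right, comm_eq_one_of vB.Q_le_C hy.2 hw, one_mul] at hw' ⊢
    rw [← conj_eq_of_cen (inv_mem hw) (vB.Z_comm hw')]; group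
  have m := mx (U := 𝐙 B ⊔ zpowers u) (n := 4) (inf_le_left.trans inf_le_left) (sup_le (vB.Z_le_S k.sB)
    (zpowers_le.2 (k.sB.pCoreOf_le (lQ ht hu)))) ((abE_of_ea he vB.ea).sup (abE_zpowers (pw v hu))
    (vB.Z_le_C.trans (centralizer_anti (zpowers_le.2 (lQ ht hu))))) cU (fun w hw => by
      have := comm_eq_one_of hA.comm hy.1 hw.1.1.1
      exact (mem_sup_zpowers un uu hw.2).elim (fun e => hZ w e hw.1.1.1)
        fun e => (hyu ((yw w e (this ▸ one_mem _)).symm.trans this)).elim)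
    (by have := (t2.mono ((inf_le_right (a := A₀)).trans sB.pCoreOf_le)).card_le inf_le_left; omega)
    (by have := two_mul_card_le (lt_of_le_of_ne (le_sup_left (a := 𝐙 B) (b := zpowers u)) fun e =>
          huZ (e.ge (mem_sup_right (mem_zpowers u)))); omega)
  have := m.mem_of_mem_centralizer (k.sB.pCoreOf_le (lQ (mul_mem hxB ht) hu2))
    (pw (h.vx _ (h.conj C k.mem _)) hu2) (by
      rw [centralizer_sup, centralizer_sup]
      refine ⟨mem_cen_iff.2 fun a ha => ?_, vB.Q_le_C (lQ (mul_mem hxB ht) hu2),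
        centralizer_anti (zpowers_le.2 hu) (cZ hu2)⟩
      rw [← conj_eq_of_cen hx (hA.comm ha.1.1), ← conj_comm, comm_eq_one_of v.Q_le_C ha.2 hu]; group)
  obtain ⟨a, ha, w, hw, e⟩ := (mem_sup_of_le_normalizer (le_normalizer_of_le_centralizer cU)).1 this
  have r1 : ⁅y, u⁆ ∈ ⁅𝐙 (cj t C), cj t S⁆ :=
    comm_comm (cj t S) _ ▸ commutator_mem_commutator (sB.pCoreOf_le hy.2) hu
  have r2 := v.comm_le_Ω s r1
  have r3 := sB.omegaOneCenter_le_Z r2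
  have r4 : x * ⁅y, u⁆ * x⁻¹ = a * ⁅y, w⁆ * a⁻¹ := by
    rw [conj_comm, conj_eq_of_cen hx (hA.comm hy.1), ← e, comm_mul_right,
      comm_eq_one_of hA.comm hy.1 ha.1.1, one_mul]
  have r5 : ⁅y, w⁆ = x * ⁅y, u⁆ * x⁻¹ := by
    rw [← conj_eq_of_cen (inv_mem ha.1.2) (vB.Z_le_C (conj_mem_of_mem_normalizer
      (le_normalizer_Z p B hxB) r3)), r4]; group
  rcases mem_sup_zpowers un uu hw with e | e
  · rw [comm_eq_one_of vB.Q_le_C hy.2 e] at r5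
    exact hyu (by simpa using r5.symm)
  rw [yw w e (r5 ▸ conj_mem_of_mem_normalizer (le_normalizer_Z p B hxB) r3)] at r5
  have r6 := Ω_inf_le ho ⟨vB.fix' k.sB (hA.le hx) hxQ r3 (by
    rw [commutatorElement_def, ← r5, mul_inv_cancel]), r2⟩
  refine hyu (v.comm_eq_one s (sB.pCoreOf_le hy.2) hu ?_)
  rw [← cj_centralizer]
  rw [← cj_Z, ← cj_commutator] at r1
  rw [← cj_eq_self_of_mem ht, ← cj_centralizer] at r6
  exact cj_mono t h3 (cj_inf t _ _ ▸ ⟨r1, r6⟩)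

end Bad

theorem Am.ext_or' (h : Am p 𝓥 b) (hb : 2 ≤ b) :
    Ext p 𝓥 b ∨ ∃ A B C S, Bad p 𝓥 b A B C S ∧ ⁅𝐐 C, 𝐄 C⁆ ≤ 𝐙 C :=
  h.ext_or.imp_right fun ⟨A, B, C, S, k⟩ => ⟨A, B, C, S, k, (k.comm_res h hb).resolve_right fun e => by
    obtain ⟨d, rfl⟩ := Nat.exists_eq_add_of_le' e
    exact k.false h⟩

end H29.PU
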