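import Cfsg.Agent.H29.PU5

/-! Critical distance two. -/

set_option autoImplicit false
set_option linter.unusedVariables false
set_option linter.unusedSectionVars false

namespace H29.PU
open Cfsg Subgroup H28 H9 H13.SL2 Matrix MatrixGroups
open scoped commutatorElement

universe u
variable {X : Type u} [Group X] {p : ℕ} {A B C D E G H K M S T U V V₀ : Subgroup X}
  {𝓥 : Set (Subgroup X)} {m : ℕ}

/-- a path `A, B, C, D, E` all of whose subpaths of length two are critical -/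
structure W5 (p : ℕ) (A B C D E S T U V : Subgroup X) : Prop where
  vA : Vx p A
  vB : Vx p B
  vC : Vx p C
  vD : Vx p D
  vE : Vx p E
  sA : IsSylowIn p S A
  sB : IsSylowIn p S B
  tB : IsSylowIn p T B
  tC : IsSylowIn p T C
  uC : IsSylowIn p U C
  uD : IsSylowIn p U D
  wD : IsSylowIn p V D
  wE : IsSylowIn p V E
  ab : 𝐙 A ≤ 𝐐 B
  bc : 𝐙 B ≤ 𝐐 C
  dc : 𝐙 D ≤ 𝐐 C
  ed : 𝐙 E ≤ 𝐐 D
  c1 : Crit p A S C T
  c2 : Crit p B T D U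
  c3 : Crit p C U E V
  opp : T ⊔ U = C
  cen : ⁅𝐙 D, U⁆ ≤ 𝐂 C
  nn : ¬ C ≤ 𝐍 (𝐙 D ⊔ 𝐙 C)

set_option hygiene false in
scoped notation "𝐃" => 𝐐 B ⊓ 𝐐 C ⊓ 𝐐 D

variable [Finite X] [hp : Fact p.Prime]

theorem Am.w5 {G S : ℕ → Subgroup X} (h : Am p 𝓥 2) (e : Long p 𝓥 2 m G S) (j : ℕ) (hj : j + 4 ≤ m) :
    W5 p (G j) (G (j + 1)) (G (j + 2)) (G (j + 3)) (G (j + 4)) (S (j + 1)) (S (j + 2)) (S (j + 3))
      (S (j + 4)) :=
  have v := fun i hi => h.vx _ (e.mem i hi)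
  ⟨v _ (by omega), v _ (by omega), v _ (by omega), v _ (by omega), v _ hj, e.l _ (by omega),
    e.r _ (by omega), e.l _ (by omega), e.r _ (by omega), e.l _ (by omega), e.r _ (by omega),
    e.l _ (by omega), e.r _ (by omega), h.sm' e (by omega) (by omega) (by omega) (by omega),
    h.sm' e (by omega) (by omega) (by omega) (by omega), h.sm' e (by omega) (by omega) (by omega) (by omega),
    h.sm' e (by omega) (by omega) (by omega) (by omega), h.crit' (by omega) e rfl (by omega),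
    h.crit' (by omega) e rfl (by omega), h.crit' (by omega) e rfl (by omega), e.opp _ (by omega) (by omega),
    h.long_cen le_rfl e (by omega) (by omega), e.nn _ (by omega) (by omega)⟩

theorem Crit.card_inf (c : Crit p B T D U) (vD : Vx p D) (tB : IsSylowIn p T B) (uD : IsSylowIn p U D)
    (h1 : 𝐙 D ≤ H) (h2 : H ≤ T) : H = 𝐙 D ⊔ 𝐐 B ⊓ H ∧ # H * # (𝐐 D) = # U * # ↥(𝐐 B ⊓ H) := by
  have n := (h1.trans h2).trans (tB.le.trans (le_normalizer_pCoreOf p B))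
  have e : H = 𝐙 D ⊔ 𝐐 B ⊓ H := by
    rw [← sup_inf_of_le_normalizer (Or.inl n) h1, c.sup, inf_of_le_right h2]
  obtain ⟨q, a1, a2, -⟩ := vD.card uD
  have := H1.card_sup_mul_card_inf (le_normalizer_inf n (le_normalizer_of_le h1))
  rw [← e, inf_comm (𝐐 B), ← inf_assoc, inf_of_le_left h1, c.inf', a2, mul_right_comm] at this
  exact ⟨e, by rw [Nat.eq_of_mul_eq_mul_right Nat.card_pos this, a1, inf_comm H]; ring⟩

namespace W5
variable (k : W5 p A B C D E S T U V)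
include k

theorem cb : 𝐙 C ≤ 𝐐 B :=
  k.vB.le_Q k.tB (k.vC.Z_le_S k.tC) (k.vC.Z_le_C.trans (centralizer_anti k.bc))

theorem cd : 𝐙 C ≤ 𝐐 D :=
  k.vD.le_Q k.uD (k.vC.Z_le_S k.uC) (k.vC.Z_le_C.trans (centralizer_anti k.dc))

theorem Z_le : 𝐙 C ≤ 𝐃 := le_inf (le_inf k.cb k.vC.Z_le_Q) k.cd

theorem AT : 𝐙 A ≤ T := le_sup_left.trans k.c1.sup'.le

theorem EU : 𝐙 E ≤ U := le_sup_left.trans k.c3.sup.le

theorem commA (h : H ≤ 𝐐 B) : ⁅𝐙 A, H⁆ ≤ ⁅𝐙 C, T⁆ :=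
  (commutator_mono le_rfl (h.trans k.sB.pCoreOf_le)).trans (k.c1.comm_eq k.vA k.vC k.sA k.tC).le

theorem commE (h : H ≤ 𝐐 D) : ⁅𝐙 E, H⁆ ≤ ⁅𝐙 C, U⁆ :=
  (commutator_mono le_rfl (h.trans k.wD.pCoreOf_le)).trans (k.c3.comm_eq k.vC k.vE k.uC k.wE).ge

theorem commQ : ⁅𝐐 C, 𝐐 C⁆ ≤ 𝐃 :=
  le_inf (le_inf ((commutator_mono k.tC.pCoreOf_le k.tC.pCoreOf_le).trans (k.vB.comm k.tB))
    (commutator_le_of_le_normalizer le_normalizer))
    ((commutator_mono k.uC.pCoreOf_le k.uC.pCoreOf_le).trans (k.vD.comm k.uD))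

theorem D_le : 𝐃 ≤ 𝐐 C := inf_le_left.trans inf_le_right

theorem commA' : ⁅𝐃, 𝐙 A⁆ ≤ 𝐙 C := comm_comm (𝐙 A) _ ▸ (k.commA (inf_le_left.trans inf_le_left)).trans
  (commutator_le_of_le_normalizer (k.tC.le.trans (le_normalizer_Z p C)))

theorem nrmD : C ≤ 𝐍 (𝐃) := by
  have h1 := H28.le_normalizer_of_commutator_le k.commQ k.D_le
  refine k.opp.ge.trans (sup_le (k.c1.sup'.ge.trans (sup_le ?_ h1)) (k.c3.sup.ge.trans (sup_le ?_ h1)))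
  · exact H29.le_normalizer_of_commutator_le (k.commA'.trans k.Z_le)
  · exact H29.le_normalizer_of_commutator_le (comm_comm (𝐙 E) _ ▸ (k.commE inf_le_right).trans
      ((commutator_le_of_le_normalizer (k.uC.le.trans (le_normalizer_Z p C))).trans k.Z_le))

theorem commD : ⁅𝐃, 𝐄 C⁆ ≤ 𝐙 C := by
  obtain ⟨x, hx, hQ⟩ := SetLike.not_le_iff_exists.1 (k.c1.symm.not_le k.vC k.tC)
  exact commutator_le_of_le_cmod (k.vC.res_le k.tC (le_normalizer_cmod k.nrmD (le_normalizer_Z p C))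
    (k.AT hx) hQ (le_cmod (k.AT.trans (k.tC.le.trans (le_normalizer_Z p C))) k.commA' hx))

theorem not_comm : ¬ ⁅𝐄 C, 𝐐 C⁆ ≤ 𝐃 := fun e => k.nn (by
  have : ⁅𝐐 C, 𝐄 C⁆ ≤ 𝐙 C := by
    rw [← commutator_commutator_pResidualOf' (isPGroup_pCoreOf p C) (le_normalizer_pCoreOf p C)]
    exact (commutator_mono (comm_comm (𝐄 C) _ ▸ e) le_rfl).trans k.commD
  exact k.uC.pResidualOf_sup.ge.trans (sup_le (le_normalizer_sup_of_comm ((pResidualOf_le p C).trans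
    (le_normalizer_Z p C)) ((commutator_mono k.dc le_rfl).trans this)) (le_normalizer_sup
    (k.uD.le.trans (le_normalizer_Z p D)) (k.uC.le.trans (le_normalizer_Z p C)))))

theorem Q_eq : 𝐐 C = 𝐙 D ⊔ 𝐐 B ⊓ 𝐐 C ∧ # (𝐐 C) * # (𝐐 D) = # U * # ↥(𝐐 B ⊓ 𝐐 C) :=
  k.c2.card_inf k.vD k.tB k.uD k.dc k.tC.pCoreOf_le

theorem W_eq : 𝐐 B ⊓ 𝐐 C = 𝐙 B ⊔ 𝐃 ∧ # ↥(𝐐 B ⊓ 𝐐 C) * # (𝐐 B) = # T * # ↥(𝐃) :=
  inf_comm (𝐐 D) (𝐐 B ⊓ 𝐐 C) ▸ k.c2.symm.card_inf k.vB k.uD k.tB (le_inf k.vB.Z_le_Q k.bc)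
    (inf_le_right.trans k.uC.pCoreOf_le)

theorem card_Q : # (𝐐 B) = # (𝐐 D) := by
  have := k.c2.card
  rw [k.tC.card_eq k.uC] at this
  exact (Nat.eq_of_mul_eq_mul_left Nat.card_pos this).symm

theorem ns (h : # (𝐐 C) ≤ # (𝐐 B)) : # (𝐐 B) ≤ # (𝐐 C) ∧ ∃ (F : Type) (_ : Field F) (_ : Fintype F),
    # T = Fintype.card F * # (𝐐 C) ∧
      ∃ N : NS p F C (𝐐 C) (𝐃) T U, ∀ v ∈ 𝐐 C, N.ψ v = 0 ↔ v ∈ 𝐃 := by
  obtain ⟨R⟩ := exists_secRep (p := p) (pCoreOf_le p C) k.D_le (le_normalizer_pCoreOf p C) k.nrmD k.commQ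
    fun v hv => ⟨⟨k.vB.pow k.tB (k.tC.pCoreOf_le hv), pow_mem hv p⟩, k.vD.pow k.uD (k.uC.pCoreOf_le hv)⟩
  have c1 := k.Q_eq.2
  have c2 := k.W_eq.2
  rw [← k.card_Q, ← k.tC.card_eq k.uC] at c1
  obtain ⟨F, _, _, hF, ⟨N⟩⟩ := k.vC.exists_NS k.tC k.uC k.opp R k.commQ k.not_comm le_rfl (k.vC.ne k.tC)
    (W := 𝐐 B ⊓ 𝐐 C) inf_le_left inf_le_right (by
      rw [← k.c1.sup']
      refine commutator_sup_le (k.AT.trans (k.tC.le.trans k.nrmD)) ((pCoreOf_le p C).trans k.nrmD) ?_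
        ((commutator_mono le_rfl inf_le_right).trans k.commQ)
      refine (commutator_mono le_rfl (k.W_eq.1.trans (sup_comm _ _)).le).trans ?_
      rw [comm_sup_cen (le_centralizer_comm.1 (k.ab.trans k.vB.Q_le_C))
        (((inf_le_left.trans inf_le_left).trans k.sB.pCoreOf_le).trans (k.sA.le.trans (le_normalizer_Z p A))),
        comm_comm]
      exact k.commA'.trans k.Z_le)
    (by rw [inf_of_le_right k.tC.pCoreOf_le, ← c1]; exact Nat.mul_le_mul_left _ h)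
  have hk : ∀ v ∈ 𝐐 C, N.ψ v = 0 ↔ v ∈ cmod C (𝐃) := fun v hv =>
    (N.ker v hv).trans ⟨fun e => ⟨k.nrmD (pCoreOf_le p C hv), e⟩, fun e => e.2⟩
  have c3 := N.card_eq le_rfl (AddMonoidHom.id _) hk N.onto
  have l : 𝐃 ≤ 𝐐 C ⊓ cmod C (𝐃) := fun v hv =>
    ⟨hv.1.2, (hk v hv.1.2).1 (N.ψ_eq_zero hv k.nrmD)⟩
  have l' := card_le_of_le' l
  rw [Nat.card_fun, Nat.card_eq_fintype_card (α := F), Nat.card_eq_fintype_card (α := Fin 2),
    Fintype.card_fin] at c3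
  have q0 : 0 < Fintype.card F := Fintype.card_pos
  have q1 : 0 < # (𝐐 C) := Nat.card_pos
  have q2 : 0 < # ↥(𝐃) := Nat.card_pos
  have c4 : # (𝐐 B) ^ 2 * # ↥(𝐐 C ⊓ cmod C (𝐃)) = # (𝐐 C) ^ 2 * # ↥(𝐃) := by
    refine Nat.eq_of_mul_eq_mul_left (pow_pos q0 2) ?_
    calc _ = # (𝐐 C) * # (𝐐 B) * # (𝐐 B) := by rw [c3]; ring
      _ = # T * (# T * # ↥(𝐃)) := by rw [c1, mul_assoc, c2]
      _ = _ := by rw [hF]; ring
  have c5 : # (𝐐 B) ≤ # (𝐐 C) := (Nat.pow_le_pow_iff_left two_ne_zero).1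
    (Nat.le_of_mul_le_mul_right ((Nat.mul_le_mul_left _ l').trans c4.le) q2)
  rw [le_antisymm c5 h] at c4
  refine ⟨c5, F, _, _, hF, N, fun v hv => (hk v hv).trans ⟨fun e => ?_, fun e => (l e).2⟩⟩
  exact (eq_of_le_of_card_le l (Nat.eq_of_mul_eq_mul_left (pow_pos q1 2) c4).le).ge ⟨hv, e⟩

end W5

theorem NS.fst_eq_zero {F : Type} [Field F] (N : NS p F G V V₀ S T) {s v : X} (hs : s ∈ T) (hQ : s ∉ 𝐐 G)
    (hv : v ∈ V) (h : N.ψ ⁅s, v⁆ = 0) : N.ψ v 0 = 0 := by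
  obtain ⟨t, ht, e⟩ := N.lo_ne hs hQ
  rw [N.comm_y (N.leS' hs) hv e] at h
  simpa [ht] using congrFun h 1

theorem vec_eq_zero {F : Type*} [Zero F] {v : Fin 2 → F} (h0 : v 0 = 0) (h1 : v 1 = 0) : v = 0 := by
  ext i; fin_cases i; exacts [h0, h1]

/-- the configuration for critical distance two -/
structure T2 (p : ℕ) (A B C D E S T U V : Subgroup X) : Prop extends W5 p A B C D E S T U V where
  ns : ∃ (F : Type) (_ : Field F) (_ : Fintype F), # T = Fintype.card F * # (𝐐 C) ∧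
    ∃ N : NS p F C (𝐐 C) (𝐃) T U, ∀ v ∈ 𝐐 C, N.ψ v = 0 ↔ v ∈ 𝐃
  cub : ∀ u ∈ 𝐙 D, u ∉ 𝛀 U → ∀ a ∈ 𝐙 A, a ∉ 𝐐 C → ⁅a, ⁅a, u⁆⁆ ∉ 𝐂 C

theorem W5.t2 {A₀ S₀ : Subgroup X} (k : W5 p A B C D E S T U V) (k' : W5 p A₀ A B C D S₀ S T U) :
    T2 p A B C D E S T U V := by
  have c := k'.card_Q
  have e : # (𝐐 C) = # (𝐐 B) := by
    rcases le_total (# (𝐐 C)) (# (𝐐 B)) with h | h
    · exact le_antisymm h (k.ns h).1
    · exact le_antisymm (c ▸ (k'.ns (c ▸ h)).1) h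
  refine ⟨k, (k.ns e.le).2, fun u hu hu' a ha ha' e' => ?_⟩
  obtain ⟨F, _, _, -, N, hN⟩ := (k'.ns (c ▸ e.ge)).2
  have huT := k.tC.pCoreOf_le (k.dc hu)
  have huQ : u ∉ 𝐐 B := fun e => hu' (k.c2.inf'.le ⟨hu, e⟩)
  have w1 : ⁅a, u⁆ ∈ 𝐐 B ⊓ 𝐐 C := ⟨commutator_le_of_le_normalizer (k.tB.le.trans (le_normalizer_pCoreOf p B))
    (commutator_mem_commutator (k.ab ha) huT), commutator_le_of_le_normalizer' (k.tC.le.trans
    (le_normalizer_pCoreOf p C)) (commutator_mem_commutator (k.AT ha) (k.dc hu))⟩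
  have w2 : ⁅a, u⁆ ∉ 𝐐 A := fun e => by
    have h1 := N.fst_eq_zero huT huQ (k.ab ha) ((hN _ (commutatorElement_mem_comm.1 w1.1)).2
      (commutatorElement_mem_comm.1 ⟨⟨e, w1.1⟩, w1.2⟩))
    obtain ⟨s, hs, hs'⟩ := SetLike.not_le_iff_exists.1 (k'.c1.symm.not_le k.vB k.sB)
    have h2 := N.snd_eq_zero (k'.AT hs) hs' (k.ab ha) (by
      rw [comm_eq_one_of (k'.ab.trans k.vA.Q_le_C) hs ha, N.one])
    exact ha' ((hN a (k.ab ha)).1 (vec_eq_zero h1 h2)).2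
  rw [(k.c1.card_inf k.vC k.sA k.tC (le_inf k.cb k.vC.Z_le_Q) (inf_le_left.trans k.sB.pCoreOf_le)).1] at w1
  obtain ⟨z, hz, d, hd, e⟩ := (mem_sup_of_le_normalizer (le_normalizer_of_le_centralizer
    (k.vC.Z_le_C.trans (centralizer_anti (inf_le_right.trans inf_le_right))))).1 w1
  rw [← e, comm_mul_right, comm_eq_one_of k.vA.Z_le_C ha hd.1, mul_one, mul_inv_cancel, mul_one] at e'
  have := k.vC.fix k.tC (k.AT ha) ha' hz e'
  exact w2 (e ▸ mul_mem (k.vA.mem_Q k.sA (k.c1.sup.le (mem_sup_left hz)) (centralizer_anti k.AT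
    (omegaOneCenter_le_centralizer p T this))) hd.1)

theorem Am.t2 (h : Am p 𝓥 2) (hx : Ext p 𝓥 2) (e : Near p 𝓥 2 A B) (hn : ¬ 𝐙 A ≤ 𝐐 B) :
    ∃ A B C D E S T U V, C ∈ 𝓥 ∧ T2 p A B C D E S T U V := by
  obtain ⟨G, S, k⟩ := h.long le_rfl hx e hn 3
  exact ⟨_, _, _, _, _, _, _, _, _, k.mem _ (by omega), (h.w5 k 1 le_rfl).t2 (h.w5 k 0 (by omega))⟩

theorem NS.mem_iff {F : Type} [Field F] (N : NS p F G V V₀ S T) (h : R1 p G S M) {g : X} (hg : g ∈ G) :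
    g ∈ M ↔ N.π g 1 0 = 0 := by
  have key : ∀ g ∈ G, N.π g 1 0 = 0 → g ∈ M := fun g hg e => by
    refine h.um.max (((bor F).comap N.hom).map G.subtype) (fun s hs => ⟨⟨s, N.leS hs⟩, ?_, rfl⟩)
      (lt_of_le_of_ne (map_subtype_le _) fun e => ?_) ⟨⟨g, hg⟩, e, rfl⟩
    · obtain ⟨t, e⟩ := N.up s hs
      exact mem_comap.2 (show N.π s ∈ bor F from e ▸ x_mem_bor t)
    · obtain ⟨s, hs, e'⟩ := N.lo' 1
      obtain ⟨s, h1, rfl⟩ := e.ge (N.leS' hs)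
      simpa [mem_bor] using (show y (1 : F) ∈ bor F from e' ▸ h1)
  refine ⟨fun e => by_contra fun e' => h.um.not_le fun a ha => ?_, key g hg⟩
  have := eq_top_of_bor (K := (M.subgroupOf G).map N.hom) (fun b hb => by
    obtain ⟨c, rfl⟩ := N.hom_surj b
    exact ⟨c, key c c.2 hb, rfl⟩) ⟨⟨g, hg⟩, e, rfl⟩ e'
  obtain ⟨c, hc, e⟩ := this.ge (mem_top (N.π a))
  refine (mul_mem_cancel_left (inv_mem (show c.1 ∈ M from hc))).1 (key _ (mul_mem (inv_mem c.2) ha) ?_)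
  rw [N.π_mul _ (inv_mem c.2) _ ha, N.π_inv c.2, show N.π c = N.π a from e]
  simp

theorem conj_y_entry {F : Type*} [Field F] (g : SL(2, F)) (t : F) : (g * y t * g⁻¹) 1 0 = g 1 1 ^ 2 * t := by
  rw [H13.SL2.mul_apply', H13.SL2.mul_apply', H13.SL2.mul_apply']
  simp [SpecialLinearGroup.SL2_inv_expl]; ring

theorem yx_entry {F : Type*} [Field F] (s t : F) : (y s * x t) 1 1 = 1 + s * t := by
  rw [H13.SL2.mul_apply']; simp [add_comm]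

theorem inv_conj_x {F : Type*} [Field F] {g : SL(2, F)} (h : g 1 1 = 0) (t : F) :
    g⁻¹ * x t * g = y (-(g 1 0 ^ 2 * t)) := by
  have := det' g
  rw [h] at this
  refine ext' ?_ ?_ ?_ ?_ <;> rw [H13.SL2.mul_apply', H13.SL2.mul_apply', H13.SL2.mul_apply'] <;>
    simp [SpecialLinearGroup.SL2_inv_expl, h]
  · linear_combination this
  · ring
  · linear_combination this

end H29.PU
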