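/-
Fusion systems on a Sylow `p`-subgroup of `³D₄(q)`, part 4: assembly.
-/
import Cfsg.Agent.H29.TD3
import Cfsg.Agent.H8.PU4

set_option autoImplicit false
set_option linter.unusedSectionVars false
set_option linter.unusedSimpArgs false

namespace H29.TD
open Cfsg Subgroup H25 H25.FS H8.PU Dc
universe u v
variable {K : Type v} [Field K] [Finite K] {σ : K →+* K} [TV σ] {Γ : Type u} [Group Γ] [Finite Γ] {p : ℕ} [hp : Fact p.Prime]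
  [CharP K p] {S P A L C0 : Subgroup Γ} {ev : Dc σ →* Γ} {a g τ M1 M2 : Γ} {k l ν : K} {φ : K ≃+* K} {F F' : FS Γ}

variable (σ Γ p) in
/-- the chunks -/
structure Ck : Prop where
  t2 : T2 Γ
  ea : EA σ Γ p
  eb : EB σ Γ p
  ec : EC σ Γ p
  ed : ED σ Γ p
  ee1 : EE1 σ Γ p
  ee2 : EE2 σ Γ p
  ef : EF σ Γ p
  au : AU σ Γ
  au2 : AU2 σ Γ
  bo1 : BO1 σ Γ p
  g2 : G2 σ Γ
  s2 : S2 σ Γ p
  n2 : N2 σ Γ p
  n1 : N1 σ Γ p
  su : ∀ G : Subgroup (AV σ), LH p G → Su G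
  tr : TR σ Γ p

theorem su_of (l0 : L0 σ p) (l1a : L1a σ p) (l1b : L1b σ p) (l2 : L2 σ p) (l3a : L3a σ p) (l3b : L3b σ p) (l3c : L3c σ p)
    (G : Subgroup (AV σ)) (h : LH p G) : Su G :=
  let ⟨x0, t⟩ := l2 G h ((em (p = 2)).elim (l1a · G h (l0 G h)) (l1b · G h (l0 G h)))
  l3c G x0 h t (l3a G x0 h t) (l3b G x0 h t (l3a G x0 h t))

theorem Ck.ess (x : Ck σ Γ p) (h : Co S ev) (e : Es p S P A) : P = (Q1 σ).map ev ∨ P = (Q2 σ).map ev := by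
  obtain ⟨H, e, g⟩ := e.gen
  have z2 := x.ea _ _ _ _ h e g
  have z3 := (em _).elim (x.eb _ _ _ _ h e g z2) (x.ec _ _ _ _ h e g z2)
  by_cases h1 : P ≤ (Q1 σ).map ev
  · exact .inl (x.ed _ _ _ _ h e g z3 h1)
  have h2 := (x.ef _ _ _ _ h e z3).resolve_left h1
  exact .inr (x.ee2 _ _ _ _ h e g z3 h2 h1 (x.ee1 _ _ _ _ h e g z3 h2 h1))

/-- Sylow subgroups of the outer automizer of `Q₁` intersect trivially -/
theorem Ck.ti (x : Ck σ Γ p) (h : Co S ev) (hF : F.Sat p) (hS : F.S = S) (q : F.Ess ((Q1 σ).map ev)) :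
    TI S ((Q1 σ).map ev) (F.A ((Q1 σ).map ev)) (F.A ((Q1 σ).map ev) ⊓ nz (ai S ((Q1 σ).map ev))) := by
  subst hS
  have e := es_of hF q
  have k := hF.alperin (M := fun R g => (Q1 σ).map ev < R → ∃ k ∈ nz F.S, Agree R g k) (fun R g g' _ _ m m' c => by
      obtain ⟨k, hk, e⟩ := m c
      obtain ⟨k', hk', e'⟩ := m' (by rw [e.cj_eq, ← mem_nz.1 (h.gQ1 hk)]; exact cj_lt_cj.2 c)
      exact ⟨_, mul_mem hk' hk, e.mul e'⟩)
    (fun R g g' _ m e c => let ⟨k, hk, e'⟩ := m c; ⟨k, hk, e.trans e'⟩) fun Q hQ a ha R hR c => by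
      rcases hQ with rfl | hQ
      · exact ⟨a, F.A_le_nz _ ha, Agree.refl _ _⟩
      rcases x.ess h (es_of hF hQ) with rfl | rfl
      · exact absurd hR (not_le_of_gt c)
      · have := (c.le.trans hR) (show ev (xu 1 (map_one σ)) ∈ _ by dt h [])
        dt h [] at this
        exact absurd this one_ne_zero
  have k2 : F.Hx ((Q1 σ).map ev) ≤ nz (ai F.S ((Q1 σ).map ev)) := (closure_le _).2 fun a ⟨ha, R, b, h1, h2, h3⟩ => by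
    obtain ⟨k, hk, e'⟩ := k R b h2 h1
    exact (h3.trans (e'.mono h1.le)).mem_of_cz_le ((cz_le_ai _ _).trans (le_nz_self _)) (mem_nz_ai hk (h.gQ1 hk))
  exact ⟨le_inf e.nA (le_nz_self _), inf_le_left, fun c => e.not_nz (c.trans inf_le_right),
    fun g hg u hu n c => ⟨hg, k2 (hF.mem_Hx_of_ai q.fn hg hu n c)⟩⟩
theorem Ck.ext1 (x : Ck σ Γ p) (h : Co S ev) (hF : F.Sat p) (e : F.S = S) (q : F.Ess ((Q1 σ).map ev))
    (hg : g ∈ F.A ((Q1 σ).map ev)) (k : g ∈ nz ((Z2 σ).map ev)) : ∃ k ∈ F.A S, Agree ((Q1 σ).map ev) k g :=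
  ext_of hF e (h.le _) h.nQ1 hg (x.bo1 _ _ _ h (e ▸ es_of hF q) (x.ti h hF e q) g hg k)
theorem Co.ext2 (h : Co S ev) (hF : F.Sat p) (e : F.S = S) (hg : g ∈ F.A ((Q2 σ).map ev)) (k : g ∈ nz ((Z4 σ).map ev)) :
    ∃ k ∈ F.A S, Agree ((Q2 σ).map ev) k g :=
  ext_of hF e (h.le _) h.nQ2 hg (h.bor2 (au_of hF e (h.le _) h.nQ2 h.cen2) hg k)
theorem Ck.cases (x : Ck σ Γ p) (h : Co S ev) (hF : F.Sat p) (e : F.S = S) :
    F.Constr p ∨ F.Ess ((Q1 σ).map ev) ∧ F.Ess ((Q2 σ).map ev) := by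
  subst e
  have k : ∀ P, F.S ⊓ cz P ≤ P → P ≤ F.S → nz F.S ≤ nz P → (∀ X, F.Ess X → X = P) → F.Constr p := fun P h6 hP hn k =>
    have := hF.nm_iff_ess.2 (fun X hX => hX.elim (fun c => c ▸ ⟨hP, (F.A_le_nz _).trans hn⟩)
      fun c => k X c ▸ ⟨le_rfl, F.A_le_nz _⟩ : ∀ X, X = F.S ∨ F.Ess X → P ≤ X ∧ F.A X ≤ nz P)
    ⟨hF, P, this, this.wc.centric h6⟩
  by_cases q : F.Ess ((Q1 σ).map ev)
  · by_cases r : F.Ess ((Q2 σ).map ev)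
    · exact .inr ⟨q, r⟩
    · exact .inl (k _ h.cen1 (h.le _) (fun g => h.gQ1) fun X c => (x.ess h (es_of hF c)).resolve_right fun c' => r (c' ▸ c))
  · exact .inl (k _ h.cen2 (h.le _) (fun g => h.gQ2) fun X c => (x.ess h (es_of hF c)).resolve_left fun c' => q (c' ▸ c))

namespace Md
variable (m : Md p S ev L C0 M1 M2)
include m
theorem CS : C0 ≤ nz S := fun τ hk => let ⟨_, _, _, w⟩ := m.wt τ hk; m.wS w
theorem cjA (h1 : A ≤ nz S) (h2 : Syl p (ai S S) A) (h3 : ∀ g ∈ A, ∃ k l φ, k ≠ 0 ∧ l ≠ 0 ∧ σ l = l ∧ Ac ev g k l φ) :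
    ∃ γ ∈ nz S, cj γ A ≤ C0 ⊔ ai S S := by
  obtain ⟨k, hk, e⟩ := sz0 (p := p) (X := stab S ((Z4 σ).map ev)) (A := C0) (fun g hg => nz_le_nz_ai_self S hg.1)
    (m.CS.trans (nz_le_nz_ai_self S)) (h1.trans (nz_le_nz_ai_self S))
    (fun g hg => mem_nz_stab (m.CS hg) (mem_nz_inf (m.CS hg) (m.gZ4 (m.CS hg)))) (fun g hg => by
      obtain ⟨r, t, φ, r0, t0, ht, e⟩ := h3 g hg
      obtain ⟨k, hk, w⟩ := m.ex' r t φ r0 t0 ht
      have : g * k⁻¹ ∈ stab S ((Z4 σ).map ev) := mem_stab'.2 ⟨mul_mem (h1 hg) (inv_mem (m.CS hk)), fun y hy => by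
        obtain ⟨c, -, e1⟩ := m.ex (conj_mem_of_mem_nz' (m.CS hk) hy)
        obtain ⟨c', -, e2⟩ := m.ex (conj_mem_of_mem_nz (h1 hg) (m.mS c))
        have e3 : y = ev (sc r t ht φ c) := by rw [← w.cj, e1]; group
        rw [cj_mul2, inv_inv, ← e1, ← e2, e3]
        dt m.toCo [e c c' e2.symm]⟩
      simpa using mul_mem_sup this hk)
    (fun k hk => (kk_pel (l := []) m.pg (by simp) (stab_mono (m.fr4 m.pg) hk)).mono (cz_le_ai _ _)) h2.2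
  exact ⟨k⁻¹, inv_mem hk.1, cj_le.2 fun a ha => by rw [inv_inv]; exact e a ha⟩

variable (x : Ck σ Γ p) (hF : F.Sat p) (hS : F.S = S) (hA : F.A S ≤ C0 ⊔ ai S S)
include hS hA
theorem dec (ha : a ∈ F.A S) : ∃ u ∈ S, ∃ τ ∈ C0 ⊓ F.A S, ∃ k l φ, Wt ev τ k l φ ∧ Agree S a (u * τ) := by
  obtain ⟨y, hy, k, hk, rfl⟩ := (mem_sup_of_le_nz_left (m.CS.trans (nz_le_nz_ai_self S))).1 (sup_comm C0 _ ▸ hA ha)
  obtain ⟨-, u, hu, e⟩ := mem_ai.1 hy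
  obtain ⟨r, t, φ, w⟩ := m.wt k hk
  exact ⟨u, hu, k, ⟨hk, (mul_mem_cancel_left (ai_self_le_A hS.ge hy)).1 ha⟩, r, t, φ, w,
    Agree.mul_right (by rwa [mem_nz.1 (m.CS hk)])⟩
omit hA in
theorem res (hP : P = (Q1 σ).map ev ∨ P = (Q2 σ).map ev) (ha : a ∈ F.A S) (w : Wt ev a k l φ) : a ∈ F.A P :=
  hP.elim (· ▸ mem_A_of_le hS.ge ha (m.le _) (m.w1 w)) (· ▸ mem_A_of_le hS.ge ha (m.le _) (m.w2 w))
include x hF
theorem h2 (e : Es p S ((Q2 σ).map ev) (F.A ((Q2 σ).map ev))) (hl : l ≠ 0) (hl' : σ l = l) :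
    ∃ τ ∈ F.A S, Wt ev τ l⁻¹ (l ^ 2) (.refl K) := by
  obtain ⟨g, hg, c⟩ := (x.s2 _ _ _ _ _ m.toCo m.toWy e).1 l hl hl'
  have n := e.An hg
  obtain ⟨a, ha, e1⟩ := m.ext2 hF hS hg (mem_nz_of_conj_mem (by
    rintro _ ⟨u, hu, rfl⟩
    obtain ⟨u', hu', e⟩ := conj_mem_of_mem_nz n (m.mm.2 hu.2 : ev u ∈ (Q2 σ).map ev)
    rw [← e]
    exact m.mm.2 ⟨by simp [(c u u' hu.2 e.symm).1, hu.1], hu'⟩))
  obtain ⟨u, hu, k, hk, r, t, φ, w, e2⟩ := m.dec hS hA ha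
  obtain ⟨u, -, rfl⟩ := m.ex hu
  have k1 : ∀ c' : Dc σ, c'.u = 0 → _ := fun c' h0 => c c' (u * sc r t w.hl φ c' * u⁻¹) h0 (by
    rw [← e1 _ (m.mm.2 h0), e2 _ (m.mS _), cj_mul2, w.cj]; dt m.toCo [])
  have k2 : ∀ z, r * φ z = l⁻¹ * z := fun z => by have := (k1 (xa z) rfl).1; dt m.toCo [] at this; grind
  have k3 := (k1 (xs 1) rfl).2
  have k4 := k2 1
  dt m.toCo [map_zero, map_one] at k3 k4
  obtain rfl : φ = .refl K := RingEquiv.ext fun z => mul_left_cancel₀ w.k0 (by rw [k2, k4]; rfl)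
  exact ⟨k, hk.2, w.cast k4 (by grind)⟩
theorem su (q : F.Ess ((Q1 σ).map ev)) (tt : ∃ τ ∈ F.A S, Wt ev τ (-1) 1 (.refl K)) :
    (∀ ν, ν ≠ 0 → ∃ τ ∈ C0 ⊓ F.A S, Wt ev τ (ν ^ 2) (nm σ ν)⁻¹ (.refl K)) ∧ (∃ g ∈ F.A ((Q1 σ).map ev), Ac1 ev g) ∧
      ∀ g ∈ F.A ((Q1 σ).map ev), g ∈ nz ((Z2 σ).map ev) ∨ ∃ u ∈ S, M1 * u * g ∈ nz ((Z2 σ).map ev) :=
  x.tr x.su S _ _ ev M1 M2 m.toCo m.toWy (hS ▸ es_of hF q) (x.ti m.toCo hF hS q) (fun _ hg n =>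
      let ⟨_, ha, e1⟩ := x.ext1 m.toCo hF hS q hg n
      let ⟨u, hu, k, hk, r, t, φ, w, e2⟩ := m.dec hS hA ha
      ⟨u, hu, k, hk, r, t, φ, w, e1.symm.trans (e2.mono (m.le _))⟩)
    (let ⟨k, hk, w⟩ := tt; ⟨k, m.res hS (.inl rfl) hk w, w⟩)
theorem le (e' : F'.S = S) (h1 : F.A S ≤ F'.A S) (tt : ∃ τ ∈ F.A S, Wt ev τ (-1) 1 (.refl K))
    (q : M1 ∈ F.A ((Q1 σ).map ev)) (q' : M1 ∈ F'.A ((Q1 σ).map ev))
    (r : M2 ∈ F.A ((Q2 σ).map ev)) (r' : M2 ∈ F'.A ((Q2 σ).map ev)) : F ≤ F' := by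
  have k : ∀ P Y M, P ≤ S → S ≤ nz P → M ∈ F.A P → M ∈ F'.A P → (∀ g ∈ F.A P, g ∈ nz Y → ∃ k ∈ F.A S, Agree P k g) →
      ∀ a ∈ F.A P, (a ∈ nz Y ∨ ∃ u ∈ S, M * u * a ∈ nz Y) → F'.T P a := fun P Y M hP hn m1 m' ex a ha c => by
    have k : ∀ a ∈ F.A P, a ∈ nz Y → a ∈ F'.A P := fun a ha c =>
      let ⟨k, hk, c'⟩ := ex a ha c
      c'.symm.mem_A (mem_A_of_le e'.ge (h1 hk) hP (c'.mem_nz (F.A_le_nz P ha)))
    refine T_of_mem_A (hP.trans e'.ge) (c.elim (k a ha) fun ⟨u, hu, c⟩ => ?_)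
    have := k _ (mul_mem (mul_mem m1 (F.N_le_A P ⟨hS.ge hu, hn hu⟩)) ha) c
    rwa [mul_mem_cancel_left (mul_mem m' (F'.N_le_A P ⟨e'.ge hu, hn hu⟩))] at this
  refine hF.le_of_ess fun P hP a ha => ?_
  rcases hP with rfl | hP
  · exact T_of_mem_A (hS.trans e'.symm).le (hS ▸ h1 (hS ▸ ha))
  rcases x.ess m.toCo (hS ▸ es_of hF hP) with rfl | rfl
  · exact k _ _ _ (m.toCo.le _) m.nQ1 q q' (fun g => x.ext1 m.toCo hF hS hP) a ha ((m.su x hF hS hA hP tt).2.2 a ha)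
  · exact k _ _ _ (m.toCo.le _) m.nQ2 r r' (fun g => m.ext2 hF hS) a ha (x.g2 _ _ _ _ m.toCo m.toWy a (F.A_le_nz _ ha))
theorem rl0 : Rl p F := by
  refine (x.cases m.toCo hF hS).imp_right fun ⟨q0, r⟩ => ?_
  have eq := hS ▸ es_of hF q0
  have er := hS ▸ es_of hF r
  have tt : ∃ τ ∈ F.A S, Wt ev τ (-1) 1 (.refl K) :=
    let ⟨τ, h1, w⟩ := m.h2 x hF hS hA er (l := -1) (by simp) (by simp); ⟨τ, h1, w.cast (by simp) (by simp)⟩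
  obtain ⟨s1, q, -⟩ := m.su x hF hS hA q0 tt
  have hT : ∀ k l, k ≠ 0 → l ≠ 0 → σ l = l → ∃ τ ∈ F.A S, Wt ev τ k l (.refl K) := fun k l hk hl hl' => by
    obtain ⟨l, ν, h1, h2, h3, rfl, rfl⟩ := tor_onto hk hl hl'
    obtain ⟨a, ha, w⟩ := m.h2 x hF hS hA er h1 h2
    obtain ⟨b, hb, w'⟩ := s1 ν h3
    exact ⟨_, mul_mem ha hb.2, (w.mul1 w').cast (by ring) (by ring)⟩
  have r := x.n2 _ _ _ _ _ m.toCo m.toWy er (fun k hk => let ⟨τ, h1, w⟩ := hT k 1 hk one_ne_zero (map_one σ)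
    ⟨τ, m.res hS (.inr rfl) h1 w, w⟩) (x.s2 _ _ _ _ _ m.toCo m.toWy er).2
  replace q := x.n1 _ _ _ _ _ m.toCo m.toWy eq (fun k l hk hl hl' => let ⟨τ, h1, w⟩ := hT k l hk hl hl'
    ⟨τ, m.res hS (.inl rfl) h1 w, w⟩) q
  have a := au_of hF hS le_rfl (le_nz_self S) inf_le_left
  have DL : C0 ⊓ F.A S ≤ nz L := inf_le_left.trans m.CL
  have SG : S ≤ L ⊔ C0 ⊓ F.A S := m.syl.1.trans le_sup_left
  have sy : Syl p S (L ⊔ C0 ⊓ F.A S) := m.syl.trans ⟨le_sup_left, fun c => by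
    rw [relIndex_eq_of_cover (H := C0 ⊓ F.A S) le_sup_right fun a ha => by
      obtain ⟨b, hb, c, hc, rfl⟩ := (mem_sup_of_le_nz_right DL).1 (sup_comm L _ ▸ ha)
      exact ⟨b, hb, by simpa using hc⟩] at c
    obtain ⟨⟨k, hk⟩, o⟩ := exists_prime_orderOf_dvd_card' p (c.trans (relIndex_dvd_card _ _))
    rw [orderOf_mk] at o
    obtain ⟨-, u, hu, e⟩ := mem_ai.1 (a.syl.mem_of_pel a.An' hk.2 ⟨1, by rw [pow_one, ← o, pow_orderOf_eq_one]; exact one_mem _⟩)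
    obtain ⟨r, t, φ, w⟩ := m.wt k hk.1
    obtain ⟨u, -, rfl⟩ := m.ex hu
    have k1 : ∀ c : Dc σ, r * φ c.a = c.a ∧ t * φ c.u = c.u := fun c => by
      have := e _ (m.mS c)
      rw [w.cj] at this
      dt m.toCo [] at this
      exact ⟨by linear_combination this.1, by linear_combination this.2.1⟩
    obtain rfl : r = 1 := by simpa using (k1 (xa 1)).1
    obtain rfl : t = 1 := by simpa using (k1 (xu 1 (map_one σ))).2
    obtain rfl : φ = .refl K := RingEquiv.ext fun z => by simpa using (k1 (xa z)).1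
    rw [m.fa k hk.1 w, orderOf_one] at o
    exact hp.out.one_lt.ne o⟩
  have e : F.A S = (ofSub (L ⊔ C0 ⊓ F.A S) S).A S := by
    rw [ofSub_A SG le_rfl]
    refine le_antisymm (fun a ha => ?_) (ai_le (fun g hg => ?_) (F.cz_le_A S))
    · obtain ⟨u, hu, k, hk, -, -, -, -, e⟩ := m.dec hS hA ha
      exact e.mem_ai (mem_ai_of_mem (mul_mem (SG hu) (mem_sup_right hk)) (mul_mem (le_nz_self S hu) (m.CS hk.1)))
    · obtain ⟨l, hl, b, hb, rfl⟩ := (mem_sup_of_le_nz_left DL).1 hg.1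
      obtain ⟨s, hs, τ, k, l, w, rfl⟩ := m.nl l hl ((mul_mem_cancel_right (F.A_le_nz S hb.2)).1 (mem_inf.1 hg).2)
      obtain ⟨τ', h1, w'⟩ := hT k l w.k0 w.l0 w.hl
      exact mul_mem (mul_mem (F.N_le_A S ⟨hS.ge hs, le_nz_self S hs⟩) ((m.agW w w').mem_A h1)) hb.2
  have q' := ofSub_A SG (m.toCo.le _) ▸ mem_ai_of_mem (mem_sup_left m.M1L) (m.nM1 m.toWy)
  have r' := ofSub_A SG (m.toCo.le _) ▸ mem_ai_of_mem (mem_sup_left m.M2L) (m.nM2 m.toWy)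
  exact hS.symm ▸ ⟨_, sy, le_antisymm (m.le x hF hS hA rfl e.le tt q q' r r')
    (m.le x (sat_ofSub m.pg sy) rfl (e ▸ hA) hS e.ge (e ▸ tt) q' q r' r)⟩
omit hA
theorem rl1 (h3 : ∀ g ∈ F.A S, ∃ k l φ, k ≠ 0 ∧ l ≠ 0 ∧ σ l = l ∧ Ac ev g k l φ) : Rl p F := by
  obtain ⟨γ, hγ, k⟩ := m.cjA (F.A_le_nz S) (au_of hF hS le_rfl (le_nz_self S) inf_le_left).syl h3
  exact .of_cjs γ (m.rl0 x (hF.cjs γ) (by rw [cjs_S, hS, mem_nz.1 hγ]) (by rwa [← cjs_A, mem_nz.1 hγ] at k))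
theorem rl : Rl p F := by
  rcases (Nat.succ_le_of_lt (one_lt σ)).lt_or_eq with c | c
  · exact m.rl1 x hF hS fun g hg => x.au c S ev m.toCo g (F.A_le_nz S hg)
  refine (x.cases m.toCo hF hS).elim .inl fun ⟨q, _⟩ => ?_
  obtain rfl : p = 2 := by
    have := Fintype.ofFinite K
    obtain ⟨n, -, e⟩ := FiniteField.card K p
    rw [← Nat.card_eq_fintype_card, card_K (σ := σ), ← c] at e
    exact (Nat.prime_dvd_prime_iff_eq hp.out Nat.prime_two).1 (hp.out.dvd_of_dvd_pow (e ▸ dvd_pow_self p n.ne_zero))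
  have e := hS ▸ es_of hF q
  obtain ⟨γ, hγ, k⟩ := x.au2 c.symm S _ ev m.toCo (F.A_le_nz S) (au_of hF hS le_rfl (le_nz_self S) inf_le_left).syl
    (fun k hk => let ⟨τ, _, w⟩ := m.ex' k 1 (.refl K) hk one_ne_zero (map_one σ); ⟨τ, w⟩) fun a a' h0 h0' => by
      obtain ⟨g, hg, n, k⟩ := x.t2 S _ _ e m.nQ1 (m.cSS.mono le_rfl le_rfl m.l41) (fun s hs => m.l41 (m.pwS hs))
        _ (m.mS (xa a)) (by rwa [m.mm]) _ (m.mS (xa a')) (by rwa [m.mm])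
      obtain ⟨b, hb, ag⟩ := ext_of hF hS (m.toCo.le _) m.nQ1 hg n
      obtain ⟨c', -, e'⟩ := m.ex (conj_mem_of_mem_nz (F.A_le_nz S hb) (m.mS (xa a)))
      have n1 := m.gQ1 (F.A_le_nz S hb)
      have := e.mem (mul_mem (inv_mem (m.mS (xa a'))) (m.mS c')) (Agree.mem_ai (Agree.mul_left (fun y hy => by
        have k1 := conj_mem_of_mem_nz' n1 hy
        have k2 := ag _ k1
        have k3 := ag _ (conj_mem_of_mem_nz (m.nQ1 (m.mS (xa a))) k1)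
        rw [e']
        calc _ = b * (ev (xa a) * (b⁻¹ * y * b) * (ev (xa a))⁻¹) * b⁻¹ := by group
          _ = g * ev (xa a) * g⁻¹ * (g * (b⁻¹ * y * b) * g⁻¹) * (g * ev (xa a) * g⁻¹)⁻¹ := by rw [k3]; group
          _ = _ := by rw [← k2]; group) _) k)
      dt m.toCo [] at this
      exact ⟨b, hb, c', e'.symm, by linear_combination this⟩
  refine .of_cjs γ (m.rl1 x (hF.cjs γ) (by rw [cjs_S, hS, mem_nz.1 hγ]) fun g hg => ?_)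
  rw [← mem_nz.1 hγ, cjs_A] at hg
  obtain ⟨g, hg, rfl⟩ := hg
  exact let ⟨k, φ, h1, h2⟩ := k g hg; ⟨k, 1, φ, h1, one_ne_zero, map_one σ, h2⟩
end Md

omit [CharP K p] in
theorem Md.map {G : Type*} [Group G] [Finite G] {ev : Dc σ →* G} {L C0 : Subgroup G} {M1 M2 : G}
    (m : Md p ev.range ev L C0 M1 M2) (j : G →* Γ) (hj : Function.Injective j) :
    Md p (j.comp ev).range (j.comp ev) (L.map j) (C0.map j) (j M1) (j M2) := by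
  have c : ∀ {g : G} {u u'}, g * ev u * g⁻¹ = ev u' → j g * j.comp ev u * (j g)⁻¹ = j.comp ev u' := fun e => by
    simpa using congrArg j e
  have w : ∀ {k r t φ}, Wt ev k r t φ → Wt (j.comp ev) (j k) r t φ := fun w => ⟨w.k0, w.l0, w.hl, fun u => c (w.cj u)⟩
  have n : ∀ {X : Subgroup G} {g}, j g ∈ nz (X.map j) ↔ g ∈ nz X := fun {X g} => ⟨fun h => mem_nz_of_conj_mem fun y hy =>
    (mem_map_iff_mem hj).1 (by simpa using conj_mem_of_mem_nz h (mem_map_of_mem j hy)), fun h => mem_nz_of_conj_mem (by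
      rintro _ ⟨y, hy, rfl⟩
      simpa using mem_map_of_mem j (conj_mem_of_mem_nz h hy))⟩
  refine ⟨⟨hj.comp m.inj, fun _ => ⟨fun ⟨u, e⟩ => ⟨u, e.symm⟩, fun ⟨u, e⟩ => ⟨u, e.symm⟩⟩⟩,
    ⟨fun u h1 => c (m.f1 u h1), fun u h1 => c (m.f2 u h1)⟩, ?_, ?_, ?_, ?_,
    fun r t φ h1 h2 h3 => let ⟨k, hk, e⟩ := m.ex' r t φ h1 h2 h3; ⟨_, mem_map_of_mem j hk, w e⟩, ?_, ?_,
    mem_map_of_mem j m.M1L, mem_map_of_mem j m.M2L⟩
  · rw [MonoidHom.range_comp]; exact m.pg.map j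
  · rw [MonoidHom.range_comp]; exact ⟨map_mono m.syl.1, by rw [relIndex_map_map_of_injective _ _ hj]; exact m.syl.2⟩
  · rintro _ ⟨k, hk, rfl⟩; exact n.2 (m.CL hk)
  · rintro _ ⟨k, hk, rfl⟩
    exact let ⟨r, t, φ, e⟩ := m.wt k hk; ⟨r, t, φ, w e⟩
  · rintro _ ⟨k, hk, rfl⟩ e
    rw [m.fa k hk ⟨e.k0, e.l0, e.hl, fun u => hj (by simpa using e.cj u)⟩, map_one]
  · rintro _ ⟨g, hg, rfl⟩ e
    rw [MonoidHom.range_comp] at e ⊢
    obtain ⟨s, hs, τ, k, l, h3, rfl⟩ := m.nl g hg (n.1 e)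
    exact ⟨_, mem_map_of_mem j hs, _, k, l, w h3, map_mul ..⟩

theorem fin (x : ∀ N, Ck σ (Univ N) p) (md : MD σ p) {Ω : Type*} [Group Ω] {S : Subgroup Ω} [Finite S] (hS : IsPGroup p S)
    (F : FusionSystem S) (hF : F.IsSaturated p) (e : S ≃* Dc σ) : F.IsRealizable p := by
  obtain ⟨G, _, _, ev, L, C0, M1, M2, m⟩ := md
  obtain ⟨N, θ, h1, h2, h3⟩ := exists_big_embed S (Nat.card G) Nat.card_pos
  obtain ⟨j, a1, -, a3⟩ := exists_good_extend h3.pos h1 θ h2 h3.good (ev.comp e.toMonoidHom) (m.inj.comp e.injective)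
  have R := URep.rep ⟨h2, h3⟩ le_rfl F
  have e1 : (fs θ F).S = (j.comp ev).range := by
    rw [fs_S, im_self]
    ext w
    exact ⟨fun ⟨s, c⟩ => ⟨e s, (a3 s).trans c⟩, fun ⟨t, c⟩ => ⟨e.symm t, by rw [← a3, ← c]; simp⟩⟩
  rcases (m.map j a1).rl (x N) (R.sat hS hF) e1 with c | ⟨H, c1, c2⟩
  · exact H4.realizable_of_constr R hS c
  · exact H4.Rz.realizable (G := H) ⟨H.subtype, subtype_injective _, by rwa [range_subtype], by rwa [range_subtype]⟩ R hS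

end H29.TD
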