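/-
Fusion systems on a Sylow `p`-subgroup of `³D₄(q)`, part 6: essential subgroups I.
-/
import Cfsg.Agent.H29.TD3

set_option autoImplicit false
set_option linter.unusedSectionVars false
set_option linter.unusedSimpArgs false

namespace H29.TD
open Subgroup H25 H25.FS H8.PU Dc
universe u v
variable {K : Type v} [Field K] [Finite K] {σ : K →+* K} [TV σ] {Γ : Type u} [Group Γ] [Finite Γ] {p : ℕ} [hp : Fact p.Prime]
  [CharP K p] {S P A X Y : Subgroup Γ} {ev : Dc σ →* Γ} {g w : Γ} {c : Dc σ}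

/-- polynomial identities, one of them with a hint -/
macro "lc " t:term : tactic => `(tactic| ((repeat' apply And.intro) <;> first | ring1 | linear_combination $t:term))
theorem fx_le : Nat.card (Fx σ) ≤ Nat.card K :=
  Nat.card_le_card_of_injective Subtype.val Subtype.val_injective
/-- an upper bound for an index by an additive coordinate -/
theorem Co.idx (h : Co S ev) (hX : X ≤ S) {ι : Type*} [Finite ι] (f : Dc σ → ι)
    (k : ∀ c c', ev c ∈ X → ev c' ∈ X → f c = f c' → (ev c)⁻¹ * ev c' ∈ Y) : Y.relIndex X ≤ Nat.card ι := by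
  classical
  refine idx_le' (fun i => if e : ∃ c, ev c ∈ X ∧ f c = i then ev e.choose else 1) fun b hb => ?_
  obtain ⟨c, -, rfl⟩ := h.ex (hX hb)
  have e : ∃ c', ev c' ∈ X ∧ f c' = f c := ⟨c, hb, rfl⟩
  exact ⟨f c, by rw [dif_pos e]; exact k _ _ e.choose_spec.1 hb e.choose_spec.2⟩
theorem Co.zo1 (h : Co S ev) (e : Au p S P A) : (Z1 σ).map ev ≤ zo p P := fun _ hw =>
  ⟨h.Z1P e hw, cz_anti e.le (h.cS1.symm.cz hw), h.pw3 (h.l23 (h.l12 hw))⟩

theorem ed (dff : DFF Γ p) : ED σ Γ p := fun S P A ev h e gn h3 h1 => by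
  have z := h.Z1P e.toAu
  refine le_antisymm h1 (by_contra fun n => ?_)
  have k : ¬ (Z1 σ).map ev ≤ fr P := fun c => n fun x hx =>
    e.ch [] trivial (h.le _ hx) (h.c11.nz' h1 z hx) (h.c11.cm hx h1 c)
  have e3 : P = (Z3 σ).map ev := le_antisymm (fun w hw => by
    have := h1 hw
    db h this c hc
    have u0 : c.u = 0 := by_contra fun u0 => k (h.Zle u0 fun _ _ => cm_fr e.pP hw (h3 (by dt h [])))
    exact h.mm.2 ⟨hc, u0, by_contra fun s0 => k (h.Zle' hc u0 s0 fun _ => cm_fr e.pP hw (h3 (by dt h [])))⟩) h3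
  subst e3
  obtain ⟨b, hb, k⟩ := (dff S _ A ((Z4 σ).map ev) _ e gn (h.le _) ((h.le _).trans h.nZ3) (fun c => by
      have := c (show ev (xs 1) ∈ _ by dt h [])
      dt h [] at this
      exact one_ne_zero this) (h.c11.mono h.l41 h.l41 z) (fun b hb => z (h.pw1 (h.l41 hb))) (h.c11.mono h.l41 h1 le_rfl) z
    ((h.idx (h.le _) (fun c => (⟨c.z, c.hz⟩ : Fx σ)) fun c c' k k' e => by
      rw [show c' = c by dt h [] at k k'; dt h [k, k', Subtype.mk.inj e], inv_mul_cancel]; exact one_mem _).trans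
      (fx_le.trans (le_idx (fun s => ev (xs s)) (fun s => by dt h []) fun s s' k => by
        dt h [] at k; linear_combination -k)))).nm _ (h.mS (xa 1)) (h.nZ3 (h.mS _))
  db h hb d hd
  dt h [hd.1] at k
  exact one_ne_zero k.1

theorem ea (ff : FF1 Γ p) : EA σ Γ p := fun S P A ev h e gn => by
  by_contra n
  have z := h.zo1 e.toAu
  have zP := z.trans zo_le
  have n2 : (Z2 σ).map ev ≤ nz P := h.cS2.symm.nz' e.le zP
  have ch : ∀ l, Al P A l → ¬ ∀ x ∈ (Z2 σ).map ev, Ch x (fr P) P l := fun l k k' => n fun x hx =>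
    e.ch l k (h.le _ hx) (n2 hx) (k' x hx)
  obtain ⟨w, hw, k⟩ := SetLike.not_le_iff_exists.1 fun c : zo p P ≤ (Q2 σ).map ev => ch [zo p P] ⟨e.zo_n, trivial⟩ fun x hx =>
    ⟨h.cS2.symm.cm hx e.le z, h.c2Z.symm.cm hx c bot_le⟩
  obtain ⟨w, -, rfl⟩ := h.ex (e.le hw.1)
  rw [h.mm, mQ2] at k
  have cw : ∀ c, ev c ∈ P → c * w = w * c := fun c hc => h.inj (by rw [map_mul, map_mul, mem_cz'.1 hw.2.1 _ hc])
  obtain ⟨b, b1, b2⟩ := SetLike.not_le_iff_exists.1 n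
  have nm := (ff S P A ((Z2 σ).map ev) (zo p P) ⊥ (zo p P ⊓ (Q2 σ).map ev) [] [] e gn (h.le _) n2
    (h.cS2.mono (h.le _) le_rfl zP) (fun b hb => h.pw3 (p := p) (h.l23 hb) ▸ one_mem _) bot_le inf_le_left zo_le e.zo_n.2
    (fun g _ => nz_bot g) (fun x hx y hy => by simp [mem_cz'.1 hy.2.1 x hx]) (fun x hx => hx.2.2)
    (h.c2Z.symm.mono le_rfl inf_le_right le_rfl) ((h.idx (zo_le.trans e.le) (fun c => (⟨c.u, c.hu⟩ : Fx σ)) fun c c' k k' e =>
      mem_inf.2 ⟨mul_mem (inv_mem k) k', by dt h [Subtype.mk.inj e]⟩).trans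
      (le_idx (fun v : Fx σ => ev (xv v (fx v))) (fun s => by dt h []) fun s s' k' => by
        rw [h.inv, h.mul] at k'
        have := cw _ k'
        ds h [] at this
        exact Subtype.ext (mul_left_cancel₀ k (by linear_combination this.2)))) trivial trivial
    ⟨b, b1, b2, h.cS2.symm.cm b1 e.le z, fun y hy => by simp [mem_bot.1 hy]⟩).nm
  have nm' : ∀ c, ev c ∈ nz P → ∃ d, ev d ∈ P ∧ d.a = c.a ∧ d.u = c.u ∧ d.s = c.s ∧ d.r = c.r := fun c hc => by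
    obtain ⟨b, hb, k⟩ := nm _ (h.mS c) hc
    db h hb d hd
    refine ⟨d⁻¹ * c, by rwa [h.inv, h.mul] at k, ?_⟩
    ds h [] at hd
    ds h [hd]
  have ta : ∀ c, ev c ∈ P → c.a * w.u = w.a * c.u := fun c hc => by
    have := cw c hc
    ds h [] at this
    linear_combination -this.2.2.1
  by_cases a0 : w.a = 0
  · have P1 : P ≤ (Q1 σ).map ev := fun x hx => by
      obtain ⟨c, -, rfl⟩ := h.ex (e.le hx)
      exact h.mm.2 (show c.a = 0 by simpa [a0, k] using ta c hx)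
    obtain ⟨d, d0, d1, d2, d3, -⟩ := nm' (xs 1) (h.c11.nz' P1 zP (by dt h []))
    refine ch [] trivial fun x hx => h.cS2.symm.cm hx e.le (h.up bot_le fun z hz => ?_)
    obtain ⟨r, hr⟩ := tr_onto (σ := σ) one_ne_zero (c := -z.z) (by rw [map_neg, z.hz])
    obtain ⟨d', d0', k'⟩ := nm' (xr r) (h.c11.nz' P1 zP (by dt h []))
    refine ⟨_, cm_fr e.pP d0 d0', ?_⟩
    rw [mem_bot, inv_mul_eq_one, cm_eq]
    ds h [] at hz hr d1 d2 d3 k'
    ds h [hz, d1, d2, d3, k']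
    cg
  obtain ⟨s, s0, hs, -⟩ := ex_perp (σ := σ) (sh σ w.a) 0
  obtain ⟨r, hr⟩ := tr_onto (σ := σ) a0 (c := tr σ (w.s * cr σ w.a s) / w.u) (by rw [map_div₀, s_tr, w.hu])
  obtain ⟨d, d0, d1, d2, d3, -⟩ := nm' (el 0 s r) (mem_nz_of_conj_mem fun x hx => by
    obtain ⟨c, -, rfl⟩ := h.ex (e.le hx)
    obtain ⟨t, ht, e1, e2⟩ : ∃ t, σ t = t ∧ c.a = t * w.a ∧ c.u = t * w.u :=
      ⟨c.u / w.u, by rw [map_div₀, c.hu, w.hu], by field_simp; linear_combination ta c hx, by field_simp⟩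
    obtain ⟨d, d0, d1, d2, d3, d4⟩ := nm' (xr (cr σ c.a s)) (mem_nz_of_conj_mem fun y hy => by
      obtain ⟨c', -, rfl⟩ := h.ex (e.le hy)
      refine (mul_mem_cancel_right (inv_mem hy)).1 (zP ?_)
      have := ta c' hy
      have e3 : c'.a = c'.u / w.u * w.a := by field_simp; linear_combination this
      ds h [map_div₀, e1, ht, e3] at hs ⊢
      lc (2 * t * (c'.u / w.u)) * hs)
    have e4 := cw d d0
    refine (mul_mem_cancel_right (inv_mem hx)).1 ((mul_mem_cancel_left (inv_mem d0)).1 (zP ?_))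
    rw [eq_div_iff k] at hr
    ds h [] at d1 d2 d3 d4
    ds h [d1, d2, d3, d4, e1, ht] at e4 hs hr ⊢
    refine ⟨by ring, by ring, mul_left_cancel₀ k ?_⟩
    linear_combination t * hr - w.u * t ^ 2 * hs + e4.2.2)
  have := cw d d0
  ds h [] at d1 d2 d3
  exact s0 (cr00 a0 (by ds h [d1, d2, d3] at this ⊢; linear_combination this.2.1) hs)

theorem ec (dff : DFF Γ p) : EC σ Γ p := fun S P A ev h e gn h2 hQ => by
  by_contra n
  have z := h.zo1 e.toAu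
  have f1 := h.frZ1 e.pP h2 e.le hQ
  have n3 : (Z3 σ).map ev ≤ nz P := h.cS3.symm.nz' e.le h2
  obtain ⟨e0, h0, u0⟩ := SetLike.not_le_iff_exists.1 hQ
  obtain ⟨e0, -, rfl⟩ := h.ex (e.le h0)
  rw [h.mm, mQ2] at u0
  obtain ⟨x, hx, a0⟩ := SetLike.not_le_iff_exists.1 fun c : zm P (zo p P) ≤ (Q1 σ).map ev => n fun y hy =>
    e.ch [_] ⟨e.zm_n e.zo_n.2, trivial⟩ (h.le _ hy) (n3 hy) ⟨h.cS3.symm.cm hy e.le fun w hw =>
      mem_zm.2 ⟨h2 hw, h.cS2.symm.cm hw e.le z⟩, h.c11.cm (h.l31 hy) c f1⟩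
  obtain ⟨hx, cx⟩ := mem_zm.1 hx
  have cw : ∀ y ∈ P, ∀ y' ∈ P, y' * (x * y * x⁻¹ * y⁻¹) = x * y * x⁻¹ * y⁻¹ * y' := fun y hy => mem_cz'.1 (cx y hy).2.1
  obtain ⟨x, -, rfl⟩ := h.ex (e.le hx)
  have ta : ∀ c, ev c ∈ P → c.a * x.u = x.a * c.u := fun c hc => by
    have := h.l1 (h.mS x) a0 (h.l41 (h.cSS _ (h.mS x) _ (h.mS c))) (cx _ hc).2.2 (by rw [cw _ hc _ hx]; simp [mul_assoc])
    dt h [] at this
    linear_combination this.2.2
  rw [h.mm, mQ1] at a0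
  have ux : x.u ≠ 0 := fun c => u0 (by simpa [c, a0] using ta e0 h0)
  have tt : ∀ c, ev c ∈ P → ∃ t, σ t = t ∧ c.a = t * x.a := fun c hc =>
    ⟨c.u / x.u, by rw [map_div₀, c.hu, x.hu], by field_simp; linear_combination ta c hc⟩
  have cJ : CC ((Jm σ x.a).map ev) P ((Z1 σ).map ev) := fun y hy w hw => by
    obtain ⟨c, -, rfl⟩ := h.ex (e.le hw)
    obtain ⟨t, ht, k⟩ := tt c hw
    db h hy d hd
    ds h [] at hd
    ds h [hd.1, hd.2.1, hd.2.2.1, k, ht]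
    lc t * hd.2.2.2
  have J : (Jm σ x.a).map ev ≤ P := fun y hy => e.ch [] trivial (h.le _ hy) (cJ.nz' le_rfl (z.trans zo_le) hy) (cJ.cm hy le_rfl f1)
  obtain ⟨r0, hr⟩ := tr_onto (σ := σ) a0 (map_one σ)
  have nm := (dff S P A ((Z3 σ).map ev) _ e gn (h.le _) n3 n (h.c33.mono le_rfl le_rfl bot_le)
    (fun b hb => h.pw3 (p := p) hb ▸ one_mem _) (h.cS3.symm.mono le_rfl e.le le_rfl) h2
    ((h.idx (h.le _) (fun c => (⟨c.v, c.hv⟩ : Fx σ)) fun c c' k k' e => f1 (by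
      ds h [] at k k'; ds h [k, k', Subtype.mk.inj e]; ring)).trans
      (le_idx (fun t : Fx σ => ev (xr (t * r0))) (fun s => by dt h []) fun s s' k => by
        have := cw _ k _ h0
        ds h [fx] at this hr
        exact Subtype.ext (mul_left_cancel₀ u0 (by linear_combination e0.u * (s' - s) * hr + this.2.2.2))))).nm
  have k : ∀ s, tr σ (sh σ x.a * s) = 0 → ∃ d, ev d ∈ P ∧ d.a = 0 ∧ d.u = 0 ∧ d.s = s := fun s hs => by
    obtain ⟨b, hb, k⟩ := nm _ (h.mS (xs s)) (mem_nz_of_conj_mem fun y hy => by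
      obtain ⟨c, -, rfl⟩ := h.ex (e.le hy)
      obtain ⟨t, ht, k⟩ := tt c hy
      refine (mul_mem_cancel_right (inv_mem hy)).1 (J ?_)
      ds h [k, ht] at hs ⊢
      lc 2 * t * hs)
    db h hb d hd
    refine ⟨d⁻¹ * xs s, by rwa [h.inv, h.mul] at k, ?_⟩
    ds h [] at hd
    ds h [hd]
  obtain ⟨s, s', h3, h4, h5⟩ := ex_T (σ := σ) a0
  obtain ⟨d, d0, d1, d2, rfl⟩ := k s h3
  obtain ⟨d', d0', d1', d2', rfl⟩ := k s' h4
  have := cw _ d0 _ d0'
  ds h [d1, d2, d1', d2'] at this h5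
  exact h5 (by linear_combination this.2.2.2)

end H29.TD
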