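/-
Fusion systems on a Sylow `p`-subgroup of `³D₄(q)`, part 7: essential subgroups II.
-/
import Cfsg.Agent.H29.TD6

set_option autoImplicit false
set_option linter.unusedSectionVars false
set_option linter.unusedSimpArgs false

namespace H29.TD
open Subgroup H25 H25.FS H8.PU Dc
universe u v
variable {K : Type v} [Field K] [Finite K] {σ : K →+* K} [TV σ] {Γ : Type u} [Group Γ] [Finite Γ] {p : ℕ} [hp : Fact p.Prime]
  [CharP K p] {S P A X Y : Subgroup Γ} {ev : Dc σ →* Γ} {g w : Γ} {c : Dc σ}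

theorem two_iff : (2 : K) = 0 ↔ p = 2 := ⟨fun t => (Nat.prime_dvd_prime_iff_eq hp.out Nat.prime_two).1
  ((CharP.cast_eq_zero_iff K p 2).1 (by simpa using t)), fun t => by subst t; simpa using CharP.cast_eq_zero K 2⟩

theorem bo1 (ff : FF1 Γ p) : BO1 σ Γ p := fun S A ev h e ti g hg h2 => by
  by_contra n
  have T : ai S ((Q1 σ).map ev) ≤ A ⊓ nz ((Z2 σ).map ev) := le_inf e.nA (ai_le (inf_le_left.trans h.nZ2)
    ((cz_anti (h.l23.trans h.l31)).trans (cz_le_nz _)))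
  obtain ⟨N, hN, e', gn⟩ := gen' (A := A ⊓ nz ((Z2 σ).map ev)) ⟨⟨e.pg, e.le, e.cen, T, inf_le_left.trans e.An,
    e.syl.mono_right T inf_le_left⟩, e.ne, _, le_inf T (le_nz_self _), inf_le_left, fun c => n (c ⟨hg, h2⟩).2,
    fun g hg u hu k c => ⟨hg, (ti.ti g hg.1 u hu k c).2⟩⟩
  have n2 := hN.trans inf_le_right
  have na : ev (xa 1) ∉ (Q1 σ).map ev := by dt h []; exact one_ne_zero
  have f := ff S _ N S ((Z4 σ).map ev) ((Z2 σ).map ev) ((Z3 σ).map ev) [] [] e' gn le_rfl h.nQ1 (h.cSS.mono le_rfl le_rfl h.l41)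
    (fun b hb => h.l41 (h.pwS hb)) h.l23 h.l34 h.l41 (fun g hg => h.q1Z4 (e'.An hg) (n2 hg)) n2 (h.c11.mono le_rfl h.l41 h.l12)
    (fun x hx => h.l12 (h.pw1 (h.l41 hx))) h.cS3 ((h.idx (h.le _) Dc.s fun c c' k k' e => by
      dt h [] at k k'; dt h [k, k', e]; ring).trans (le_idx (fun a => ev (xa a)) (fun a => h.mS _) fun a a' k => by
      dt h [] at k; linear_combination -k)) trivial trivial
    ⟨_, h.mS _, na, h.cSS.cm (h.mS _) (h.le _) le_rfl, h.cS2.cm (h.mS _) le_rfl (h.fr1 e.pg)⟩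
  by_cases t : (2 : K) = 0
  · have := f.fx _ (h.mS _) (h.nQ1 (h.mS _)) na (ev (xs 1)) (by dt h []) (by ds h []; lc -t)
    dt h [] at this
    exact one_ne_zero this
  obtain ⟨s, hs⟩ := tr_onto (σ := σ) one_ne_zero (map_one σ)
  have := f.qd (mt two_iff.2 t) _ h.l12 (fun g hg => h.q1Z1 (e'.An hg)) (h.c11.mono le_rfl h.l41 le_rfl)
    (fun x hx => h.pw1 (h.l41 hx)) (h.cS2.mono inf_le_left le_rfl le_rfl) _ (h.mS (xa 1)) (h.nQ1 (h.mS _)) _ (h.mS (xa 1))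
    (h.nQ1 (h.mS _)) (ev (xs s)) (by dt h [])
  ds h [] at this hs
  exact t (by linear_combination this.2.2 - 2 * hs)

theorem ee0 (ff : FF1 Γ p) (h : Co S ev) (e : Es p S P A) (gn : Gen S P A) (h3 : (Z3 σ).map ev ≤ P) (h2 : P ≤ (R2 σ).map ev) :
    P ≤ (Q1 σ).map ev := by
  by_contra n
  obtain ⟨x, hx, a0⟩ := SetLike.not_le_iff_exists.1 n
  have := h2 hx
  db h this x hx'
  rw [h.mm, mQ1] at a0
  have zv : ∀ X, (∀ y ∈ P, ∀ y' ∈ P, y * y' * y⁻¹ * y'⁻¹ ∈ X) → (Zv σ).map ev ≤ X := fun X k => h.up bot_le fun d hd =>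
    let ⟨r, e⟩ := tr_onto (σ := σ) a0 (c := -d.v) (by rw [map_neg, d.hv])
    ⟨_, k _ hx (ev (xr r)) (h3 (by dt h [])), by
      rw [mem_bot, inv_mul_eq_one, cm_eq]; ds h [] at hd e hx'; ds h [hd, hx']; lc -e⟩
  have f1 := zv _ fun _ k _ => cm_fr e.pP k
  obtain rfl : P = (R2 σ).map ev := le_antisymm h2 fun y hy =>
    e.ch [] trivial (h.le _ hy) (h.cRR.nz' h2 (f1.trans (fr_le _)) hy) (h.cRR.cm hy h2 f1)
  have c2 := h.c22.mono le_rfl le_rfl h3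
  have n2 := c2.nz' h.lR2 le_rfl
  have ns : ev (xs 1) ∉ (R2 σ).map ev := by dt h []; exact one_ne_zero
  have pw : ∀ x ∈ (R2 σ).map ev, x ^ p ∈ (Zv σ).map ev := fun x hx => by
    db h hx c hc
    exact ev.map_pow c p ▸ h.mm.2 ⟨pw_add Dc.a (fun _ _ _ _ => rfl) hc, pw_add Dc.u (fun _ _ _ _ => rfl) hc,
      pw_add Dc.s (fun _ k _ _ => by simp [mR2.1 k]) hc, pw_add Dc.r (fun _ k _ _ => by simp [mR2.1 k, cr]) hc,
      pw_add Dc.z (fun _ k _ _ => by simp [mR2.1 k, tr, sh]) hc⟩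
  have f := ff S _ A ((Q2 σ).map ev) _ ((Z2 σ).map ev) ((Z3 σ).map ev) [] [] e gn (h.le _) n2 c2
    (fun b hb => h3 (h.pw2 hb)) h.l23 h3 le_rfl e.An (fun g hg => nz_of_cz (fun w => ⟨fun k => ⟨h3 (h.l23 k),
      cz_anti h.lR2 (h.c2Z.symm.cz k)⟩, fun ⟨k1, k2⟩ => by
        have := h.cZ3 (h.le _ k1) (cz_anti h3 k2)
        db h this c hc
        refine h.mm.2 ⟨hc.1, hc.2.1, hc.2.2, tr_nd (σ := σ) fun a => ?_⟩
        have := mem_cz'.1 k2 (ev (xa a)) (by dt h [])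
        ds h [] at hc
        ds h [hc] at this ⊢
        grind⟩) (e.An hg) (e.An hg)) (h.cRR.mono le_rfl le_rfl h.lv2) (fun x hx => h.lv2 (pw x hx))
    (h.cS3.mono (h.le _) le_rfl le_rfl) ((h.idx (h.le _) Dc.a fun c c' k k' e => by
      dt h [] at k k'; dt h [k, k', e]).trans (le_idx (fun a => ev (xs a)) (fun a => by dt h []) fun a a' k => by
      dt h [] at k; linear_combination -k)) trivial trivial
    ⟨ev (xs 1), by dt h [], ns, cm_nz (n2 (by dt h [])), h.c2Z.cm (by dt h []) le_rfl bot_le⟩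
  by_cases t : (2 : K) = 0
  · have := f.fx _ (h.mS _) (n2 (by dt h [])) ns (ev (xa 1)) (by dt h []) (by ds h []; lc t)
    dt h [] at this
    exact one_ne_zero this
  obtain ⟨s, hs⟩ := tr_onto (σ := σ) one_ne_zero (map_one σ)
  have := f.qd (mt two_iff.2 t) _ h.lv2 ((show ⁅_, _⁆ = (Zv σ).map ev from le_antisymm (commutator_le.2 h.cRR)
      (zv _ fun _ k _ => commutator_mem_commutator k)) ▸ nz_le_nz_commutator e.An e.An) h.cRR pw
    (h.c2Z.mono (fun y hy => let ⟨b, hb, k⟩ := f.nm y hy.1 hy.2; (mul_mem_cancel_left (inv_mem hb)).1 (h.lR2 k)) le_rfl bot_le)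
    _ (h.mS (xs 1)) (n2 (by dt h [])) _ (h.mS (xs 1)) (n2 (by dt h [])) (ev (xa s)) (by dt h [])
  ds h [] at this hs
  exact t (by linear_combination -this.2.2 - 2 * hs)

theorem ee1 (ff : FF1 Γ p) : EE1 σ Γ p := fun S P A ev h e gn h3 h2 h1 => by
  by_contra n
  obtain ⟨x, hx, a0⟩ := SetLike.not_le_iff_exists.1 h1
  have := h2 hx
  db h this x hx'
  rw [h.mm, mQ1] at a0
  have k : ∀ c, ev c ∈ P → ¬ ∀ v z, σ v = v → σ z = z →
      ∃ r r', tr σ (x.a * r) + tr σ (c.a * r') = v ∧ tr σ (x.s * r) + tr σ (c.s * r') = z := fun c hc k =>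
    n (h.up bot_le fun d hd => let ⟨r, r', e1, e2⟩ := k (-d.v) (-d.z) (by rw [map_neg, d.hv]) (by rw [map_neg, d.hz])
      ⟨_, mul_mem (cm_fr e.pP hx (h3 (show ev (xr r) ∈ _ by dt h []))) (cm_fr e.pP hc (h3 (show ev (xr r') ∈ _ by dt h []))), by
        have := h.mm.1 (h2 hc)
        rw [mem_bot, inv_mul_eq_one]; ds h [] at hd e1 e2 hx' this; ds h [hd, hx', this]
        exact ⟨by ring, by ring, by linear_combination -e1, by linear_combination -e2⟩⟩)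
  obtain ⟨l, hl, el⟩ : ∃ l, σ l = l ∧ x.s = l * x.a := by
    by_contra! c
    exact k x hx fun v z hv hz => let ⟨r, e1, e2⟩ := (ind_of a0 c).onto hv hz; ⟨r, 0, by simp [e1, tr_zero], by simp [e2, tr_zero]⟩
  refine h1 (h.conj_map (xu l hl) h.nQ1 ▸ ee0 ff (h.conj _) e gn ((h.conj_map _ h.nZ3).symm ▸ h3) fun y hy => ?_)
  have := h2 hy
  db h this c hc
  have e1 : c.s - l * c.a = 0 := by_contra fun n => k c hy fun v z hv hz => by
    obtain ⟨r', e1⟩ := tr_onto (σ := σ) n (c := z - l * v) (by fs [hv, hz, hl])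
    obtain ⟨r, e2⟩ := tr_onto (σ := σ) a0 (c := v - tr σ (c.a * r')) (by rw [map_sub, hv, s_tr])
    exact ⟨r, r', by rw [e2]; ring, by fs [el, hl] at e1 e2 ⊢; linear_combination e1 + l * e2⟩
  refine ⟨(xu l hl)⁻¹ * c * xu l hl, ?_, by simp [mul_assoc]⟩
  dt h [mQ2.1 hc]
  linear_combination e1

theorem ef : EF σ Γ p := fun S P A ev h e h3 => by
  by_contra! n
  obtain ⟨e1, h1, a0⟩ := SetLike.not_le_iff_exists.1 n.1
  obtain ⟨e2, h2, u0⟩ := SetLike.not_le_iff_exists.1 n.2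
  have f2 := h.frZ2 e.pP h3 e.le n.1 (h.frZ1 e.pP (h.l23.trans h3) e.le n.2)
  obtain ⟨e2, -, rfl⟩ := h.ex (e.le h2)
  rw [h.mm, mQ2] at u0
  let Y : Subgroup Γ := ⨅ g : A, cj g ((Q1 σ).map ev ⊓ P)
  have mY : ∀ w, w ∈ Y ↔ ∀ g ∈ A, g * w * g⁻¹ ∈ (Q1 σ).map ev ⊓ P := fun w => by
    simp only [Y, mem_iInf, mem_cj]
    exact ⟨fun k g hg => by simpa using k ⟨g⁻¹, inv_mem hg⟩, fun k g => by simpa using k g⁻¹ (inv_mem g.2)⟩
  have Y1 : Y ≤ (Q1 σ).map ev ⊓ P := fun w hw => by simpa using (mY w).1 hw 1 (one_mem _)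
  have nY : A ≤ nz Y := le_nz_iff.2 fun g hg w hw => (mY _).2 fun k hk => cj_mul2 k g w ▸ (mY w).1 hw _ (mul_mem hk hg)
  have Y3 : (Z3 σ).map ev ≤ Y := fun w hw => (mY w).2 fun g hg => ⟨by_contra fun c => by
    have n3 : P ≤ nz (cj g ((Z3 σ).map ev)) := by
      rw [← mem_nz.1 (e.An hg), ← cj_nz]; exact cj_mono g (e.le.trans h.nZ3)
    have m := conj_mem_cj g hw
    have mP := conj_mem_of_mem_nz (e.An hg) (h3 hw)
    have k : ∀ y ∈ P, g * w * g⁻¹ * y * (g * w * g⁻¹)⁻¹ * y⁻¹ ∈ cj g ((Z3 σ).map ev) := fun y hy => by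
      simpa only [mul_assoc] using mul_mem m (conj_mem_of_mem_nz (n3 hy) (inv_mem m))
    have k1 : ∀ y ∈ cj g ((Z3 σ).map ev), y ^ p = 1 ∧ g * w * g⁻¹ * y * (g * w * g⁻¹)⁻¹ * y⁻¹ = 1 := by
      rintro _ ⟨y, hy, rfl⟩
      exact ⟨by rw [← map_pow, h.pw3 hy, map_one], by simpa [mul_assoc] using congrArg (g * · * g⁻¹) (h.c33 w hw y hy)⟩
    obtain ⟨x, -, ex⟩ := h.ex (e.le mP)
    rw [← ex] at c k k1
    have k2 := h.l1 (h.mS x) c (h.l41 (h.cSS _ (h.mS x) _ (h.mS e2))) (k1 _ (k _ h2)).1 ((k1 _ (k _ h2)).2 ▸ one_mem _)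
    replace c : x.a ≠ 0 := fun k => c (h.mm.2 k)
    obtain ⟨r, hr⟩ := tr_onto (σ := σ) c (map_one σ)
    have k3 := (k1 _ (k (ev (xr r)) (h3 (by dt h [])))).2
    ds h [] at k2 k3 hr
    have : x.u = 0 := by linear_combination -x.u * hr - k3.2.2.2
    exact c (mul_left_cancel₀ u0 (by linear_combination e2.a * this - k2.2.2)), conj_mem_of_mem_nz (e.An hg) (h3 hw)⟩
  have f1 := h.l12.trans f2
  have h4 : (Z4 σ).map ev ≤ P := fun x hx => e.ch [Y] ⟨⟨Y1.trans inf_le_right, nY⟩, trivial⟩ (h.le _ hx)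
    (h.cS4.symm.nz' e.le h3 hx) ⟨h.cS4.symm.cm hx e.le Y3, h.c11.cm (h.l41 hx) (Y1.trans inf_le_left) f1⟩
  have nS := h.nS h4 e.le
  have n1 : A ≤ nz ((Z1 σ).map ev) := fun g hg => nz_of_cz (fun w => ⟨fun k => ⟨h3 (h.l23 (h.l12 k)),
    cz_anti e.le (h.cS1.symm.cz k)⟩, fun ⟨k1, k2⟩ => by
      have := h.cZ (e.le k1) (cz_anti h4 k2)
      db h this c hc
      have := mem_cz'.1 k2 _ h2
      ds h [] at hc
      ds h [hc] at this ⊢
      exact mul_left_cancel₀ u0 (by linear_combination this.2)⟩) (e.An hg) (e.An hg)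
  have nP : A ≤ nz ((Q1 σ).map ev ⊓ P) := fun g hg => nz_of_char (fun w => ⟨fun k => ⟨k.2, h.c11.cm k.1 (Y1.trans inf_le_left) le_rfl⟩,
    fun k => ⟨h.cQ1 (e.le k.1) (k.2.mono Y3 le_rfl), k.1⟩⟩) (e.An hg) (nY hg) (n1 hg)
  have l1 : ∀ g ∈ A, ∀ x ∈ P, x ∉ (Q1 σ).map ev → ∀ w ∈ (Z3 σ).map ev, x * w * x⁻¹ * w⁻¹ ∈ (Z1 σ).map ev →
      g * w * g⁻¹ ∈ (Z3 σ).map ev := fun g hg x hx c w hw k =>
    h.l1 (e.le (conj_mem_of_mem_nz (e.An hg) hx)) (fun c' => not_cj (nP hg) (fun k => c k.1) ⟨c', conj_mem_of_mem_nz (e.An hg) hx⟩)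
      (conj_mem_of_mem_nz (nP hg) ⟨h.l31 hw, h3 hw⟩).1 (by rw [conj_pow, h.pw3 hw]; simp) (cj_cm g x w ▸ conj_mem_of_mem_nz (n1 hg) k)
  obtain ⟨x, -, rfl⟩ := h.ex (e.le h1)
  have a1 : x.a ≠ 0 := by rwa [h.mm] at a0
  by_cases tt : ∀ c, ev c ∈ P → ∃ t, σ t = t ∧ c.a = t * x.a
  swap
  · push Not at tt
    obtain ⟨y, hy, k⟩ := tt
    have i := ind_of a1 k
    have n3 : A ≤ nz ((Z3 σ).map ev) := le_nz_iff.2 fun g hg w hw => by
      db h hw c hc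
      obtain ⟨r, k1, k2⟩ := i.onto (s_tr (x.a * c.r)) (map_zero σ)
      rw [show ev c = ev (c * (xr r)⁻¹) * ev (xr r) by simp, cj_mul']
      ds h [] at hc k1 k2
      exact mul_mem (l1 g hg _ h1 a0 _ (by ds h [hc]) (by ds h [hc]; lc k1))
        (l1 g hg _ hy (by rw [h.mm]; exact i.symm.ne) _ (by ds h []) (by ds h []; lc -k2))
    exact e.nS fun s hs => e.ch [(Z4 σ).map ev, (Z3 σ).map ev] ⟨⟨h4, fun g hg => nz_of_char (fun w => ⟨fun k => ⟨mem_inf.2 ⟨h.l41 k, h4 k⟩,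
      h.cS4.symm.cm k e.le le_rfl⟩, fun ⟨k1, k2⟩ => by
        have := k2 _ h1
        replace k1 := k1.1
        db h k1 c hc
        ds h [mQ1.1 hc] at this ⊢
        exact mul_left_cancel₀ a1 (by linear_combination this.2)⟩) (nP hg) (e.An hg) (n3 hg)⟩, ⟨h3, n3⟩, trivial⟩ hs (nS hs)
      ⟨h.cSS.cm hs e.le le_rfl, h.cS4.cm hs le_rfl le_rfl, h.cS3.cm hs le_rfl f2⟩
  have cJ : CC ((Jm σ x.a).map ev) P ((Z1 σ).map ev) := fun y hy w hw => by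
    obtain ⟨c, -, rfl⟩ := h.ex (e.le hw)
    obtain ⟨t, ht, k⟩ := tt c hw
    db h hy d hd
    ds h [] at hd
    ds h [hd.1, hd.2.1, hd.2.2.1, k, ht]
    lc t * hd.2.2.2
  have J3 : (Jm σ x.a).map ev ≤ (Z3 σ).map ev := map_mono fun c hc => ⟨hc.1, hc.2.1, hc.2.2.1⟩
  have nJ : A ≤ nz ((Jm σ x.a).map ev) := le_nz_iff.2 fun g hg w hw => by
    have k1 := l1 g hg _ h1 a0 w (J3 hw) (cJ.symm _ h1 w hw)
    have k2 := conj_mem_of_mem_nz (n1 hg) (cJ.symm _ (conj_mem_of_mem_nz' (e.An hg) h1) w hw)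
    rw [cj_cm] at k2
    generalize g * w * g⁻¹ = y at k1 k2
    rw [show g * (g⁻¹ * ev x * g) * g⁻¹ = ev x by group] at k2
    db h k1 c hc
    ds h [] at hc
    ds h [hc] at k2 ⊢
    linear_combination -k2.2.2
  let J2 := ((Q1 σ).map ev ⊓ P) ⊓ stab P ((Jm σ x.a).map ev)
  have m2 : ∀ c : Dc σ, ev c ∈ J2 ↔ c.a = 0 ∧ c.u = 0 ∧ 2 * tr σ (sh σ x.a * c.s) = 0 := fun c => ⟨fun k => by
    have k1 := h.mm.1 k.1.1
    have k2 := (mem_stab'.1 k.2).2 _ h1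
    ds h [mQ1.1 k1] at k2 ⊢
    have : c.u = 0 := mul_left_cancel₀ a1 (by linear_combination k2.2.1)
    ds h [this] at k2 ⊢
    linear_combination k2.2, fun k => have m := h4 (h.mm.2 ⟨k.1, k.2.1⟩)
    ⟨⟨h.mm.2 k.1, m⟩, mem_stab'.2 ⟨le_nz_self P m, fun y hy => by
      obtain ⟨d, -, rfl⟩ := h.ex (e.le hy)
      obtain ⟨t, ht, k'⟩ := tt d hy
      ds h [] at k
      ds h [k.1, k.2.1, k', ht]
      lc t * k.2.2⟩⟩⟩
  have n2 : A ≤ nz J2 := fun g hg => mem_nz_inf (nP hg) (mem_nz_stab (e.An hg) (mem_nz_inf (e.An hg) (nJ hg)))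
  have JP : J2 ≤ P := inf_le_left.trans inf_le_right
  obtain ⟨r, hr⟩ := tr_onto (σ := σ) a1 (map_one σ)
  obtain ⟨τ, t0, t1, t2⟩ := ex_perp (σ := σ) (sh σ x.a) r
  obtain ⟨t, ht, k⟩ := tt (xa τ) (e.ch [(Q1 σ).map ev ⊓ P, J2, J2 ⊓ cz ((Jm σ x.a).map ev), (Jm σ x.a).map ev]
    ⟨⟨inf_le_right, nP⟩, ⟨JP, n2⟩, ⟨inf_le_left.trans JP, fun g hg => mem_nz_inf (n2 hg) (mem_nz_cz (nJ hg))⟩, ⟨J3.trans h3, nJ⟩, trivial⟩
    (h.mS _) (nS (h.mS _)) ⟨h.cSS.cm (h.mS _) e.le (le_inf h.l41 h4), fun y hy => by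
      replace hy := hy.1
      db h hy c hc
      rw [h.inv, h.inv, h.mul, h.mul, h.mul, m2]
      ds h [mQ1.1 hc] at t1 ⊢
      lc -2 * c.u * t1, h.cS4.cm (h.mS _) (fun y hy => by
        obtain ⟨c, -, rfl⟩ := h.ex (e.le (JP hy))
        exact h.mm.2 ⟨((m2 c).1 hy).1, ((m2 c).1 hy).2.1⟩) (le_inf (fun y hy => by
        db h hy c hc
        exact (m2 c).2 ⟨hc.1, hc.2.1, by simp [hc.2.2, tr]⟩) ((h.c33.mono le_rfl J3 le_rfl).cz)), fun y hy => by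
      obtain ⟨c, -, rfl⟩ := h.ex (e.le (JP hy.1))
      obtain ⟨k1, k2, -⟩ := (m2 c).1 hy.1
      obtain ⟨t, ht, k⟩ := perp1 (σ := σ) (m := x.a) (x := c.s) fun r hr => by
        have := mem_cz'.1 hy.2 (ev (xr r)) (by dt h [hr])
        ds h [k1, k2] at this ⊢
        linear_combination this.2
      ds h [k1, k2, k, ht] at t1 ⊢
      lc -2 * t * t1, h.cS3.cm (h.mS _) J3 f2⟩)
  rw [xa_a] at k
  rw [k, mul_left_comm, tr_sm ht, mul_comm r, hr, mul_one] at t2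
  exact t0 (by rw [k, t2, zero_mul])

end H29.TD
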