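/-
Fusion systems on a Sylow `p`-subgroup of `³D₄(q)`, part 8: essential subgroups III.
-/
import Cfsg.Agent.H29.TD7

set_option autoImplicit false
set_option linter.unusedSectionVars false
set_option linter.unusedSimpArgs false

namespace H29.TD
open Subgroup H25 H25.FS H8.PU Dc
universe u v
variable {K : Type v} [Field K] [Finite K] {σ : K →+* K} [TV σ] {Γ : Type u} [Group Γ] [Finite Γ] {p : ℕ} [hp : Fact p.Prime]
  [CharP K p] {S P A X Y : Subgroup Γ} {ev : Dc σ →* Γ} {g w : Γ} {c : Dc σ}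

theorem Co.idx' (h : Co S ev) (hX : X ≤ S) (T : K → Prop) (f : Dc σ → K) (k0 : ∀ c, ev c ∈ X → T (f c))
    (k : ∀ c c', ev c ∈ X → ev c' ∈ X → f c = f c' → (ev c)⁻¹ * ev c' ∈ Y) : Y.relIndex X ≤ Nat.card {x // T x} := by
  classical
  exact h.idx hX (fun c => if e : ev c ∈ X then (⟨f c, k0 c e⟩ : {x // T x}) else ⟨f 1, k0 1 (by simp)⟩)
    fun c c' h1 h2 e => k c c' h1 h2 (by simpa [h1, h2] using e)

theorem eb (ff : FF1 Γ p) : EB σ Γ p := fun S P A ev h e gn h2 hQ => by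
  by_contra n
  have z : (Z2 σ).map ev ≤ zo p P := fun w hw => ⟨h2 hw, cz_anti hQ (h.c2Z.symm.cz hw), h.pw3 (h.l23 hw)⟩
  have n3 : (Z3 σ).map ev ≤ nz P := h.cS3.symm.nz' e.le h2
  let R : AddSubgroup K :=
    { carrier := {r | ev (xr r) ∈ P}
      zero_mem' := h2 (by dt h [])
      add_mem' := fun {r r'} a b => by
        have := P.mul_mem a b
        rwa [h.mul, show (xr r * xr r' : Dc σ) = xr (r + r') by ds h []] at this
      neg_mem' := fun {r} a => by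
        have := P.inv_mem a
        rwa [h.inv, show ((xr r)⁻¹ : Dc σ) = xr (-r) by ds h [zero_sub]] at this }
  have u0 : ∀ c, ev c ∈ P → c.u = 0 := fun c hc => h.mm.1 (hQ hc)
  have cw : ∀ w, ev w ∈ zo p P → ∀ c, ev c ∈ P → c * w = w * c := fun w hw c hc =>
    h.inj (by rw [map_mul, map_mul, mem_cz'.1 hw.2.1 _ hc])
  have ot : ∀ w, ev w ∈ zo p P → ∀ r ∈ R, tr σ (w.a * r) = 0 ∧ tr σ (w.s * r) = 0 := fun w hw r hr => by
    have := cw w hw _ hr
    ds h [u0 w hw.1] at this ⊢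
    exact ⟨by linear_combination this.2.1, by linear_combination this.2.2⟩
  have l1 : ∀ w, ev w ∈ zo p P → w.a = 0 → ∀ c, ev c ∈ P → c.a ≠ 0 → ev w ∈ (Z3 σ).map ev := fun w hw a0 c hc a1 =>
    h.l1 (h.mS c) (by rwa [h.mm]) (h.mm.2 a0) hw.2.2 (by simp [mem_cz'.1 hw.2.1 _ hc])
  have lo : ∀ {ι : Type v} (f : ι → K), (∀ i j, -f i + f j ∈ R → i = j) → Nat.card ι ≤ P.relIndex ((Z3 σ).map ev) := fun f k =>
    le_idx (fun i => ev (xr (f i))) (fun i => by dt h []) fun i j k' => k i j (by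
      rwa [h.inv, h.mul, show ((xr (f i))⁻¹ * xr (f j) : Dc σ) = xr (-f i + f j) by ds h [zero_sub]] at k')
  have up : ∀ T : K → Prop, (∀ c, ev c ∈ zo p P → T c.a) → (∃ w, ev w ∈ zo p P ∧ w.a ≠ 0) →
      (zo p P ⊓ (Z3 σ).map ev).relIndex (zo p P) ≤ Nat.card {x // T x} := fun T k ⟨w, hw, a0⟩ =>
    h.idx' (zo_le.trans e.le) T Dc.a k fun c c' k k' e => have m := mul_mem (inv_mem k) k'
      mem_inf.2 ⟨m, by rw [h.inv, h.mul] at m ⊢; exact l1 _ m (by simp [e]) w hw.1 a0⟩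
  obtain ⟨b, b1, b2⟩ := SetLike.not_le_iff_exists.1 n
  have f := ff S P A ((Z3 σ).map ev) (zo p P) ⊥ (zo p P ⊓ (Z3 σ).map ev) [] [] e gn (h.le _) n3
    (h.c33.mono le_rfl le_rfl bot_le) (fun b hb => h.pw3 (p := p) hb ▸ one_mem _) bot_le inf_le_left zo_le e.zo_n.2
    (fun g _ => nz_bot g) (fun x hx y hy => by simp [mem_cz'.1 hy.2.1 x hx]) (fun x hx => hx.2.2)
    (h.c33.mono le_rfl inf_le_right le_rfl) (le_trans (by
      by_cases k : ∃ w, ev w ∈ zo p P ∧ w.a ≠ 0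
      · exact up _ (fun c hc r hr => (ot c hc r hr).1) k
      push Not at k
      exact h.idx' (zo_le.trans e.le) _ Dc.s (fun c hc r hr => (ot c hc r hr).2) fun c c' k1 k2 e =>
        mem_inf.2 ⟨mul_mem (inv_mem k1) k2, by dt h [e, k c k1, k c' k2, u0 c k1.1, u0 c' k2.1]; ring⟩)
      ((card_perp (σ := σ) R).trans (lo (ι := K ⧸ R) Quotient.out fun i j k => by
        rw [← i.out_eq', ← j.out_eq', QuotientAddGroup.eq]; exact k))) trivial trivial
    ⟨b, b1, b2, h.cS3.symm.cm b1 e.le z, fun y hy => by simp [mem_bot.1 hy]⟩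
  obtain ⟨w, hw, w3⟩ := SetLike.not_le_iff_exists.1 fun c : zo p P ≤ (Z3 σ).map ev =>
    n (relIndex_eq_one.1 (f.eq ▸ relIndex_eq_one.2 (le_inf le_rfl c)))
  obtain ⟨w, -, rfl⟩ := h.ex (e.le hw.1)
  have nm : ∀ c, ev c ∈ nz P → ∃ d, ev d ∈ P ∧ d.a = c.a ∧ d.u = c.u ∧ d.s = c.s := fun c hc => by
    obtain ⟨b, hb, k⟩ := f.nm _ (h.mS c) hc
    db h hb d hd
    refine ⟨d⁻¹ * c, by rwa [h.inv, h.mul] at k, ?_⟩
    ds h [] at hd
    ds h [hd]
  have a0 : w.a ≠ 0 := fun a0 => by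
    obtain ⟨d, k, -, k', -⟩ := nm (xu 1 (map_one σ)) (h.c11.nz' (fun y hy => by
      obtain ⟨c, -, rfl⟩ := h.ex (e.le hy)
      exact h.mm.2 (by_contra fun k => w3 (l1 w hw a0 c hy k))) (h.l12.trans h2) (by dt h []))
    exact one_ne_zero (k'.symm.trans (u0 d k))
  have uw := u0 w hw.1
  have hR : ∀ r, tr σ (w.a * r) = 0 → tr σ (w.s * r) = 0 → r ∈ R := fun r k k' => by_contra fun c =>
    w3 (f.fx _ (h.mS (xr r)) (n3 (by dt h [])) c _ hw (by
      rw [mem_bot, cm_eq]; ds h [uw] at k k' ⊢; exact ⟨by ring, by linear_combination k, by linear_combination k'⟩)).2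
  have tM : ∀ c, ev c ∈ P → ∃ α β, σ α = α ∧ σ β = β ∧ c.a = α * w.a + β * w.s := fun c hc => perp2 fun r k k' => by
    obtain ⟨r', e1, e2⟩ : ∃ r', tr σ (w.a * r') = tr σ (c.a * r) ∧ tr σ (w.s * r') = tr σ (c.s * r) := by
      by_cases i : ∀ l, σ l = l → w.s ≠ l * w.a
      · exact (ind_of a0 i).onto (s_tr _) (s_tr _)
      push Not at i
      obtain ⟨l, hl, i⟩ := i
      obtain ⟨r', e1⟩ := tr_onto a0 (s_tr (σ := σ) (c.a * r))
      obtain ⟨μ, hμ, e2⟩ := cr0' (σ := σ) (s := c.s - l * c.a) a0 (by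
        have := cw w hw c hc
        ds h [i, hl, uw, u0 c hc] at this ⊢
        linear_combination this.2.2.1)
      refine ⟨r', e1, ?_⟩
      rw [sub_eq_iff_eq_add] at e2
      fs [i, e2, hl, hμ] at e1 k ⊢
      linear_combination l * e1 - μ * k
    have e3 : ev (xr r') * ev w * (ev (xr r'))⁻¹ * (ev w)⁻¹ = ev (xr r) * ev c * (ev (xr r))⁻¹ * (ev c)⁻¹ := by
      ds h [uw, u0 c hc] at e1 e2 ⊢
      exact ⟨by ring, by ring, by linear_combination e1, by linear_combination e2⟩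
    have := f.nv (⁅P, P⁆ ⊓ zo p P) bot_le inf_le_right (fun g hg => mem_nz_inf (nz_le_nz_commutator e.An e.An hg) (e.zo_n.2 hg))
      (fun t ht y hy => by
        obtain ⟨b, hb, k⟩ := f.nm t ht.1 ht.2
        have k1 := mem_cz'.1 hy.2.2.1 _ k
        have k2 := mem_cz'.1 (h.c33.cz ((commutator_le.2 (h.c22.mono hQ hQ le_rfl)) hy.1)) _ hb
        rw [mem_bot, cm_eq, one_mul, ← mul_inv_cancel_left b t, mul_assoc, k1, ← mul_assoc, k2, mul_assoc])
      _ (h.mS (xr r')) (n3 (by dt h [])) _ hw (e3 ▸ ⟨commutator_mem_commutator (hR r k k') hc,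
        z (h.cS3.symm _ (by dt h []) _ (h.mS c))⟩)
    rw [e3] at this
    ds h [u0 c hc] at this ⊢
    linear_combination this.2.2.1
  have key : ∀ s, tr σ (s * cr σ w.a w.a) = 0 → tr σ (s * cr σ w.a w.s) = 0 → tr σ (s * cr σ w.s w.s) = 0 → cr σ w.a s = 0 :=
    fun s k1 k2 k3 => by
    obtain ⟨d, d0, d1, d2, d3⟩ := nm (xs s) (mem_nz_of_conj_mem fun y hy => by
      obtain ⟨c, -, rfl⟩ := h.ex (e.le hy)
      obtain ⟨α, β, ha, hb, k⟩ := tM c hy
      refine (mul_mem_cancel_right (inv_mem hy)).1 ((mul_mem_cancel_left (P.inv_mem (hR (cr σ c.a s) ?_ ?_))).1 (h2 ?_))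
      · fs [k, ha, hb] at k1 k2 ⊢; linear_combination α * k1 + β * k2
      · fs [k, ha, hb] at k3 k2 ⊢; linear_combination α * k2 + β * k3
      · ds h []; cg)
    have := cw w hw d d0
    ds h [] at d1 d2 d3
    ds h [d1, d2, d3] at this ⊢
    linear_combination this.2.1
  by_cases i : ∀ l, σ l = l → w.s ≠ l * w.a
  swap
  · push Not at i
    obtain ⟨l, hl, i⟩ := i
    obtain ⟨s, s0, hs, -⟩ := ex_perp (σ := σ) (sh σ w.a) 0
    refine s0 (cr00 a0 (key s ?_ ?_ ?_) hs) <;> fs [i, hl] at hs ⊢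
    exacts [by linear_combination 2 * hs, by linear_combination 2 * l * hs, by linear_combination 2 * l ^ 2 * hs]
  have i' := ind_of a0 i
  by_cases t : (2 : K) = 0
  · refine i'.cr (key _ ?_ ?_ ?_) <;> fs [] <;> grind
  obtain ⟨w', hw', k⟩ : ∃ w', ev w' ∈ zo p P ∧ ∀ l, σ l = l → w'.a ≠ l * w.a := by
    by_contra! c
    choose r r1 r2 using fun x : Fx σ × Fx σ => i'.onto (fx x.1) (fx x.2)
    have k := (lo r fun x y k => by
      have := ot w hw _ k
      rw [mul_add, mul_add, mul_neg, mul_neg, tr_add, tr_add, tr_neg, tr_neg, r1, r1, r2, r2] at this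
      exact Prod.ext (Subtype.ext (by linear_combination -this.1)) (Subtype.ext (by linear_combination -this.2))).trans
      (f.eq.ge.trans ((up (fun x => ∃ l, σ l = l ∧ x = l * w.a) c ⟨w, hw, a0⟩).trans (Nat.card_le_card_of_surjective (α := Fx σ)
        (fun l => ⟨l * w.a, l, l.2, rfl⟩) fun ⟨_, l, hl, e⟩ => ⟨⟨l, hl⟩, Subtype.ext e.symm⟩)))
    have := one_lt σ
    rw [Nat.card_prod] at k
    nlinarith
  obtain ⟨α, β, ha, hb, k1⟩ := tM w' hw'.1
  obtain ⟨α', β', ha', hb', k2⟩ := perp2 (σ := σ) (x := w'.s) fun r k k' => (ot w' hw' r (hR r k k')).2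
  obtain ⟨s, s0, h3, h4⟩ := ex_perp (σ := σ) (cr σ w.a w.a) (cr σ w.a w.s)
  refine s0 ((cr0 a0 (key s (mul_comm s _ ▸ h3) (mul_comm s _ ▸ h4) (mul_left_cancel₀ (show β ≠ 0 from fun b0 => k α ha (by
    simp [k1, b0])) ?_))).resolve_right fun k => t k.1)
  have := congrArg (fun c => tr σ (s * c.r)) (cw w hw w' hw'.1)
  ds h [uw, u0 w' hw'.1, k1, k2, ha, hb, ha', hb'] at this h3 h4 ⊢
  linear_combination α' * h3 + (β' - α) * h4 - this

end H29.TD
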