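/-
Fusion systems on a Sylow `p`-subgroup of `³D₄(q)`, part 9: essential subgroups IV.
-/
import Cfsg.Agent.H29.TD8

set_option autoImplicit false
set_option linter.unusedSectionVars false
set_option linter.unusedSimpArgs false

namespace H29.TD
open Subgroup H25 H25.FS H8.PU Dc
universe u v
variable {K : Type v} [Field K] [Finite K] {σ : K →+* K} [TV σ] {Γ : Type u} [Group Γ] [Finite Γ] {p : ℕ} [hp : Fact p.Prime]
  [CharP K p] {S P A X Y : Subgroup Γ} {ev : Dc σ →* Γ} {g w : Γ} {c : Dc σ}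

/-- three independent vectors span -/
theorem span3 {x y z : K} (i : Ind σ x y) (h : ∀ α β, σ α = α → σ β = β → z ≠ α * x + β * y) (t : K) :
    ∃ α β γ, σ α = α ∧ σ β = β ∧ σ γ = γ ∧ t = α * x + β * y + γ * z := by
  obtain ⟨⟨α, β, γ⟩, e⟩ := (Function.Injective.bijective_of_nat_card_le
    (f := fun c : Fx σ × Fx σ × Fx σ => c.1 * x + c.2.1 * y + c.2.2 * z) (fun ⟨a, b, c⟩ ⟨a', b', c'⟩ e => by
      have e3 : (c : K) = c' := by_contra fun n => h ((a' - a) / (c - c')) ((b' - b) / (c - c')) (by fs []) (by fs []) (by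
        have := sub_ne_zero.2 n
        field_simp
        linear_combination e)
      obtain ⟨e1, e2⟩ := i (a - a') (b - b') (by fs []) (by fs []) (by simp only [e3] at e; linear_combination e)
      exact Prod.ext (Subtype.ext (sub_eq_zero.1 e1)) (Prod.ext (Subtype.ext (sub_eq_zero.1 e2)) (Subtype.ext e3)))
    (by rw [card_K (σ := σ), Nat.card_prod, Nat.card_prod]; exact (by ring : _ = _).le)).2 t
  exact ⟨α, β, γ, fx α, fx β, fx γ, e.symm⟩

theorem ee2 (ff : FF1 Γ p) (dff : DFF Γ p) : EE2 σ Γ p := fun S P A ev h e gn h3 h2 h1 f2 => by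
  refine le_antisymm h2 (by_contra fun n => ?_)
  have c2 := h.c22.mono le_rfl le_rfl h3
  have n2 := c2.nz' h2 le_rfl
  let E := fun a s => ev (el a s 0) ∈ P
  have u0 : ∀ c, ev c ∈ P → c.u = 0 := fun c hc => h.mm.1 (h2 hc)
  have mE : ∀ c : Dc σ, c.u = 0 → (ev c ∈ P ↔ E c.a c.s) := fun c hc =>
    have k : (ev (el c.a c.s 0))⁻¹ * ev c ∈ P := h3 (by dt h [hc]; ring)
    ⟨fun k' => by simpa using mul_mem k' (inv_mem k), fun k' => by simpa using mul_mem k' k⟩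
  have ad : ∀ {a s a' s'}, E a s → E a' s' → E (a + a') (s + s') := fun k k' => by
    have := (mE _ (by simp)).1 (h.mul _ _ ▸ mul_mem k k')
    dt h [] at this
    exact this
  have sb : ∀ {a s a' s'}, E a s → E a' s' → E (a - a') (s - s') := fun k k' => by
    have := (mE _ (by simp)).1 (h.mul _ _ ▸ mul_mem k (h.inv _ ▸ inv_mem k'))
    dt h [zero_sub, ← sub_eq_add_neg] at this
    exact this
  have nE : ¬ ((∀ a, E a 0) ∧ ∀ s, E 0 s) := fun k => n fun y hy => by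
    db h hy c hc
    simpa using (mE c hc).2 (by simpa using ad (k.1 c.a) (k.2 c.s))
  have nl : ∀ l, σ l = l → ∃ a s, E a s ∧ s - l * a ≠ 0 := fun l hl => by
    by_contra! k
    refine h1 (h.conj_map (xu l hl) h.nQ1 ▸ ee0 ff (h.conj _) e gn ((h.conj_map _ h.nZ3).symm ▸ h3) fun y hy => ?_)
    have := h2 hy
    db h this c hc
    refine ⟨(xu l hl)⁻¹ * c * xu l hl, ?_, by simp [mul_assoc]⟩
    dt h [mQ2.1 hc]
    linear_combination k _ _ ((mE c hc).1 hy)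
  have df := dff S P A _ _ e gn (h.le _) n2 n c2 (fun b hb => h3 (h.pw2 hb)) (h.c22.mono le_rfl h2 le_rfl) h3
  have nn : (fr P).relIndex ((Z3 σ).map ev) ≤ P.relIndex ((Q2 σ).map ev) → ∃ a s, E a s ∧ ¬ E 0 a := fun k => by
    by_contra! k'
    obtain ⟨b, hb, k⟩ := (df k).nm _ (h.mS (xu 1 (map_one σ))) (mem_nz_of_conj_mem fun y hy => by
      obtain ⟨c, -, rfl⟩ := h.ex (e.le hy)
      have := (mE c (u0 c hy)).1 hy
      rw [h.inv, h.mul, h.mul, mE _ (by simp [u0 c hy])]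
      simpa using ad this (k' _ _ this))
    have := (mul_mem_cancel_left (inv_mem hb)).1 (h2 k)
    dt h [] at this
    exact one_ne_zero this
  have st : ∀ a0 s0, E a0 s0 → (∀ r, ∃ a s, cr σ a s0 - cr σ a0 s = r) →
      (∃ a s, E a s ∧ ¬ E 0 a) ∧ ∀ a s, cr σ a s0 = cr σ a0 s → E a s := fun a0 s0 k0 on => by
    have nf := fun {b} (hb : b ∈ (Q2 σ).map ev) => nz_le_nz_fr P (n2 hb)
    let X : Subgroup Γ :=
      { carrier := {b | b ∈ (Q2 σ).map ev ∧ ev (el a0 s0 0) * b * (ev (el a0 s0 0))⁻¹ * b⁻¹ ∈ fr P}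
        one_mem' := ⟨one_mem _, by simp⟩
        mul_mem' := fun k k' => ⟨mul_mem k.1 k'.1, by simpa [mul_assoc] using mul_mem k.2 (conj_mem_of_mem_nz (nf k.1) k'.2)⟩
        inv_mem' := fun k => ⟨inv_mem k.1, by simpa [mul_assoc] using conj_mem_of_mem_nz' (nf k.1) (inv_mem k.2)⟩ }
    have PX : P ≤ X := fun y hy => ⟨h2 hy, cm_fr e.pP k0 hy⟩
    have XQ : X ≤ (Q2 σ).map ev := fun _ k => k.1
    have i1 : (fr P).relIndex ((Z3 σ).map ev) ≤ X.relIndex ((Q2 σ).map ev) :=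
      idx_le (fun b => ev (el a0 s0 0) * b * (ev (el a0 s0 0))⁻¹ * b⁻¹) (fun d hd => by
        db h hd c hc
        obtain ⟨a, s, k⟩ := on c.r
        exact ⟨ev (el a s 0), by dt h [], f2 (by ds h [] at hc k; ds h [hc]; lc -k)⟩) fun b hb b' _ k => by
        simpa [mul_assoc] using conj_mem_of_mem_nz (nf hb) k.2
    have i2 : X.relIndex ((Q2 σ).map ev) ≤ P.relIndex ((Q2 σ).map ev) := relIndex_le_of_le_left PX index_ne_zero_of_finite
    have i3 : P = X := eq_of_le_of_card_ge PX (Nat.le_of_mul_le_mul_left (((Nat.mul_le_mul_right _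
      ((df (i1.trans i2)).eq.ge.trans i1)).trans_eq (H1.relIndex_mul_card XQ)).trans_eq (H1.relIndex_mul_card h2).symm)
      (Nat.pos_of_ne_zero index_ne_zero_of_finite))
    exact ⟨nn (i1.trans i2), fun a s k => i3.ge ⟨by dt h [], f2 (by ds h [] at k ⊢; lc k)⟩⟩
  obtain ⟨x, hx, a0⟩ := SetLike.not_le_iff_exists.1 h1
  obtain ⟨x, -, rfl⟩ := h.ex (e.le hx)
  rw [h.mm, mQ1] at a0
  replace hx := (mE x (u0 x hx)).1 hx
  by_cases t : (2 : K) = 0
  swap
  · have s1 : ∀ a0 s0, E a0 s0 → a0 ≠ 0 → ∀ a s, cr σ a s0 = cr σ a0 s → E a s := fun a0 s0 k k' =>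
      (st a0 s0 k fun r => let ⟨s, e⟩ := cr_onto (σ := σ) t k' (-r); ⟨0, s, by rw [e]; simp [cr]⟩).2
    have z0 : ∀ s, E 0 s → s = 0 := fun s k => by_contra fun s0 => by
      have k1 := fun s' => (st 0 s k fun r => let ⟨a, e⟩ := cr_onto (σ := σ) t s0 r; ⟨a, 0, by rw [cr_comm, e]; simp [cr]⟩).2 0 s'
        (by simp [cr])
      exact nE ⟨fun a => s1 x.a 0 (by simpa using sb hx (k1 x.s)) a0 a 0 (by simp [cr]), k1⟩
    choose φ hφ using fun a => cr_onto (σ := σ) t a0 (cr σ a x.s)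
    have k1 := fun a => s1 _ _ hx a0 a _ (hφ a).symm
    obtain ⟨l, hl, k2⟩ := cen φ t fun a a' => by
      by_cases a1 : a = 0
      · simp [a1, z0 _ (k1 0), cr]
      obtain ⟨s, e⟩ := cr_onto (σ := σ) t a1 (cr σ a' (φ a))
      rw [← e, sub_eq_zero.1 (z0 (s - φ a') (by simpa using sb (s1 _ _ (k1 a) a1 a' s e.symm) (k1 a')))]
    obtain ⟨a, s, k3, k4⟩ := nl l hl
    exact k4 (z0 _ (by simpa [k2] using sb k3 (k1 a)))
  have c0 : ∀ c y, σ c = c → cr σ (c * y) y = 0 := fun c y k => by fs [k]; linear_combination c * σ y * σ (σ y) * t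
  by_cases i : ∃ a s, E a s ∧ Ind σ a s
  · have s1 : ∀ a0 s0, E a0 s0 → Ind σ a0 s0 → _ := fun a0 s0 k i => st a0 s0 k fun r => by
      obtain ⟨r', e1, e2⟩ := i.onto (map_zero σ) (s_tr (s0 * -r))
      obtain ⟨s, e⟩ := cr_onto2 i.ne e1 t
      obtain ⟨a, e'⟩ := cr_onto2 (σ := σ) (r := r + r') i.symm.ne (by rw [mul_add, tr_add, e2, mul_neg, tr_neg, add_neg_cancel]) t
      exact ⟨a, s, by rw [cr_comm, e, e']; ring⟩
    have s2 : ∀ a s, E a s → Ind σ a s → ∀ c, σ c = c → E (c * a) 0 ∧ E (c * s) 0 ∧ E 0 (c * a) ∧ E 0 (c * s) := fun a s k i c hc => by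
      have k1 : ∀ a s, E a s → Ind σ a s → E (c * s) 0 := fun a s k i => (s1 a s k i).2 _ _ (by rw [c0 c s hc]; simp [cr])
      have k2 : ∀ c, σ c = c → E 0 (c * a) := fun c hc => (s1 a s k i).2 _ _ (by rw [cr_comm a, c0 c a hc]; simp [cr])
      have k3 : E (c * a) 0 := by
        simpa [mul_add] using sb (k1 a (s + a) (by simpa using ad k (k2 1 (map_one σ))) fun α β h1 h2 e =>
          let ⟨k, k'⟩ := i (α + β) β (by fs [h1, h2]) h2 (by linear_combination e); ⟨by simpa [k'] using k, k'⟩) (k1 a s k i)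
      exact ⟨k3, k1 a s k i, k2 c hc, by simpa using sb ((s1 a s k i).2 (c * a) (c * s) (by fs [hc]; ring)) k3⟩
    obtain ⟨a0, s0, k0, i0⟩ := i
    obtain ⟨a, s, k1, k2⟩ := (s1 _ _ k0 i0).1
    have k3 : ∀ α β, σ α = α → σ β = β → a ≠ α * a0 + β * s0 := fun α β h1 h2 e =>
      k2 (by simpa [e] using ad (s2 _ _ k0 i0 α h1).2.2.1 (s2 _ _ k0 i0 β h2).2.2.2)
    have a1 : a ≠ 0 := by simpa using k3 0 0 (map_zero σ) (map_zero σ)
    obtain ⟨s', k4, k5⟩ : ∃ s', E a s' ∧ Ind σ a s' := by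
      by_cases j : ∀ c, σ c = c → s ≠ c * a
      · exact ⟨s, k1, ind_of a1 j⟩
      push Not at j
      obtain ⟨c, hc, j⟩ := j
      refine ⟨s + a0, by simpa using ad k1 (s2 _ _ k0 i0 1 (map_one σ)).2.2.1, ind_of a1 fun d hd e => ?_⟩
      have : d - c ≠ 0 := fun k => i0.ne (by linear_combination e - j + a * k)
      exact k3 (d - c)⁻¹ 0 (by fs [hc, hd]) (map_zero σ) (by field_simp; linear_combination j - e)
    refine nE ⟨fun y => ?_, fun y => ?_⟩ <;> obtain ⟨α, β, γ, h1, h2, h3, rfl⟩ := span3 i0 k3 y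
    · simpa using ad (ad (s2 _ _ k0 i0 α h1).1 (s2 _ _ k0 i0 β h2).2.1) (s2 _ _ k4 k5 γ h3).1
    · simpa using ad (ad (s2 _ _ k0 i0 α h1).2.2.1 (s2 _ _ k0 i0 β h2).2.2.2) (s2 _ _ k4 k5 γ h3).2.2.1
  push Not at i
  obtain ⟨θ, hθ⟩ := ex_ne σ
  obtain ⟨a, s, k1, k2⟩ := nn ((h.idx (h.le _) Dc.r fun c c' k k' e => f2 (by ds h [] at k k'; ds h [k, k', e]; ring)).trans
    (le_idx (fun a => ev (el a (θ * a) 0)) (fun a => by dt h []) fun a a' k => by_contra fun n => by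
      rw [h.inv, h.mul, mE _ (by simp)] at k
      have n' : -a + a' ≠ 0 := fun k => n (by linear_combination -k)
      refine i _ _ k (ind_of n' fun c hc e => hθ ?_)
      rw [show θ = c from mul_right_cancel₀ n' (by dt h [] at e; linear_combination e), hc]))
  obtain ⟨l, hl, el⟩ : ∃ l, σ l = l ∧ x.s = l * x.a := by
    by_contra! c
    exact i _ _ hx (ind_of a0 c)
  have dp : ∀ a s, E a s → s - l * a ≠ 0 → ∃ μ, σ μ = μ ∧ a = μ * (s - l * a) := fun a s k n => by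
    by_contra! c
    exact i a s k fun α β h1 h2 e => let ⟨k, k'⟩ := ind_of n c β (α + β * l) h2 (by fs [h1, h2, hl]) (by linear_combination e)
      ⟨by simpa [k] using k', k⟩
  obtain ⟨a1, s1, k3, k4⟩ := nl l hl
  have d1 : ∀ a s, E a s → s - l * a = 0 → ∃ μ, σ μ = μ ∧ a = μ * (s1 - l * a1) := fun a s k z => by
    obtain ⟨μ, h1, e1⟩ := dp _ _ k3 k4
    obtain ⟨ν, h2, e2⟩ := dp _ _ (ad k k3) fun c => k4 (by linear_combination c - z)
    exact ⟨ν - μ, by fs [h1, h2], by linear_combination e2 - e1 + ν * z⟩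
  obtain ⟨μ0, m0, e0⟩ := d1 _ _ hx (sub_eq_zero.2 el)
  have d2 : ∀ a s, E a s → ∃ μ, σ μ = μ ∧ a = μ * x.a := fun a s k => by
    have k5 : ∀ {y μ μ'}, σ μ = μ → σ μ' = μ' → a = μ * y → x.a = μ' * y → ∃ μ, σ μ = μ ∧ a = μ * x.a := fun {y μ μ'} h1 h2 e e' =>
      have : μ' ≠ 0 := fun c => a0 (by simp [e', c])
      ⟨μ / μ', by fs [h1, h2], by rw [e, e']; field_simp⟩
    by_cases z : s - l * a = 0
    · exact let ⟨μ, h1, e⟩ := d1 a s k z; k5 h1 m0 e e0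
    obtain ⟨μ, h1, e1⟩ := dp _ _ k z
    obtain ⟨ν, h2, e2⟩ := dp _ _ (ad hx k) fun c => z (by linear_combination c - el)
    exact k5 h1 (μ' := ν - μ) (by fs [h1, h2]) e1 (by linear_combination e2 - e1 + ν * el)
  refine k2 (e.ch [] trivial (h.mS _) (n2 (by dt h [])) fun y hy => f2 ?_)
  obtain ⟨c, -, rfl⟩ := h.ex (e.le hy)
  obtain ⟨μ, h1, e1⟩ := d2 _ _ k1
  obtain ⟨ν, h2, e2⟩ := d2 _ _ ((mE c (u0 c hy)).1 hy)
  ds h [u0 c hy, e1, e2, h1, h2]
  lc μ * ν * σ x.a * σ (σ x.a) * t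

end H29.TD
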