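import Cfsg.Agent.H29.RepEA
import Cfsg.Agent.H29.CMod
import Cfsg.Agent.H28.CharP
import Cfsg.Agent.H4.Basic
import Cfsg.Agent.H1.Frattini

/-! Timmesfeld's lemma on a maximal abelian normal subgroup of a `2`-local that is a TI-set. -/

set_option autoImplicit false
set_option linter.unusedSectionVars false

namespace H29.TI
open Cfsg Subgroup H28
open scoped commutatorElement

variable {G : Type*} [Group G] [Finite G] {V V' V₃ U A : Subgroup G} {a b d g r u v w x y : G}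

local instance fact2 : Fact (Nat.Prime 2) := ⟨Nat.prime_two⟩

/-- `C_{O₂(N(V))}(V)` -/
def Pf (V : Subgroup G) : Subgroup G := pCoreOf 2 (𝐍 V) ⊓ 𝐂 V

structure Hy (V : Subgroup G) : Prop where
  ea : IsElementaryAbelian 2 V
  ch : IsCharP 2 (𝐍 V)
  mx : ∀ A, V ≤ A → A ≤ 𝐍 V → A ≤ 𝐂 A → 𝐍 V ≤ 𝐍 A → A = V
  ti : ∀ x, cj x V = V ∨ cj x V ⊓ V = ⊥

def Cj (V U : Subgroup G) : Prop := ∃ g : G, cj g V = U

theorem Cj.symm (h : Cj V U) : Cj U V := by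
  obtain ⟨g, rfl⟩ := h
  exact ⟨g⁻¹, cj_inv_cj g V⟩

theorem Cj.trans (h : Cj V U) (k : Cj U A) : Cj V A := by
  obtain ⟨g, rfl⟩ := h
  obtain ⟨x, rfl⟩ := k
  exact ⟨x * g, (cj_cj x g V).symm⟩

theorem Cj.conj (h : Cj V U) (g : G) : Cj V (cj g U) := h.trans ⟨g, rfl⟩

theorem Cj.card (h : Cj V U) : Nat.card U = Nat.card V := by
  obtain ⟨g, rfl⟩ := h
  exact card_cj g V

theorem cj_Pf (g : G) (V : Subgroup G) : cj g (Pf V) = Pf (cj g V) := by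
  rw [Pf, Pf, cj_inf, cj_pCoreOf, cj_normalizer, cj_centralizer]

theorem nrm_Pf : 𝐍 V ≤ 𝐍 (Pf V) := fun g hg =>
  mem_normalizer_iff_cj.2 (by rw [cj_Pf, cj_eq_self hg])

theorem Pf_pg : IsPGroup 2 (Pf V) := (isPGroup_pCoreOf 2 _).to_le inf_le_left

theorem Pf_c : Pf V ≤ 𝐂 V := inf_le_right

theorem c_n : 𝐂 V ≤ 𝐍 V := le_normalizer_of_le_centralizer le_rfl

theorem Pf_n : Pf V ≤ 𝐍 V := Pf_c.trans c_n

theorem Cj.hy (k : Cj V U) (h : Hy V) : Hy U := by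
  obtain ⟨g, rfl⟩ := k
  refine ⟨ea_cj h.ea g, cj_normalizer g V ▸ h.ch.conj g, fun A h1 h2 h3 h4 => ?_, fun x => ?_⟩
  · rw [eq_comm, cj_eq_iff, eq_comm]
    refine h.mx _ (cj_le_iff.1 h1) ?_ ?_ ?_
    · rwa [← le_cj_iff, cj_normalizer]
    · rw [← cj_centralizer]; exact cj_mono _ h3
    · rwa [← cj_normalizer, ← cj_le_iff, cj_normalizer]
  · rcases h.ti (g⁻¹ * x * g) with e | e
    · left
      rw [← cj_inj (g := g⁻¹), cj_inv_cj, cj_cj, cj_cj, e]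
    · right
      rw [← cj_eq_bot (g := g⁻¹), cj_inf, cj_inv_cj, cj_cj, cj_cj, e]

namespace Hy

theorem vc (h : Hy V) : V ≤ 𝐂 V := ea_le_centralizer h.ea

theorem sq (h : Hy V) (hv : v ∈ V) : v * v = 1 := by rw [← pow_two]; exact h.ea.2 v hv

theorem inv (h : Hy V) (hv : v ∈ V) : v⁻¹ = v := inv_eq_of_mul_eq_one_right (h.sq hv)

theorem eq (h : Hy V) (k : Cj V U) (h1 : v ∈ V) (h2 : v ∈ U) (h0 : v ≠ 1) : U = V := by
  obtain ⟨g, rfl⟩ := k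
  exact (h.ti g).resolve_right fun e => h0 (mem_bot.1 (e ▸ ⟨h2, h1⟩))

theorem one (h : Hy V) (k : Cj V U) (ne : U ≠ V) (h1 : v ∈ V) (h2 : v ∈ U) : v = 1 :=
  by_contra fun h0 => ne (h.eq k h1 h2 h0)

theorem nrm (h : Hy V) (h1 : v ∈ V) (h0 : v ≠ 1) (h2 : g * v * g⁻¹ ∈ V) : g ∈ 𝐍 V :=
  mem_normalizer_iff_cj.2 (h.eq ⟨g, rfl⟩ h2 (conj_mem_cj h1) (by simpa using h0))

theorem nrm' (h : Hy V) (h1 : v ∈ V) (h0 : v ≠ 1) (h2 : g * v = v * g) : g ∈ 𝐍 V :=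
  h.nrm h1 h0 (by rwa [h2, mul_inv_cancel_right])

theorem le (h : Hy V) : V ≤ Pf V :=
  le_inf (le_pCoreOf (ea_isPGroup h.ea) le_normalizer le_rfl) h.vc

theorem ab (h : Hy V) (h1 : A ≤ Pf V) (h2 : A ≤ 𝐂 A) (h3 : 𝐍 V ≤ 𝐍 A) : A ≤ V := by
  have k := h1.trans Pf_c
  refine le_sup_right.trans (h.mx (V ⊔ A) le_sup_left (sup_le le_normalizer (k.trans c_n)) ?_
    (le_normalizer_sup le_rfl h3)).le
  rw [centralizer_sup]
  exact sup_le (le_inf h.vc (le_centralizer_comm.1 k)) (le_inf k h2)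

theorem cen (h : Hy V) (h1 : x ∈ Pf V) (h2 : x ∈ 𝐂 (Pf V)) : x ∈ V :=
  h.ab inf_le_left (center_le_centralizer _)
    (le_normalizer_inf nrm_Pf (le_normalizer_centralizer nrm_Pf)) ⟨h1, h2⟩

theorem der (h : Hy V) : ⁅Pf V, Pf V⁆ ≤ V := by
  by_contra c
  have l : ⁅Pf V, Pf V⁆ ≤ Pf V := commutator_le_of_le_normalizer le_normalizer
  obtain ⟨x, h1, h2, h3⟩ := exists_fixed_mod (Pf_pg.to_le l) Pf_pg (le_normalizer_commutator_left _ _) c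
  have k : ⁅⁅Pf V, Pf V ⊓ cmod (Pf V) V⁆, Pf V⁆ = ⊥ := le_bot_iff.1 ((commutator_mono
    (commutator_le_of_le_cmod inf_le_right) le_rfl).trans (commutator_eq_bot_iff'.2 Pf_c).le)
  have k' : ⁅⁅Pf V, Pf V⁆, Pf V ⊓ cmod (Pf V) V⁆ = ⊥ :=
    commutator_commutator_eq_bot_of_rotate k (by rwa [comm_comm (_ ⊓ _)])
  refine h2 (h.ab (A := ⁅Pf V, Pf V⁆ ⊓ (Pf V ⊓ cmod (Pf V) V)) (inf_le_left.trans l)
    (inf_le_left.trans ((commutator_eq_bot_iff.1 k').trans (centralizer_anti inf_le_right)))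
    (le_normalizer_inf (le_normalizer_commutator nrm_Pf nrm_Pf) (le_normalizer_inf nrm_Pf
      (le_normalizer_cmod nrm_Pf le_rfl))) ⟨h1, l h1, mem_cmod.2 ⟨Pf_n (l h1), fun u hu =>
      commutatorElement_mem_comm.1 (h3 u hu)⟩⟩)

theorem cm (h : Hy V) (h1 : x ∈ Pf V) (h2 : y ∈ Pf V) : ⁅x, y⁆ ∈ V :=
  h.der (commutator_mem_commutator h1 h2)

theorem pw (h : Hy V) (h1 : x ∈ Pf V) : x * x ∈ V := by
  refine h.cen (mul_mem h1 h1) (mem_centralizer'.2 fun y hy => ?_)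
  have k := h.cm hy h1
  have e := mem_centralizer'.1 (Pf_c h1) _ k
  rw [← commutatorElement_eq_one_iff_mul_comm, comm_mul_right, ← e, mul_inv_cancel_right, h.sq k]

theorem mem (h : Hy V) (h1 : x ∈ 𝐂 V) (h2 : ∀ y ∈ Pf V, ⁅y, x⁆ ∈ V) : x ∈ Pf V := by
  have n : 𝐍 V ≤ 𝐍 (𝐂 V ⊓ cmod (Pf V) V : Subgroup G) :=
    le_normalizer_inf (le_normalizer_centralizer le_rfl) (le_normalizer_cmod nrm_Pf le_rfl)
  refine ⟨le_pCoreOf (R := 𝐂 V ⊓ cmod (Pf V) V) (isPGroup_of_forall_coprime fun z hz o => ?_)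
    (inf_le_left.trans c_n) n ⟨h1, mem_cmod.2 ⟨c_n h1, h2⟩⟩, h1⟩
  have k := mem_centralizer_of_commutator_le o (ea_isPGroup h.ea) (mem_cmod_iff_zpowers.1 hz.2).2 hz.1
  have l : ⁅pCoreOf 2 (𝐍 V), zpowers z⁆ ≤ pCoreOf 2 (𝐍 V) := commutator_le_of_le_normalizer
    (((zpowers_le.2 (c_n hz.1))).trans (le_normalizer_pCoreOf 2 _))
  exact h.ch.eq_one_of_commutator_le (c_n hz.1) o (le_inf l (((commutator_mono (pCoreOf_le 2 _)
    (zpowers_le.2 hz.1))).trans (commutator_le_of_le_normalizer' (le_normalizer_centralizer le_rfl)))) k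

/-- a conjugate normalizing `V` centralizes it -/
theorem comm (h : Hy V) (k : Cj V V') (hn : V' ≤ 𝐍 V) : V' ≤ 𝐂 V := by
  by_cases ne : V' = V
  · rw [ne]; exact h.vc
  have h' := k.hy h
  rw [le_centralizer_comm]
  intro v hv
  by_contra c
  have key : ∀ a ∈ V', v * a = a * v → a = 1 := fun a ha e => by_contra fun h0 =>
    c (mem_centralizer'.2 fun b hb => commutatorElement_eq_one_iff_mul_comm.1 (h.one k ne
      (commutator_le_of_le_normalizer' hn (commutator_mem_commutator hb hv))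
      (commutator_le_of_le_normalizer (zpowers_le.2 (h'.nrm' ha h0 e))
        (commutator_mem_commutator hb (mem_zpowers v)))))
  let f : V' → V := fun a => ⟨a * v * a⁻¹, conj_mem_of_mem_normalizer (hn a.2) hv⟩
  have inj : Function.Injective f := fun a b e => by
    have e : (a : G) * v * (a : G)⁻¹ = b * v * (b : G)⁻¹ := congrArg Subtype.val e
    refine Subtype.ext (inv_mul_eq_one.1 (key _ (mul_mem (inv_mem a.2) b.2) ?_))
    calc v * ((a : G)⁻¹ * b) = (a : G)⁻¹ * (a * v * (a : G)⁻¹) * b := by group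
      _ = _ := by rw [e]; group
  obtain ⟨a, e⟩ := (inj.bijective_of_nat_card_le k.card.ge).2 1
  have e : (a : G) * v * a⁻¹ = 1 := congrArg Subtype.val e
  exact c (by rw [conj_eq_one_iff.1 e]; exact one_mem _)

end Hy

/-- a conjugate inside `P` -/
structure Pr (V V' : Subgroup G) : Prop where
  hy : Hy V
  cn : Cj V V'
  ne : V' ≠ V
  le : V' ≤ Pf V

namespace Pr

theorem hy' (h : Pr V V') : Hy V' := h.cn.hy h.hy

theorem conj (h : Pr V V') (g : G) : Pr (cj g V) (cj g V') :=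
  ⟨Cj.hy ⟨g, rfl⟩ h.hy, (Cj.symm ⟨g, rfl⟩).trans (h.cn.conj g), mt cj_inj.1 h.ne,
    cj_Pf g V ▸ cj_mono g h.le⟩

theorem one (h : Pr V V') (h1 : v ∈ V) (h2 : v ∈ V') : v = 1 := h.hy.one h.cn h.ne h1 h2

theorem c (h : Pr V V') : V' ≤ 𝐂 V := h.le.trans Pf_c

theorem c' (h : Pr V V') : V ≤ 𝐂 V' := le_centralizer_comm.1 h.c

theorem cent (h : Pr V V') (h1 : v ∈ V') (h0 : v ≠ 1) (hx : x ∈ Pf V) (e : x * v = v * x) : x ∈ 𝐂 V' :=
  mem_centralizer'.2 fun _ hb => commutatorElement_eq_one_iff_mul_comm.1 (h.one (h.hy.cm (h.le hb) hx)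
    (commutator_le_of_le_normalizer (zpowers_le.2 (h.hy'.nrm' h1 h0 e))
      (commutator_mem_commutator hb (mem_zpowers x))))

theorem exists_ne (h : Pr V V') : ∃ v ∈ V', v ≠ 1 := by
  by_contra! c
  have e : V' = ⊥ := eq_bot_iff.2 c
  obtain ⟨g, k⟩ := h.cn
  exact h.ne (by rw [e, ← cj_eq_bot (g := g) |>.1 (k.trans e)])

theorem third (h : Pr V V') : ∃ V₃, Pr V V₃ ∧ ¬ V₃ ≤ 𝐂 V' := by
  by_contra! c
  have k : ∀ m ∈ 𝐍 V, Pr V (cj m V') := fun m hm => by simpa only [cj_eq_self hm] using h.conj m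
  have l := h.hy.ab (A := nclIn V' (𝐍 V)) (nclIn_le h.le nrm_Pf) (nclIn_le_iff.2 fun a ha =>
    le_centralizer_comm.1 (nclIn_le_iff.2 fun _ hb => by
      rw [← cj_centralizer, le_cj_iff, cj_cj]
      exact c _ (k _ (mul_mem (inv_mem ha) hb)))) (le_normalizer_nclIn _ _)
  obtain ⟨v, h1, h0⟩ := h.exists_ne
  exact h0 (h.one (l (le_nclIn _ _ h1)) h1)

theorem nc (h : Pr V V') (k : Pr V V₃) (c : ¬ V₃ ≤ 𝐂 V') (hu : u ∈ V₃) (hv : v ∈ V') (h0 : v ≠ 1)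
    (e : u * v = v * u) : u = 1 := by_contra fun h1 =>
  c (le_centralizer_comm.1 fun b hb => k.cent hu h1 (h.le hb)
    (mem_centralizer'.1 (h.cent hv h0 (k.le hu) e) b hb))

theorem surj (h : Pr V V') (k : Pr V V₃) (c : ¬ V₃ ≤ 𝐂 V') (hv : v ∈ V') (h0 : v ≠ 1) (hx : x ∈ V) :
    ∃ u ∈ V₃, ⁅u, v⁆ = x := by
  let f : V₃ → V := fun a => ⟨⁅(a : G), v⁆, h.hy.cm (k.le a.2) (h.le hv)⟩
  have inj : Function.Injective f := fun a b e => by
    have e : (a : G) * v * (a : G)⁻¹ * v⁻¹ = b * v * (b : G)⁻¹ * v⁻¹ := congrArg Subtype.val e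
    refine Subtype.ext (inv_mul_eq_one.1 (h.nc k c (mul_mem (inv_mem a.2) b.2) hv h0 ?_))
    calc _ = (a : G)⁻¹ * (b * v * (b : G)⁻¹ * v⁻¹) * v * b := by group
      _ = _ := by rw [← e]; group
  obtain ⟨a, e⟩ := (inj.bijective_of_nat_card_le k.cn.card.ge).2 ⟨x, hx⟩
  exact ⟨a, a.2, congrArg Subtype.val e⟩

theorem surj' (h : Pr V V') (hv : v ∈ V') (h0 : v ≠ 1) (hx : x ∈ V) : ∃ u ∈ Pf V, ⁅u, v⁆ = x := by
  obtain ⟨V₃, k, c⟩ := h.third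
  obtain ⟨u, hu, e⟩ := h.surj k c hv h0 hx
  exact ⟨u, k.le hu, e⟩

theorem nW (h : Pr V V') : Pf V ≤ 𝐍 (V ⊔ V' : Subgroup G) :=
  H28.le_normalizer_of_commutator_le (V := Pf V) (h.hy.der.trans le_sup_left) (sup_le h.hy.le h.le)

theorem memW (h : Pr V V') : x ∈ V ⊔ V' ↔ ∃ a ∈ V, ∃ b ∈ V', a * b = x :=
  mem_sup_of_le_normalizer' (h.c.trans c_n)

theorem dec (h : Pr V V') (k : Pr V V₃) (c : ¬ V₃ ≤ 𝐂 V') (hx : x ∈ Pf V) :
    ∃ u ∈ V₃, u⁻¹ * x ∈ Pf V ⊓ 𝐂 V' := by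
  obtain ⟨v, hv, h0⟩ := h.exists_ne
  obtain ⟨u, hu, e⟩ := h.surj k c hv h0 (h.hy.cm hx (h.le hv))
  have l := mul_mem (inv_mem (k.le hu)) hx
  refine ⟨u, hu, l, h.cent hv h0 l ?_⟩
  calc _ = u⁻¹ * ⁅x, v⁆ * v * x := by group
    _ = _ := by rw [← e]; group

theorem zP (h : Pr V V') (hd : d ∈ Pf V) (c₀ : d ∈ 𝐂 (Pf V ⊓ 𝐂 V' : Subgroup G)) :
    ∃ v ∈ V', v⁻¹ * d ∈ V := by
  obtain ⟨V₃, k, c⟩ := h.third
  obtain ⟨u, hu, h0⟩ := k.exists_ne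
  obtain ⟨v, hv, e⟩ := k.surj h (mt le_centralizer_comm.1 c) hu h0 (h.hy.cm hd (k.le hu))
  have l := mul_mem (inv_mem (h.le hv)) hd
  have l3 : v⁻¹ * d ∈ 𝐂 V₃ := k.cent hu h0 l (by
    calc _ = v⁻¹ * ⁅d, u⁆ * u * d := by group
      _ = _ := by rw [← e]; group)
  have l0 : v⁻¹ * d ∈ 𝐂 (Pf V ⊓ 𝐂 V' : Subgroup G) :=
    mul_mem (inv_mem (le_centralizer_comm.1 inf_le_right hv)) c₀
  refine ⟨v, hv, h.hy.cen l (mem_centralizer'.2 fun x hx => ?_)⟩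
  obtain ⟨w, hw, m⟩ := h.dec k c hx
  rw [← mul_inv_cancel_left w x, mul_assoc w, mem_centralizer'.1 l0 _ m, ← mul_assoc w,
    mem_centralizer'.1 l3 w hw, mul_assoc (v⁻¹ * d)]

theorem swap (h : Pr V V') (hy : y ∈ 𝐂 V') (hv : v ∈ V) (h1 : ⁅y, v⁆ ∈ V') (h0 : ⁅y, v⁆ ≠ 1) :
    V ≤ Pf V' := by
  obtain ⟨u, hu, e⟩ := h.surj' h1 h0 hv
  have v0 : v ≠ 1 := fun e => h0 (by simp [e])
  have e1 : u * ⁅y, v⁆ * u⁻¹ = y * v * y⁻¹ := by
    calc _ = ⁅u, ⁅y, v⁆⁆ * ⁅y, v⁆ := by group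
      _ = ⁅y, v⁆ * v := by rw [e, mem_centralizer'.1 (h.c h1) v hv]
      _ = _ := by group
  have e2 : cj u V' = cj y V := (Cj.hy ⟨y, rfl⟩ h.hy).eq ((Cj.symm ⟨y, rfl⟩).trans (h.cn.conj u))
    (conj_mem_cj hv) (e1 ▸ conj_mem_cj h1) (by simpa using v0)
  have k := h.conj y
  rw [cj_eq_self (c_n hy)] at k
  have n : y ∈ 𝐍 (V ⊔ V' : Subgroup G) := mem_normalizer_of_cj_le (by
    rw [cj_sup, cj_eq_self (c_n hy), ← e2]
    exact sup_le (cj_le_of_mem_normalizer le_sup_right (h.nW hu)) le_sup_right)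
  have l : V ⊔ V' ≤ Pf (cj y V) := by
    rw [← cj_eq_self n, cj_sup, cj_eq_self (c_n hy)]
    exact sup_le k.hy.le k.le
  rw [← e2, ← cj_Pf, le_cj_iff, cj_eq_self (inv_mem (h.nW hu))] at l
  exact le_sup_left.trans l

/-- part (a) -/
theorem symm (h : Pr V V') : Pr V' V := by
  refine ⟨h.hy', h.cn.symm, h.ne.symm, by_contra fun c => ?_⟩
  have h' := h.hy'
  have f0 : ∀ y ∈ Pf V', ∀ v ∈ V, ⁅y, v⁆ ∈ V' → ⁅y, v⁆ = 1 := fun y hy v hv h1 =>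
    by_contra fun h0 => c (h.swap (Pf_c hy) hv h1 h0)
  have f1 : ∀ v ∈ V, v ∈ Pf V' → v = 1 := fun v hv h1 => h.one hv (h'.cen h1
    (mem_centralizer'.2 fun y hy => commutatorElement_eq_one_iff_mul_comm.1 (f0 y hy v hv (h'.cm hy h1))))
  have n0 : ∀ {x y}, x ∈ Pf V' → y ∈ 𝐂 V' → ⁅x, y⁆ ∈ Pf V' := fun hx hy =>
    commutator_le_of_le_normalizer (c_n.trans nrm_Pf) (commutator_mem_commutator hx hy)
  have f2 : ∀ y ∈ Pf V', ∀ v ∈ V, v ≠ 1 → ⁅y, v⁆ ∈ V' → y ∈ 𝐂 V := fun y hy v hv h0 h1 =>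
    mem_centralizer'.2 fun w hw => (commutatorElement_eq_one_iff_mul_comm.1 (f1 _
      (commutator_le_of_le_normalizer' (zpowers_le.2 (h.hy.nrm' hv h0
        (commutatorElement_eq_one_iff_mul_comm.1 (f0 y hy v hv h1))))
        (commutator_mem_commutator (mem_zpowers y) hw)) (n0 hy (h.c' hw)))).symm
  have f3 : Pf V ⊓ Pf V' ≤ V' := fun d hd => by
    obtain ⟨v, hv, e⟩ := h.zP hd.1 (mem_centralizer'.2 fun x hx =>
      (commutatorElement_eq_one_iff_mul_comm.1 (f1 _ (h.hy.cm hd.1 hx.1) (n0 hd.2 hx.2))).symm)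
    exact inv_mul_eq_one.1 (f1 _ e (mul_mem (inv_mem (h'.le hv)) hd.2)) ▸ hv
  have f4 : ⁅Pf V' ⊓ 𝐂 V, Pf V ⊓ 𝐂 V'⁆ ≤ V' := (le_inf
    ((commutator_mono inf_le_right inf_le_left).trans
      (commutator_le_of_le_normalizer' (c_n.trans nrm_Pf)))
    ((commutator_mono inf_le_left inf_le_right).trans
      (commutator_le_of_le_normalizer (c_n.trans nrm_Pf)))).trans f3
  have f5 : ⁅Pf V', V⁆ ≤ Pf V' ⊓ 𝐂 V := commutator_le.2 fun y hy v hv => by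
    have l := n0 hy (h.c' hv)
    refine ⟨l, ?_⟩
    by_cases h0 : v = 1
    · simp [h0]
    refine f2 _ l v hv h0 ?_
    have e : ⁅⁅y, v⁆, v⁆ = ⁅y, v⁆ * ⁅y, v⁆ := by
      have := h.hy.sq hv
      calc _ = ⁅y, v⁆ * (v * v) * y * v⁻¹ * y⁻¹ * v⁻¹ := by group
        _ = _ := by rw [this, commutatorElement_def, h.hy.inv hv]; group
    rw [e]; exact h'.pw l
  obtain ⟨v₀, hv₀, h0⟩ := (show ∃ v ∈ V, v ≠ 1 by
    by_contra! c'
    exact c ((eq_bot_iff.2 c').le.trans bot_le))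
  have nP : Pf V ⊓ 𝐂 V' ≤ 𝐍 V' := inf_le_right.trans c_n
  have f6 : ⁅Pf V', Pf V ⊓ 𝐂 V'⁆ ≤ Pf V' ⊓ 𝐂 V := by
    have : ⁅⁅Pf V', Pf V ⊓ 𝐂 V'⁆, V⁆ ≤ V' := three_mod Pf_n nP (h.c'.trans c_n)
      (by rw [commutator_eq_bot_iff.2 (inf_le_left.trans Pf_c), commutator_bot_left]; exact bot_le)
      ((commutator_mono (by rwa [comm_comm]) le_rfl).trans f4)
    have l : ⁅Pf V', Pf V ⊓ 𝐂 V'⁆ ≤ Pf V' := commutator_le_of_le_normalizer (nP.trans nrm_Pf)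
    exact fun x hx => ⟨l hx, f2 x (l hx) v₀ hv₀ h0 (this (commutator_mem_commutator hx hv₀))⟩
  have f7 : Pf V ⊓ 𝐂 V' ≤ 𝐂 (Pf V ⊓ 𝐂 V' : Subgroup G) := by
    have : ⁅⁅Pf V ⊓ 𝐂 V', Pf V ⊓ 𝐂 V'⁆, Pf V'⁆ ≤ V' := three_mod nP nP Pf_n
      ((commutator_mono (by rwa [comm_comm]) le_rfl).trans f4) ((commutator_mono f6 le_rfl).trans f4)
    refine fun a ha => mem_centralizer'.2 fun b hb => commutatorElement_eq_one_iff_mul_comm.1 ?_
    have l := h.hy.cm hb.1 ha.1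
    exact f1 _ l (h'.mem (h.c' l) fun y hy => commutatorElement_mem_comm.1
      (this (commutator_mem_commutator (commutator_mem_commutator hb ha) hy)))
  obtain ⟨V₃, k, c₃⟩ := h.third
  have f8 : Pf V' ⊓ 𝐂 V ≤ V' := fun r hr => by
    refine f3 ⟨h.hy.mem hr.2 fun x hx => ?_, hr.1⟩
    have nr : r ∈ 𝐍 V := c_n hr.2
    have cW : r ∈ 𝐂 (V ⊔ V' : Subgroup G) := by rw [centralizer_sup]; exact ⟨hr.2, Pf_c hr.1⟩
    have g1 : ∀ u ∈ V₃, ⁅u, r⁆ ∈ V := fun u hu => by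
      have l1 : ⁅r, u⁆ ∈ Pf V := commutator_le_of_le_normalizer' (zpowers_le.2 (nrm_Pf nr))
        (commutator_mem_commutator (mem_zpowers r) (k.le hu))
      have l2 : ⁅r, u⁆ ∈ 𝐂 (V ⊔ V' : Subgroup G) := commutator_le_of_le_normalizer
        (le_normalizer_centralizer h.nW) (commutator_mem_commutator cW (k.le hu))
      obtain ⟨v, hv, e⟩ := h.zP l1 (f7 ⟨l1, centralizer_anti le_sup_right l2⟩)
      rw [commutatorElement_mem_comm]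
      by_cases h1 : v = 1
      · simpa [h1] using e
      generalize ez : v⁻¹ * ⁅r, u⁆ = z at e
      have e1 : r * u * r⁻¹ = v * z * u := by rw [← ez]; group
      have e2 : v * z * u * (v * z * u) = 1 := by
        rw [← e1, conj_mul, k.hy'.sq hu]; group
      have e3 := mem_centralizer'.1 (k.c hu) z e
      have e4 := mem_centralizer'.1 (h.c hv) z e
      have e5 : u * v = v * u := by
        have c1 : Commute (v * u) z := (Commute.symm e4).mul_left (Commute.symm e3)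
        rw [← e4, mul_assoc z, c1.mul_mul_mul_comm, h.hy.sq e, one_mul] at e2
        rw [← inv_eq_of_mul_eq_one_right e2, mul_inv_rev, h'.inv hv, k.hy'.inv hu]
      simp [h.nc k c₃ hu hv h1 e5]
    obtain ⟨u, hu, m⟩ := h.dec k c₃ hx
    obtain ⟨v, hv, e⟩ := h.zP m.1 (f7 m)
    have e1 : u⁻¹ * x ∈ V ⊔ V' := by
      rw [← mul_inv_cancel_left v (u⁻¹ * x)]
      exact mul_mem (mem_sup_right hv) (mem_sup_left e)
    rw [← mul_inv_cancel_left u x, comm_mul_left,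
      commutatorElement_eq_one_iff_mul_comm.2 (mem_centralizer'.1 cW _ e1)]
    simpa using g1 u hu
  exact h0 (f1 _ hv₀ (h'.mem (h.c' hv₀) fun y hy => f8 (f5 (commutator_mem_commutator hy hv₀))))

theorem nH (h : Pr V V') : Pf V ⊔ Pf V' ≤ 𝐍 (V ⊔ V' : Subgroup G) :=
  sup_le h.nW (sup_comm V V' ▸ h.symm.nW)

theorem part (h : Pr V V') (hw : w ∈ V ⊔ V') (h0 : w ≠ 1) :
    ∃! U : Subgroup G, (∃ x : G, U = cj x V) ∧ U ≤ V ⊔ V' ∧ w ∈ U := by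
  have k : ∃ U, Cj V U ∧ U ≤ V ⊔ V' ∧ w ∈ U := by
    obtain ⟨a, ha, b, hb, rfl⟩ := h.memW.1 hw
    by_cases b0 : b = 1
    · exact ⟨V, ⟨1, cj_one V⟩, le_sup_left, by simpa [b0] using ha⟩
    obtain ⟨u, hu, e⟩ := h.surj' hb b0 ha
    refine ⟨cj u V', h.cn.conj u, cj_le_of_mem_normalizer le_sup_right (h.nW hu), ?_⟩
    rw [← e, commutatorElement_def, inv_mul_cancel_right]
    exact conj_mem_cj hb
  obtain ⟨U, ⟨x, k1⟩, k2, k3⟩ := k
  refine ⟨U, ⟨⟨x, k1.symm⟩, k2, k3⟩, ?_⟩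
  rintro _ ⟨⟨y, rfl⟩, -, k4⟩
  exact (Cj.hy ⟨x, k1⟩ h.hy).eq ((Cj.symm ⟨x, k1⟩).conj y) k3 k4 h0

theorem trans (h : Pr V V') (hv : v ∈ V) (h0 : v ≠ 1) (hw : w ∈ V) (h1 : w ≠ 1) :
    ∃ g ∈ 𝐍 V, g * v * g⁻¹ = w := by
  obtain ⟨y, hy, y0⟩ := h.exists_ne
  obtain ⟨a, ha, e⟩ := h.surj' hy y0 (mul_mem hw (inv_mem hv))
  obtain ⟨b, -, e1⟩ := h.symm.surj' hv h0 hy
  obtain ⟨c, -, e2⟩ := h.symm.surj' hw h1 hy
  have e3 : b * v * b⁻¹ = y * v := by rw [← e1]; group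
  have e4 : c * w * c⁻¹ = y * w := by rw [← e2]; group
  have e5 : a * (y * v) * a⁻¹ = y * w := by
    calc _ = ⁅a, y⁆ * y * (a * v * a⁻¹) := by group
      _ = w * (v⁻¹ * y) * v := by rw [e, ← mem_centralizer'.1 (Pf_c ha) v hv]; group
      _ = _ := by
        rw [mem_centralizer'.1 (h.c hy) _ (inv_mem hv), ← mem_centralizer'.1 (h.c hy) _ hw]; group
  have e6 : c⁻¹ * a * b * v * (c⁻¹ * a * b)⁻¹ = w := by
    calc _ = c⁻¹ * (a * (b * v * b⁻¹) * a⁻¹) * c := by group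
      _ = _ := by rw [e3, e5, ← e4]; group
  exact ⟨_, h.hy.nrm hv h0 (e6 ▸ hw), e6⟩

theorem PQ (h : Pr V V') : Pf V = pCoreOf 2 (𝐍 V) := by
  refine inf_eq_left.2 (le_centralizer_comm.1 fun w hw => ?_)
  obtain ⟨v₀, hv₀, h0⟩ := h.symm.exists_ne
  obtain ⟨v, hv, h1, h2⟩ := exists_fixed_mod (W := ⊥) (ea_isPGroup h.hy.ea) (isPGroup_pCoreOf 2 (𝐍 V))
    (pCoreOf_le 2 _) fun e => h0 (e hv₀)
  by_cases w0 : w = 1
  · rw [w0]; exact one_mem _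
  obtain ⟨g, hg, rfl⟩ := h.trans hv h1 hw w0
  exact conj_mem_of_mem_normalizer (le_normalizer_centralizer (le_normalizer_pCoreOf 2 _) hg)
    (mem_centralizer'.2 fun q hq => (commutatorElement_eq_one_iff_mul_comm.1 (h2 q hq)).symm)

theorem der (h : Pr V V') : ⁅Pf V, Pf V⁆ = V := le_antisymm h.hy.der fun x hx => by
  obtain ⟨y, hy, y0⟩ := h.exists_ne
  obtain ⟨a, ha, rfl⟩ := h.surj' hy y0 hx
  exact commutator_mem_commutator ha (h.le hy)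

theorem frat (h : Pr V V') : (frattini (Pf V)).map (Pf V).subtype = V := by
  refine le_antisymm (map_le_iff_le_comap.2 (H4.frattini_le (p := 2) ?_ fun x => ?_)) (h.der.ge.trans
    (H1.commutator_le_frattiniOf_of_isNilpotent (isNilpotent_of_isPGroup Pf_pg)))
  · exact commutator_le.2 fun a _ b _ => h.hy.cm a.2 b.2
  · rw [pow_two]; exact h.hy.pw x.2

open H29.Rp H9.EA Matrix MatrixGroups H13.SL2 in
theorem sl2 (h : Pr V V') {H : Subgroup G} (hH : Pf V ⊔ Pf V' = H)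
    [((𝐂 (V ⊔ V' : Subgroup G)).subgroupOf H).Normal] :
    ∃ (F : Type) (_ : Field F) (_ : Fintype F), Fintype.card F = Nat.card V ∧
      Nonempty (H ⧸ (𝐂 (V ⊔ V' : Subgroup G)).subgroupOf H ≃* SL(2, F)) := by
  have hW : IsElementaryAbelian 2 (V ⊔ V' : Subgroup G) := ea_sup h.hy.ea h.hy'.ea h.c'
  have hn : H ≤ 𝐍 (V ⊔ V' : Subgroup G) := hH ▸ h.nH
  let C := (𝐂 (V ⊔ V' : Subgroup G)).subgroupOf H
  let ρ : Representation (ZMod 2) (H ⧸ C) (H9.EA hW) :=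
    QuotientGroup.lift C (rep hW hn) fun g hg => (rep_eq_one_iff hW hn g).2 hg
  have act : ∀ (g : H) u, (ρ g u).val = g * u.val * (g : G)⁻¹ := fun _ _ => rfl
  let im : Subgroup G → Subgroup (H ⧸ C) := fun A => (A.subgroupOf H).map (QuotientGroup.mk' C)
  have cs : ∀ {U}, U ≤ V ⊔ V' → Nat.card (sub hW U) = Nat.card U := fun l => by
    rw [card_sub, inf_eq_right.2 l]
  have key : ∀ {U U'}, Pr U U' → U ⊔ U' = V ⊔ V' → Pf U ≤ H →
      sub hW U ≤ fix ρ (im (Pf U)) ∧ cm ρ (im (Pf U)) ⊤ ≤ sub hW U ∧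
      (∀ a ∈ im (Pf U), ∀ y ∈ sub hW U', ρ a y = y → a = 1 ∨ y = 0) ∧
      Nat.card (im (Pf U)) = Nat.card U := fun {U U'} k e l => by
    have k3 : ∀ a ∈ im (Pf U), ∀ y ∈ sub hW U', ρ a y = y → a = 1 ∨ y = 0 := by
      rintro _ ⟨a, ha, rfl⟩ y hy e1
      refine or_iff_not_imp_right.2 fun y0 => (QuotientGroup.eq_one_iff a).2 ?_
      change (a : G) ∈ 𝐂 (V ⊔ V' : Subgroup G)
      rw [← e, centralizer_sup]
      exact ⟨Pf_c ha, k.cent hy (mt val_eq_one.1 y0) ha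
        (mul_inv_eq_iff_eq_mul.1 (congrArg H9.EA.val e1))⟩
    have k2 : ∀ a ∈ im (Pf U), ∀ u, ρ a u - u ∈ sub hW U := by
      rintro _ ⟨a, ha, rfl⟩ u
      rw [mem_sub, val_sub]
      exact k.hy.cm ha (sup_le k.hy.le k.le (e.ge u.val_mem))
    refine ⟨?_, cm_le.2 fun a ha u _ => k2 a ha u, k3, ?_⟩
    · rintro x hx _ ⟨a, ha, rfl⟩
      exact H9.EA.ext (mul_inv_eq_iff_eq_mul.2 (mem_centralizer'.1 (Pf_c ha) _ hx).symm)
    obtain ⟨y, hy, y0⟩ := k.exists_ne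
    let y' := H9.EA.mk hW y (e.le (mem_sup_right hy))
    rw [← cs (e ▸ le_sup_left : U ≤ _)]
    refine Nat.card_congr (Equiv.ofBijective (fun a => ⟨ρ a y' - y', k2 a a.2 y'⟩)
      ⟨fun a b e1 => ?_, fun x => ?_⟩)
    · have e2 : ρ a y' = ρ b y' := sub_left_inj.1 (congrArg Subtype.val e1)
      refine Subtype.ext (inv_mul_eq_one.1 ((k3 _ (mul_mem (inv_mem a.2) b.2) y' hy ?_).resolve_right
        (mt val_eq_one.2 y0)))
      rw [rho_mul, ← e2, rho_inv_apply]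
    · obtain ⟨a, ha, e1⟩ := k.surj' hy y0 x.2
      exact ⟨⟨_, ⟨a, l ha⟩, ha, rfl⟩, Subtype.ext (H9.EA.ext ((val_sub _ _).trans e1))⟩
  obtain ⟨a1, a2, a3, a4⟩ := key h rfl (hH ▸ le_sup_left)
  obtain ⟨b1, b2, b3, b4⟩ := key h.symm (sup_comm _ _) (hH ▸ le_sup_right)
  obtain ⟨v₀, hv₀, h0⟩ := h.symm.exists_ne
  obtain ⟨F, _, _, ψ, cF, hψ, h1, h2, h3, h4⟩ := rec_core (ρ := ρ) (X := sub hW V) (Y := sub hW V')
    ⟨Submodule.disjoint_def.2 fun x k k' => val_eq_one.1 (h.one k k'), codisjoint_iff.2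
      (eq_top_iff.2 fun x _ => by
        obtain ⟨a, ha, b, hb, e⟩ := h.memW.1 x.val_mem
        exact Submodule.mem_sup.2 ⟨H9.EA.mk hW a (mem_sup_left ha), ha, H9.EA.mk hW b (mem_sup_right hb), hb,
          H9.EA.ext e⟩)⟩ a1 a2 b1 b2 (a4.trans (cs le_sup_left).symm)
    (b4.trans (h.cn.card.trans (cs le_sup_left).symm))
    ((cs le_sup_right).trans (h.cn.card.trans (cs le_sup_left).symm))
    (fun e => by
      rw [e, card_bot, eq_comm, card_eq_one] at a4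
      exact h0 (a4.le hv₀)) a3 b3 (by
      rintro _ ⟨a, -, rfl⟩ _ ⟨b, -, rfl⟩ x hx x0 e x' hx'
      have e1 : cj ((a : G) * b) V = V' := h.hy'.eq (h.cn.symm.conj _) e
        (by rw [← cj_cj]; exact conj_mem_cj (conj_mem_cj hx))
        (by simpa [act] using mt val_eq_one.1 x0)
      refine e1.le ?_
      rw [← cj_cj]
      exact conj_mem_cj (conj_mem_cj hx'))
  have top : im (Pf V) ⊔ im (Pf V') = ⊤ := by
    rw [← Subgroup.map_sup, ← subgroupOf_sup (hH ▸ le_sup_left) (hH ▸ le_sup_right), hH, subgroupOf_self,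
      map_top_of_surjective _ (QuotientGroup.mk'_surjective C)]
  obtain ⟨π, hπ⟩ := exists_pi (ρ := ρ) hψ.2 top (fun a ha => (h1 a ha).elim fun t e => ⟨_, e⟩)
    fun a ha => (h3 a ha).elim fun t e => ⟨_, e⟩
  refine ⟨F, inferInstance, inferInstance, cF.trans a4, ⟨topEquiv.symm.trans (MulEquiv.ofBijective π
    ⟨(injective_iff_map_eq_one π).2 fun g e => ?_, ?_⟩)⟩⟩
  · obtain ⟨g, hg⟩ := g
    obtain ⟨g, rfl⟩ := QuotientGroup.mk_surjective g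
    refine Subtype.ext ((QuotientGroup.eq_one_iff g).2 ((rep_eq_one_iff hW hn g).1
      (LinearMap.ext fun u => hψ.1 ?_)))
    have := hπ ⟨_, hg⟩ u
    rw [e] at this
    exact this.trans (one_mulVec _)
  · rw [← MonoidHom.range_eq_top, ← top_le_iff, ← upper_sup_lower]
    refine sup_le (fun g hg => ?_) (fun g hg => ?_)
    · obtain ⟨t, rfl⟩ := mem_upper.1 hg
      obtain ⟨a, -, e⟩ := h2 t
      exact ⟨⟨a, mem_top a⟩, sl_ext hψ.2 fun u => (hπ _ u).symm.trans (e u)⟩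
    · obtain ⟨t, rfl⟩ := mem_lower.1 hg
      obtain ⟨a, -, e⟩ := h4 t
      exact ⟨⟨a, mem_top a⟩, sl_ext hψ.2 fun u => (hπ _ u).symm.trans (e u)⟩

end Pr

end H29.TI
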