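/-
Tightly embedded subgroups: the basic lemma on `T = Syl₂(Q^g ∩ N(Q))`.
-/
import Cfsg.Agent.H28.Comm
import Cfsg.Agent.H28.Sylow
import Cfsg.Prelude.Def_Local

set_option autoImplicit false

namespace H29
open Cfsg H28 Subgroup

variable {G : Type*} [Group G]

/-- a subgroup of `T B` meeting `T` trivially embeds in `B` -/
theorem exists_inj_of_le_sup {A B T : Subgroup G} (hB : B ≤ 𝐍 T) (h1 : A ⊓ T = ⊥) (h2 : B ⊓ T = ⊥)
    (h : A ≤ T ⊔ B) : ∃ f : A →* B, Function.Injective f := by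
  have hA : A ≤ 𝐍 T := h.trans (sup_le le_normalizer hB)
  let π := QuotientGroup.mk' (T.subgroupOf (𝐍 T))
  have inj : ∀ (X : Subgroup G) (hX : X ≤ 𝐍 T), X ⊓ T = ⊥ → Function.Injective (π.comp (inclusion hX)) := by
    intro X hX h0
    refine (injective_iff_map_eq_one _).2 fun a ha => Subtype.ext ?_
    have : (a : G) ∈ X ⊓ T := ⟨a.2, (QuotientGroup.eq_one_iff (N := T.subgroupOf (𝐍 T)) _).1 ha⟩
    rwa [h0] at this
  have hr : ∀ a : A, π.comp (inclusion hA) a ∈ (π.comp (inclusion hB)).range := by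
    intro a
    obtain ⟨t, ht, b, hb, e⟩ := (mem_sup_of_le_normalizer' hB).1 (h a.2)
    refine ⟨⟨b, hb⟩, ?_⟩
    change π _ = π _
    refine (QuotientGroup.eq_iff_div_mem (N := T.subgroupOf (𝐍 T))).2 ?_
    change b / (a : G) ∈ T
    rw [← e, div_eq_mul_inv, mul_inv_rev, mul_inv_cancel_left]
    exact inv_mem ht
  exact ⟨(MonoidHom.ofInjective (inj B hB h2)).symm.toMonoidHom.comp
    ((π.comp (inclusion hA)).codRestrict _ hr), fun a b e => inj A hA h1 (congrArg Subtype.val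
      ((MonoidHom.ofInjective (inj B hB h2)).symm.injective e))⟩

variable [Finite G] {Q T S : Subgroup G} {g : G}

theorem tight_mem (hQ : IsTightlyEmbedded Q) (hT : IsPGroup 2 T) (h0 : T ≠ ⊥) (h1 : T ≤ Q)
    (h2 : T ≤ cj g Q) : g ∈ 𝐍 Q := by
  haveI : Fact (Nat.Prime 2) := ⟨Nat.prime_two⟩
  by_contra hg
  exact h0 (eq_bot_of_isPGroup_of_not_dvd hT (le_inf h1 h2) (hQ.2 g hg).not_two_dvd_nat)

theorem tight_cj (hQ : IsTightlyEmbedded Q) (g : G) : IsTightlyEmbedded (cj g Q) := by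
  refine ⟨by rw [card_cj]; exact hQ.1, fun x hx => ?_⟩
  have h1 : g⁻¹ * x * g ∉ 𝐍 Q := by rwa [← cj_normalizer, mem_cj] at hx
  have := hQ.2 _ h1
  rw [← card_cj g, cj_inf, cj_cj] at this
  rw [cj_cj]
  simpa [mul_assoc] using this

theorem tight_norm (hQ : IsTightlyEmbedded Q) (hT : IsPGroup 2 T) (h0 : T ≠ ⊥) (h1 : T ≤ Q) : 𝐍 T ≤ 𝐍 Q :=
  fun x hx => tight_mem hQ hT h0 h1 ((cj_eq_self hx).ge.trans (cj_mono x h1))

theorem tight_inf (hQ : IsTightlyEmbedded Q) (hg : g ∉ 𝐍 Q) (hT : IsPGroup 2 T) (h1 : T ≤ cj g Q) :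
    T ⊓ Q = ⊥ := by
  by_contra h0
  exact hg (tight_mem hQ (hT.to_le inf_le_left) h0 inf_le_right (inf_le_left.trans h1))

omit [Finite G] in
theorem tight_sup (h2 : T ≤ 𝐍 Q) (hTS : T ≤ S) (hS : S ≤ Q ⊔ T) : T ⊔ (S ⊓ 𝐍 T ⊓ Q) = S ⊓ 𝐍 T := by
  rw [inf_comm _ Q, ← sup_inf_of_le_normalizer (Or.inl h2) (le_inf hTS le_normalizer), sup_comm,
    inf_eq_right.2 (inf_le_left.trans hS)]

theorem tight_emb (hQ : IsTightlyEmbedded Q) (hg : g ∉ 𝐍 Q) (h0 : T ≠ ⊥) (h1 : T ≤ cj g Q) (h2 : T ≤ 𝐍 Q)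
    (hTS : T ≤ S) (hS : IsSylowIn 2 S (Q ⊔ T)) : ∃ f : T →* ↥(S ⊓ 𝐍 T ⊓ Q), Function.Injective f := by
  haveI : Fact (Nat.Prime 2) := ⟨Nat.prime_two⟩
  have hT := hS.isPGroup.to_le hTS
  have key : ∀ x : G, (∃ f : cj x T →* ↥(S ⊓ 𝐍 T ⊓ Q), Function.Injective f) →
      ∃ f : T →* ↥(S ⊓ 𝐍 T ⊓ Q), Function.Injective f := fun x ⟨f, hf⟩ =>
    ⟨f.comp (cjEquiv x T).toMonoidHom, hf.comp (cjEquiv x T).injective⟩
  have hsup := tight_sup h2 hTS hS.le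
  have hn : Q ⊔ T ≤ 𝐍 Q := sup_le le_normalizer h2
  by_cases h : S ≤ 𝐍 T
  · have h3 : IsSylowIn 2 (S ⊓ Q) Q := hS.inf_normal' le_sup_left hn
    obtain ⟨x, -, hx⟩ := h3.exists_conj_le (isPGroup_cj g⁻¹ hT) (cj_le_iff.2 (by rwa [inv_inv]))
    rw [cj_cj, ← inf_eq_left.2 h] at hx
    exact key _ ⟨inclusion hx, inclusion_injective hx⟩
  · have hlt : S ⊓ 𝐍 T < S := lt_of_le_of_ne inf_le_left fun e => h (e ▸ inf_le_right)
    obtain ⟨x, hx, hx'⟩ := SetLike.exists_of_lt (lt_inf_normalizer hS.isPGroup hlt)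
    have h4 : cj x T ≤ T ⊔ (S ⊓ 𝐍 T ⊓ Q) := by
      rw [hsup]
      exact cj_le_of_mem_normalizer (le_inf hTS le_normalizer) hx.2
    have h5 : S ⊓ 𝐍 T ⊓ Q ⊓ T = ⊥ := by
      rw [eq_bot_iff, ← tight_inf hQ hg hT h1]
      exact le_inf inf_le_right (inf_le_left.trans inf_le_right)
    refine key x (exists_inj_of_le_sup (inf_le_left.trans inf_le_right) ?_ h5 h4)
    by_contra h6
    have h7 : x ∈ 𝐍 (cj g Q) := tight_mem (tight_cj hQ g) (hT.to_le inf_le_right) h6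
      (inf_le_right.trans h1) (inf_le_left.trans (cj_mono x h1))
    refine hx' ⟨hx.1, mem_normalizer_of_cj_le ?_⟩
    have h8 : S ⊓ 𝐍 T ⊓ Q ⊓ cj g Q = ⊥ := by
      have := tight_inf hQ hg ((hS.isPGroup.to_le (inf_le_left.trans (inf_le_left.trans inf_le_left)) :
        IsPGroup 2 (S ⊓ 𝐍 T ⊓ Q ⊓ cj g Q : Subgroup G))) inf_le_right
      rwa [inf_eq_left.2 (inf_le_left.trans inf_le_right)] at this
    refine (le_inf h4 (cj_le_of_mem_normalizer h1 h7)).trans ?_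
    rw [sup_inf_of_le_normalizer (Or.inr (inf_le_left.trans inf_le_right)) h1, h8, sup_bot_eq]

theorem tight_equiv (hQ : IsTightlyEmbedded Q) (hg : g ∉ 𝐍 Q) (h0 : T ≠ ⊥)
    (hT : IsSylowIn 2 T (cj g Q ⊓ 𝐍 Q)) (hTS : T ≤ S) (hS : IsSylowIn 2 S (Q ⊔ T)) :
    Nonempty (↥(S ⊓ 𝐍 T ⊓ Q) ≃* T) := by
  haveI : Fact (Nat.Prime 2) := ⟨Nat.prime_two⟩
  obtain ⟨f, hf⟩ := tight_emb hQ hg h0 (hT.le.trans inf_le_left) (hT.le.trans inf_le_right) hTS hS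
  have hR : IsPGroup 2 (S ⊓ 𝐍 T ⊓ Q : Subgroup G) := hS.isPGroup.to_le (inf_le_left.trans inf_le_left)
  have hn : S ⊓ 𝐍 T ⊓ Q ≤ 𝐍 (cj g Q) := (inf_le_left.trans inf_le_right).trans
    (tight_norm (tight_cj hQ g) hT.isPGroup h0 (hT.le.trans inf_le_left))
  have hle : S ⊓ 𝐍 T ⊓ Q ≤ Q := inf_le_right
  generalize S ⊓ 𝐍 T ⊓ Q = R at f hf hR hn hle
  have hR0 : R ≠ ⊥ := by
    rintro rfl
    exact h0 ((card_le_one_iff_eq_bot _).1 ((Nat.card_le_card_of_injective f hf).trans card_bot.le))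
  obtain ⟨S', hS', hRS⟩ := exists_isSylowIn_ge hR (le_sup_right : R ≤ cj g Q ⊔ R)
  obtain ⟨f', hf'⟩ := tight_emb (g := g⁻¹) (tight_cj hQ g) (fun h => hg (by
      rw [mem_normalizer_iff_cj, cj_inv_cj] at h
      exact mem_normalizer_iff_cj.2 h.symm)) hR0 (by rwa [cj_inv_cj]) hn hRS hS'
  have h1 := hT.card_le (hS'.isPGroup.to_le (inf_le_left.trans inf_le_left) :
    IsPGroup 2 (S' ⊓ 𝐍 R ⊓ cj g Q : Subgroup G))
    (le_inf inf_le_right ((inf_le_left.trans inf_le_right).trans (tight_norm hQ hR hR0 hle)))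
  exact ⟨(MulEquiv.ofBijective f (hf.bijective_of_nat_card_le
    ((Nat.card_le_card_of_injective f' hf').trans h1))).symm⟩

end H29
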